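import Cfsg.Agent.LocalB.FStar
import Cfsg.Prelude.Def_CaseTheorems

/-!
Involutions inverting odd cores: fixed lifts, components modulo the odd core, and balance.
-/

set_option autoImplicit false

namespace CfsgLib.LocalB

open scoped commutatorElement

variable {G : Type*} [Group G]

theorem eq_one_of_odd_pgroup_two [Finite G] {A U : Subgroup G} (hA : Odd (Nat.card A))
    (hU : IsPGroup 2 U) {x : G} (h1 : x ∈ A) (h2 : x ∈ U) : x = 1 :=
  eq_one_of_orderOf_coprime hU h2
    (Nat.coprime_two_right.mpr (hA.of_dvd_nat (A.orderOf_dvd_natCard h1)))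

/-- An involution normalizing an odd subgroup without fixed points inverts it. -/
theorem inverted_of_fpf [Finite G] {A : Subgroup G} {z : G} (hA : Odd (Nat.card A))
    (hz : z * z = 1) (hn : ∀ a ∈ A, z * a * z⁻¹ ∈ A) (hfix : ∀ a ∈ A, z * a = a * z → a = 1) :
    ∀ a ∈ A, z * a * z⁻¹ = a⁻¹ := by
  let f : A → A := fun a => ⟨(a : G)⁻¹ * (z * a * z⁻¹), A.mul_mem (inv_mem a.2) (hn a a.2)⟩
  have hf : Function.Injective f := by
    intro a b hab
    have h : (a : G)⁻¹ * (z * a * z⁻¹) = (b : G)⁻¹ * (z * b * z⁻¹) := congrArg Subtype.val hab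
    have h2 : (b : G) * (a : G)⁻¹ = z * ((b : G) * (a : G)⁻¹) * z⁻¹ := by
      calc (b : G) * (a : G)⁻¹ = b * ((a : G)⁻¹ * (z * a * z⁻¹)) * (z * a * z⁻¹)⁻¹ := by group
        _ = b * ((b : G)⁻¹ * (z * b * z⁻¹)) * (z * a * z⁻¹)⁻¹ := by rw [h]
        _ = z * ((b : G) * (a : G)⁻¹) * z⁻¹ := by group
    have h3 := hfix _ (A.mul_mem b.2 (inv_mem a.2)) (eq_mul_inv_iff_mul_eq.mp h2).symm
    exact Subtype.ext (mul_inv_eq_one.mp h3).symm
  intro a ha
  obtain ⟨b, hb⟩ := (Finite.injective_iff_surjective.mp hf) ⟨a, ha⟩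
  have h : (b : G)⁻¹ * (z * b * z⁻¹) = a := congrArg Subtype.val hb
  have hzi : z⁻¹ = z := inv_eq_of_mul_eq_one_right hz
  rw [← h, mul_inv_rev, inv_inv, mul_inv_rev, mul_inv_rev, inv_inv]
  simp only [hzi, mul_assoc, hz, mul_one]

/-- A coset of an odd normal subgroup fixed by an involution contains a fixed element. -/
theorem exists_fixed_lift [Finite G] {O : Subgroup G} (hO : Odd (Nat.card O)) {a u : G}
    (ha : a * a = 1) (hu : a * u * a⁻¹ * u⁻¹ ∈ O) :
    ∃ v, v * u⁻¹ ∈ O ∧ a * v = v * a := by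
  set o := a * u * a⁻¹ * u⁻¹ with ho
  have hai : a⁻¹ = a := inv_eq_of_mul_eq_one_right ha
  have h1 : a * o * a⁻¹ = o⁻¹ := by
    simp only [ho, mul_inv_rev, inv_inv, hai, mul_assoc]
    rw [← mul_assoc a a, ha, one_mul]
  obtain ⟨k, hk⟩ := hO
  refine ⟨o ^ (k + 1) * u, by simpa using O.pow_mem hu (k + 1), mul_inv_eq_iff_eq_mul.mp ?_⟩
  have h2 : o ^ (k + 1) * o ^ (k + 1) = o := by
    have h3 : orderOf o ∣ 2 * k + 1 := hk ▸ O.orderOf_dvd_natCard hu
    rw [← pow_add, show k + 1 + (k + 1) = 2 * k + 1 + 1 by omega, pow_succ,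
      orderOf_dvd_iff_pow_eq_one.mp h3, one_mul]
  calc a * (o ^ (k + 1) * u) * a⁻¹
      = (a * o ^ (k + 1) * a⁻¹) * (a * u * a⁻¹ * u⁻¹) * u := by simp [mul_assoc]
    _ = (o ^ (k + 1))⁻¹ * o * u := by rw [← conj_pow, h1, inv_pow]
    _ = (o ^ (k + 1))⁻¹ * (o ^ (k + 1) * o ^ (k + 1)) * u := by rw [h2]
    _ = o ^ (k + 1) * u := by rw [inv_mul_cancel_left]

variable {H : Type*} [Group H] [Finite H]

theorem odd_card_oddCore : Odd (Nat.card (Cfsg.oddCore H)) :=
  Nat.coprime_two_right.mp (CfsgLib.Solvable.coprime_card_pPrimeCore 2)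

theorem oddCore_quotient : Cfsg.oddCore (H ⧸ Cfsg.oddCore H) = ⊥ := by
  set π := QuotientGroup.mk' (Cfsg.oddCore H)
  set N := (Cfsg.oddCore (H ⧸ Cfsg.oddCore H)).comap π with hN
  have hn : N.Normal := Subgroup.Normal.comap inferInstance π
  have hc : (Nat.card N).Coprime 2 := by
    let f : N →* (Cfsg.oddCore (H ⧸ Cfsg.oddCore H)) :=
      (π.comp N.subtype).codRestrict _ (fun x => x.2)
    rw [← f.ker.card_mul_index, Subgroup.index_ker]
    refine Nat.Coprime.mul_left ?_
      ((CfsgLib.Solvable.coprime_card_pPrimeCore 2).coprime_dvd_left (Subgroup.card_subgroup_dvd_card _))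
    refine (CfsgLib.Solvable.coprime_card_pPrimeCore (G := H) 2).coprime_dvd_left ?_
    let g : f.ker →* Cfsg.oddCore H :=
      (N.subtype.comp f.ker.subtype).codRestrict _ (fun x =>
        (QuotientGroup.eq_one_iff _).mp (congrArg Subtype.val x.2))
    have hg : Function.Injective g := fun a b h =>
      Subtype.ext (Subtype.ext (congrArg Subtype.val h :))
    exact Subgroup.card_dvd_of_injective g hg
  have h1 : N ≤ Cfsg.oddCore H := CfsgLib.Solvable.le_pPrimeCore 2 hn hc
  rw [eq_bot_iff]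
  intro x hx
  obtain ⟨y, rfl⟩ := QuotientGroup.mk'_surjective (Cfsg.oddCore H) x
  exact (QuotientGroup.eq_one_iff y).mpr (h1 hx)

/-- If an involution `z` with centralizer of characteristic 2 inverts the odd core of a group
without components, then the quotient by the odd core has no components. -/
theorem layer_quotient_eq_bot (hE : Cfsg.layer H = ⊥) {z : H} (hz : z * z = 1)
    (hinv : ∀ o ∈ Cfsg.oddCore H, z * o * z⁻¹ = o⁻¹)
    (hfix : ∀ o ∈ Cfsg.oddCore H, z * o = o * z → o = 1)
    (hC : Subgroup.centralizer (Cfsg.pCore 2 ↥(Subgroup.centralizer ({z} : Set H)) :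
        Set ↥(Subgroup.centralizer ({z} : Set H))) ≤
      Cfsg.pCore 2 ↥(Subgroup.centralizer ({z} : Set H))) :
    Cfsg.layer (H ⧸ Cfsg.oddCore H) = ⊥ := by
  rw [eq_bot_iff]
  refine sSup_le fun L hL => ?_
  exfalso
  set O := Cfsg.oddCore H with hOdef
  set π := QuotientGroup.mk' O with hπ
  have hπs : Function.Surjective π := QuotientGroup.mk'_surjective _
  have hO : O.Normal := inferInstance
  set A : Subgroup H := Subgroup.centralizer (O : Set H) with hA
  have hAn : A.Normal := by rw [hA]; infer_instance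
  -- `O` is abelian, as it is inverted by `z`
  have hOA : O ≤ A := by
    intro x hx
    refine Subgroup.mem_centralizer_iff.mpr fun y hy => ?_
    have h := hinv (y * x) (O.mul_mem hy hx)
    rw [show z * (y * x) * z⁻¹ = (z * y * z⁻¹) * (z * x * z⁻¹) by simp [mul_assoc], hinv y hy,
      hinv x hx, ← mul_inv_rev, inv_inj] at h
    exact h.symm
  rcases CfsgLib.Comp.component_le_or_commutator_eq_bot hL (hAn.map π hπs).isSubnormal with h | h
  · -- the component is centralized by `O`: it lifts to a component of `H`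
    obtain ⟨K, -, hK⟩ := Finite.exists_le_minimal
      (p := fun K : Subgroup H => K.IsSubnormal ∧ K.map π = L) (a := L.comap π)
      ⟨hL.1.comap π, Subgroup.map_comap_eq_self_of_surjective hπs L⟩
    obtain ⟨⟨hKsn, hKmap⟩, hmin⟩ := hK
    have hKperf : ⁅K, K⁆ = K := by
      have h1 : (⁅K, K⁆).map π = L := by
        rw [Subgroup.map_commutator, hKmap, CfsgLib.Comp.component_perfect hL]
      exact le_antisymm (Subgroup.commutator_le_self K)
        (hmin ⟨CfsgLib.Comp.isSubnormal_commutator hKsn, h1⟩ (Subgroup.commutator_le_self K))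
    have hKA : K ≤ A := by
      intro k hk
      obtain ⟨a, ha, hak⟩ := h (hKmap ▸ ⟨k, hk, rfl⟩ : π k ∈ L)
      have : a⁻¹ * k ∈ O := QuotientGroup.eq.mp hak
      have := A.mul_mem ha (hOA this)
      simpa using this
    let f : K →* L := (π.comp K.subtype).codRestrict L (fun k => hKmap ▸ ⟨k, k.2, rfl⟩)
    have hfs : Function.Surjective f := by
      rintro ⟨l, hl⟩
      rw [← hKmap] at hl
      obtain ⟨k, hk, rfl⟩ := hl
      exact ⟨⟨k, hk⟩, rfl⟩
    have : Group.IsPerfect K := Subgroup.isPerfect_iff.mpr hKperf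
    have hkerc : f.ker ≤ Subgroup.center K := fun k hk => Subgroup.mem_center_iff.mpr fun m =>
      Subtype.ext (Subgroup.mem_centralizer_iff.mp (hKA m.2) k
        ((QuotientGroup.eq_one_iff _).mp (congrArg Subtype.val hk))).symm
    -- the centre of the preimage is the preimage of the centre
    have hcen : (Subgroup.center L).comap f ≤ Subgroup.center K := by
      intro k hk
      have hkey : ∀ m : K, k * m * k⁻¹ * m⁻¹ ∈ Subgroup.center K := fun m => hkerc (by
        rw [MonoidHom.mem_ker, map_mul, map_mul, map_mul, map_inv, map_inv,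
          ← Subgroup.mem_center_iff.mp hk (f m), mul_inv_cancel_right, mul_inv_cancel])
      let χ : K →* Subgroup.center K :=
        { toFun := fun m => ⟨k * m * k⁻¹ * m⁻¹, hkey m⟩
          map_one' := Subtype.ext (by simp)
          map_mul' := fun a b => Subtype.ext (by
            show k * (a * b) * k⁻¹ * (a * b)⁻¹ = (k * a * k⁻¹ * a⁻¹) * (k * b * k⁻¹ * b⁻¹)
            have := Subgroup.mem_center_iff.mp (hkey b) a
            calc k * (a * b) * k⁻¹ * (a * b)⁻¹
                = (k * a * k⁻¹ * a⁻¹) * (a * (k * b * k⁻¹ * b⁻¹)) * a⁻¹ := by group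
              _ = (k * a * k⁻¹ * a⁻¹) * ((k * b * k⁻¹ * b⁻¹) * a) * a⁻¹ := by rw [this]
              _ = _ := by group) }
      have hχ : commutator K ≤ χ.ker := by
        rw [commutator_def, Subgroup.commutator_le]
        intro a _ b _
        rw [MonoidHom.mem_ker, map_commutatorElement, commutatorElement_eq_one_iff_mul_comm]
        exact Subtype.ext (Subgroup.mem_center_iff.mp (χ b).2 (χ a))
      rw [Group.IsPerfect.commutator_eq_top] at hχ
      refine Subgroup.mem_center_iff.mpr fun m => ?_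
      have hm : k * m * k⁻¹ * m⁻¹ = 1 := congrArg Subtype.val (hχ (Subgroup.mem_top m))
      exact (mul_inv_eq_iff_eq_mul.mp (mul_inv_eq_one.mp hm)).symm
    have hcen' : ((QuotientGroup.mk' (Subgroup.center L)).comp f).ker = Subgroup.center K := by
      rw [← MonoidHom.comap_ker, QuotientGroup.ker_mk']
      refine le_antisymm hcen fun k hk => Subgroup.mem_center_iff.mpr fun l => ?_
      obtain ⟨m, rfl⟩ := hfs l
      rw [← map_mul, ← map_mul, Subgroup.mem_center_iff.mp hk m]
    have hK' : Cfsg.IsComponent K := by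
      refine ⟨hKsn, inferInstance, ?_⟩
      have e := (QuotientGroup.quotientMulEquivOfEq hcen'.symm).trans
        (QuotientGroup.quotientKerEquivOfSurjective ((QuotientGroup.mk' (Subgroup.center L)).comp f)
          ((QuotientGroup.mk'_surjective _).comp hfs))
      have := hL.2.2
      exact e.isSimpleGroup
    have h1 := CfsgLib.Comp.component_le_layer hK'
    rw [hE, le_bot_iff] at h1
    exact CfsgLib.Comp.component_ne_bot hK' h1
  · -- otherwise `z` centralizes the component
    have hzA : ∀ m : H, z * m * z⁻¹ * m⁻¹ ∈ A := by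
      intro m
      refine Subgroup.mem_centralizer_iff.mpr fun o ho => ?_
      have e : ∀ o ∈ O, z⁻¹ * o * z = o⁻¹ := fun o ho => by
        have := hinv o ho
        rwa [inv_eq_of_mul_eq_one_right hz] at this ⊢
      have h1 : (z * m * z⁻¹ * m⁻¹) * o * (z * m * z⁻¹ * m⁻¹)⁻¹ = o := by
        calc (z * m * z⁻¹ * m⁻¹) * o * (z * m * z⁻¹ * m⁻¹)⁻¹
            = z * (m * (z⁻¹ * (m⁻¹ * o * m) * z) * m⁻¹) * z⁻¹ := by group
          _ = z * (m * (m⁻¹ * o * m)⁻¹ * m⁻¹) * z⁻¹ := by
              rw [e _ (by simpa using hO.conj_mem o ho m⁻¹)]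
          _ = z * o⁻¹ * z⁻¹ := by group
          _ = o := by rw [hinv _ (inv_mem ho), inv_inv]
      exact (mul_inv_eq_iff_eq_mul.mp h1).symm
    have hcom : ∀ l ∈ L, ∀ a ∈ A.map π, Commute l a := fun l hl a ha =>
      (Subgroup.mem_centralizer_iff.mp
        (CfsgLib.Comp.le_centralizer_of_commutator_eq_bot h hl) a ha).symm
    set c : H ⧸ O → H ⧸ O := fun l => π z * l * (π z)⁻¹ with hc
    have hc' : ∀ l, ∀ m ∈ L, Commute m (c l * l⁻¹) := by
      intro l m hm
      obtain ⟨k, rfl⟩ := hπs l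
      refine hcom m hm _ ⟨_, hzA k, ?_⟩
      simp [hc]
    have hfixL : ∀ l ∈ L, c l = l := by
      let ψ := (MulAut.conj (π z)).toMonoidHom
      have hzz : π z * π z = 1 := by rw [← map_mul, hz, map_one]
      have hψψ : ∀ l, ψ (ψ l) = l := fun l => by
        show π z * (π z * l * (π z)⁻¹) * (π z)⁻¹ = l
        rw [show π z * (π z * l * (π z)⁻¹) * (π z)⁻¹ = (π z * π z) * l * (π z * π z)⁻¹ by
          simp [mul_assoc], hzz, one_mul, inv_one, mul_one]
      have hle : ⁅L, L⁆ ≤ MonoidHom.eqLocus ψ (MonoidHom.id _) := by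
        rw [Subgroup.commutator_le]
        intro a ha b hb
        show ψ ⁅a, b⁆ = ⁅a, b⁆
        rw [map_commutatorElement]
        obtain ⟨x, hx⟩ : ∃ x, ψ a = x * a := ⟨ψ a * a⁻¹, by simp⟩
        obtain ⟨y, hy⟩ : ∃ y, ψ b = y * b := ⟨ψ b * b⁻¹, by simp⟩
        have hxL : ∀ m ∈ L, Commute x m := fun m hm => by
          have : x = c a * a⁻¹ := by
            change ψ a = x * a at hx
            exact eq_mul_inv_iff_mul_eq.mpr hx.symm
          rw [this]; exact (hc' a m hm).symm
        have hyL : ∀ m ∈ L, Commute y m := fun m hm => by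
          have : y = c b * b⁻¹ := eq_mul_inv_iff_mul_eq.mpr hy.symm
          rw [this]; exact (hc' b m hm).symm
        have hψx : ψ x = x⁻¹ := by
          have : x = ψ a * a⁻¹ := eq_mul_inv_iff_mul_eq.mpr hx.symm
          rw [this, map_mul, map_inv, hψψ, mul_inv_rev, inv_inv]
        have hxψb : Commute x (ψ b) := by
          have := (hxL b hb).map ψ
          rw [hψx] at this
          exact Commute.inv_left_iff.mp this
        calc ⁅ψ a, ψ b⁆ = x * (a * ψ b * a⁻¹) * x⁻¹ * (ψ b)⁻¹ := by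
              rw [hx]; simp [commutatorElement_def, mul_assoc]
          _ = a * ψ b * a⁻¹ * (ψ b)⁻¹ := by
              have h1 : Commute x (a * ψ b * a⁻¹) :=
                ((hxL a ha).mul_right hxψb).mul_right (hxL a ha).inv_right
              rw [h1.eq, mul_inv_cancel_right]
          _ = y * (a * b * a⁻¹ * b⁻¹) * y⁻¹ := by
              rw [hy, mul_inv_rev, ← mul_assoc a y b, ← (hyL a ha).eq]; simp [mul_assoc]
          _ = ⁅a, b⁆ := by
              have h1 : Commute y (a * b * a⁻¹ * b⁻¹) :=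
                (((hyL a ha).mul_right (hyL b hb)).mul_right (hyL a ha).inv_right).mul_right
                  (hyL b hb).inv_right
              rw [h1.eq, mul_inv_cancel_right, commutatorElement_def]
      intro l hl
      exact hle (by rwa [CfsgLib.Comp.component_perfect hL])
    set C := Subgroup.centralizer ({z} : Set H) with hCdef
    let φ : C →* H ⧸ O := π.comp C.subtype
    have hφ : Function.Injective φ := by
      rw [injective_iff_map_eq_one]
      intro a ha
      exact Subtype.ext (hfix a ((QuotientGroup.eq_one_iff _).mp ha)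
        (Subgroup.mem_centralizer_singleton_iff.mp a.2).symm)
    have hmap : (L.comap φ).map φ = L := by
      rw [Subgroup.map_comap_eq, inf_eq_right]
      intro l hl
      obtain ⟨m, rfl⟩ := hπs l
      have h1 : z * m * z⁻¹ * m⁻¹ ∈ O := by
        refine (QuotientGroup.eq_one_iff _).mp ?_
        have h2 : π (z * m * z⁻¹ * m⁻¹) = c (π m) * (π m)⁻¹ := by simp [hc]
        rw [hfixL _ hl, mul_inv_cancel] at h2
        exact h2
      obtain ⟨v, hv, hvz⟩ := exists_fixed_lift (G := H) odd_card_oddCore hz h1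
      refine ⟨⟨v, Subgroup.mem_centralizer_singleton_iff.mpr hvz.symm⟩, ?_⟩
      have : π (v * m⁻¹) = 1 := (QuotientGroup.eq_one_iff _).mpr hv
      rw [map_mul, map_inv, mul_inv_eq_one] at this
      exact this
    have hcomp : Cfsg.IsComponent (L.comap φ) := by
      refine ⟨hL.1.comap φ, CfsgLib.Comp.isQuasisimple_of_equiv ?_ hL.2⟩
      exact (((L.comap φ).equivMapOfInjective φ hφ).trans (MulEquiv.subgroupCongr hmap)).symm
    exact no_component_of_charP hC hcomp

/-- Balance: in the situation of `layer_quotient_eq_bot`, an odd subgroup centralized by an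
involution `a` and normalized by `C(a)` lies in the odd core. -/
theorem le_oddCore_of_balanced (hE : Cfsg.layer H = ⊥) {z a : H} (hz : z * z = 1) (ha : a * a = 1)
    (hinv : ∀ o ∈ Cfsg.oddCore H, z * o * z⁻¹ = o⁻¹)
    (hfix : ∀ o ∈ Cfsg.oddCore H, z * o = o * z → o = 1)
    (hC : Subgroup.centralizer (Cfsg.pCore 2 ↥(Subgroup.centralizer ({z} : Set H)) :
        Set ↥(Subgroup.centralizer ({z} : Set H))) ≤
      Cfsg.pCore 2 ↥(Subgroup.centralizer ({z} : Set H)))
    {A : Subgroup H} (hA : Odd (Nat.card A)) (hAa : ∀ w ∈ A, w * a = a * w)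
    (hAn : ∀ u : H, a * u = u * a → ∀ w ∈ A, u * w * u⁻¹ ∈ A) : A ≤ Cfsg.oddCore H := by
  have hlay := layer_quotient_eq_bot hE hz hinv hfix hC
  set O := Cfsg.oddCore H with hO
  set π := QuotientGroup.mk' O with hπ
  have hπs : Function.Surjective π := QuotientGroup.mk'_surjective _
  set R : Subgroup (H ⧸ O) := Cfsg.pCore 2 (H ⧸ O) with hR
  have hRn : R.Normal := inferInstance
  have hRp : IsPGroup 2 R := CfsgLib.Solvable.isPGroup_pCore 2
  have hch : Subgroup.centralizer (R : Set (H ⧸ O)) ≤ R := by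
    apply centralizer_le_of_fstar
    refine le_antisymm ?_ (le_sup_of_le_right (CfsgLib.Solvable.pCore_le_fittingSubgroup 2))
    rw [Cfsg.generalizedFittingSubgroup, hlay, bot_sup_eq,
      CfsgLib.Solvable.fittingSubgroup_eq_iSup_pCore]
    refine iSup_le fun q => ?_
    by_cases hq : (q : ℕ) = 2
    · rw [hq]
    · have : Fact (q : ℕ).Prime := ⟨q.2⟩
      have hb : Cfsg.pCore (q : ℕ) (H ⧸ O) ≤ ⊥ := by
        rw [← oddCore_quotient (H := H)]
        refine CfsgLib.Solvable.le_pPrimeCore 2 (CfsgLib.Solvable.pCore_normal _) ?_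
        obtain ⟨k, hk⟩ := (CfsgLib.Solvable.isPGroup_pCore (G := H ⧸ O) (q : ℕ)).exists_card_eq
        rw [hk]
        exact Nat.Coprime.pow_left _ ((Nat.coprime_primes q.2 Nat.prime_two).mpr hq)
      exact hb.trans bot_le
  intro w hw
  have hnR : ∀ y : H ⧸ O, y ∈ Subgroup.normalizer (R : Set (H ⧸ O)) := fun y =>
    mem_normalizer_of_conj_le fun x hx => hRn.conj_mem x hx y
  have hwo : (orderOf (π w)).Coprime 2 := Nat.coprime_two_right.mpr
    ((hA.of_dvd_nat (A.orderOf_dvd_natCard hw)).of_dvd_nat (orderOf_map_dvd π w))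
  have h2 : IsPGroup 2 (Subgroup.zpowers (π a)) := fun x => by
    refine ⟨1, ?_⟩
    obtain ⟨k, hk⟩ := Subgroup.mem_zpowers_iff.mp x.2
    apply Subtype.ext
    rw [Subgroup.coe_pow, ← hk, pow_one, Subgroup.coe_one, sq, ← zpow_add, ← two_mul, zpow_mul,
      zpow_two, ← map_mul, ha, map_one, one_zpow]
  have hwP : ∀ π' ∈ Subgroup.zpowers (π a), Commute π' (π w) := by
    intro y hy
    obtain ⟨k, rfl⟩ := Subgroup.mem_zpowers_iff.mp hy
    exact ((show Commute a w from (hAa w hw).symm).map π).zpow_left k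
  have hcom : ∀ r ∈ R, Commute (π w) r := by
    refine commute_of_pxq h2 hRp (fun y _ => hnR y) hwo (hnR _) hwP ?_
    intro r hr hra
    obtain ⟨u, rfl⟩ := hπs r
    have hu : a * u * a⁻¹ * u⁻¹ ∈ O := by
      refine (QuotientGroup.eq_one_iff _).mp ?_
      change π (a * u * a⁻¹ * u⁻¹) = 1
      simp [hra (π a) (Subgroup.mem_zpowers _)]
    obtain ⟨v, hv, hva⟩ := exists_fixed_lift (G := H) odd_card_oddCore ha hu
    have hvu : π v = π u := by
      have : π (v * u⁻¹) = 1 := (QuotientGroup.eq_one_iff _).mpr hv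
      rwa [map_mul, map_inv, mul_inv_eq_one] at this
    rw [← hvu] at hr ⊢
    have h3 : w * v * w⁻¹ * v⁻¹ ∈ A := by
      have := A.mul_mem hw (hAn v hva w⁻¹ (inv_mem hw))
      simpa [mul_assoc] using this
    have h4 : π w * π v * (π w)⁻¹ * (π v)⁻¹ ∈ R :=
      R.mul_mem (hRn.conj_mem _ hr (π w)) (inv_mem hr)
    have h5 : π (w * v * w⁻¹ * v⁻¹) = 1 :=
      eq_one_of_odd_pgroup_two (A := A.map π)
        (hA.of_dvd_nat (Subgroup.card_map_dvd A π)) hRp ⟨_, h3, rfl⟩ (by simpa using h4)
    rw [map_mul, map_mul, map_mul, map_inv, map_inv, mul_inv_eq_one, mul_inv_eq_iff_eq_mul] at h5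
    exact h5
  have h6 : π w ∈ R := hch (Subgroup.mem_centralizer_iff.mpr fun r hr => (hcom r hr).eq.symm)
  exact (QuotientGroup.eq_one_iff _).mp (eq_one_of_orderOf_coprime hRp h6 hwo)

end CfsgLib.LocalB
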