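import Cfsg.Agent.LocalB.Embedded
import Cfsg.Agent.Solvable.Basics

/-!
The `P × Q`-lemma in element form and inheritance of characteristic `p`
(`C(O_p) ≤ O_p`) by subgroups.
-/

set_option autoImplicit false

namespace CfsgLib.LocalB

variable {G : Type*} [Group G]

/-- The subgroup `O_p(L)` seen in the ambient group. -/
abbrev opIn (p : ℕ) (L : Subgroup G) : Subgroup G := (Cfsg.pCore p L).map L.subtype

theorem eq_one_of_orderOf_coprime {p : ℕ} {w : G} {U : Subgroup G} (hU : IsPGroup p U) (hw : w ∈ U)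
    (h : (orderOf w).Coprime p) : w = 1 := by
  obtain ⟨k, hk⟩ := hU ⟨w, hw⟩
  have hd : orderOf w ∣ p ^ k := by
    rw [orderOf_dvd_iff_pow_eq_one]; exact congrArg Subtype.val hk
  exact orderOf_eq_one_iff.mp ((h.pow_right k).eq_one_of_dvd hd)

/-- If `c = [w,u]` is a p-element commuting with the p'-element `w`, then `u` commutes with `w`. -/
theorem commute_of_stab {p : ℕ} {w u : G} {U : Subgroup G} (hU : IsPGroup p U)
    (hw : (orderOf w).Coprime p) (hc : w * u * w⁻¹ * u⁻¹ ∈ U)
    (hcw : Commute w (w * u * w⁻¹ * u⁻¹)) : Commute w u := by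
  set c := w * u * w⁻¹ * u⁻¹ with hcdef
  have h1 : w * u * w⁻¹ = c * u := by simp [hcdef]
  have h2 : ∀ n : ℕ, w ^ n * u * (w ^ n)⁻¹ = c ^ n * u := by
    intro n
    induction n with
    | zero => simp
    | succ n ih =>
      calc w ^ (n + 1) * u * (w ^ (n + 1))⁻¹ = w * (w ^ n * u * (w ^ n)⁻¹) * w⁻¹ := by
            simp [pow_succ', mul_assoc]
        _ = w * c ^ n * w⁻¹ * (w * u * w⁻¹) := by rw [ih]; simp [mul_assoc]
        _ = c ^ (n + 1) * u := by
            rw [(hcw.pow_right n).eq, mul_inv_cancel_right, h1, pow_succ, ← mul_assoc]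
  have h3 : c ^ orderOf w = 1 := by
    simpa [pow_orderOf_eq_one] using (h2 (orderOf w)).symm
  have h4 : (orderOf c).Coprime p :=
    Nat.Coprime.coprime_dvd_left (orderOf_dvd_of_pow_eq_one h3) hw
  have h5 := eq_one_of_orderOf_coprime hU hc h4
  rw [h5, one_mul] at h1
  exact mul_inv_eq_iff_eq_mul.mp h1

/-- A subgroup without nontrivial p'-elements is a p-group. -/
theorem isPGroup_of_forall [Finite G] {p : ℕ} [hp : Fact p.Prime] {C : Subgroup G}
    (h : ∀ w ∈ C, (orderOf w).Coprime p → w = 1) : IsPGroup p C := by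
  intro x
  obtain ⟨k, m, hm, hkm⟩ := Nat.exists_eq_pow_mul_and_not_dvd (orderOf_pos (x : G)).ne' p hp.1.ne_one
  refine ⟨k, Subtype.ext ?_⟩
  rw [Subgroup.coe_pow]
  apply h _ (C.pow_mem x.2 _)
  rw [orderOf_pow' _ (pow_ne_zero k hp.1.ne_zero), hkm, Nat.gcd_eq_right (dvd_mul_right _ _),
    Nat.mul_div_cancel_left _ (Nat.pos_of_ne_zero (pow_ne_zero k hp.1.ne_zero))]
  exact (hp.1.coprime_iff_not_dvd.mpr hm).symm

/-- The `P × Q`-lemma, element form: a p'-element commuting with the p-group `P` that centralizes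
`C_R(P)` centralizes the p-group `R`. -/
theorem commute_of_pxq [Finite G] {p : ℕ} [Fact p.Prime] {P R : Subgroup G} (hP : IsPGroup p P)
    (hR : IsPGroup p R) (hPR : P ≤ Subgroup.normalizer (R : Set G)) {w : G}
    (hw : (orderOf w).Coprime p) (hwR : w ∈ Subgroup.normalizer (R : Set G))
    (hwP : ∀ π ∈ P, Commute π w)
    (hfix : ∀ r ∈ R, (∀ π ∈ P, π * r = r * π) → Commute w r) : ∀ r ∈ R, Commute w r := by
  set D : Subgroup G := R ⊓ Subgroup.centralizer ({w} : Set G) with hD
  suffices D = R by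
    intro r hr
    rw [← this] at hr
    exact (Subgroup.mem_centralizer_singleton_iff.mp hr.2).symm
  by_contra hne
  obtain ⟨u₀, hu₀R, hu₀n, hu₀D⟩ := exists_mem_normalizer_not_mem hR (inf_le_left : D ≤ R) hne
  set N : Subgroup G := R ⊓ Subgroup.normalizer (D : Set G) with hN
  have hDN : D ≤ N := le_inf inf_le_left Subgroup.le_normalizer
  have hPD : P ≤ Subgroup.normalizer (D : Set G) := by
    intro π hπ
    refine mem_normalizer_of_conj_le fun d hd => ⟨?_, Subgroup.mem_centralizer_singleton_iff.mpr ?_⟩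
    · exact (Subgroup.mem_normalizer_iff.mp (hPR hπ) d).mp hd.1
    · have h1 := ((show Commute d w from Subgroup.mem_centralizer_singleton_iff.mp hd.2).map
        (MulAut.conj π).toMonoidHom).eq
      have h2 : π * w * π⁻¹ = w := mul_inv_eq_iff_eq_mul.mpr (hwP π hπ).eq
      simpa [h2] using h1
  have hPN : P ≤ Subgroup.normalizer (N : Set G) := fun π hπ => by
    refine mem_normalizer_of_conj_le fun d hd => ⟨?_, ?_⟩
    · exact (Subgroup.mem_normalizer_iff.mp (hPR hπ) d).mp hd.1
    · exact Subgroup.mul_mem _ (Subgroup.mul_mem _ (hPD hπ) hd.2) (inv_mem (hPD hπ))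
  -- the action of `P` on the left cosets of `D` in `N`
  let act : MulAction P (N ⧸ D.subgroupOf N) :=
    { smul := fun π => Quotient.map'
        (fun n => ⟨(π : G) * n * (π : G)⁻¹, (Subgroup.mem_normalizer_iff.mp (hPN π.2) n).mp n.2⟩)
        (fun a b hab => by
          rw [QuotientGroup.leftRel_apply, Subgroup.mem_subgroupOf] at hab ⊢
          have := (Subgroup.mem_normalizer_iff.mp (hPD π.2) _).mp hab
          simpa [mul_assoc] using this)
      one_smul := fun q => by
        induction q using QuotientGroup.induction_on with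
        | H n => show QuotientGroup.mk _ = QuotientGroup.mk _; simp
      mul_smul := fun a b q => by
        induction q using QuotientGroup.induction_on with
        | H n => show QuotientGroup.mk _ = QuotientGroup.mk _; simp [mul_assoc] }
  have hdvd : p ∣ Nat.card (N ⧸ D.subgroupOf N) := by
    have hNp : IsPGroup p N := hR.to_le inf_le_left
    obtain ⟨k, hk⟩ := hNp.index (D.subgroupOf N)
    rw [← Subgroup.index_eq_card, hk]
    refine dvd_pow_self p fun h0 => hu₀D ?_
    rw [h0, pow_zero, Subgroup.index_eq_one, Subgroup.subgroupOf_eq_top] at hk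
    exact hk ⟨hu₀R, hu₀n⟩
  have hone : (QuotientGroup.mk (1 : N) : N ⧸ D.subgroupOf N) ∈
      MulAction.fixedPoints P (N ⧸ D.subgroupOf N) := by
    intro π
    show QuotientGroup.mk _ = QuotientGroup.mk _
    exact congrArg QuotientGroup.mk (Subtype.ext (by simp))
  obtain ⟨q, hq, hne1⟩ := hP.exists_fixed_point_of_prime_dvd_card_of_fixed_point
    (N ⧸ D.subgroupOf N) hdvd hone
  induction q using QuotientGroup.induction_on with
  | H n =>
  set u : G := (n : G) with hu
  have huD : u ∉ D := fun h => hne1 (QuotientGroup.eq.mpr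
    (by simpa [Subgroup.mem_subgroupOf] using h))
  set c := w * u * w⁻¹ * u⁻¹ with hc
  have hcD : ∀ d ∈ D, Commute c d := by
    intro d hd
    have hd1 := (Subgroup.mem_normalizer_iff.mp (inv_mem n.2.2) d).mp hd
    rw [inv_inv] at hd1
    have e1 : Commute w (u⁻¹ * d * u) := (Subgroup.mem_centralizer_singleton_iff.mp hd1.2).symm
    have e2 : Commute w d := (Subgroup.mem_centralizer_singleton_iff.mp hd.2).symm
    have h1 : c * d * c⁻¹ = d := by
      calc c * d * c⁻¹ = w * (u * (w⁻¹ * (u⁻¹ * d * u) * w) * u⁻¹) * w⁻¹ := by simp [hc, mul_assoc]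
        _ = w * (u * (u⁻¹ * d * u) * u⁻¹) * w⁻¹ := by rw [e1.inv_left.eq, inv_mul_cancel_right]
        _ = d := by
          rw [show u * (u⁻¹ * d * u) * u⁻¹ = d by simp [mul_assoc], e2.eq, mul_inv_cancel_right]
    exact mul_inv_eq_iff_eq_mul.mp h1
  have hcR : c ∈ R := R.mul_mem ((Subgroup.mem_normalizer_iff.mp hwR u).mp n.2.1) (inv_mem n.2.1)
  have hcP : ∀ π ∈ P, π * c = c * π := by
    intro π hπ
    have h1 := QuotientGroup.eq.mp (hq ⟨π, hπ⟩).symm
    rw [Subgroup.mem_subgroupOf] at h1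
    change u⁻¹ * (π * u * π⁻¹) ∈ D at h1
    have h2 : u * (u⁻¹ * (π * u * π⁻¹)) * u⁻¹ ∈ D :=
      (Subgroup.mem_normalizer_iff.mp n.2.2 _).mp h1
    set d := u * (u⁻¹ * (π * u * π⁻¹)) * u⁻¹ with hd
    have h3 : π * u * π⁻¹ = d * u := by simp [hd]
    have hdw : Commute w d := (Subgroup.mem_centralizer_singleton_iff.mp h2.2).symm
    have h4 : π * c * π⁻¹ = c := by
      have e : π * w * π⁻¹ = w := mul_inv_eq_iff_eq_mul.mpr (hwP π hπ).eq
      calc π * c * π⁻¹ = (π * w * π⁻¹) * (π * u * π⁻¹) * (π * w * π⁻¹)⁻¹ * (π * u * π⁻¹)⁻¹ := by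
            simp [hc, mul_assoc]
        _ = w * d * w⁻¹ * c * d⁻¹ := by rw [e, h3]; simp [hc, mul_assoc]
        _ = c := by rw [hdw.eq, mul_inv_cancel_right, ← (hcD d h2).eq, mul_inv_cancel_right]
    exact mul_inv_eq_iff_eq_mul.mp h4
  exact huD ⟨n.2.1, Subgroup.mem_centralizer_singleton_iff.mpr
    (commute_of_stab hR hw hcR (hfix c hcR hcP)).eq.symm⟩

set_option linter.unusedSectionVars false

variable [Finite G] {p : ℕ} [Fact p.Prime]

theorem opIn_le (L : Subgroup G) : opIn p L ≤ L := Subgroup.map_subtype_le _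

theorem isPGroup_opIn (L : Subgroup G) : IsPGroup p (opIn p L) :=
  (CfsgLib.Solvable.isPGroup_pCore p).map _

theorem le_normalizer_opIn (L : Subgroup G) : L ≤ Subgroup.normalizer (opIn p L : Set G) := by
  intro l hl
  refine mem_normalizer_of_conj_le ?_
  rintro _ ⟨y, hy, rfl⟩
  exact ⟨⟨l, hl⟩ * y * ⟨l, hl⟩⁻¹, (CfsgLib.Solvable.pCore_normal (G := L) p).conj_mem _ hy _, rfl⟩

theorem le_opIn {L A : Subgroup G} (hAL : A ≤ L) (hA : IsPGroup p A)
    (hn : L ≤ Subgroup.normalizer (A : Set G)) : A ≤ opIn p L := by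
  have h : A.subgroupOf L ≤ Cfsg.pCore p L :=
    CfsgLib.Solvable.le_pCore p (Subgroup.normal_subgroupOf_iff_le_normalizer hAL |>.mpr hn)
      (IsPGroup.comap_subtype hA)
  intro a ha
  exact ⟨⟨a, hAL ha⟩, h ha, rfl⟩

theorem opIn_inf_le {L H : Subgroup G} (hHL : H ≤ L) : H ⊓ opIn p L ≤ opIn p H := by
  refine le_opIn inf_le_left ((isPGroup_opIn L).to_le inf_le_right) fun h hh => ?_
  refine mem_normalizer_of_conj_le fun x hx => ⟨H.mul_mem (H.mul_mem hh hx.1) (inv_mem hh), ?_⟩
  exact (Subgroup.mem_normalizer_iff.mp (le_normalizer_opIn L (hHL hh)) x).mp hx.2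

/-- `L` has characteristic p once its p'-elements centralizing `O_p(L)` are trivial. -/
theorem charP_of_forall {L : Subgroup G}
    (h : ∀ w ∈ L, (orderOf w).Coprime p → (∀ d ∈ opIn p L, Commute w d) → w = 1) :
    Subgroup.centralizer (Cfsg.pCore p ↥L : Set ↥L) ≤ Cfsg.pCore p ↥L := by
  have hn : (Subgroup.centralizer (Cfsg.pCore p ↥L : Set ↥L)).Normal := by
    have := CfsgLib.Solvable.pCore_normal (G := L) p
    infer_instance
  refine CfsgLib.Solvable.le_pCore p hn (isPGroup_of_forall fun w hw hcop => ?_)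
  refine Subtype.ext (h w w.2 (by rwa [Subgroup.orderOf_coe]) ?_)
  rintro _ ⟨d, hd, rfl⟩
  exact congrArg Subtype.val (Subgroup.mem_centralizer_iff.mp hw d hd).symm

theorem eq_one_of_charP {L : Subgroup G}
    (hL : Subgroup.centralizer (Cfsg.pCore p ↥L : Set ↥L) ≤ Cfsg.pCore p ↥L) {w : G} (hwL : w ∈ L)
    (hcop : (orderOf w).Coprime p) (h : ∀ d ∈ opIn p L, Commute w d) : w = 1 := by
  have h1 : (⟨w, hwL⟩ : L) ∈ Cfsg.pCore p ↥L := hL (Subgroup.mem_centralizer_iff.mpr fun d hd =>
    Subtype.ext (h d ⟨d, hd, rfl⟩).eq.symm)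
  exact eq_one_of_orderOf_coprime (isPGroup_opIn L) ⟨_, h1, rfl⟩ hcop

theorem eq_one_of_charP_top {G : Type*} [Group G] [Finite G] {p : ℕ} [Fact p.Prime]
    (hG : Subgroup.centralizer (Cfsg.pCore p G : Set G) ≤ Cfsg.pCore p G) {w : G}
    (hcop : (orderOf w).Coprime p) (h : ∀ d ∈ Cfsg.pCore p G, Commute w d) : w = 1 :=
  eq_one_of_orderOf_coprime (CfsgLib.Solvable.isPGroup_pCore p)
    (hG (Subgroup.mem_centralizer_iff.mpr fun d hd => (h d hd).eq.symm)) hcop

end CfsgLib.LocalB

namespace CfsgLib.LocalB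

theorem mem_centralizer_conj {G : Type*} [Group G] {B : Subgroup G} {n x : G}
    (hn : n ∈ Subgroup.normalizer (B : Set G)) (hx : x ∈ Subgroup.centralizer (B : Set G)) :
    n * x * n⁻¹ ∈ Subgroup.centralizer (B : Set G) := by
  refine Subgroup.mem_centralizer_iff.mpr fun b hb => ?_
  have h1 := (Subgroup.mem_normalizer_iff.mp (inv_mem hn) b).mp hb
  have h2 : Commute (n⁻¹ * b * n⁻¹⁻¹) x := Subgroup.mem_centralizer_iff.mp hx _ h1
  simpa [mul_assoc] using (h2.map (MulAut.conj n).toMonoidHom).eq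

theorem normalizer_le_normalizer_centralizer {G : Type*} [Group G] [Finite G] (B : Subgroup G) :
    Subgroup.normalizer (B : Set G) ≤
      Subgroup.normalizer (Subgroup.centralizer (B : Set G) : Set G) :=
  fun _ hn => mem_normalizer_of_conj_le fun _ hx => mem_centralizer_conj hn hx

/-- If `C_T(Q) ≤ Q` for a normal subgroup `Q` of a Sylow p-subgroup `T` of a group of
characteristic p, then `C(Q) ≤ Q`. -/
theorem centralizer_le_of_sylow {G : Type*} [Group G] [Finite G] {p : ℕ} [Fact p.Prime]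
    (hG : Subgroup.centralizer (Cfsg.pCore p G : Set G) ≤ Cfsg.pCore p G) (T : Sylow p G)
    (Q : Subgroup G) (hQT : Q ≤ (T : Subgroup G))
    (hQn : (T : Subgroup G) ≤ Subgroup.normalizer (Q : Set G))
    (hC : (T : Subgroup G) ⊓ Subgroup.centralizer (Q : Set G) ≤ Q) :
    Subgroup.centralizer (Q : Set G) ≤ Q := by
  have hn : (Cfsg.pCore p G).Normal := CfsgLib.Solvable.pCore_normal p
  have hRp : IsPGroup p (Cfsg.pCore p G) := CfsgLib.Solvable.isPGroup_pCore p
  have hRT : Cfsg.pCore p G ≤ (T : Subgroup G) := by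
    obtain ⟨P, hP⟩ := hRp.exists_le_sylow
    obtain ⟨g, hg⟩ := MulAction.exists_smul_eq G P T
    intro r hr
    rw [← hg]
    exact ⟨g⁻¹ * r * g⁻¹⁻¹, hP (hn.conj_mem _ hr g⁻¹), by simp [mul_assoc]⟩
  have hQp : IsPGroup p Q := T.isPGroup'.to_le hQT
  have hp : IsPGroup p (Subgroup.centralizer (Q : Set G)) := isPGroup_of_forall fun w hw hcop =>
    eq_one_of_charP_top hG hcop fun d hd =>
      commute_of_pxq hQp hRp (fun q _ => mem_normalizer_of_conj_le fun x hx => hn.conj_mem _ hx q)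
        hcop (mem_normalizer_of_conj_le fun x hx => hn.conj_mem _ hx w)
        (fun q hq => Subgroup.mem_centralizer_iff.mp hw q hq)
        (fun r hr hrc => (Subgroup.mem_centralizer_iff.mp hw r
          (hC ⟨hRT hr, Subgroup.mem_centralizer_iff.mpr hrc⟩)).symm) d hd
  have hle := T.is_maximal'
    (IsPGroup.to_sup_of_normal_left' hp T.isPGroup'
      (hQn.trans (normalizer_le_normalizer_centralizer Q))) le_sup_right
  exact fun x hx => hC ⟨hle ▸ (le_sup_left : Subgroup.centralizer (Q : Set G) ≤ _) hx, hx⟩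

theorem map_pCore_mem {K K' : Type*} [Group K] [Group K'] [Finite K'] [Finite K] (p : ℕ) [Fact p.Prime]
    (e : K ≃* K') {y : K} (hy : y ∈ Cfsg.pCore p K) : e y ∈ Cfsg.pCore p K' := by
  have hn : ((Cfsg.pCore p K).map e.toMonoidHom).Normal :=
    (CfsgLib.Solvable.pCore_normal p).map _ e.surjective
  exact CfsgLib.Solvable.le_pCore p hn ((CfsgLib.Solvable.isPGroup_pCore p).map _) ⟨y, hy, rfl⟩

end CfsgLib.LocalB
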