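import Cfsg.Agent.LocalB.SpreadField
import Mathlib.RingTheory.IntegralDomain
import Mathlib.LinearAlgebra.Matrix.ToLin
import Mathlib.LinearAlgebra.Matrix.NonsingularInverse

/-!
Coordinates from two additive groups of maps between `L'` and `L` which are mutually inverse: they are the
multiplications by the elements of a finite field.
-/

set_option autoImplicit false

namespace CfsgLib.SpreadField

variable {L L' : Type*} [AddCommGroup L] [AddCommGroup L']

/-- The standing hypotheses on a pair of spread sets. -/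
structure Pair (p : ℕ) (S : AddSubgroup (L' →+ L)) (T : AddSubgroup (L →+ L')) : Prop where
  exp : ∀ x : L, p • x = 0
  bij : ∀ s ∈ S, s ≠ 0 → Function.Bijective s
  card : Nat.card S = Nat.card L
  hST : ∀ s ∈ S, s ≠ 0 → ∃ t ∈ T, ∀ x, t (s x) = x
  hTS : ∀ t ∈ T, t ≠ 0 → ∃ s ∈ S, ∀ x, s (t x) = x

variable {p : ℕ} {S : AddSubgroup (L' →+ L)} {T : AddSubgroup (L →+ L')}

theorem Pair.inv_of_mem (H : Pair p S T) [Nontrivial L] {t : L →+ L'} (ht : t ∈ T) (h : t ≠ 0) :
    ∃ s ∈ S, s ≠ 0 ∧ (∀ x, s (t x) = x) ∧ ∀ y, t (s y) = y := by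
  obtain ⟨s, hs, hst⟩ := H.hTS t ht h
  have hs0 : s ≠ 0 := by
    rintro rfl
    obtain ⟨x, hx⟩ := exists_ne (0 : L)
    exact hx (hst x).symm
  exact ⟨s, hs, hs0, hst, fun y => (H.bij s hs hs0).1 (hst (s y))⟩

/-- Hua's identity. -/
theorem Pair.sts_mem (H : Pair p S T) [Nontrivial L] {s : L' →+ L} (hs : s ∈ S) {t : L →+ L'}
    (ht : t ∈ T) : s.comp (t.comp s) ∈ S := by
  by_cases hs0 : s = 0
  · subst hs0; simp
  by_cases ht0 : t = 0
  · subst ht0; simp
  obtain ⟨r, hr, -, hrt, htr⟩ := H.inv_of_mem ht ht0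
  by_cases hD : r - s = 0
  · have : s.comp (t.comp s) = s := by
      rw [sub_eq_zero] at hD
      subst hD
      ext y
      exact hrt (r y)
    rwa [this]
  obtain ⟨u, hu, huD⟩ := H.hST (r - s) (S.sub_mem hr hs) hD
  obtain ⟨si, hsi, hsis⟩ := H.hST s hs hs0
  have hW : ∀ x, (si + u) (s (t ((r - s) x))) = x := by
    intro x
    have h1 : ∀ z, s z = r z - (r - s) z := fun z => (sub_sub_cancel _ _).symm
    rw [AddMonoidHom.add_apply, hsis, h1 (t _), map_sub, hrt, huD, huD]
    abel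
  have hW0 : si + u ≠ 0 := by
    intro h0
    obtain ⟨x, hx⟩ := exists_ne (0 : L)
    obtain ⟨y, rfl⟩ := (H.bij s hs hs0).2 x
    have := hW y
    rw [h0, AddMonoidHom.zero_apply] at this
    exact hx (by rw [← this, map_zero])
  obtain ⟨s', hs', hs'W⟩ := H.hTS _ (T.add_mem hsi hu) hW0
  have e : s.comp (t.comp s) = s - s' := by
    ext y
    have h1 : s' y = s (t ((r - s) y)) := by rw [← hs'W (s (t ((r - s) y))), hW]
    rw [AddMonoidHom.sub_apply, h1, AddMonoidHom.sub_apply, map_sub, map_sub, htr]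
    simp
  rw [e]
  exact S.sub_mem hs hs'

/-- The maps are multiplications by the elements of a field. -/
theorem Pair.exists_coords [Fact p.Prime] [Finite L] [Nontrivial L] (H : Pair p S T) :
    ∃ (F : Type) (_ : Field F) (_ : Fintype F) (e : F ≃+ L) (e' : F ≃+ L'),
      Fintype.card F = Nat.card L ∧
      (∀ s ∈ S, ∃ c : F, ∀ y, s (e' y) = e (c * y)) ∧
      (∀ c : F, ∃ s ∈ S, ∀ y, s (e' y) = e (c * y)) ∧
      (∀ t ∈ T, ∃ c : F, ∀ y, t (e y) = e' (c * y)) ∧
      (∀ c : F, ∃ t ∈ T, ∀ y, t (e y) = e' (c * y)) := by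
  classical
  obtain ⟨mL⟩ : Nonempty (Module (ZMod p) L) := ⟨AddCommGroup.zmodModule H.exp⟩
  haveI : Module.Finite (ZMod p) L := Module.Finite.of_finite
  let bas := Module.finBasis (ZMod p) L
  set n := Module.finrank (ZMod p) L with hn
  have hcL : Nat.card L = p ^ n := by
    rw [hn, Module.natCard_eq_pow_finrank (K := ZMod p) (V := L), Nat.card_zmod]
  let act : Matrix (Fin n) (Fin n) (ZMod p) ≃ₐ[ZMod p] Module.End (ZMod p) L :=
    (LinearMap.toMatrixAlgEquiv bas).symm
  obtain ⟨s₀, hs₀, hs₀ne⟩ : ∃ s ∈ S, s ≠ 0 := by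
    by_contra hall
    push_neg at hall
    have : S = ⊥ := (AddSubgroup.eq_bot_iff_forall S).2 hall
    have hc := H.card
    rw [this, Nat.card_unique] at hc
    exact (Finite.one_lt_card (α := L)).ne hc
  let E₀ : L' ≃+ L := AddEquiv.ofBijective s₀ (H.bij s₀ hs₀ hs₀ne)
  let Φ : Matrix (Fin n) (Fin n) (ZMod p) →+ (L' →+ L) :=
    { toFun := fun c => (act c).toAddMonoidHom.comp s₀
      map_zero' := by ext y; simp
      map_add' := fun c d => by ext y; simp [map_add] }
  have hΦ : ∀ c y, Φ c y = act c (s₀ y) := fun _ _ => rfl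
  have hΦinj : Function.Injective Φ := by
    intro c d h
    refine act.injective (LinearMap.ext fun x => ?_)
    obtain ⟨y, rfl⟩ := E₀.surjective x
    exact DFunLike.congr_fun h y
  have hΦsurj : Function.Surjective Φ := by
    intro s
    refine ⟨act.symm ((s.comp E₀.symm.toAddMonoidHom).toZModLinearMap p), ?_⟩
    ext y
    rw [hΦ, AlgEquiv.apply_symm_apply]
    exact congrArg s (E₀.symm_apply_apply y)
  let K : AddSubgroup (Matrix (Fin n) (Fin n) (ZMod p)) := S.comap Φ
  have hKcard : Nat.card K = p ^ n := by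
    rw [← hcL, ← H.card]
    refine Nat.card_congr (Equiv.ofBijective (fun c => ⟨Φ c, c.2⟩) ⟨fun a b h => ?_, fun s => ?_⟩)
    · exact Subtype.ext (hΦinj (congrArg Subtype.val h))
    · obtain ⟨c, hc⟩ := hΦsurj s
      exact ⟨⟨c, show Φ c ∈ S from hc ▸ s.2⟩, Subtype.ext hc⟩
  have hbij : ∀ c ∈ K, c ≠ 0 → Function.Bijective (act c) := by
    intro c hc hc0
    have h0 : Φ c ≠ 0 := fun h => hc0 (hΦinj (h.trans (map_zero Φ).symm))
    have := H.bij _ hc h0
    exact ((E₀.bijective).of_comp_iff (act c)).1 this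
  have hunit : ∀ c ∈ K, c ≠ 0 → IsUnit c := fun c hc hc0 => by
    have := ((Module.End.isUnit_iff (act c)).2 (hbij c hc hc0)).map act.symm
    rwa [AlgEquiv.symm_apply_apply] at this
  have hone : (1 : Matrix (Fin n) (Fin n) (ZMod p)) ∈ K := by
    have : Φ 1 = s₀ := by ext y; rw [hΦ, map_one]; rfl
    rw [AddSubgroup.mem_comap, this]
    exact hs₀
  have hkey : ∀ a ∈ K, ∀ b ∈ K, b ≠ 0 → a * b⁻¹ * a ∈ K := by
    intro a ha b hb hb0
    have hbd : IsUnit b.det := (Matrix.isUnit_iff_isUnit_det b).1 (hunit b hb hb0)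
    have h0 : Φ b ≠ 0 := fun h => hb0 (hΦinj (h.trans (map_zero Φ).symm))
    obtain ⟨t, ht, htb⟩ := H.hST _ hb h0
    have e : Φ (a * b⁻¹ * a) = (Φ a).comp (t.comp (Φ a)) := by
      ext y
      obtain ⟨z, hz⟩ := (H.bij _ hb h0).2 (Φ a y)
      rw [AddMonoidHom.comp_apply, AddMonoidHom.comp_apply, ← hz, htb, hΦ, hΦ, map_mul, map_mul]
      change act a (act b⁻¹ (act a (s₀ y))) = act a (s₀ z)
      rw [hΦ, hΦ] at hz
      rw [← hz, ← Module.End.mul_apply (act b⁻¹), ← map_mul, Matrix.nonsing_inv_mul b hbd,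
        map_one, Module.End.one_apply]
    rw [AddSubgroup.mem_comap, e]
    exact H.sts_mem ha ht
  have hHyp : Hyp (p := p) (n := n) K :=
    { card := hKcard
      one := hone
      det := fun a ha ha0 => ((Matrix.isUnit_iff_isUnit_det a).1 (hunit a ha ha0)).ne_zero
      aba := by
        intro a ha b hb
        by_cases hb0 : b = 0
        · simp [hb0]
        have hbd : IsUnit b.det := (Matrix.isUnit_iff_isUnit_det b).1 (hunit b hb hb0)
        have h1 : b⁻¹ ∈ K := by simpa using hkey 1 hone b hb hb0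
        have h2 : b⁻¹ ≠ 0 := by
          intro h
          have := Matrix.nonsing_inv_mul b hbd
          rw [h, Matrix.zero_mul] at this
          have h3 := hbij 1 hone
          exact hb0 (by rw [← Matrix.mul_one b, ← this, Matrix.mul_zero])
        have := hkey a ha _ h1 h2
        rwa [Matrix.nonsing_inv_nonsing_inv b hbd] at this }
  let Fs : Subring (Matrix (Fin n) (Fin n) (ZMod p)) :=
    { carrier := K
      mul_mem' := fun ha hb => (hHyp.mul_mem_and_comm _ ha _ hb).1
      one_mem' := hone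
      add_mem' := fun ha hb => K.add_mem ha hb
      zero_mem' := K.zero_mem
      neg_mem' := fun ha => K.neg_mem ha }
  have hmem : ∀ c : Fs, (c : Matrix (Fin n) (Fin n) (ZMod p)) ∈ K := fun c => c.2
  haveI : Nontrivial Fs := ⟨0, 1, fun h => by
    have h1 : act (0 : Matrix (Fin n) (Fin n) (ZMod p)) = act 1 :=
      congrArg act (congrArg Subtype.val h)
    obtain ⟨x, hx⟩ := exists_ne (0 : L)
    rw [map_zero, map_one] at h1
    exact hx (DFunLike.congr_fun h1 x).symm⟩
  haveI : NoZeroDivisors Fs := ⟨fun {a b} h => by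
    by_contra hh
    push_neg at hh
    have h1 : (a : Matrix (Fin n) (Fin n) (ZMod p)) ≠ 0 := fun e => hh.1 (Subtype.ext e)
    have h2 : (b : Matrix (Fin n) (Fin n) (ZMod p)) ≠ 0 := fun e => hh.2 (Subtype.ext e)
    have := congrArg Subtype.val h
    exact h2 ((hunit _ (hmem a) h1).mul_right_eq_zero.1 this)⟩
  haveI : IsDomain Fs := NoZeroDivisors.to_isDomain _
  letI : CommRing Fs :=
    { (inferInstance : Ring Fs) with
      mul_comm := fun a b => Subtype.ext (hHyp.mul_mem_and_comm _ a.2 _ b.2).2 }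
  letI : Field Fs := (Finite.isField_of_domain Fs).toField
  letI : Fintype Fs := Fintype.ofFinite _
  obtain ⟨v₀, hv₀⟩ := exists_ne (0 : L)
  let e₀ : Fs →+ L :=
    { toFun := fun c => act c v₀
      map_zero' := by simp
      map_add' := fun c d => by simp [map_add] }
  have hcF : Nat.card Fs = Nat.card L := hKcard.trans hcL.symm
  have he₀ : Function.Bijective e₀ := by
    have : Function.Injective e₀ := by
      rw [injective_iff_map_eq_zero]
      intro c hc
      by_contra hc0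
      have h1 : (c : Matrix (Fin n) (Fin n) (ZMod p)) ≠ 0 := fun e => hc0 (Subtype.ext e)
      exact hv₀ ((hbij _ (hmem c) h1).1 (hc.trans (map_zero (act _)).symm))
    exact (Nat.bijective_iff_injective_and_card e₀).2 ⟨this, hcF⟩
  let e : Fs ≃+ L := AddEquiv.ofBijective e₀ he₀
  let e' : Fs ≃+ L' := e.trans E₀.symm
  have hs₀e : ∀ y, s₀ (e' y) = act (y : Matrix (Fin n) (Fin n) (ZMod p)) v₀ := fun y =>
    E₀.apply_symm_apply (e y)
  have hfwd : ∀ c : Fs, ∀ y, Φ c (e' y) = e (c * y) := by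
    intro c y
    rw [hΦ, hs₀e]
    change _ = act ((c * y : Fs) : Matrix (Fin n) (Fin n) (ZMod p)) v₀
    rw [Subring.coe_mul, map_mul, Module.End.mul_apply]
  have hS1 : ∀ s ∈ S, ∃ c : Fs, ∀ y, s (e' y) = e (c * y) := by
    intro s hs
    obtain ⟨c, rfl⟩ := hΦsurj s
    exact ⟨⟨c, hs⟩, hfwd ⟨c, hs⟩⟩
  have hS2 : ∀ c : Fs, ∃ s ∈ S, ∀ y, s (e' y) = e (c * y) := fun c => ⟨Φ c, c.2, hfwd c⟩
  refine ⟨Fs, inferInstance, inferInstance, e, e', by rw [Fintype.card_eq_nat_card, hcF], hS1, hS2,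
    ?_, ?_⟩
  · intro t ht
    by_cases ht0 : t = 0
    · exact ⟨0, fun y => by simp [ht0]⟩
    obtain ⟨s, hs, hs0, hst, hts⟩ := H.inv_of_mem ht ht0
    obtain ⟨c, hc⟩ := hS1 s hs
    have hc0 : c ≠ 0 := by
      rintro rfl
      refine hs0 (AddMonoidHom.ext fun x => ?_)
      obtain ⟨y, rfl⟩ := e'.surjective x
      simp [hc]
    refine ⟨c⁻¹, fun y => ?_⟩
    have := hc (c⁻¹ * y)
    rw [← mul_assoc, mul_inv_cancel₀ hc0, one_mul] at this
    rw [← this, hts]
  · intro c
    by_cases hc0 : c = 0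
    · exact ⟨0, T.zero_mem, fun y => by simp [hc0]⟩
    obtain ⟨s, hs, hsc⟩ := hS2 c⁻¹
    have hs0 : s ≠ 0 := by
      rintro rfl
      have := hsc c
      rw [AddMonoidHom.zero_apply, inv_mul_cancel₀ hc0] at this
      exact one_ne_zero (e.injective (this.symm.trans (map_zero e).symm))
    obtain ⟨t, ht, hts⟩ := H.hST s hs hs0
    refine ⟨t, ht, fun y => ?_⟩
    have := hsc (c * y)
    rw [← mul_assoc, inv_mul_cancel₀ hc0, one_mul] at this
    rw [← this, hts]

end CfsgLib.SpreadField
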