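import Cfsg.Agent.LocalB.SixtyFour
import Cfsg.Agent.Classical.LinearOrder
import Cfsg.Agent.Unitary.Special
import Cfsg.Agent.S0280
import Mathlib.FieldTheory.Finite.GaloisField

/-!
The Sylow 2-subgroups of `PSL₃(4)` and `PSU₃(4)`.
-/

set_option autoImplicit false
set_option linter.style.haveILetI false

namespace CfsgLib.SixtyFour

open Matrix

section Linear

variable {F : Type} [Field F]

/-- An upper unitriangular matrix. -/
def uni (x y z : F) : Matrix.SpecialLinearGroup (Fin 3) F :=
  ⟨!![1, x, z; 0, 1, y; 0, 0, 1], by simp [Matrix.det_fin_three]⟩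

theorem uni_mul (x y z x' y' z' : F) :
    uni x y z * uni x' y' z' = uni (x + x') (y + y') (z + z' + x * y') := by
  refine Subtype.ext ?_
  show !![1, x, z; 0, 1, y; 0, 0, 1] * !![1, x', z'; 0, 1, y'; 0, 0, 1] =
    !![1, x + x', z + z' + x * y'; 0, 1, y + y'; 0, 0, 1]
  ext i j; fin_cases i <;> fin_cases j <;>
    simp [Matrix.SpecialLinearGroup.coe_mul, Matrix.mul_apply, Fin.sum_univ_three,
      Matrix.vecHead, Matrix.vecTail] <;> ring

theorem uni_zero : uni (0 : F) 0 0 = 1 := by
  refine Subtype.ext ?_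
  ext i j; fin_cases i <;> fin_cases j <;> simp [uni]

/-- The image of an upper unitriangular matrix. -/
def puni (x y z : F) : Matrix.ProjectiveSpecialLinearGroup (Fin 3) F :=
  QuotientGroup.mk' (Subgroup.center (Matrix.SpecialLinearGroup (Fin 3) F)) (uni x y z)

theorem puni_mul (x y z x' y' z' : F) :
    puni x y z * puni x' y' z' = puni (x + x') (y + y') (z + z' + x * y') := by
  rw [puni, puni, ← map_mul, uni_mul]; rfl

theorem puni_zero : puni (0 : F) 0 0 = 1 := by rw [puni, uni_zero, map_one]

theorem puni_injective {x y z x' y' z' : F} (h : puni x y z = puni x' y' z') :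
    x = x' ∧ y = y' ∧ z = z' := by
  rw [puni, puni, QuotientGroup.mk'_apply, QuotientGroup.mk'_apply, QuotientGroup.eq] at h
  obtain ⟨c, -, hc⟩ := Matrix.SpecialLinearGroup.mem_center_iff.1 h
  have h2 : uni x' y' z' = uni x y z * ((uni x y z)⁻¹ * uni x' y' z') := (mul_inv_cancel_left _ _).symm
  have h3 := congrArg (fun g : Matrix.SpecialLinearGroup (Fin 3) F => (g : Matrix (Fin 3) (Fin 3) F)) h2
  simp only [Matrix.SpecialLinearGroup.coe_mul, ← hc] at h3
  have e00 := congrFun (congrFun h3 0) 0
  simp [uni, Matrix.mul_apply, Fin.sum_univ_three] at e00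
  subst e00
  have e01 := congrFun (congrFun h3 0) 1
  have e02 := congrFun (congrFun h3 0) 2
  have e12 := congrFun (congrFun h3 1) 2
  simp [uni, Matrix.mul_apply, Fin.sum_univ_three] at e01 e02 e12
  exact ⟨e01.symm, e12.symm, e02.symm⟩

variable [CharP F 2]

theorem exists_rel_psl [Fintype F] (hF : Fintype.card F = 4) :
    ∃ R : Rel true (Matrix.ProjectiveSpecialLinearGroup (Fin 3) F), Function.Injective R.word := by
  classical
  obtain ⟨w, hw0, hw1⟩ : ∃ w : F, w ≠ 0 ∧ w ≠ 1 := by
    by_contra h
    push Not at h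
    have : (Finset.univ : Finset F) ⊆ {0, 1} := fun x _ => by
      by_cases hx : x = 0
      · simp [hx]
      · simp [h x hx]
    have := Finset.card_le_card this
    rw [Finset.card_univ, hF] at this
    have := this.trans Finset.card_le_two
    omega
  have hw : w * w = 1 + w := by
    have h4 : w ^ 3 = 1 := by
      have := FiniteField.pow_card_sub_one_eq_one w hw0
      rwa [hF] at this
    have h5 : (w - 1) * (w * w + w + 1) = 0 := by linear_combination h4
    rcases mul_eq_zero.1 h5 with h | h
    · exact absurd (sub_eq_zero.1 h) hw1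
    · have h2 : (1 : F) + 1 = 0 := CharTwo.add_self_eq_zero 1
      linear_combination h - (1 + w) * h2
  have two : (2 : F) = 0 := CharTwo.two_eq_zero
  let a := puni (1 : F) 0 0
  let a' := puni w 0 0
  let b := puni 0 (1 : F) 0
  let b' := puni 0 w 0
  let u := puni 0 0 (1 : F)
  let u' := puni 0 0 (1 + w)
  have hzc : ∀ (z : F) g, g ∈ ({a, a', b, b', u, u'} : Set _) → Commute g (puni 0 0 z) := by
    intro z g hg
    simp only [a, a', b, b', u, u', Set.mem_insert_iff, Set.mem_singleton_iff] at hg
    rcases hg with rfl | rfl | rfl | rfl | rfl | rfl <;>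
      · show puni _ _ _ * puni _ _ _ = puni _ _ _ * puni _ _ _
        rw [puni_mul, puni_mul]; congr 1 <;> ring
  let R : Rel true (Matrix.ProjectiveSpecialLinearGroup (Fin 3) F) :=
    { a := a
      a' := a'
      b := b
      b' := b'
      u := u
      u' := u'
      uc := fun g hg => hzc 1 g hg
      uc' := fun g hg => hzc (1 + w) g hg
      uu := by simp only [u, puni_mul]; rw [← puni_zero]; congr 1 <;> first | ring1 | linear_combination two
      uu' := by simp only [u', puni_mul]; rw [← puni_zero]; congr 1 <;> first | ring1 | linear_combination (1 + w) * two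
      aa' := by
        show a * a' = a' * a
        simp only [a, a', puni_mul]; congr 1 <;> ring
      bb' := by
        show b * b' = b' * b
        simp only [b, b', puni_mul]; congr 1 <;> ring
      ba := by
        simp only [a, b, u, puni_mul]
        congr 1 <;> first | ring1 | linear_combination -(1 : F) * two
      b'a := by
        simp only [a, b', u, u', puni_mul]
        congr 1 <;> first | ring1 | linear_combination -(1 + w) * two
      ba' := by
        simp only [a', b, u, u', puni_mul]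
        congr 1 <;> first | ring1 | linear_combination -(1 + w) * two
      b'a' := by
        simp only [a', b', u', puni_mul]
        congr 1 <;> first | ring1 | linear_combination -(1 + w) * two - hw
      asq := by simp only [a, puni_mul, if_true]; rw [← puni_zero]; congr 1 <;> first | ring1 | linear_combination two
      a'sq := by simp only [a', puni_mul, if_true]; rw [← puni_zero]; congr 1 <;> first | ring1 | linear_combination w * two
      bsq := by simp only [b, puni_mul, if_true]; rw [← puni_zero]; congr 1 <;> first | ring1 | linear_combination two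
      b'sq := by simp only [b', puni_mul, if_true]; rw [← puni_zero]; congr 1 <;> first | ring1 | linear_combination w * two }
  refine ⟨R, ?_⟩
  let cf : Bool → Bool → F → F := fun i j v => (if i then 1 else 0) + (if j then v else 0)
  have hword : ∀ i j k l m n, R.word (i, j, k, l, m, n) = puni (cf i j w) (cf k l w)
      (cf m n (1 + w) + cf i j w * cf k l w) := by
    intro i j k l m n
    cases i <;> cases j <;> cases k <;> cases l <;> cases m <;> cases n <;>
      simp only [Rel.word, pw, R, a, a', b, b', u, u', cf, ↓reduceIte, one_mul, mul_one, puni_mul,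
        Bool.false_eq_true] <;>
      first
        | (rw [← puni_zero]; congr 1 <;> ring)
        | (congr 1 <;> ring)
  have hcf : ∀ v : F, v ≠ 0 → v ≠ 1 → ∀ i j i' j', cf i j v = cf i' j' v → i = i' ∧ j = j' := by
    intro v h0 h1 i j i' j' h
    have h2 : (1 : F) + v ≠ 0 := fun e => h1 (by linear_combination e - two)
    have h3 : (1 : F) + v ≠ 1 := fun e => h0 (by linear_combination e)
    cases i <;> cases j <;> cases i' <;> cases j' <;>
      simp [cf, h0, h0.symm, h1, h1.symm, h2, h2.symm, h3, h3.symm] at h ⊢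
  rintro ⟨i, j, k, l, m, n⟩ ⟨i', j', k', l', m', n'⟩ h
  rw [hword, hword] at h
  obtain ⟨hx, hy, hz⟩ := puni_injective h
  obtain ⟨rfl, rfl⟩ := hcf w hw0 hw1 _ _ _ _ hx
  obtain ⟨rfl, rfl⟩ := hcf w hw0 hw1 _ _ _ _ hy
  obtain ⟨rfl, rfl⟩ := hcf (1 + w) (fun e => hw1 (by linear_combination e - two))
    (fun e => hw0 (by linear_combination e)) _ _ _ _ (add_right_cancel hz)
  rfl

theorem card_psl_three_four [Fintype F] (hF : Fintype.card F = 4) :
    Nat.card (Matrix.ProjectiveSpecialLinearGroup (Fin 3) F) = 64 * 315 := by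
  have h := CfsgLib.Linear.card_PSL_mul hF 3 (by omega)
  norm_num [Fin.prod_univ_three] at h
  omega

end Linear

section Unitary

open Polynomial in
theorem exists_trace_one {F : Type} [Field F] [Fintype F] [CharP F 2] (hF : Fintype.card F = 16) :
    ∃ b : F, b + b ^ 4 = 1 := by
  classical
  haveI : Fact (Nat.Prime 2) := ⟨Nat.prime_two⟩
  have h16 : ∀ x : F, x ^ 16 = x := fun x => by rw [← hF]; exact FiniteField.pow_card x
  let φ : F →+ F := AddMonoidHom.mk' (fun x => x + x ^ 4) fun x y => by
    rw [show (x + y) ^ 4 = ((x + y) ^ 2) ^ 2 by ring, CharTwo.add_sq, CharTwo.add_sq]; ring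
  let S : Finset F := (X ^ 4 - X : F[X]).roots.toFinset
  have hS : S.card ≤ 4 := by
    refine (Multiset.toFinset_card_le _).trans ((Polynomial.card_roots' _).trans ?_)
    exact le_of_eq (FiniteField.X_pow_card_sub_X_natDegree_eq F (by norm_num : 1 < 4))
  have hne : (X ^ 4 - X : F[X]) ≠ 0 := FiniteField.X_pow_card_sub_X_ne_zero F (by norm_num : 1 < 4)
  have hmem : ∀ x : F, x ^ 4 = x → x ∈ S := fun x hx => by
    simp [S, Multiset.mem_toFinset, Polynomial.mem_roots hne, hx, sub_self]
  have hker : Nat.card φ.ker ≤ 4 := by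
    refine le_trans ?_ hS
    rw [← Nat.card_eq_finsetCard]
    refine Nat.card_le_card_of_injective (fun x => ⟨(x : F), hmem _ ?_⟩) fun x y h =>
      Subtype.ext (congrArg (fun z : S => (z : F)) h)
    have h : (x : F) + (x : F) ^ 4 = 0 := x.2
    rw [← CharTwo.sub_eq_add, sub_eq_zero] at h
    exact h.symm
  have hcard := φ.ker.card_mul_index
  rw [AddSubgroup.index_ker, Nat.card_eq_fintype_card (α := F), hF] at hcard
  have hrange : 4 ≤ Nat.card φ.range := by
    by_contra h
    have := Nat.mul_le_mul hker (Nat.le_of_lt_succ (not_le.1 h))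
    omega
  let R : Finset F := (Set.toFinite (φ.range : Set F)).toFinset
  have hsub : R ⊆ S := by
    intro y hy
    rw [Set.Finite.mem_toFinset] at hy
    obtain ⟨x, rfl⟩ := hy
    refine hmem _ ?_
    show (x + x ^ 4) ^ 4 = x + x ^ 4
    rw [show (x + x ^ 4) ^ 4 = ((x + x ^ 4) ^ 2) ^ 2 by ring, CharTwo.add_sq, CharTwo.add_sq,
      show ((x ^ 4) ^ 2) ^ 2 = x ^ 16 by ring, h16]
    ring
  have hR : S.card ≤ R.card := by
    refine hS.trans ?_
    rw [← Set.ncard_eq_toFinset_card (φ.range : Set F), ← Nat.card_coe_set_eq]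
    exact hrange
  have h1 : (1 : F) ∈ R := by
    rw [Finset.eq_of_subset_of_card_le hsub hR]
    exact hmem 1 (one_pow 4)
  rw [Set.Finite.mem_toFinset] at h1
  exact h1

variable {F : Type} [Field F]

/-- A transvection matrix in isotropic coordinates. -/
def umat (x z : F) : Matrix (Fin 3) (Fin 3) F := !![1, x, z; 0, 1, x ^ 4; 0, 0, 1]

/-- The change of coordinates. -/
def pmat (b : F) : Matrix (Fin 3) (Fin 3) F := !![1, 0, b; 1, 0, b ^ 4; 0, 1, 0]

/-- The inverse change of coordinates. -/
def qmat (b : F) : Matrix (Fin 3) (Fin 3) F := !![b ^ 4, b, 0; 0, 0, 1; 1, 1, 0]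

variable [Fintype F] [CharP F 2]

set_option maxHeartbeats 800000 in
theorem exists_rel_psu (hF : Fintype.card F = 16) :
    ∃ R : Rel false (Cfsg.PSU 3 F 4), Function.Injective R.word := by
  classical
  obtain ⟨b, hb⟩ := exists_trace_one hF
  haveI : Fact (Nat.Prime 2) := ⟨Nat.prime_two⟩
  have two : (2 : F) = 0 := CharTwo.two_eq_zero
  have h16 : ∀ x : F, x ^ 16 = x := fun x => by rw [← hF]; exact FiniteField.pow_card x
  have hadd : ∀ x y : F, (x + y) ^ 4 = x ^ 4 + y ^ 4 := fun x y => by
    rw [show (x + y) ^ 4 = ((x + y) ^ 2) ^ 2 by ring, CharTwo.add_sq, CharTwo.add_sq]; ring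
  let φ : F →+* F :=
    { toFun := fun x => x ^ 4
      map_one' := one_pow 4
      map_mul' := fun x y => mul_pow x y 4
      map_zero' := by simp
      map_add' := hadd }
  have hb16 := h16 b
  have hqp : qmat b * pmat b = 1 := by
    ext i j; fin_cases i <;> fin_cases j <;>
      simp [qmat, pmat, Matrix.mul_apply, Fin.sum_univ_three] <;>
      first | ring1 | linear_combination hb | linear_combination two | linear_combination b * b ^ 4 * two
  have hpq : pmat b * qmat b = 1 := mul_eq_one_comm.1 hqp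
  let J : Matrix (Fin 3) (Fin 3) F := !![0, 0, 1; 0, 1, 0; 1, 0, 0]
  have hPJ : (pmat b)ᵀ * (pmat b).map φ = J := by
    ext i j; fin_cases i <;> fin_cases j <;>
      simp [pmat, J, φ, Matrix.mul_apply, Fin.sum_univ_three, CharTwo.add_self_eq_zero] <;>
      first
        | ring1
        | linear_combination hb
        | linear_combination hb + hb16
        | linear_combination b * b ^ 4 * two + b ^ 4 * hb16
        | linear_combination two
  have hUJ : ∀ x z : F, z + z ^ 4 = x ^ 5 → (umat x z)ᵀ * J * (umat x z).map φ = J := by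
    intro x z hz
    have hx16 := h16 x
    ext i j; fin_cases i <;> fin_cases j <;>
      simp [umat, J, φ, Matrix.mul_apply, Fin.sum_univ_three] <;>
      first
        | ring1
        | linear_combination x ^ 4 * two
        | linear_combination x * two + hx16
        | linear_combination x * two
        | linear_combination hz + x ^ 4 * hx16 + x ^ 5 * two
  let M : F → F → Matrix (Fin 3) (Fin 3) F := fun x z => pmat b * umat x z * qmat b
  have hM : ∀ x z : F, z + z ^ 4 = x ^ 5 → (M x z)ᵀ * (M x z).map φ = 1 := by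
    intro x z hz
    simp only [M, Matrix.transpose_mul, Matrix.map_mul]
    calc (qmat b)ᵀ * ((umat x z)ᵀ * (pmat b)ᵀ) * ((pmat b).map φ * (umat x z).map φ * (qmat b).map φ)
        = (qmat b)ᵀ * ((umat x z)ᵀ * ((pmat b)ᵀ * (pmat b).map φ) * (umat x z).map φ) * (qmat b).map φ := by
          simp only [mul_assoc]
      _ = (qmat b)ᵀ * ((pmat b)ᵀ * (pmat b).map φ) * (qmat b).map φ := by rw [hPJ, hUJ x z hz]
      _ = (pmat b * qmat b)ᵀ * (pmat b * qmat b).map φ := by
          simp only [Matrix.transpose_mul, Matrix.map_mul, mul_assoc]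
      _ = 1 := by rw [hpq, Matrix.map_one φ (map_zero φ) (map_one φ), Matrix.transpose_one, one_mul]
  have hdet : ∀ x z, (M x z).det = 1 := fun x z => by
    have h1 : (pmat b).det * (qmat b).det = 1 := by rw [← Matrix.det_mul, hpq, Matrix.det_one]
    simp only [M, Matrix.det_mul]
    have h2 : (umat x z).det = 1 := by simp [umat, Matrix.det_fin_three]
    rw [h2, mul_one, h1]
  let E : {xz : F × F // xz.2 + xz.2 ^ 4 = xz.1 ^ 5} → Cfsg.SU 3 F 4 := fun v =>
    ⟨⟨M v.1.1 v.1.2, hdet _ _⟩, by
      intro u w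
      show Cfsg.hermForm 3 F 4 (M v.1.1 v.1.2 *ᵥ u) (M v.1.1 v.1.2 *ᵥ w) = Cfsg.hermForm 3 F 4 u w
      have hh : ∀ u w : Fin 3 → F, Cfsg.hermForm 3 F 4 u w = u ⬝ᵥ (φ ∘ w) := fun u w => rfl
      have e : φ ∘ (M v.1.1 v.1.2 *ᵥ w) = (M v.1.1 v.1.2).map φ *ᵥ (φ ∘ w) :=
        funext fun i => RingHom.map_mulVec φ _ w i
      rw [hh, hh, e, Matrix.dotProduct_mulVec, ← Matrix.vecMul_transpose, Matrix.vecMul_vecMul,
        hM _ _ v.2, Matrix.vecMul_one]⟩
  let π := QuotientGroup.mk' (Subgroup.center (Cfsg.SU 3 F 4))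
  have hEm : ∀ (p q r : {xz : F × F // xz.2 + xz.2 ^ 4 = xz.1 ^ 5}),
      r.1.1 = p.1.1 + q.1.1 → r.1.2 = p.1.2 + q.1.2 + p.1.1 * q.1.1 ^ 4 → π (E p) * π (E q) = π (E r) := by
    intro p q r h1 h2
    rw [← map_mul]
    congr 1
    refine Subtype.ext (Subtype.ext ?_)
    show M p.1.1 p.1.2 * M q.1.1 q.1.2 = M r.1.1 r.1.2
    have hu : umat p.1.1 p.1.2 * umat q.1.1 q.1.2 = umat r.1.1 r.1.2 := by
      rw [h1, h2]
      ext i j; fin_cases i <;> fin_cases j <;>
        simp [umat, Matrix.mul_apply, Fin.sum_univ_three, hadd] <;> ring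
    simp only [M]
    calc pmat b * umat p.1.1 p.1.2 * qmat b * (pmat b * umat q.1.1 q.1.2 * qmat b)
        = pmat b * umat p.1.1 p.1.2 * (qmat b * pmat b) * umat q.1.1 q.1.2 * qmat b := by
          simp only [mul_assoc]
      _ = _ := by rw [hqp, mul_one, mul_assoc (pmat b), hu]
  have hE1 : ∀ p : {xz : F × F // xz.2 + xz.2 ^ 4 = xz.1 ^ 5}, p.1.1 = 0 → p.1.2 = 0 → π (E p) = 1 := by
    intro p h1 h2
    rw [show E p = 1 from Subtype.ext (Subtype.ext (by
      show M p.1.1 p.1.2 = 1
      rw [h1, h2]
      have : umat (0 : F) 0 = 1 := by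
        ext i j; fin_cases i <;> fin_cases j <;> simp [umat]
      simp only [M, this, mul_one, hpq])), map_one]
  set β := b * b ^ 4 with hβ
  have hb4 : b ^ 4 = 1 + b := by linear_combination hb - b * two
  have hβ4 : β ^ 4 = β := by rw [hβ]; linear_combination b ^ 4 * hb16
  have hβ0 : β ≠ 0 := fun h => by
    rcases mul_eq_zero.1 h with h | h
    · rw [h] at hb; simp at hb
    · rw [eq_zero_of_pow_eq_zero h] at hb; simp at hb
  have hβ1 : β ≠ 1 := fun h => by
    -- then `b` would be fixed
    have e : b * b + b + 1 = 0 := by linear_combination h - b * hb4 + two - hβ + (0 : F) * hb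
    have e2 : b ^ 4 = b := by
      rw [show b ^ 4 = (b * b) * (b * b) by ring]
      linear_combination (b * b - b) * e
    rw [e2] at hb
    rw [CharTwo.add_self_eq_zero] at hb
    exact zero_ne_one hb
  have hq : β * β + β + 1 = 0 := by
    have h3 : (β - 1) * (β * β + β + 1) * β = 0 := by linear_combination hβ4
    rcases mul_eq_zero.1 h3 with h | h
    · rcases mul_eq_zero.1 h with h | h
      · exact absurd (sub_eq_zero.1 h) hβ1
      · exact h
    · exact absurd h hβ0
  set w := β * β with hw
  have hw4 : w ^ 4 = w := by rw [hw, mul_pow, hβ4]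
  have h2t : ∀ x : F, x + x = 0 := fun x => CharTwo.add_self_eq_zero x
  have c1 : (β * b) + (β * b) ^ 4 = β := by rw [mul_pow, hβ4]; linear_combination β * hb
  have c2 : (w * b) + (w * b) ^ 4 = w := by rw [mul_pow, hw4]; linear_combination w * hb
  have hw5 : w ^ 5 = β := by
    rw [pow_succ, hw4, hw]; linear_combination hβ4
  let va : {xz : F × F // xz.2 + xz.2 ^ 4 = xz.1 ^ 5} := ⟨(1, b), by simpa using hb⟩
  let va' : {xz : F × F // xz.2 + xz.2 ^ 4 = xz.1 ^ 5} := ⟨(w, β * b), c1.trans hw5.symm⟩
  let vb : {xz : F × F // xz.2 + xz.2 ^ 4 = xz.1 ^ 5} := ⟨(b, β * b), c1.trans (by rw [hβ]; ring)⟩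
  let vb' : {xz : F × F // xz.2 + xz.2 ^ 4 = xz.1 ^ 5} := ⟨(w * b, w * b), c2.trans (by
    show w = (w * b) ^ 5
    rw [mul_pow, hw5, show b ^ 5 = β by rw [hβ]; ring])⟩
  have hfix : ∀ z : F, z ^ 4 = z → (0 : F × F).1 = 0 ∧ z + z ^ 4 = (0 : F) ^ 5 := fun z hz =>
    ⟨rfl, by rw [hz, h2t]; simp⟩
  let vc : ∀ z : F, z ^ 4 = z → {xz : F × F // xz.2 + xz.2 ^ 4 = xz.1 ^ 5} :=
    fun z hz => ⟨(0, z), (hfix z hz).2⟩
  let A := π (E va)
  let A' := π (E va')
  let B := π (E vb)
  let B' := π (E vb')
  let U := π (E (vc 1 (one_pow 4)))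
  let U' := π (E (vc β hβ4))
  have hsum : ∀ p q : {xz : F × F // xz.2 + xz.2 ^ 4 = xz.1 ^ 5},
      (p.1.2 + q.1.2 + p.1.1 * q.1.1 ^ 4) + (p.1.2 + q.1.2 + p.1.1 * q.1.1 ^ 4) ^ 4 =
        (p.1.1 + q.1.1) ^ 5 := by
    intro p q
    rw [hadd, hadd, mul_pow, ← pow_mul, h16, pow_succ (p.1.1 + q.1.1) 4, hadd]
    linear_combination p.2 + q.2
  let add : ∀ p q : {xz : F × F // xz.2 + xz.2 ^ 4 = xz.1 ^ 5},
      {xz : F × F // xz.2 + xz.2 ^ 4 = xz.1 ^ 5} := fun p q =>
    ⟨(p.1.1 + q.1.1, p.1.2 + q.1.2 + p.1.1 * q.1.1 ^ 4), hsum p q⟩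
  have hadd' : ∀ p q, π (E p) * π (E q) = π (E (add p q)) := fun p q => hEm p q _ rfl rfl
  have hext : ∀ p q : {xz : F × F // xz.2 + xz.2 ^ 4 = xz.1 ^ 5},
      p.1.1 = q.1.1 → p.1.2 = q.1.2 → π (E p) = π (E q) := fun p q h1 h2 => by
    rw [Subtype.ext (Prod.ext h1 h2)]
  have hzc : ∀ z hz g, g ∈ ({A, A', B, B', U, U'} : Set _) → Commute g (π (E (vc z hz))) := by
    intro z hz g hg
    simp only [A, A', B, B', U, U', Set.mem_insert_iff, Set.mem_singleton_iff] at hg
    rcases hg with rfl | rfl | rfl | rfl | rfl | rfl <;>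
      · show π _ * π _ = π _ * π _
        rw [hadd', hadd']
        refine hext _ _ ?_ ?_ <;> simp [add, va, va', vb, vb', vc] <;> ring
  let R : Rel false (Cfsg.PSU 3 F 4) :=
    { a := A
      a' := A'
      b := B
      b' := B'
      u := U
      u' := U'
      uc := fun g hg => hzc 1 (one_pow 4) g hg
      uc' := fun g hg => hzc β hβ4 g hg
      uu := by simp only [U, hadd']; refine hE1 _ ?_ ?_ <;> simp [add, vc, h2t]
      uu' := by simp only [U', hadd']; refine hE1 _ ?_ ?_ <;> simp [add, vc, h2t]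
      aa' := by
        show A * A' = A' * A
        simp only [A, A', hadd']
        refine hext _ _ ?_ ?_ <;> simp [add, va, va', hw4] <;> ring
      bb' := by
        show B * B' = B' * B
        simp only [B, B', hadd']
        refine hext _ _ ?_ ?_ <;> simp [add, vb, vb', mul_pow, hw4] <;> ring
      ba := by
        simp only [A, B, U, hadd']
        refine hext _ _ ?_ ?_ <;> simp [add, va, vb, vc] <;>
          first | ring1 | linear_combination hb - b ^ 4 * two
      b'a := by
        simp only [A, B', U, U', hadd']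
        refine hext _ _ ?_ ?_ <;> simp [add, va, vb', vc, mul_pow, hw4] <;>
          first | ring1 | linear_combination w * hb - hq + hw + (0:F) * two - w * b ^ 4 * two + b ^ 10 * two
      ba' := by
        simp only [A', B, U, U', hadd']
        refine hext _ _ ?_ ?_ <;> simp [add, va', vb, vc, hw4] <;>
          first | ring1 | linear_combination w * hb - hq + hw - w * b ^ 4 * two + b ^ 10 * two
      b'a' := by
        simp only [A', B', U', hadd']
        refine hext _ _ ?_ ?_ <;> simp [add, va', vb', vc, mul_pow, hw4] <;>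
          first | ring1 | linear_combination w * w * hb + hβ4 - w * w * b ^ 4 * two - β * two + b ^ 5 * two
      asq := by
        rw [if_neg (by simp)]
        simp only [A, U, hadd']
        refine hext _ _ ?_ ?_ <;> simp [add, va, vc, h2t]
      a'sq := by
        rw [if_neg (by simp)]
        simp only [A', U', hadd']
        refine hext _ _ ?_ ?_ <;> simp [add, va', vc, h2t, hw4]
        linear_combination hβ4
      bsq := by
        rw [if_neg (by simp)]
        simp only [B, U', hadd']
        refine hext _ _ ?_ ?_ <;> simp [add, vb, vc, h2t]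
        rw [hβ]
      b'sq := by
        rw [if_neg (by simp)]
        simp only [B', U, U', hadd']
        refine hext _ _ ?_ ?_ <;> simp [add, vb', vc, h2t, mul_pow, hw4]
        linear_combination w * w * (-hβ) + β * hβ4 + hq - hw - (0:F) * two - (1 + b ^ 5) * two }
  refine ⟨R, ?_⟩
  have hinj : ∀ p q : {xz : F × F // xz.2 + xz.2 ^ 4 = xz.1 ^ 5}, π (E p) = π (E q) →
      p.1.1 = q.1.1 ∧ p.1.2 = q.1.2 := by
    intro p q h
    rw [QuotientGroup.mk'_apply, QuotientGroup.mk'_apply, QuotientGroup.eq] at h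
    haveI : Finite F := Finite.of_fintype F
    obtain ⟨c, hc⟩ := (CfsgLib.Unitary.mem_center_SU_iff (F := F) (q := 4)
      (by rw [Nat.card_eq_fintype_card, hF]; norm_num) (by omega)).1 h
    have hEpq : E q = E p * ((E p)⁻¹ * E q) := (mul_inv_cancel_left _ _).symm
    have h3 := congrArg (fun g : Cfsg.SU 3 F 4 => (g.1 : Matrix (Fin 3) (Fin 3) F)) hEpq
    simp only [Subgroup.coe_mul, Matrix.SpecialLinearGroup.coe_mul] at h3
    simp only [Subgroup.coe_mul, Matrix.SpecialLinearGroup.coe_mul] at hc
    rw [hc] at h3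
    have h4 : umat q.1.1 q.1.2 = c • umat p.1.1 p.1.2 := by
      have h5 := congrArg (fun A => qmat b * A * pmat b) h3
      simp only [E, M, Matrix.mul_smul, Matrix.smul_mul, mul_one] at h5
      simp only [← mul_assoc, hqp, one_mul] at h5
      simp only [mul_assoc, hqp, mul_one] at h5
      exact h5
    have e00 := congrFun (congrFun h4 0) 0
    have e01 := congrFun (congrFun h4 0) 1
    have e02 := congrFun (congrFun h4 0) 2
    simp [umat] at e00 e01 e02
    subst e00
    exact ⟨by simpa using e01.symm, by simpa using e02.symm⟩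
  have hwsum : w = 1 + β := by linear_combination hw + hq - (1 + β) * two
  have h1b : ∀ i j k l : Bool,
      (if i then (1:F) else 0) + (if j then w else 0) + (if k then b else 0) + (if l then w * b else 0) = 0 →
        i = false ∧ j = false ∧ k = false ∧ l = false := by
    have hw0 : w ≠ 0 := mul_ne_zero hβ0 hβ0
    have hw1 : (1:F) + w ≠ 0 := fun e => hβ0 (by linear_combination e - hwsum - two)
    have hwne1 : w ≠ 1 := fun e => hβ0 (by linear_combination e - hwsum)
    have hnf : ∀ c d : F, c ^ 4 = c → d ^ 4 = d → c + d * b = 0 → d = 0 := by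
      intro c d hc hd h
      have h' : c + d * b ^ 4 = 0 := by
        have e := congrArg φ h
        simp only [map_add, map_mul, map_zero] at e
        simpa [φ, hc, hd] using e
      have : d * (b + b ^ 4) = 0 := by linear_combination h + h' - c * two
      rwa [hb, mul_one] at this
    intro i j k l h
    have hij : ∀ i j : Bool, ((if i then (1:F) else 0) + (if j then w else 0)) ^ 4 =
        (if i then (1:F) else 0) + (if j then w else 0) := fun i j => by
      cases i <;> cases j <;> simp [hadd, hw4]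
    have hkl := hnf _ ((if k then (1:F) else 0) + (if l then w else 0)) (hij i j) (hij k l) (by
      cases k <;> cases l <;> simp at h ⊢ <;> linear_combination h)
    have hklf : k = false ∧ l = false := by
      cases k <;> cases l <;> simp [hw0, hw1] at hkl ⊢
    obtain ⟨rfl, rfl⟩ := hklf
    cases i <;> cases j <;> simp [hw0, hw1] at h ⊢
  have hwsum : ∀ v, ∃ p : {xz : F × F // xz.2 + xz.2 ^ 4 = xz.1 ^ 5}, R.word v = π (E p) ∧
      p.1.1 = (if v.1 then (1:F) else 0) + (if v.2.1 then w else 0) + (if v.2.2.1 then b else 0) +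
        (if v.2.2.2.1 then w * b else 0) := by
    rintro ⟨i, j, k, l, m, n⟩
    let z0 : {xz : F × F // xz.2 + xz.2 ^ 4 = xz.1 ^ 5} := ⟨(0, 0), by simp⟩
    have hone : (1 : Cfsg.PSU 3 F 4) = π (E z0) := (hE1 z0 rfl rfl).symm
    have hpw : ∀ (p : {xz : F × F // xz.2 + xz.2 ^ 4 = xz.1 ^ 5}) (t : Bool),
        ∃ q, pw (π (E p)) t = π (E q) ∧ q.1.1 = if t then p.1.1 else 0 := by
      intro p t
      cases t
      · exact ⟨z0, hone, rfl⟩
      · exact ⟨p, rfl, rfl⟩
    obtain ⟨q1, e1, f1⟩ := hpw va i
    obtain ⟨q2, e2, f2⟩ := hpw va' j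
    obtain ⟨q3, e3, f3⟩ := hpw vb k
    obtain ⟨q4, e4, f4⟩ := hpw vb' l
    obtain ⟨q5, e5, f5⟩ := hpw (vc 1 (one_pow 4)) m
    obtain ⟨q6, e6, f6⟩ := hpw (vc β hβ4) n
    refine ⟨add (add (add (add (add q1 q2) q3) q4) q5) q6, ?_, ?_⟩
    · show pw A i * pw A' j * pw B k * pw B' l * pw U m * pw U' n = _
      simp only [A, A', B, B', U, U', e1, e2, e3, e4, e5, e6, hadd']
    · simp only [add, f1, f2, f3, f4, f5, f6, va, va', vb, vb', vc]
      simp
  have hcen0 : ∀ m n, R.word (false, false, false, false, m, n) = 1 → m = false ∧ n = false := by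
    intro m n h
    have h0 : ∀ z hz, π (E (vc z hz)) = 1 → z = 0 := fun z hz e =>
      (hinj _ ⟨(0, 0), by simp⟩ (e.trans (hE1 ⟨(0, 0), by simp⟩ rfl rfl).symm)).2
    cases m <;> cases n
    · exact ⟨rfl, rfl⟩
    · exact absurd (h0 β hβ4 (by simpa [Rel.word, pw, R, U'] using h)) hβ0
    · exact absurd (h0 1 (one_pow 4) (by simpa [Rel.word, pw, R, U] using h)) one_ne_zero
    · have h' : U * U' = 1 := by simpa [Rel.word, pw, R] using h
      simp only [U, U', hadd'] at h'
      have h2 := (hinj _ ⟨(0, 0), by simp⟩ (h'.trans (hE1 ⟨(0, 0), by simp⟩ rfl rfl).symm)).2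
      simp [add, vc] at h2
      exact absurd (by linear_combination h2 - two : β = 1) hβ1
  rintro ⟨i, j, k, l, m, n⟩ ⟨i', j', k', l', m', n'⟩ h
  obtain ⟨p, hp, hp1⟩ := hwsum (i, j, k, l, m, n)
  obtain ⟨p', hp', hp1'⟩ := hwsum (i', j', k', l', m', n')
  have hx := (hinj p p' (hp.symm.trans (h.trans hp'))).1
  rw [hp1, hp1'] at hx
  have hxor := h1b (xor i i') (xor j j') (xor k k') (xor l l') (by
    have key : ∀ (c : F) (s t : Bool), (if xor s t then c else 0) = (if s then c else 0) + (if t then c else 0) := by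
      intro c s t; cases s <;> cases t <;> simp [h2t]
    rw [key, key, key, key]
    linear_combination hx + (((if i' then (1:F) else 0) + (if j' then w else 0) + (if k' then b else 0) +
      (if l' then w * b else 0))) * two)
  have hbeq : ∀ s t : Bool, xor s t = false → s = t := by decide
  obtain ⟨g1, g2, g3, g4⟩ := hxor
  obtain rfl := hbeq _ _ g1
  obtain rfl := hbeq _ _ g2
  obtain rfl := hbeq _ _ g3
  obtain rfl := hbeq _ _ g4
  have hc : R.cen m n = R.cen m' n' := by
    rw [R.word_eq, R.word_eq] at h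
    exact mul_left_cancel h
  have h1 : R.word (false, false, false, false, xor m m', xor n n') = 1 := by
    rw [R.word_eq, ← R.cen_mul, hc, R.cen_mul]
    simp [Rel.cen, pw]
  obtain ⟨g5, g6⟩ := hcen0 _ _ h1
  obtain rfl := hbeq _ _ g5
  obtain rfl := hbeq _ _ g6
  rfl

theorem card_psu_three_four (hF : Fintype.card F = 16) : Nat.card (Cfsg.PSU 3 F 4) = 64 * 975 := by
  have h := Cfsg.Agent.S0280.result (F := F) (q := 4) (by rw [hF]; norm_num) 3 (by omega)
  norm_num [Finset.prod_range_succ, Nat.even_iff] at h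
  omega

end Unitary

end CfsgLib.SixtyFour
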