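import Mathlib
import Cfsg.Prelude.Def_Transfer
import Cfsg.Agent.Transfer.PResidual
import Cfsg.Agent.Solvable.PGroupBasic

/-!
Tate's theorem in the form: a Sylow subgroup meeting the p-residual inside its Frattini subgroup
meets it trivially.
-/

set_option autoImplicit false
set_option linter.unusedSectionVars false
set_option linter.style.haveILetI false

namespace CfsgLib.LocalB.Tate

open Subgroup

variable {G : Type*} [Group G] [Finite G] {p : ℕ} [hp : Fact p.Prime]

theorem isCoatom_of_index {H : Type*} [Group H] [Finite H] {M : Subgroup H}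
    (hM : M.index.Prime) : IsCoatom M := by
  refine ⟨fun e => hM.ne_one (index_eq_one.2 e), fun N hlt => ?_⟩
  rcases (Nat.dvd_prime hM).1 (index_dvd_of_le hlt.le) with h | h
  · exact index_eq_one.1 h
  · exact absurd (relIndex_eq_one.1 ((Nat.mul_eq_right hM.ne_zero).1
      ((congrArg (M.relIndex N * ·) h).symm.trans (relIndex_mul_index hlt.le)))) hlt.not_ge

/-- A surjection with central kernel of exponent `p` splits over a group when it does so over a
subgroup of index prime to `p`. -/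
theorem exists_lift {E Gbar : Type*} [Group E] [Group Gbar] (φ : E →* Gbar) (π : G →* Gbar)
    (hφ : Function.Surjective φ) (hcen : φ.ker ≤ center E) (hexp : ∀ z ∈ φ.ker, z ^ p = 1)
    (S : Subgroup G) (hS : ¬ p ∣ S.index) (q : S →* E) (hq : ∀ s : S, φ (q s) = π s) :
    ∃ σ : G →* E, ∀ g, φ (σ g) = π g := by
  classical
  let e : G → E := fun g => Function.surjInv hφ (π g)
  have he : ∀ g, φ (e g) = π g := fun g => Function.surjInv_eq hφ _
  let b : G → E := fun g => e ((QuotientGroup.mk g : G ⧸ S).out) *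
    q ⟨((QuotientGroup.mk g : G ⧸ S).out)⁻¹ * g,
      QuotientGroup.eq.1 (QuotientGroup.out_eq' (QuotientGroup.mk g : G ⧸ S))⟩
  have hb : ∀ g, φ (b g) = π g := fun g => by
    simp only [b, map_mul, he, hq, map_inv, mul_inv_cancel_left]
  have hbs : ∀ (g : G) (s : S), b (g * s) = b g * q s := by
    intro g s
    have h1 : (QuotientGroup.mk (g * s) : G ⧸ S) = QuotientGroup.mk g := by
      rw [QuotientGroup.eq]; simp
    simp only [b, mul_assoc, ← map_mul]
    simp only [h1]
    congr 1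
    congr 1
    exact Subtype.ext (mul_assoc _ _ _).symm
  let δ : G → G ⧸ S → E := fun h c => b (h * c.out) * (b c.out)⁻¹
  have hδ : ∀ h g, δ h (QuotientGroup.mk g) = b (h * g) * (b g)⁻¹ := by
    intro h g
    obtain ⟨s, hs⟩ := QuotientGroup.mk_out_eq_mul S g
    simp only [δ]
    rw [hs, ← mul_assoc, hbs, hbs, mul_inv_rev, mul_assoc, mul_inv_cancel_left]
  haveI : IsMulCommutative φ.ker :=
    ⟨⟨fun a b => Subtype.ext (mem_center_iff.1 (hcen b.2) a)⟩⟩
  letI : CommGroup φ.ker :=
    { (inferInstance : Group φ.ker) with mul_comm := fun a b => IsMulCommutative.is_comm.comm a b }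
  have hker : ∀ (h : G) (u : E), φ u = π h → ∀ c, u⁻¹ * δ h c ∈ φ.ker := by
    intro h u hu c
    simp [MonoidHom.mem_ker, δ, hb, hu]
  letI : Fintype (G ⧸ S) := Fintype.ofFinite _
  obtain ⟨k, hk⟩ : ∃ k : ℕ, ∀ z : φ.ker, (z ^ Fintype.card (G ⧸ S)) ^ k = z := by
    have hcop : (S.index).Coprime p := (hp.out.coprime_iff_not_dvd.2 hS).symm
    obtain ⟨k, -, hk⟩ := Nat.exists_mul_mod_eq_one_of_coprime hcop hp.out.one_lt
    refine ⟨k, fun z => ?_⟩
    have hz : z ^ p = 1 := Subtype.ext (by simpa using hexp z z.2)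
    rw [← pow_mul, ← Nat.card_eq_fintype_card, ← index_eq_card,
      ← Nat.mod_add_div (S.index * k) p, hk, pow_add, pow_one, pow_mul, hz, one_pow, mul_one]
  let A : (h : G) → (u : E) → φ u = π h → φ.ker := fun h u hu =>
    (∏ c, (⟨u⁻¹ * δ h c, hker h u hu c⟩ : φ.ker)) ^ k
  have hA : ∀ h u u' (hu : φ u = π h) (hu' : φ u' = π h),
      u * (A h u hu : E) = u' * (A h u' hu' : E) := by
    intro h u u' hu hu'
    let z : φ.ker := ⟨u⁻¹ * u', by simp [MonoidHom.mem_ker, hu, hu']⟩
    have : A h u hu = z * A h u' hu' := by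
      simp only [A]
      rw [show (fun c => (⟨u⁻¹ * δ h c, hker h u hu c⟩ : φ.ker)) =
        fun c => z * ⟨u'⁻¹ * δ h c, hker h u' hu' c⟩ from
          funext fun c => Subtype.ext (by simp [z, mul_assoc]),
        Finset.prod_mul_distrib, Finset.prod_const, Finset.card_univ, mul_pow, hk]
    rw [this]
    simp [z, mul_assoc]
  refine ⟨MonoidHom.mk' (fun h => e h * (A h (e h) (he h) : E)) ?_, fun g => ?_⟩
  · intro h g
    have heg : φ (e h * e g) = π (h * g) := by simp [he]
    rw [hA (h * g) (e (h * g)) (e h * e g) (he _) heg]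
    have : A (h * g) (e h * e g) heg = A h (e h) (he h) * A g (e g) (he g) := by
      simp only [A]
      rw [← mul_pow]
      congr 1
      rw [← Equiv.prod_comp (MulAction.toPerm g) (fun c => (⟨(e h)⁻¹ * δ h c, hker h _ (he h) c⟩ : φ.ker)),
        ← Finset.prod_mul_distrib]
      refine Finset.prod_congr rfl fun c _ => Subtype.ext ?_
      obtain ⟨x, rfl⟩ := QuotientGroup.mk_surjective c
      simp only [Subgroup.coe_mul, MulAction.toPerm_apply]
      rw [show g • (QuotientGroup.mk x : G ⧸ S) = QuotientGroup.mk (g * x) from rfl, hδ, hδ, hδ]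
      set z := (e h)⁻¹ * (b (h * (g * x)) * (b (g * x))⁻¹)
      have hz : z ∈ center E := hcen (by simp [z, MonoidHom.mem_ker, hb, he]; group)
      calc (e h * e g)⁻¹ * (b (h * g * x) * (b x)⁻¹) = (e g)⁻¹ * (z * (b (g * x) * (b x)⁻¹)) := by
            simp only [z, mul_assoc]; group
        _ = z * ((e g)⁻¹ * (b (g * x) * (b x)⁻¹)) := by
            rw [← mul_assoc, mem_center_iff.1 hz (e g)⁻¹, mul_assoc]
    rw [this, Subgroup.coe_mul]
    have hz := mem_center_iff.1 (hcen (A h (e h) (he h)).2) (e g)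
    simp only [mul_assoc]
    rw [← mul_assoc (e g), hz, mul_assoc]
  · have h1 : φ (A g (e g) (he g) : E) = 1 := (A g (e g) (he g)).2
    simp [h1, he]

/-- **Tate**: if `P ∩ O^p(G) ≤ Φ(P)` then `G` has a normal `p`-complement. -/
theorem inf_pResidual_eq_bot (P : Sylow p G)
    (h : ∀ x : (P : Subgroup G), (x : G) ∈ Cfsg.pResidual p G → x ∈ frattini (P : Subgroup G)) :
    ∀ x : (P : Subgroup G), (x : G) ∈ Cfsg.pResidual p G → x = 1 := by
  classical
  set K := Cfsg.pResidual p G with hK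
  set R : Subgroup (P : Subgroup G) := K.subgroupOf P with hR
  by_contra hne
  have hR1 : R ≠ ⊥ := fun e => hne fun x hx => mem_bot.1 (e ▸ (show x ∈ R from hx))
  obtain ⟨R0, ⟨hR0n, hR0lt⟩, hR0max⟩ :=
    Set.Finite.exists_maximal (s := {N : Subgroup (P : Subgroup G) | N.Normal ∧ N < R})
      (Set.toFinite _) ⟨⊥, inferInstance, bot_lt_iff_ne_bot.2 hR1⟩
  haveI := hR0n
  set q := QuotientGroup.mk' R0
  have hle : R0 ≤ ((QuotientGroup.mk' K).comp (P : Subgroup G).subtype).ker := by
    intro x hx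
    simpa [MonoidHom.mem_ker, hR, mem_subgroupOf] using (hR0lt.le hx : x ∈ R)
  let φ : (P : Subgroup G) ⧸ R0 →* G ⧸ K := QuotientGroup.lift R0 _ hle
  have hφq : ∀ x : (P : Subgroup G), φ (q x) = QuotientGroup.mk' K (x : G) := fun x => rfl
  have hkey : ∀ y : G, (y : G ⧸ K) ∈ φ.range := by
    have htop : ((QuotientGroup.mk' K).comp (P : Subgroup G).subtype).range = ⊤ := by
      rw [MonoidHom.range_comp, Subgroup.range_subtype]
      obtain ⟨k, hk⟩ := IsPGroup.iff_card.1 (CfsgLib.PResidual.isPGroup_quotient_pResidual (p := p) (G := G))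
      have hidx := P.not_dvd_index
      have h1 : ((P : Subgroup G).map (QuotientGroup.mk' K)).index ∣ (P : Subgroup G).index :=
        index_map_dvd _ (QuotientGroup.mk'_surjective K)
      have h2 : ((P : Subgroup G).map (QuotientGroup.mk' K)).index ∣ p ^ k := hk ▸ index_dvd_card _
      refine index_eq_one.1 (Nat.eq_one_of_dvd_coprimes ?_ h1 h2)
      exact ((hp.out.coprime_iff_not_dvd.2 hidx).symm).pow_right k
    intro y
    obtain ⟨x, hx⟩ := (htop ▸ mem_top (y : G ⧸ K) :
      (y : G ⧸ K) ∈ ((QuotientGroup.mk' K).comp (P : Subgroup G).subtype).range)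
    exact ⟨q x, hx⟩
  have hsurj : Function.Surjective φ := by
    intro y
    obtain ⟨g, rfl⟩ := QuotientGroup.mk_surjective y
    exact hkey g
  have hkerm : ∀ x, q x ∈ φ.ker ↔ x ∈ R := by
    intro x
    rw [MonoidHom.mem_ker, hφq, QuotientGroup.mk'_apply, QuotientGroup.eq_one_iff]
    rfl
  have hEp : IsPGroup p ((P : Subgroup G) ⧸ R0) := P.2.to_quotient R0
  have hkne : φ.ker ≠ ⊥ := by
    intro e
    refine hR0lt.not_ge fun x hx => ?_
    rw [← QuotientGroup.eq_one_iff]
    exact mem_bot.1 (e ▸ (hkerm x).2 hx)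
  have hmin : ∀ N : Subgroup ((P : Subgroup G) ⧸ R0), N.Normal → N ≤ φ.ker → N = ⊥ ∨ N = φ.ker := by
    intro N hN hNle
    by_cases hNe : N = φ.ker
    · exact Or.inr hNe
    left
    have hlt : N.comap q < R := by
      refine lt_of_le_of_ne (fun x hx => (hkerm x).1 (hNle hx)) fun e => hNe (le_antisymm hNle ?_)
      intro y hy
      obtain ⟨x, rfl⟩ := QuotientGroup.mk'_surjective R0 y
      exact e.ge ((hkerm x).1 hy)
    have hge : R0 ≤ N.comap q := fun x hx => by
      rw [mem_comap, show q x = 1 from (QuotientGroup.eq_one_iff x).2 hx]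
      exact one_mem N
    have := hR0max (y := N.comap q) ⟨hN.comap q, hlt⟩ hge
    rw [eq_bot_iff]
    intro y hy
    obtain ⟨x, rfl⟩ := QuotientGroup.mk'_surjective R0 y
    exact mem_bot.2 ((QuotientGroup.eq_one_iff x).2 (this hy))
  obtain ⟨z, hzk, hz⟩ : ∃ z ∈ φ.ker ⊓ center _, z ≠ (1 : (P : Subgroup G) ⧸ R0) := by
    haveI : Nontrivial φ.ker := (nontrivial_iff_ne_bot _).2 hkne
    haveI := hEp.isNilpotent
    have := CfsgLib.PGroupBasic.inf_center_ne_bot φ.ker hkne
    exact ((φ.ker ⊓ center _).bot_or_exists_ne_one).resolve_left this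
  obtain ⟨z', hz'mem, hz'ord⟩ : ∃ z' ∈ φ.ker ⊓ center _, orderOf z' = p := by
    obtain ⟨k, hk⟩ := (IsPGroup.iff_orderOf).1 hEp z
    have hk0 : k ≠ 0 := by
      rintro rfl
      exact hz (orderOf_eq_one_iff.1 (by simpa using hk))
    refine ⟨z ^ (orderOf z / p), pow_mem hzk _, ?_⟩
    exact orderOf_pow_orderOf_div (by rw [hk]; exact (pow_ne_zero k hp.out.ne_zero))
      (hk ▸ dvd_pow_self p hk0)
  have hzn : (zpowers z').Normal := ⟨fun y hy g => by
    have : y ∈ center _ := (zpowers_le.2 hz'mem.2) hy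
    rwa [mem_center_iff.1 this g, mul_inv_cancel_right]⟩
  have hkz : φ.ker = zpowers z' := by
    rcases hmin _ hzn (zpowers_le.2 hz'mem.1) with e | e
    · rw [zpowers_eq_bot] at e
      rw [e, orderOf_one] at hz'ord
      exact absurd hz'ord.symm hp.out.ne_one
    · exact e.symm
  have hcen : φ.ker ≤ center _ := hkz ▸ zpowers_le.2 hz'mem.2
  have hexp : ∀ w ∈ φ.ker, w ^ p = 1 := by
    intro w hw
    rw [hkz] at hw
    have hd := orderOf_dvd_of_mem_zpowers hw
    rw [hz'ord] at hd
    exact orderOf_dvd_iff_pow_eq_one.1 hd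
  obtain ⟨σ, hσ⟩ := exists_lift φ (QuotientGroup.mk' K) hsurj hcen hexp (P : Subgroup G)
    P.not_dvd_index q hφq
  -- the two lifts over `P` differ by a homomorphism into an elementary abelian group
  let α : (P : Subgroup G) →* φ.ker :=
    MonoidHom.mk' (fun x => ⟨(q x)⁻¹ * σ x, by simp [MonoidHom.mem_ker, hσ, hφq]⟩) fun x y => by
      refine Subtype.ext ?_
      have hc : (q x)⁻¹ * σ x ∈ center _ :=
        hcen (by simp [MonoidHom.mem_ker, hσ, hφq])
      simp only [map_mul, Subgroup.coe_mul, mul_inv_rev]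
      calc (q y)⁻¹ * (q x)⁻¹ * (σ x * σ y) = (q y)⁻¹ * ((q x)⁻¹ * σ x) * σ y := by group
        _ = (q x)⁻¹ * σ x * ((q y)⁻¹ * σ y) := by
          rw [mem_center_iff.1 hc (q y)⁻¹, mul_assoc]
  have hαf : frattini (P : Subgroup G) ≤ α.ker := by
    by_cases ht : α.ker = ⊤
    · rw [ht]; exact le_top
    refine frattini_le_coatom (isCoatom_of_index ?_)
    · have hd : α.ker.index ∣ p := by
        rw [index_ker]
        refine (card_subgroup_dvd_card α.range).trans ?_
        rw [hkz, Nat.card_zpowers, hz'ord]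
      rw [((Nat.dvd_prime hp.out).1 hd).resolve_left (fun e => ht (index_eq_one.1 e))]
      exact hp.out
  have hK1 : K ≤ σ.ker := by
    rw [hK, Cfsg.pResidual, closure_le]
    intro g hg
    have h1 : σ g ∈ φ.ker := by
      rw [MonoidHom.mem_ker, hσ, QuotientGroup.mk'_apply, QuotientGroup.eq_one_iff]
      exact CfsgLib.PResidual.mem_pResidual p hg
    have hd : orderOf (σ g) ∣ p := orderOf_dvd_iff_pow_eq_one.2 (hexp _ h1)
    rw [SetLike.mem_coe, MonoidHom.mem_ker, ← orderOf_eq_one_iff]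
    exact Nat.eq_one_of_dvd_coprimes hg (orderOf_map_dvd σ g) hd
  refine hR0lt.not_ge fun x hx => ?_
  have h1 := congrArg Subtype.val (MonoidHom.mem_ker.1 (hαf (h x hx)))
  have h2 : σ (x : G) = 1 := MonoidHom.mem_ker.1 (hK1 hx)
  simp only [α, MonoidHom.mk'_apply, OneMemClass.coe_one] at h1
  rw [h2, mul_one, inv_eq_one] at h1
  exact (QuotientGroup.eq_one_iff x).1 h1

end CfsgLib.LocalB.Tate
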