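import Mathlib
import Cfsg.Agent.Transfer.Frobenius
import Cfsg.Agent.Solvable.CoprimeAct
import Cfsg.Agent.LocalB.Tate

/-!
Subgroups strongly closed in their own normalizer, all of one order `d`, force a normal
`p`-complement when `p` is the smallest prime dividing the group order.
-/

set_option autoImplicit false
set_option linter.unusedSectionVars false
set_option linter.unusedVariables false
set_option linter.style.haveILetI false

namespace CfsgLib.LocalB.HSub

open Subgroup Pointwise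
open scoped commutatorElement

variable {G : Type*} [Group G] [Finite G] {p : ℕ} [hp : Fact p.Prime]

/-- `E` is strongly closed in its normalizer. -/
def IsH (E : Subgroup G) : Prop :=
  ∀ g : G, E.map (MulAut.conj g).toMonoidHom ⊓ normalizer (E : Set G) ≤ E

theorem IsH.conj_mem {E : Subgroup G} (h : IsH E) {e g : G} (he : e ∈ E)
    (hn : g * e * g⁻¹ ∈ normalizer (E : Set G)) : g * e * g⁻¹ ∈ E :=
  h g ⟨⟨e, he, rfl⟩, hn⟩

theorem IsH.mem_normalizer {E : Subgroup G} (h : IsH E) {x : G}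
    (hx : ∀ e ∈ E, x * e * x⁻¹ ∈ normalizer (E : Set G)) : x ∈ normalizer (E : Set G) :=
  mem_normalizer_iff_map_conj_eq.2 (Subgroup.eq_of_le_of_card_ge
    (by rintro _ ⟨e, he, rfl⟩; exact h.conj_mem he (hx e he))
    (by rw [card_map_of_injective (MulAut.conj x).injective]))

theorem IsH.map_conj {E : Subgroup G} (h : IsH E) (m : G) :
    IsH (E.map (MulAut.conj m).toMonoidHom) := by
  intro g x hx
  obtain ⟨⟨_, ⟨e, he, rfl⟩, rfl⟩, hn⟩ := hx
  refine ⟨m⁻¹ * (g * (m * e * m⁻¹) * g⁻¹) * m, ?_, by simp [mul_assoc]⟩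
  have h2 : (m⁻¹ * g * m) * e * (m⁻¹ * g * m)⁻¹ ∈ E := by
    refine h.conj_mem he (mem_normalizer_iff.2 fun y => ?_)
    have := mem_normalizer_iff.1 hn (m * y * m⁻¹)
    simp only [mem_map_equiv, MulAut.conj_symm_apply, MulEquiv.coe_toMonoidHom,
      MulAut.conj_apply] at this
    simp only [mul_assoc, inv_mul_cancel_left, inv_mul_cancel, mul_one, mul_inv_rev,
      inv_inv] at this ⊢
    exact this
  simpa [mul_assoc] using h2

theorem IsH.le_normalizer {E U : Subgroup G} (h : IsH E) (hU : IsPGroup p U) (hEU : E ≤ U) :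
    U ≤ normalizer (E : Set G) := by
  by_contra hne
  set N := U ⊓ normalizer (E : Set G)
  have hlt : N < U := lt_of_le_of_ne inf_le_left fun e => hne (e ▸ inf_le_right)
  obtain ⟨x, hx, hxN⟩ := SetLike.exists_of_lt (CfsgLib.Fusion.lt_inf_normalizer hU hlt)
  refine hxN ⟨hx.1, h.mem_normalizer fun e he => ?_⟩
  exact ((mem_normalizer_iff.1 hx.2 e).1 ⟨hEU he, Subgroup.le_normalizer he⟩).2

theorem IsH.mem_normalizer_of_le {E U : Subgroup G} (h : IsH E) (hU : IsPGroup p U)
    (hEU : E ≤ U) {x : G} (hx : x ∈ normalizer (U : Set G)) : x ∈ normalizer (E : Set G) :=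
  h.mem_normalizer fun e he =>
    h.le_normalizer hU hEU ((mem_normalizer_iff.1 hx e).1 (hEU he))

/-- An element of order coprime to `n` whose orbit lives in a set of at most `k` points, `k` less than
every prime divisor, acts trivially. -/
theorem perm_eq_one {X : Type*} [Finite X] (σ : Equiv.Perm X) {n : ℕ} (hσ : σ ^ n = 1)
    (h : ∀ r : ℕ, r.Prime → r ∣ n → Nat.card X < r) : σ = 1 := by
  rw [← orderOf_eq_one_iff]
  by_contra hne
  obtain ⟨r, hr, hdvd⟩ := Nat.exists_prime_and_dvd hne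
  have h1 : r ∣ Nat.card (Equiv.Perm X) := hdvd.trans (orderOf_dvd_natCard σ)
  rw [Nat.card_perm] at h1
  exact absurd ((Nat.Prime.dvd_factorial hr).1 h1)
    (not_le.2 (h r hr (hdvd.trans (orderOf_dvd_of_pow_eq_one hσ))))

/-- `x` is a `p'`-element all of whose prime divisors exceed `p`. -/
def Big (p : ℕ) (x : G) : Prop := ∀ r : ℕ, r.Prime → r ∣ orderOf x → p < r

theorem Big.coprime {x : G} (hx : Big p x) : (orderOf x).Coprime p :=
  ((hp.out.coprime_iff_not_dvd).2 fun h => (hx p hp.out h).false).symm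

theorem trivial_on_quotient {U V : Subgroup G} (hUp : IsPGroup p U) (hVU : V ≤ U)
    (hidx : V.relIndex U ≤ p) {x : G} (hxb : Big p x) (hxU : x ∈ normalizer (U : Set G))
    (hxV : x ∈ normalizer (V : Set G)) {u : G} (hu : u ∈ U) : u⁻¹ * (x * u * x⁻¹) ∈ V := by
  classical
  let φ : MulAut U := U.normalizerMonoidHom ⟨x, hxU⟩
  have hφ : ∀ a : U, (φ a : G) = x * a * x⁻¹ := fun a => rfl
  let S := V.subgroupOf U
  have hV : ∀ a b : U, (QuotientGroup.leftRel S) a b →
      (QuotientGroup.leftRel S) (φ a) (φ b) := by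
    intro a b hab
    rw [QuotientGroup.leftRel_apply, mem_subgroupOf] at hab ⊢
    have := (mem_normalizer_iff.1 hxV _).1 hab
    simpa [hφ, mul_assoc] using this
  let f : U ⧸ S → U ⧸ S := Quotient.map' φ hV
  have hf : ∀ a : U, f (QuotientGroup.mk a) = QuotientGroup.mk (φ a) := fun a => rfl
  have hfs : Function.Surjective f := by
    intro c
    obtain ⟨a, rfl⟩ := QuotientGroup.mk_surjective c
    exact ⟨QuotientGroup.mk (φ.symm a), by rw [hf, MulEquiv.apply_symm_apply]⟩
  let σ : Equiv.Perm (U ⧸ S) := Equiv.ofBijective f (Finite.surjective_iff_bijective.1 hfs)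
  have hpow : ∀ (k : ℕ) (a : U), (σ ^ k) (QuotientGroup.mk a) = QuotientGroup.mk ((φ ^ k) a) := by
    intro k a
    induction k with
    | zero => rfl
    | succ k ih =>
      rw [pow_succ', pow_succ', Equiv.Perm.mul_apply, ih, MulAut.mul_apply]
      rfl
  have hn : σ ^ orderOf x = 1 := by
    ext c
    obtain ⟨a, rfl⟩ := QuotientGroup.mk_surjective c
    have : φ ^ orderOf x = 1 := by
      simp only [φ, ← map_pow]
      have : (⟨x, hxU⟩ : normalizer (U : Set G)) ^ orderOf x = 1 :=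
        Subtype.ext (by simp [pow_orderOf_eq_one])
      rw [this, map_one]
    rw [hpow, this]
    rfl
  have hσ : σ = 1 := perm_eq_one σ hn fun r hr hd => by
    rw [show Nat.card (U ⧸ S) = V.relIndex U from (index_eq_card S).symm]
    exact lt_of_le_of_lt hidx (hxb r hr hd)
  have h1 : σ (QuotientGroup.mk ⟨u, hu⟩) = QuotientGroup.mk ⟨u, hu⟩ := by rw [hσ]; rfl
  have h2 : f (QuotientGroup.mk ⟨u, hu⟩) = QuotientGroup.mk ⟨u, hu⟩ := h1
  rw [hf, eq_comm, QuotientGroup.eq, mem_subgroupOf] at h2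
  simpa [hφ] using h2

theorem commute_of_series {U V : Subgroup G} (hUp : IsPGroup p U) (hVU : V ≤ U) {x : G}
    (hxb : Big p x) (hV : x ∈ centralizer (V : Set G))
    (h : ∀ u ∈ U, u⁻¹ * (x * u * x⁻¹) ∈ V) : x ∈ centralizer (U : Set G) := by
  refine mem_centralizer_iff.2 fun u hu => ?_
  set c := u⁻¹ * (x * u * x⁻¹) with hc
  have hcV : c ∈ V := h u hu
  have hxc : Commute x c := (mem_centralizer_iff.1 hV c hcV).symm
  have hk : ∀ k : ℕ, x ^ k * u * (x ^ k)⁻¹ = u * c ^ k := by
    intro k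
    induction k with
    | zero => simp
    | succ k ih =>
      calc x ^ (k + 1) * u * (x ^ (k + 1))⁻¹ = x * (x ^ k * u * (x ^ k)⁻¹) * x⁻¹ := by
            rw [pow_succ', mul_inv_rev]; simp only [mul_assoc]
        _ = (x * u * x⁻¹) * (x * c ^ k * x⁻¹) := by rw [ih]; group
        _ = (u * c) * c ^ k := by
            rw [(hxc.pow_right k).eq, mul_inv_cancel_right, hc]; group
        _ = u * c ^ (k + 1) := by rw [pow_succ', mul_assoc]
  have h1 : c ^ orderOf x = 1 := by
    have := hk (orderOf x)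
    rw [pow_orderOf_eq_one, one_mul, inv_one, mul_one] at this
    exact mul_eq_left.1 this.symm
  obtain ⟨j, hj⟩ := IsPGroup.iff_orderOf.1 hUp ⟨c, hVU hcV⟩
  rw [Subgroup.orderOf_mk] at hj
  have h2 : orderOf c = 1 := Nat.eq_one_of_dvd_coprimes (hxb.coprime.pow_right j)
    (orderOf_dvd_of_pow_eq_one h1) (hj ▸ dvd_rfl)
  rw [orderOf_eq_one_iff, hc, inv_mul_eq_one] at h2
  exact (eq_mul_inv_iff_mul_eq.1 h2)

/-- A big element normalizing a cyclic `p`-group centralizes it. -/
theorem commute_of_cyclic : ∀ (n : ℕ) (U : Subgroup G), Nat.card U = n → IsPGroup p U →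
    IsCyclic U → ∀ {x : G}, Big p x → x ∈ normalizer (U : Set G) → x ∈ centralizer (U : Set G) := by
  intro n
  induction n using Nat.strong_induction_on with
  | _ n ih =>
  intro U hcard hUp hcyc x hxb hxU
  obtain ⟨⟨a, haU⟩, ha⟩ := hcyc.exists_generator
  have hgen : U = zpowers a := by
    refine le_antisymm (fun u hu => ?_) (zpowers_le.2 haU)
    obtain ⟨k, hk⟩ := ha ⟨u, hu⟩
    exact ⟨k, by simpa using congrArg Subtype.val hk⟩
  by_cases h1 : a = 1
  · exact mem_centralizer_iff.2 fun u hu => by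
      rw [hgen, h1, zpowers_one_eq_bot, SetLike.mem_coe, mem_bot] at hu
      simp [hu]
  obtain ⟨k, hk⟩ := IsPGroup.iff_orderOf.1 hUp ⟨a, haU⟩
  rw [Subgroup.orderOf_mk] at hk
  have hk0 : k ≠ 0 := by
    rintro rfl
    exact h1 (orderOf_eq_one_iff.1 (by simpa using hk))
  let V := zpowers (a ^ p)
  have hVU : V ≤ U := by rw [hgen]; exact zpowers_le.2 (pow_mem (mem_zpowers a) p)
  have hVc : Nat.card V = p ^ (k - 1) := by
    rw [Nat.card_zpowers, orderOf_pow' a hp.out.ne_zero, hk,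
      Nat.gcd_eq_right (dvd_pow_self p hk0)]
    conv_lhs => rw [show k = k - 1 + 1 by omega, pow_succ]
    exact Nat.mul_div_cancel _ hp.out.pos
  have hUc : Nat.card U = p ^ k := by rw [hgen, Nat.card_zpowers, hk]
  have hxV : x ∈ normalizer (V : Set G) := by
    refine mem_normalizer_iff_map_conj_eq.2 (Subgroup.eq_of_le_of_card_ge ?_
      (by rw [card_map_of_injective (MulAut.conj x).injective]))
    rw [MonoidHom.map_zpowers, zpowers_le]
    have : x * a * x⁻¹ ∈ U := (mem_normalizer_iff.1 hxU a).1 haU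
    rw [hgen, mem_zpowers_iff] at this
    obtain ⟨m, hm⟩ := this
    refine mem_zpowers_iff.2 ⟨m, ?_⟩
    change (a ^ p) ^ m = x * a ^ p * x⁻¹
    rw [← conj_pow, ← hm, ← zpow_natCast (a ^ m) p, ← zpow_natCast a p, ← zpow_mul, ← zpow_mul,
      mul_comm]
  have hidx : V.relIndex U ≤ p := by
    have h := relIndex_mul_relIndex ⊥ V U bot_le hVU
    rw [relIndex_bot_left, relIndex_bot_left, hVc, hUc,
      show p ^ k = p ^ (k - 1) * p by rw [← pow_succ]; congr 1; omega] at h
    exact ((Nat.mul_right_inj (pow_ne_zero _ hp.out.ne_zero)).1 h).le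
  have hlt : Nat.card V < n := by
    rw [← hcard, hVc, hUc]
    exact Nat.pow_lt_pow_right hp.out.one_lt (by omega)
  exact commute_of_series hUp hVU hxb
    (ih _ hlt V rfl (hUp.to_le hVU) inferInstance hxb hxV)
    fun u hu => trivial_on_quotient hUp hVU hidx hxb hxU hxV hu

/-- The orders of subgroups which are assumed strongly closed in their normalizers. -/
def Ord (d k : ℕ) : Prop := k = d ∨ (d = 2 ∧ k = 4)

/-- Small elements: they lie in some subgroup of good order. -/
theorem exists_good_subgroup {d : ℕ} (hd : ∃ j, d = p ^ j) (hp2 : d = 2 → p = 2)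
    {V : Subgroup G} (hV : IsPGroup p V) (hVd : d ≤ Nat.card V) {v : G} (hv : v ∈ V)
    (hsmall : orderOf v ≤ d ∨ (d = 2 ∧ orderOf v ≤ 4)) :
    ∃ E : Subgroup G, IsPGroup p E ∧ E ≤ V ∧ v ∈ E ∧ Ord d (Nat.card E) := by
  obtain ⟨j, hj⟩ := hd
  have key : ∀ m, orderOf v ≤ p ^ m → p ^ m ≤ Nat.card V →
      ∃ E : Subgroup G, IsPGroup p E ∧ E ≤ V ∧ v ∈ E ∧ Nat.card E = p ^ m := by
    intro m h1 h2
    obtain ⟨i, hi⟩ := IsPGroup.iff_orderOf.1 hV ⟨v, hv⟩
    rw [Subgroup.orderOf_mk] at hi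
    obtain ⟨s, hs⟩ := IsPGroup.iff_card.1 hV
    have him : i ≤ m := (Nat.pow_le_pow_iff_right hp.out.one_lt).1 (hi ▸ h1)
    have hms : m ≤ s := (Nat.pow_le_pow_iff_right hp.out.one_lt).1 (hs ▸ h2)
    obtain ⟨E, hE, hle⟩ := Sylow.exists_subgroup_card_pow_prime_le (p := p) (n := i) (m := m)
      (hs ▸ pow_dvd_pow p hms : p ^ m ∣ Nat.card V) (zpowers (⟨v, hv⟩ : V))
      (by rw [Nat.card_zpowers, Subgroup.orderOf_mk, hi]) him
    refine ⟨E.map V.subtype, hV.to_le (map_subtype_le E), map_subtype_le E,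
      ⟨⟨v, hv⟩, hle (mem_zpowers _), rfl⟩, ?_⟩
    rw [card_map_of_injective V.subtype_injective, hE]
  by_cases h : orderOf v ≤ d
  · obtain ⟨E, a, b, c, e⟩ := key j (hj ▸ h) (hj ▸ hVd)
    exact ⟨E, a, b, c, Or.inl (by rw [e, hj])⟩
  · obtain ⟨h2, h4⟩ := hsmall.resolve_left h
    have hp' := hp2 h2
    subst hp'
    have h4' : 4 ≤ Nat.card V := by
      have hle : orderOf v ≤ Nat.card V :=
        Nat.le_of_dvd Nat.card_pos (orderOf_dvd_natCard _ hv)
      obtain ⟨i, hi⟩ := IsPGroup.iff_orderOf.1 hV ⟨v, hv⟩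
      rw [Subgroup.orderOf_mk] at hi
      have : 2 ≤ i := by
        by_contra hi2
        have : orderOf v ≤ 2 ^ 1 := hi ▸ Nat.pow_le_pow_right (by norm_num) (by omega)
        exact h (by rw [h2]; simpa using this)
      have : (2:ℕ) ^ 2 ≤ orderOf v := hi ▸ Nat.pow_le_pow_right (by norm_num) this
      omega
    obtain ⟨E, a, b, c, e⟩ := key 2 (by norm_num; omega) (by norm_num; omega)
    exact ⟨E, a, b, c, Or.inr ⟨h2, by rw [e]; norm_num⟩⟩

/-- The hypothesis: every `p`-subgroup of good order is strongly closed in its normalizer. -/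
def Hyp (p d : ℕ) (G : Type*) [Group G] : Prop :=
  ∀ E : Subgroup G, IsPGroup p E → Ord d (Nat.card E) → IsH E

theorem trivial_of_all_coatoms {U : Subgroup G} (hU : IsPGroup p U) {x : G} (hxb : Big p x)
    (hxU : x ∈ normalizer (U : Set G))
    (h : ∀ V : Subgroup G, V ≤ U → V.relIndex U = p → x ∈ normalizer (V : Set G)) :
    x ∈ centralizer (U : Set G) := by
  refine CfsgLib.CoprimeAct.trivial_on_frattini_quotient (A := zpowers x) (K := U)
    (zpowers_le.2 hxU) ?_ ?_ (mem_zpowers x)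
  · obtain ⟨k, hk⟩ := IsPGroup.iff_card.1 (hU.to_subgroup (frattini U))
    rw [hk, Nat.card_zpowers]
    exact hxb.coprime.pow_right k
  · intro a ha k hk
    have hmem : ∀ M : Subgroup U, IsCoatom M → ∀ y : U, x * (y : G) * x⁻¹ * (y : G)⁻¹ ∈ M.map U.subtype := by
      intro M hM y
      obtain ⟨hn, hi⟩ := CfsgLib.PGroupBasic.coatom_normal_index hU hM
      have hr : (M.map U.subtype).relIndex U = p := by
        rw [relIndex, subgroupOf, comap_map_eq_self_of_injective U.subtype_injective, hi]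
      have hxM := h _ (map_subtype_le M) hr
      have h1 := trivial_on_quotient hU (map_subtype_le M) hr.le hxb hxU hxM y.2
      obtain ⟨m, hm, hme⟩ := h1
      refine ⟨y * m * y⁻¹, hn.conj_mem m hm y, ?_⟩
      change (y : G) * (m : G) * (y : G)⁻¹ = _
      rw [show (m : G) = (y : G)⁻¹ * (x * y * x⁻¹) from hme]
      group
    have hfix : ∀ (y : U), x * (y : G) * x⁻¹ * (y : G)⁻¹ ∈ (frattini U).map U.subtype := by
      intro y
      have hyU : x * (y : G) * x⁻¹ * (y : G)⁻¹ ∈ U :=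
        mul_mem ((mem_normalizer_iff.1 hxU _).1 y.2) (inv_mem y.2)
      refine ⟨⟨_, hyU⟩, ?_, rfl⟩
      simp only [SetLike.mem_coe, frattini, Order.radical, mem_iInf]
      intro M hM
      obtain ⟨m, hm, hme⟩ := hmem M hM y
      exact (Subtype.ext hme : m = ⟨_, hyU⟩) ▸ hm
    obtain ⟨n, rfl⟩ := mem_zpowers_iff.1 ha
    obtain ⟨n', hn'⟩ : ∃ m : ℕ, x ^ n = x ^ m := by
      obtain ⟨m, hm⟩ := (mem_powers_iff_mem_zpowers (x := x) (y := x ^ n)).2 (zpow_mem (mem_zpowers x) n)
      exact ⟨m, hm.symm⟩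
    have key : ∀ m : ℕ, ∀ y : U, x ^ m * (y : G) * (x ^ m)⁻¹ * (y : G)⁻¹ ∈ (frattini U).map U.subtype := by
      intro m
      induction m with
      | zero => intro y; simp [one_mem]
      | succ m ih =>
        intro y
        have hy : x * (y : G) * x⁻¹ ∈ U := (mem_normalizer_iff.1 hxU _).1 y.2
        have := mul_mem (ih ⟨_, hy⟩) (hfix y)
        rw [pow_succ]
        simpa [mul_assoc] using this
    rw [hn']
    simpa using key n' ⟨k, hk⟩

theorem mem_normalizer_frattini {U : Subgroup G} {x : G} (hxU : x ∈ normalizer (U : Set G)) :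
    x ∈ normalizer (((frattini U).map U.subtype : Subgroup G) : Set G) := by
  refine mem_normalizer_iff_map_conj_eq.2 (Subgroup.eq_of_le_of_card_ge ?_
    (le_of_eq (card_map_of_injective (MulAut.conj x).injective).symm))
  rintro _ ⟨_, ⟨f, hf, rfl⟩, rfl⟩
  refine ⟨U.normalizerMonoidHom ⟨x, hxU⟩ f, ?_, rfl⟩
  have h := Subgroup.characteristic_iff_map_eq.1 (inferInstance : (frattini U).Characteristic)
    (U.normalizerMonoidHom ⟨x, hxU⟩)
  exact h.le ⟨f, hf, rfl⟩

theorem mul_pow_of_central {a b : G} {N : ℕ}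
    (h : ⁅b⁻¹, a⁻¹⁆ * a = a * ⁅b⁻¹, a⁻¹⁆ ∧ ⁅b⁻¹, a⁻¹⁆ * b = b * ⁅b⁻¹, a⁻¹⁆ ∧ b ^ p * a = a * b ^ p)
    (hN : p ∣ N ∧ p ∣ N.choose 2) : (a * b) ^ N = a ^ N * b ^ N := by
  obtain ⟨hca, hcb, hbp⟩ := h
  set c := ⁅b⁻¹, a⁻¹⁆ with hc
  have hba : b * a = a * b * c := by rw [hc, commutatorElement_def]; group
  have Ha : Commute c a := hca
  have Hb : Commute c b := hcb
  have hbn : ∀ n : ℕ, b ^ n * a = a * b ^ n * c ^ n := by
    intro n
    induction n with
    | zero => simp
    | succ n ih =>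
      calc b ^ (n + 1) * a = b * (b ^ n * a) := by rw [pow_succ', mul_assoc]
        _ = b * a * (b ^ n * c ^ n) := by rw [ih]; simp only [mul_assoc]
        _ = a * b * (c * b ^ n) * c ^ n := by rw [hba]; simp only [mul_assoc]
        _ = a * b * (b ^ n * c) * c ^ n := by rw [(Hb.pow_right n).eq]
        _ = a * b ^ (n + 1) * c ^ (n + 1) := by rw [pow_succ', pow_succ']; simp only [mul_assoc]
  have hcp : c ^ p = 1 := by
    have := hbn p
    rw [hbp] at this
    exact mul_eq_left.1 this.symm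
  have hexp : ∀ n : ℕ, (a * b) ^ n = a ^ n * b ^ n * c ^ n.choose 2 := by
    intro n
    induction n with
    | zero => simp
    | succ n ih =>
      have h2 : (n + 1).choose 2 = n + n.choose 2 := by rw [Nat.choose_succ_succ, Nat.choose_one_right]
      calc (a * b) ^ (n + 1) = a ^ n * b ^ n * c ^ n.choose 2 * (a * b) := by rw [pow_succ, ih]
        _ = a ^ n * (b ^ n * a) * (b * c ^ n.choose 2) := by
            rw [mul_assoc (a ^ n * b ^ n), ((Ha.mul_right Hb).pow_left _).eq]; simp only [mul_assoc]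
        _ = a ^ n * a * b ^ n * (c ^ n * b) * c ^ n.choose 2 := by rw [hbn]; simp only [mul_assoc]
        _ = a ^ (n + 1) * b ^ (n + 1) * c ^ (n + 1).choose 2 := by
            rw [(Hb.pow_left n).eq, h2, pow_add c, pow_succ, pow_succ]; simp only [mul_assoc]
  rw [hexp N]
  obtain ⟨k, hk⟩ := hN.2
  rw [hk, pow_mul, hcp, one_pow, mul_one]

variable {d : ℕ}

theorem trivial_big (hH : Hyp p d G) (hd : ∃ j, 0 < j ∧ d = p ^ j) : ∀ (n : ℕ) (U : Subgroup G),
    Nat.card U = n → IsPGroup p U → d < Nat.card U → ∀ {x : G}, Big p x →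
    x ∈ normalizer (U : Set G) → x ∈ centralizer (U : Set G) := by
  obtain ⟨j, hj0, hdj⟩ := hd
  have hd2 : d = 2 → p = 2 := fun h =>
    (Nat.prime_dvd_prime_iff_eq hp.out Nat.prime_two).1 (h ▸ hdj ▸ dvd_pow_self p hj0.ne')
  intro n
  induction n using Nat.strong_induction_on with
  | _ n ih =>
  intro U hcard hU hdU x hxb hxU
  obtain ⟨s, hs⟩ := IsPGroup.iff_card.1 hU
  by_cases hinv : ∃ V : Subgroup G, V ≤ U ∧ V.relIndex U = p ∧ x ∈ normalizer (V : Set G)
  · obtain ⟨V, hVU, hVi, hxV⟩ := hinv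
    have hc : Nat.card V * p = Nat.card U := by
      have := relIndex_mul_relIndex ⊥ V U bot_le hVU
      rwa [relIndex_bot_left, relIndex_bot_left, hVi] at this
    by_cases hVd : d < Nat.card V
    · have hlt : Nat.card V < n := by
        have := hp.out.two_le
        have := Nat.card_pos (α := V)
        nlinarith
      exact commute_of_series hU hVU hxb (ih _ hlt V rfl (hU.to_le hVU) hVd hxb hxV)
        fun u hu => trivial_on_quotient hU hVU hVi.le hxb hxU hxV hu
    · refine trivial_of_all_coatoms hU hxb hxU fun W hWU hWi => ?_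
      have hcW : Nat.card W * p = Nat.card U := by
        have := relIndex_mul_relIndex ⊥ W U bot_le hWU
        rwa [relIndex_bot_left, relIndex_bot_left, hWi] at this
      have hWV : Nat.card W = Nat.card V := Nat.eq_of_mul_eq_mul_right hp.out.pos (hcW.trans hc.symm)
      have hge : d ≤ Nat.card V := by
        rw [hdj] at hdU ⊢
        rw [hs] at hdU hc
        obtain ⟨t, ht⟩ := IsPGroup.iff_card.1 (hU.to_le hVU)
        rw [ht, ← pow_succ] at hc
        have h1 := (Nat.pow_lt_pow_iff_right hp.out.one_lt).1 hdU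
        have h2 := Nat.pow_right_injective hp.out.two_le hc
        rw [ht]
        exact Nat.pow_le_pow_right hp.out.pos (by omega)
      exact IsH.mem_normalizer_of_le (hH W (hU.to_le hWU) (Or.inl (by omega))) hU hWU hxU
  push Not at hinv
  exfalso
  -- every maximal subgroup is moved, so `U = [U, x]` and `U` has an element of large order
  have hcoat : ∀ M : Subgroup U, IsCoatom M → x ∉ normalizer ((M.map U.subtype : Subgroup G) : Set G) := by
    intro M hM
    refine hinv _ (map_subtype_le M) ?_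
    rw [relIndex, subgroupOf, comap_map_eq_self_of_injective U.subtype_injective,
      (CfsgLib.PGroupBasic.coatom_normal_index hU hM).2]
  set T : Set U := {y | ∃ u : U, (y : G) = (u : G)⁻¹ * (x * u * x⁻¹)}
  have hT : closure T = ⊤ := by
    refine (eq_top_or_exists_le_coatom (closure T)).resolve_right ?_
    rintro ⟨M, hM, hle⟩
    refine hcoat M hM (mem_normalizer_iff_map_conj_eq.2 (Subgroup.eq_of_le_of_card_ge ?_
      (le_of_eq (card_map_of_injective (f := (MulAut.conj x).toMonoidHom) (MulAut.conj x).injective).symm)))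
    rintro _ ⟨_, ⟨m, hm, rfl⟩, rfl⟩
    have hy : (m : G)⁻¹ * (x * m * x⁻¹) ∈ U :=
      mul_mem (inv_mem m.2) ((mem_normalizer_iff.1 hxU _).1 m.2)
    refine ⟨m * ⟨_, hy⟩, M.mul_mem hm (hle (subset_closure ⟨m, rfl⟩)), ?_⟩
    simp [mul_assoc]
  set F : Subgroup G := (frattini U).map U.subtype with hF
  have hFU : F ≤ U := map_subtype_le _
  have hxF : x ∈ normalizer (F : Set G) :=
    CfsgLib.LocalB.HSub.mem_normalizer_frattini hxU
  -- each maximal subgroup contains an element of large order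
  have hlarge : ∃ u : U, ¬ (orderOf (u : G) ≤ d ∨ (d = 2 ∧ orderOf (u : G) ≤ 4)) := by
    by_contra hall
    push Not at hall
    obtain ⟨M, hM⟩ : ∃ M : Subgroup U, IsCoatom M := by
      refine ((eq_top_or_exists_le_coatom (⊥ : Subgroup U)).resolve_left ?_).imp fun M h => h.1
      intro e
      have h1 : Nat.card U = 1 := by
        rw [← Subgroup.card_top, ← e, Subgroup.card_bot]
      have : 0 < d := hdj ▸ pow_pos hp.out.pos j
      omega
    refine hcoat M hM (mem_normalizer_iff_map_conj_eq.2 (Subgroup.eq_of_le_of_card_ge ?_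
      (le_of_eq (card_map_of_injective (f := (MulAut.conj x).toMonoidHom) (MulAut.conj x).injective).symm)))
    rintro _ ⟨v, hv, rfl⟩
    have hMd : d ≤ Nat.card (M.map U.subtype) := by
      obtain ⟨t, ht⟩ := IsPGroup.iff_card.1 (hU.to_le (map_subtype_le M))
      have h1 := M.card_mul_index
      rw [(CfsgLib.PGroupBasic.coatom_normal_index hU hM).2, hs,
        ← card_map_of_injective U.subtype_injective, ht, ← pow_succ] at h1
      have h2 := Nat.pow_right_injective hp.out.two_le h1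
      rw [hdj, hs] at hdU
      have h3 := (Nat.pow_lt_pow_iff_right hp.out.one_lt).1 hdU
      rw [ht, hdj]
      exact Nat.pow_le_pow_right hp.out.pos (by omega)
    obtain ⟨E, hEp, hEM, hvE, hEo⟩ := exists_good_subgroup ⟨j, hdj⟩ hd2
      (hU.to_le (map_subtype_le M)) hMd hv (hall ⟨v, map_subtype_le M hv⟩)
    have hxE := (hH E hEp hEo).mem_normalizer_of_le hU (hEM.trans (map_subtype_le M)) hxU
    exact hEM ((mem_normalizer_iff.1 hxE v).1 hvE)
  obtain ⟨u, hu⟩ := hlarge
  have hpf : ∀ w : U, (w : G) ^ p ∈ F := fun w =>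
    ⟨w ^ p, (CfsgLib.PGroupBasic.commutator_pow_le_frattini hU).2 w, by simp⟩
  obtain ⟨i, hi⟩ := IsPGroup.iff_card.1 (hU.to_le hFU)
  have hFbig : d ≤ Nat.card F := by
    by_contra hlt
    rw [hdj, hi, not_le] at hlt
    have h1 := (Nat.pow_lt_pow_iff_right hp.out.one_lt).1 hlt
    have h2 : ((u : G) ^ p) ^ Nat.card F = 1 := orderOf_dvd_iff_pow_eq_one.1
      (orderOf_dvd_natCard _ (hpf u))
    rw [← pow_mul, hi, ← pow_succ'] at h2
    refine hu (Or.inl (le_trans (Nat.le_of_dvd (pow_pos hp.out.pos _) (orderOf_dvd_of_pow_eq_one h2)) ?_))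
    rw [hdj]
    exact Nat.pow_le_pow_right hp.out.pos (by omega)
  have hxcF : x ∈ centralizer (F : Set G) := by
    rcases hFbig.lt_or_eq with hlt | heq
    · have hFn : Nat.card F < n := by
        rw [← hcard]
        refine lt_of_le_of_ne (Nat.le_of_dvd Nat.card_pos (card_dvd_of_le hFU)) fun e => ?_
        have hFeq : F = U := Subgroup.eq_of_le_of_card_ge hFU e.ge
        have htop : frattini U = ⊤ := by
          refine map_injective U.subtype_injective ?_
          rw [← hF, hFeq, ← MonoidHom.range_eq_map, Subgroup.range_subtype]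
        haveI : Nontrivial U := by
          rw [← Finite.one_lt_card_iff_nontrivial]
          have : 0 < d := hdj ▸ pow_pos hp.out.pos j
          omega
        obtain ⟨M, hM, -⟩ := (eq_top_or_exists_le_coatom (⊥ : Subgroup U)).resolve_left bot_ne_top
        exact hM.1 (eq_top_iff.2 (htop ▸ frattini_le_coatom hM))
      exact ih _ hFn F rfl (hU.to_le hFU) hlt hxb hxF
    · by_cases hcyc : IsCyclic F
      · exact commute_of_cyclic _ F rfl (hU.to_le hFU) hcyc hxb hxF
      exfalso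
      obtain ⟨a, ha⟩ := IsPGroup.iff_orderOf.1 (hU.to_le hFU) ⟨(u : G) ^ p, hpf u⟩
      rw [Subgroup.orderOf_mk] at ha
      have hai : a < i := by
        have hle : p ^ a ∣ p ^ i := by rw [← ha, ← hi]; exact orderOf_dvd_natCard _ (hpf u)
        refine lt_of_le_of_ne ((Nat.pow_dvd_pow_iff_le_right hp.out.one_lt).1 hle) fun e => hcyc ?_
        refine isCyclic_of_orderOf_eq_card (⟨(u : G) ^ p, hpf u⟩ : F) ?_
        rw [Subgroup.orderOf_mk, ha, hi, e]
      have h2 : (u : G) ^ (p * p ^ a) = 1 := by rw [pow_mul, ← ha, pow_orderOf_eq_one]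
      refine hu (Or.inl (le_trans (Nat.le_of_dvd (Nat.mul_pos hp.out.pos (pow_pos hp.out.pos _)) (orderOf_dvd_of_pow_eq_one h2)) ?_))
      rw [heq, hi, ← pow_succ']
      exact Nat.pow_le_pow_right hp.out.pos (by omega)
  -- `F` is then central and the power map kills the generators
  have hUF : U ≤ centralizer (F : Set G) := by
    intro y hy
    have hy' : (⟨y, hy⟩ : U) ∈ closure T := hT ▸ mem_top _
    have : closure T ≤ (centralizer (F : Set G)).subgroupOf U := by
      rw [closure_le]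
      rintro t ⟨w, hw⟩
      rw [SetLike.mem_coe, mem_subgroupOf, hw]
      refine mem_centralizer_iff.2 fun f hf => ?_
      have hn : (frattini U).Normal := inferInstance
      have hwf : (w : G) * f * (w : G)⁻¹ ∈ F := by
        obtain ⟨f', hf', rfl⟩ := hf
        exact ⟨w * f' * w⁻¹, hn.conj_mem f' hf' w, by simp⟩
      have h1 := mem_centralizer_iff.1 hxcF _ hf
      have h2 := mem_centralizer_iff.1 hxcF _ hwf
      have h1' : x⁻¹ * f * x = f := by rw [mul_assoc, h1, inv_mul_cancel_left]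
      calc f * ((w : G)⁻¹ * (x * w * x⁻¹))
          = (w : G)⁻¹ * ((w * f * (w : G)⁻¹) * x) * w * x⁻¹ := by group
        _ = (w : G)⁻¹ * x * w * (x⁻¹ * x) * (f * x⁻¹) := by rw [h2]; group
        _ = (w : G)⁻¹ * x * w * x⁻¹ * (x * f) * x⁻¹ := by group
        _ = (w : G)⁻¹ * (x * w * x⁻¹) * f := by rw [← h1]; group
    exact this hy'
  have hcentral : ∀ (w v : U), Commute ((w : G) ^ p) (v : G) := fun w v =>
    mem_centralizer_iff.1 (hUF v.2) _ (hpf w)
  have hcomm : ∀ v w : U, ⁅(v : G), (w : G)⁆ ∈ F := fun v w =>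
    ⟨⁅v, w⁆, (CfsgLib.PGroupBasic.commutator_pow_le_frattini hU).1
      (commutator_mem_commutator (mem_top v) (mem_top w)), map_commutatorElement U.subtype v w⟩
  set N : ℕ := if p = 2 then 4 else p with hN
  have hpN : p ∣ N ∧ p ∣ N.choose 2 := by
    rw [hN]
    split_ifs with h2
    · subst h2; exact ⟨by norm_num, ⟨3, rfl⟩⟩
    · exact ⟨dvd_rfl, hp.out.dvd_choose_self (by norm_num) (lt_of_le_of_ne hp.out.two_le (Ne.symm h2))⟩
  have hpow : ∀ v w : U, ((v : G) * w) ^ N = (v : G) ^ N * (w : G) ^ N := by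
    intro v w
    refine mul_pow_of_central ?_ hpN
    have hc : ⁅(w : G)⁻¹, (v : G)⁻¹⁆ ∈ F := by simpa using hcomm w⁻¹ v⁻¹
    exact ⟨mem_centralizer_iff.1 (hUF v.2) _ hc, mem_centralizer_iff.1 (hUF w.2) _ hc,
      (hcentral w v).eq⟩
  have hkill : ∀ y : U, (y : G) ^ N = 1 := by
    intro y
    have hy : y ∈ closure T := hT ▸ mem_top y
    induction hy using closure_induction with
    | mem t ht =>
      obtain ⟨w, hw⟩ := ht
      have hxw : x * (w : G) * x⁻¹ ∈ U := (mem_normalizer_iff.1 hxU _).1 w.2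
      have h1 := hpow w⁻¹ ⟨_, hxw⟩
      simp only [InvMemClass.coe_inv] at h1
      rw [hw, h1, conj_pow]
      obtain ⟨c, hc⟩ := hpN.1
      have hwN : (w : G) ^ N ∈ F := by rw [hc, pow_mul]; exact pow_mem (hpf w) c
      rw [← mem_centralizer_iff.1 hxcF _ hwN, mul_inv_cancel_right, inv_pow, inv_mul_cancel]
    | one => simp
    | mul a b _ _ iha ihb => simp [hpow, iha, ihb]
    | inv a _ iha => simp [iha]
  have hu' : orderOf (u : G) ≤ N :=
    Nat.le_of_dvd (by rw [hN]; split_ifs <;> [norm_num; exact hp.out.pos]) (orderOf_dvd_of_pow_eq_one (hkill u))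
  refine hu ?_
  rw [hN] at hu'
  split_ifs at hu' with h2
  · by_cases hd1 : d = 2
    · exact Or.inr ⟨hd1, hu'⟩
    · left
      refine hu'.trans ?_
      rw [hdj, h2] at hd1 ⊢
      calc 4 = 2 ^ 2 := rfl
        _ ≤ 2 ^ j := Nat.pow_le_pow_right (by norm_num) (by
            by_contra hj
            exact hd1 (by rw [show j = 1 by omega, pow_one]))
  · exact Or.inl (hu'.trans (hdj ▸ Nat.le_self_pow hj0.ne' p))


theorem big_of_coprime (hmin : ∀ q : ℕ, q.Prime → q ∣ Nat.card G → p ≤ q) {x : G}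
    (hx : (orderOf x).Coprime p) : Big p x := by
  intro r hr hd
  refine lt_of_le_of_ne (hmin r hr (hd.trans (orderOf_dvd_natCard x))) ?_
  rintro rfl
  exact Nat.not_coprime_of_dvd_of_dvd hp.out.one_lt hd dvd_rfl hx

/-- Elements of a normaliser act trivially modulo a normal subgroup `Φ` of `P` as soon as the
`p'`-elements do and a Sylow subgroup of the normaliser lies in `P`. -/
theorem act_trivially {P Q Φ : Subgroup G} (hQ : Q ≤ P) (hΦP : Φ ≤ P)
    (hcomm : ∀ a ∈ P, ∀ b ∈ P, ⁅a, b⁆ ∈ Φ)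
    (hT : ¬ p ∣ (P ⊓ normalizer (Q : Set G)).relIndex (normalizer (Q : Set G)))
    (hx : ∀ x ∈ normalizer (Q : Set G), (orderOf x).Coprime p → ∀ q ∈ Q, q⁻¹ * (x * q * x⁻¹) ∈ Φ) :
    ∀ y ∈ normalizer (Q : Set G), ∀ q ∈ Q, q⁻¹ * (y * q * y⁻¹) ∈ Φ := by
  set N := normalizer (Q : Set G)
  let S : Subgroup G :=
    { carrier := {y | y ∈ N ∧ ∀ q ∈ Q, q⁻¹ * (y * q * y⁻¹) ∈ Φ}
      one_mem' := ⟨one_mem _, fun q _ => by simp [one_mem]⟩
      mul_mem' := fun {a b} ha hb => ⟨mul_mem ha.1 hb.1, fun q hq => by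
        have h1 := hb.2 q hq
        have h2 := ha.2 _ ((mem_normalizer_iff.1 hb.1 q).1 hq)
        have := mul_mem h1 h2
        simpa [mul_assoc] using this⟩
      inv_mem' := fun {a} ha => ⟨inv_mem ha.1, fun q hq => by
        have hq' : a⁻¹ * q * a ∈ Q := by simpa using (mem_normalizer_iff.1 (inv_mem ha.1) q).1 hq
        have := inv_mem (ha.2 _ hq')
        simpa [mul_assoc] using this⟩ }
  have hTS : P ⊓ N ≤ S := by
    rintro y ⟨hyP, hyN⟩
    refine ⟨hyN, fun q hq => ?_⟩
    have : q⁻¹ * (y * q * y⁻¹) = ⁅q⁻¹, y⁆ := by simp [commutatorElement_def, mul_assoc]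
    rw [this]
    exact hcomm _ (inv_mem (hQ hq)) _ hyP
  have hK : Cfsg.pResidual p N ≤ S.subgroupOf N := by
    rw [Cfsg.pResidual, closure_le]
    intro y hy
    rw [SetLike.mem_coe, mem_subgroupOf]
    exact ⟨y.2, hx y y.2 (by rwa [Subgroup.orderOf_coe])⟩
  obtain ⟨k, hk⟩ := CfsgLib.PResidual.exists_index_pResidual (G := N) (p := p)
  have h1 : S.relIndex N ∣ p ^ k := hk ▸ index_dvd_of_le hK
  have h2 : S.relIndex N ∣ (P ⊓ N).relIndex N := relIndex_dvd_of_le_left N hTS
  obtain ⟨m, -, hm⟩ := (Nat.dvd_prime_pow hp.out).1 h1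
  have hm0 : m = 0 := by
    by_contra h0
    exact hT (((dvd_pow_self p h0).trans (hm ▸ dvd_rfl)).trans h2)
  rw [hm0, pow_zero] at hm
  intro y hy q hq
  exact (relIndex_eq_one.1 hm hy).2 q hq

theorem focal_le {P : Sylow p G} {Φ : Subgroup G} (hΦP : Φ ≤ P)
    (h : ∀ Q : Sylow p G, CfsgLib.Fusion.IsTame P Q →
      ∀ y ∈ normalizer (((P : Subgroup G) ⊓ Q : Subgroup G) : Set G),
        ∀ q ∈ (P : Subgroup G) ⊓ Q, q⁻¹ * (y * q * y⁻¹) ∈ Φ) :
    (P : Subgroup G).focalSubgroup ≤ Φ := by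
  have key : ∀ A g, CfsgLib.Fusion.Conn P A g → ∀ a ∈ A, a⁻¹ * (g⁻¹ * a * g) ∈ Φ := by
    intro A g hc
    induction hc with
    | one A => intro a _; simp [one_mem]
    | step A Q x g hQ hA hx _ ih =>
      intro a ha
      have h1 := h Q hQ x⁻¹ (inv_mem hx) a (hA ha)
      have hm : x⁻¹ * a * x ∈ MulAut.conj x⁻¹ • A := by
        have := Subgroup.smul_mem_pointwise_smul a (MulAut.conj x⁻¹) A ha
        simpa using this
      have h2 := ih _ hm
      have := mul_mem h1 h2
      simpa [mul_assoc] using this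
  rw [focalSubgroup_def, closure_le]
  rintro z ⟨hz, a, ha, u, rfl⟩
  have hu : u * a⁻¹ * u⁻¹ ∈ (P : Subgroup G) := by
    have := mul_mem (inv_mem ha) hz
    simpa [commutatorElement_def, mul_assoc] using this
  have hA : zpowers a⁻¹ ≤ (P : Subgroup G) := zpowers_le.2 (inv_mem ha)
  have hgA : MulAut.conj u⁻¹⁻¹ • zpowers a⁻¹ ≤ (P : Subgroup G) := by
    intro y hy
    rw [inv_inv, CfsgLib.SZ.mem_conj_smul] at hy
    obtain ⟨m, hm⟩ := mem_zpowers_iff.1 hy
    have : y = (u * a⁻¹ * u⁻¹) ^ m := by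
      rw [conj_zpow, hm]; group
    rw [this]
    exact zpow_mem hu m
  have := key _ _ (CfsgLib.Fusion.alperin hA hgA) a⁻¹ (mem_zpowers _)
  simpa [commutatorElement_def, mul_assoc] using this

/-- The main theorem: `G` has a normal `p`-complement. -/
theorem hasNormalPComplement (hmin : ∀ q : ℕ, q.Prime → q ∣ Nat.card G → p ≤ q) (P : Sylow p G)
    (hd : ∃ j, 0 < j ∧ d = p ^ j) (hdP : d < Nat.card (P : Subgroup G)) (hH : Hyp p d G) :
    Cfsg.HasNormalPComplement p G := by
  obtain ⟨j, hj0, hdj⟩ := hd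
  set Φ : Subgroup G := (frattini (P : Subgroup G)).map (P : Subgroup G).subtype with hΦ
  have hΦP : Φ ≤ (P : Subgroup G) := map_subtype_le _
  have hcomm : ∀ a ∈ (P : Subgroup G), ∀ b ∈ (P : Subgroup G), ⁅a, b⁆ ∈ Φ := fun a ha b hb =>
    ⟨⁅⟨a, ha⟩, ⟨b, hb⟩⁆, (CfsgLib.PGroupBasic.commutator_pow_le_frattini P.2).1
      (commutator_mem_commutator (mem_top _) (mem_top _)),
      map_commutatorElement (P : Subgroup G).subtype _ _⟩
  have hloc : ∀ U : Subgroup G, U ≤ P → ∀ x ∈ normalizer (U : Set G), (orderOf x).Coprime p →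
      ∀ q ∈ U, q⁻¹ * (x * q * x⁻¹) ∈ Φ := by
    intro U hUP x hxU hcop q hq
    have hU : IsPGroup p U := P.2.to_le hUP
    have hxb := big_of_coprime hmin hcop
    by_cases hbig : d < Nat.card U
    · have hc := trivial_big hH ⟨j, hj0, hdj⟩ _ U rfl hU hbig hxb hxU
      have : x * q * x⁻¹ = q := by rw [← mem_centralizer_iff.1 hc q hq, mul_inv_cancel_right]
      rw [this, inv_mul_cancel]
      exact one_mem _
    have hxq : x * q * x⁻¹ ∈ U := (mem_normalizer_iff.1 hxU q).1 hq
    have hall : ∀ M : Subgroup (P : Subgroup G), IsCoatom M →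
        q⁻¹ * (x * q * x⁻¹) ∈ M.map (P : Subgroup G).subtype := by
      intro M hM
      set V := M.map (P : Subgroup G).subtype
      have hVP : V ≤ (P : Subgroup G) := map_subtype_le M
      have hVi : V.relIndex P = p := by
        rw [relIndex, subgroupOf, comap_map_eq_self_of_injective (P : Subgroup G).subtype_injective,
          (CfsgLib.PGroupBasic.coatom_normal_index P.2 hM).2]
      have hVd : d ≤ Nat.card V := by
        obtain ⟨t, ht⟩ := IsPGroup.iff_card.1 (P.2.to_le hVP)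
        obtain ⟨s, hs⟩ := IsPGroup.iff_card.1 P.2
        have h1 := relIndex_mul_relIndex ⊥ V P bot_le hVP
        rw [relIndex_bot_left, relIndex_bot_left, hVi, ht, hs, ← pow_succ] at h1
        have h2 := Nat.pow_right_injective hp.out.two_le h1
        rw [hdj, hs] at hdP
        have h3 := (Nat.pow_lt_pow_iff_right hp.out.one_lt).1 hdP
        rw [ht, hdj]
        exact Nat.pow_le_pow_right hp.out.pos (by omega)
      have hxW : x ∈ normalizer ((U ⊓ V : Subgroup G) : Set G) := by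
        refine mem_normalizer_iff_map_conj_eq.2 (Subgroup.eq_of_le_of_card_ge ?_
          (le_of_eq (card_map_of_injective (f := (MulAut.conj x).toMonoidHom) (MulAut.conj x).injective).symm))
        rintro _ ⟨v, ⟨hvU, hvV⟩, rfl⟩
        have hvo : orderOf v ≤ d :=
          (Nat.le_of_dvd Nat.card_pos (orderOf_dvd_natCard U hvU)).trans (not_lt.1 hbig)
        obtain ⟨E, hEp, hEV, hvE, hEo⟩ := exists_good_subgroup ⟨j, hdj⟩
          (fun h => (Nat.prime_dvd_prime_iff_eq hp.out Nat.prime_two).1 (h ▸ hdj ▸ dvd_pow_self p hj0.ne'))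
          (P.2.to_le hVP) hVd hvV (Or.inl hvo)
        have hxv : x * v * x⁻¹ ∈ U := (mem_normalizer_iff.1 hxU v).1 hvU
        exact ⟨hxv, hEV ((hH E hEp hEo).conj_mem hvE
          ((hH E hEp hEo).le_normalizer P.2 (hEV.trans hVP) (hUP hxv)))⟩
      have hi : (U ⊓ V).relIndex U ≤ p := by
        rw [inf_relIndex_left, ← hVi]
        exact relIndex_le_of_le_right hUP (by rw [hVi]; exact hp.out.ne_zero)
      exact (trivial_on_quotient hU inf_le_left hi hxb hxU hxW hq).2
    refine ⟨⟨_, mul_mem (inv_mem (hUP hq)) (hUP hxq)⟩, ?_, rfl⟩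
    simp only [SetLike.mem_coe, frattini, Order.radical, mem_iInf]
    intro M hM
    obtain ⟨m, hm, hme⟩ := hall M hM
    exact (Subtype.ext hme : m = ⟨_, mul_mem (inv_mem (hUP hq)) (hUP hxq)⟩) ▸ hm
  have hfoc : (P : Subgroup G).focalSubgroup ≤ Φ :=
    focal_le hΦP fun Q hQ y hy q hq =>
      act_trivially inf_le_left hΦP hcomm hQ.1 (hloc _ inf_le_left) y hy q hq
  have hbot := CfsgLib.LocalB.Tate.inf_pResidual_eq_bot P fun x hx => by
    obtain ⟨y, hy, hye⟩ := hfoc (CfsgLib.Fusion.inf_pResidual_le_focal P ⟨x.2, hx⟩)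
    exact (Subtype.ext hye : y = x) ▸ hy
  rw [CfsgLib.PResidual.hasNormalPComplement_iff]
  refine CfsgLib.PResidual.coprime_of_not_dvd hp.out fun hd => ?_
  obtain ⟨g, hg⟩ := exists_prime_orderOf_dvd_card' (G := Cfsg.pResidual p G) p hd
  have hgp : IsPGroup p (zpowers (g : G)) :=
    IsPGroup.of_card (n := 1) (by rw [Nat.card_zpowers, Subgroup.orderOf_coe, hg, pow_one])
  obtain ⟨Q, hQ⟩ := hgp.exists_le_sylow
  obtain ⟨c, hc⟩ := MulAction.exists_smul_eq G Q P
  have h1 : c * g * c⁻¹ ∈ (P : Subgroup G) := by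
    rw [← hc, Sylow.coe_subgroup_smul]
    exact Subgroup.smul_mem_pointwise_smul (g : G) (MulAut.conj c) (Q : Subgroup G) (hQ (mem_zpowers _))
  have h2 := congrArg Subtype.val (hbot ⟨_, h1⟩ (Normal.conj_mem inferInstance _ g.2 c))
  have h3 : (g : G) = 1 := by simpa using h2
  rw [← Subgroup.orderOf_coe, h3, orderOf_one] at hg
  exact hp.out.ne_one hg.symm

theorem hasNormalPComplement_of_cyclic (hmin : ∀ q : ℕ, q.Prime → q ∣ Nat.card G → p ≤ q)
    (P : Sylow p G) (hP : IsCyclic (P : Subgroup G)) : Cfsg.HasNormalPComplement p G := by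
  refine CfsgLib.Fusion.hasNormalPComplement_of_localCondition fun U hU x hx hcop => ?_
  refine commute_of_cyclic _ U rfl hU ?_ (big_of_coprime hmin hcop) hx
  obtain ⟨Q, hQ⟩ := hU.exists_le_sylow
  obtain ⟨c, rfl⟩ := MulAction.exists_smul_eq G P Q
  rw [Sylow.coe_subgroup_smul] at hQ
  haveI : IsCyclic ↥(MulAut.conj c • (P : Subgroup G)) :=
    isCyclic_of_surjective (Subgroup.equivSMul (MulAut.conj c) (P : Subgroup G)).toMonoidHom
      (Subgroup.equivSMul (MulAut.conj c) (P : Subgroup G)).surjective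
  exact isCyclic_of_le hQ

end CfsgLib.LocalB.HSub
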