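import Cfsg.Agent.LocalB.HigmanAction
import Cfsg.Prelude.Def_BaumannBlocks
import Cfsg.Prelude.Def_Transfer
import Mathlib.GroupTheory.PGroup
import Mathlib.GroupTheory.QuotientGroup.Basic

/-!
Higman's theorem: a normal `2`-subgroup with quotient `SL₂(2ⁿ)` on which an element of order three is fixed
point free is a sum of natural modules.
-/

set_option autoImplicit false

namespace CfsgLib.Higman

open Subgroup Matrix CfsgLib.SL2Pair
open scoped commutatorElement IsMulCommutative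

variable {K : Type*} [Field K] [CharP K 2]

/-- An element of order three of `SL₂` in characteristic two is conjugate to `(1 1; 1 0)`. -/
theorem exists_conj_up_w₁ [Finite K] (y : Matrix.SpecialLinearGroup (Fin 2) K) (hy3 : y ^ 3 = 1)
    (hy1 : y ≠ 1) :
    ∃ h : Matrix.SpecialLinearGroup (Fin 2) K, y * h = h * (up 1 * w₁) := by
  classical
  set a := (y : Matrix (Fin 2) (Fin 2) K) 0 0 with ha
  set b := (y : Matrix (Fin 2) (Fin 2) K) 0 1 with hb
  set c := (y : Matrix (Fin 2) (Fin 2) K) 1 0 with hc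
  set d := (y : Matrix (Fin 2) (Fin 2) K) 1 1 with hd
  have hy : (y : Matrix (Fin 2) (Fin 2) K) = !![a, b; c, d] := by
    ext i j; fin_cases i <;> fin_cases j <;> simp [ha, hb, hc, hd]
  have hdet : a * d + b * c = 1 := by
    have := y.2
    rw [Matrix.det_fin_two] at this
    rw [← this, CharTwo.sub_eq_add]
  have hsq : y * y = y⁻¹ := by
    refine eq_inv_of_mul_eq_one_left ?_
    rw [← pow_two, ← pow_succ]; exact hy3
  have hsq' := congrArg (fun g : Matrix.SpecialLinearGroup (Fin 2) K => (g : Matrix (Fin 2) (Fin 2) K)) hsq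
  simp only [Matrix.SpecialLinearGroup.coe_mul, Matrix.SpecialLinearGroup.coe_inv, Matrix.adjugate_fin_two,
    hy] at hsq'
  have e00 := congrFun (congrFun hsq' 0) 0
  have e01 := congrFun (congrFun hsq' 0) 1
  have e10 := congrFun (congrFun hsq' 1) 0
  simp [Matrix.mul_apply, Fin.sum_univ_two, CharTwo.neg_eq] at e00 e01 e10
  have ht : a + d = 1 := by
    by_contra ht
    have hne : a + d + 1 ≠ 0 := fun e => ht (by rw [add_eq_zero_iff_eq_neg.1 e, CharTwo.neg_eq])
    have hb0 : b = 0 := by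
      have : b * (a + d + 1) = 0 := by linear_combination e01 + (b : K) * CharTwo.two_eq_zero (R := K)
      exact (mul_eq_zero.1 this).resolve_right hne
    have hc0 : c = 0 := by
      have : c * (a + d + 1) = 0 := by linear_combination e10 + (c : K) * CharTwo.two_eq_zero (R := K)
      exact (mul_eq_zero.1 this).resolve_right hne
    rw [hb0, zero_mul, add_zero] at e00 hdet
    have ha1 : a = 1 := by
      by_contra h1
      have h3 : (a - 1) * (a ^ 2 + a + 1) = 0 := by linear_combination hdet + a * e00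
      have h4 := (mul_eq_zero.1 h3).resolve_left (sub_ne_zero.2 h1)
      exact hne (by linear_combination h4 - e00)
    apply hy1
    have hd1 : d = 1 := by rw [ha1, one_mul] at hdet; exact hdet
    ext i j
    fin_cases i <;> fin_cases j <;> simp [hy, ha1, hd1, hb0, hc0]
  obtain ⟨u, v, huv⟩ : ∃ u v : K, (a * u + b * v) * v + (c * u + d * v) * u ≠ 0 := by
    by_cases hc0 : c = 0
    · by_cases hb0 : b = 0
      · refine ⟨1, 1, ?_⟩
        rw [hb0, hc0]
        simp only [mul_one, add_zero, zero_add, ht]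
        exact one_ne_zero
      · exact ⟨0, 1, by simpa using hb0⟩
    · exact ⟨1, 0, by simpa using hc0⟩
  obtain ⟨s, hs⟩ : ∃ s : K, s ^ 2 = ((a * u + b * v) * v + (c * u + d * v) * u)⁻¹ := by
    obtain ⟨s, hs⟩ := Finite.injective_iff_surjective.1 (frobenius_inj K 2)
      (((a * u + b * v) * v + (c * u + d * v) * u)⁻¹)
    exact ⟨s, hs⟩
  obtain ⟨h, hh⟩ : ∃ h : Matrix.SpecialLinearGroup (Fin 2) K,
      (h : Matrix (Fin 2) (Fin 2) K) = !![s * (a * u + b * v), s * u; s * (c * u + d * v), s * v] := by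
    refine ⟨⟨_, ?_⟩, rfl⟩
    rw [Matrix.det_fin_two_of, CharTwo.sub_eq_add,
      show s * (a * u + b * v) * (s * v) + s * u * (s * (c * u + d * v)) =
        s ^ 2 * ((a * u + b * v) * v + (c * u + d * v) * u) by ring, hs, inv_mul_cancel₀ huv]
  refine ⟨h, ?_⟩
  have two := CharTwo.two_eq_zero (R := K)
  ext i j
  fin_cases i <;> fin_cases j <;>
    simp [Matrix.SpecialLinearGroup.coe_mul, Matrix.mul_apply, Fin.sum_univ_two, hy, hh, up_coe, w₁_coe, CharTwo.neg_eq]
  · linear_combination (s * u * (a : K)) * ht + (s * v * b) * ht + (s * u) * hdet -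
        (s * a * u * d) * two
  · ring
  · linear_combination (s * u * c) * ht + (s * v * d) * ht + (s * v) * hdet -
        (s * a * v * d) * two
  · ring

/-! ### Abelian normal subgroups -/

variable {G : Type*} [Group G] {Q A : Subgroup G} [Q.Normal] [A.Normal]

/-- `SL₂` acting on an abelian normal subgroup centralised by the kernel. -/
noncomputable def actHom (e : G ⧸ Q ≃* Matrix.SpecialLinearGroup (Fin 2) K)
    (hQA : Q ≤ centralizer (A : Set G)) : Matrix.SpecialLinearGroup (Fin 2) K →* MulAut A :=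
  (QuotientGroup.lift Q (MulAut.conjNormal : G →* MulAut A) (fun q hq => by
    rw [MonoidHom.mem_ker]
    ext a
    rw [MulAut.conjNormal_apply, MulAut.one_apply,
      ← mem_centralizer_iff.1 (hQA hq) a a.2, mul_inv_cancel_right])).comp e.symm.toMonoidHom

theorem actHom_apply (e : G ⧸ Q ≃* Matrix.SpecialLinearGroup (Fin 2) K)
    (hQA : Q ≤ centralizer (A : Set G)) (g : G) (a : A) :
    ((actHom e hQA (e (QuotientGroup.mk g)) a : A) : G) = g * a * g⁻¹ := by
  simp [actHom, MulAut.conjNormal_apply]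

/-- The module on an abelian normal subgroup. -/
@[reducible] noncomputable def actOn (e : G ⧸ Q ≃* Matrix.SpecialLinearGroup (Fin 2) K)
    (hQA : Q ≤ centralizer (A : Set G)) :
    DistribMulAction (Matrix.SpecialLinearGroup (Fin 2) K) (Additive A) where
  smul g a := Additive.ofMul (actHom e hQA g a.toMul)
  one_smul a := by
    show Additive.ofMul (actHom e hQA 1 a.toMul) = a
    rw [map_one]; rfl
  mul_smul g h a := by
    show Additive.ofMul (actHom e hQA (g * h) a.toMul) = _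
    rw [map_mul]; rfl
  smul_zero g := by
    show Additive.ofMul (actHom e hQA g 1) = 0
    rw [map_one]; rfl
  smul_add g a b := by
    show Additive.ofMul (actHom e hQA g (a.toMul * b.toMul)) = _
    rw [map_mul]; rfl

/-- Two-groups as additive groups. -/
theorem exists_nsmul_eq_zero (hA : IsPGroup 2 A) (m : Additive A) : ∃ k : ℕ, 2 ^ k • m = 0 :=
  let ⟨k, hk⟩ := hA m.toMul
  ⟨k, Additive.toMul.injective hk⟩

/-- The relation on a module of an abelian normal subgroup. -/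
theorem rel_actOn [Finite K] [IsMulCommutative A] (e : G ⧸ Q ≃* Matrix.SpecialLinearGroup (Fin 2) K)
    (hQA : Q ≤ centralizer (A : Set G)) {x : G} (hx : x ^ 3 = 1) (hxQ : x ∉ Q)
    (hfpf : ∀ a ∈ A, x * a * x⁻¹ = a → a = 1) :
    @Rel K _ (Additive A) _ (actOn e hQA) := by
  letI := actOn e hQA
  set y := e (QuotientGroup.mk x) with hy
  have hy3 : y ^ 3 = 1 := by rw [hy, ← map_pow, ← QuotientGroup.mk_pow, hx, QuotientGroup.mk_one, map_one]
  have hy1 : y ≠ 1 := fun h => hxQ ((QuotientGroup.eq_one_iff x).1 (e.map_eq_one_iff.1 h))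
  have hfix : ∀ m : Additive A, y • m = m → m = 0 := by
    intro m hm
    have h := congrArg (fun z : Additive A => ((z.toMul : A) : G)) hm
    change ((actHom e hQA y m.toMul : A) : G) = _ at h
    rw [hy, actHom_apply] at h
    exact Additive.toMul.injective (Subtype.ext (hfpf _ (m.toMul).2 h))
  obtain ⟨h, hh⟩ := exists_conj_up_w₁ y hy3 hy1
  have hc : (up 1 * w₁ : Matrix.SpecialLinearGroup (Fin 2) K) = h⁻¹ * y * h := by
    rw [mul_assoc, hh, inv_mul_cancel_left]
  intro m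
  have hy' : y • y • (h • m) + y • (h • m) + h • m = 0 := by
    refine hfix _ ?_
    have h3 : ∀ w : Additive A, y • y • y • w = w := fun w => by
      rw [smul_smul, smul_smul, ← pow_three', hy3, one_smul]
    rw [smul_add, smul_add, h3]
    abel
  rw [hc, mul_smul, mul_smul, mul_smul, mul_smul, smul_inv_smul]
  have := congrArg (h⁻¹ • ·) hy'
  simpa [smul_add] using this

section Main

variable [Finite G]

theorem elementary_of_abelian [Finite K] [IsMulCommutative A] (e : G ⧸ Q ≃* Matrix.SpecialLinearGroup (Fin 2) K)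
    (hQA : Q ≤ centralizer (A : Set G)) (hA : IsPGroup 2 A) {a₀ : K} (ha0 : a₀ ≠ 0) (ha1 : a₀ ≠ 1)
    {x : G} (hx : x ^ 3 = 1) (hxQ : x ∉ Q) (hfpf : ∀ a ∈ A, x * a * x⁻¹ = a → a = 1) :
    Cfsg.IsElementaryAbelian 2 A := by
  letI := actOn e hQA
  refine ⟨inferInstance, fun a ha => ?_⟩
  have h := add_self_eq_zero_of_rel (K := K) (rel_actOn e hQA hx hxQ hfpf) ha0 ha1
    (exists_nsmul_eq_zero hA) (Additive.ofMul ⟨a, ha⟩)
  rw [pow_two]
  exact congrArg (fun z : Additive A => ((z.toMul : A) : G)) h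

/-- Higman: such a normal `2`-subgroup is elementary abelian. -/
theorem elementary_of_fpf [Finite K] {a₀ : K} (ha0 : a₀ ≠ 0) (ha1 : a₀ ≠ 1) :
    ∀ (n : ℕ) (H : Type*) [Group H] [Finite H] (Q : Subgroup H) [Q.Normal],
      Nat.card Q = n → IsPGroup 2 Q → ∀ (_ : H ⧸ Q ≃* Matrix.SpecialLinearGroup (Fin 2) K) (x : H),
        x ^ 3 = 1 → x ∉ Q → (∀ q ∈ Q, x * q * x⁻¹ = q → q = 1) →
          Cfsg.IsElementaryAbelian 2 Q := by
  intro n
  induction n using Nat.strong_induction_on with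
  | _ n ih =>
    intro H _ _ Q _ hn hQ e x hx hxQ hfpf
    classical
    by_cases hQ1 : Q = ⊥
    · subst hQ1
      exact ⟨inferInstance, fun a ha => by rw [mem_bot.1 ha, one_pow]⟩
    let Z : Subgroup H :=
      { carrier := {z | z ∈ Q ∧ z * z = 1 ∧ ∀ q ∈ Q, q * z = z * q}
        one_mem' := ⟨Q.one_mem, one_mul 1, fun q _ => by rw [one_mul, mul_one]⟩
        mul_mem' := fun {u v} hu hv => ⟨Q.mul_mem hu.1 hv.1, by
          rw [mul_assoc, ← mul_assoc v, hu.2.2 v hv.1, mul_assoc, hv.2.1, mul_one, hu.2.1],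
          fun q hq => by rw [← mul_assoc, hu.2.2 q hq, mul_assoc, hv.2.2 q hq, mul_assoc]⟩
        inv_mem' := fun {u} hu => by
          rw [inv_eq_of_mul_eq_one_left hu.2.1]; exact hu }
    have hZQ : Z ≤ Q := fun z hz => hz.1
    haveI hZn : Z.Normal := ⟨fun z hz g => by
      refine ⟨Subgroup.Normal.conj_mem inferInstance z hz.1 g, ?_, fun q hq => ?_⟩
      · rw [show g * z * g⁻¹ * (g * z * g⁻¹) = g * (z * z) * g⁻¹ by group, hz.2.1, mul_one,
          mul_inv_cancel]
      · have h := hz.2.2 (g⁻¹ * q * g)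
          (by simpa using Subgroup.Normal.conj_mem (inferInstance : Q.Normal) q hq g⁻¹)
        calc q * (g * z * g⁻¹) = g * ((g⁻¹ * q * g) * z) * g⁻¹ := by group
          _ = _ := by rw [h]; group⟩
    have hZne : Z ≠ ⊥ := by
      haveI := (Subgroup.nontrivial_iff_ne_bot Q).2 hQ1
      haveI := hQ.center_nontrivial
      haveI : Fact (Nat.Prime 2) := ⟨Nat.prime_two⟩
      obtain ⟨k, hk⟩ := IsPGroup.iff_card.1 (hQ.to_subgroup (Subgroup.center ↥Q))
      have hk0 : k ≠ 0 := fun h0 => by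
        rw [h0, pow_zero] at hk
        exact (Finite.one_lt_card (α := Subgroup.center ↥Q)).ne' hk
      obtain ⟨z, hz⟩ := exists_prime_orderOf_dvd_card' 2 (hk.symm ▸ dvd_pow_self 2 hk0)
      have hz2 : ((z : ↥Q) : H) * ((z : ↥Q) : H) = 1 := by
        have := pow_orderOf_eq_one z
        rw [hz, pow_two] at this
        exact congrArg (fun t : Subgroup.center ↥Q => ((t : ↥Q) : H)) this
      intro hb
      have hzZ : ((z : ↥Q) : H) ∈ Z :=
        ⟨(z : ↥Q).2, hz2, fun q hq => congrArg Subtype.val (Subgroup.mem_center_iff.1 z.2 ⟨q, hq⟩)⟩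
      rw [hb, mem_bot] at hzZ
      have : z = 1 := Subtype.ext (Subtype.ext hzZ)
      rw [this, orderOf_one] at hz
      omega
    haveI hZc : IsMulCommutative Z := ⟨⟨fun u v => Subtype.ext (v.2.2.2 u u.2.1)⟩⟩
    have hQZ : Q ≤ centralizer (Z : Set H) := fun q hq =>
      mem_centralizer_iff.2 fun z hz => (hz.2.2 q hq).symm
    letI actZ := actOn e hQZ
    have hrelZ := rel_actOn e hQZ hx hxQ (fun a ha h => hfpf a (hZQ ha) h)
    -- the quotient
    let π := QuotientGroup.mk' Z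
    have hπs : Function.Surjective π := QuotientGroup.mk'_surjective Z
    let Qb := Q.map π
    haveI : Qb.Normal := Subgroup.Normal.map inferInstance π hπs
    let eb : (H ⧸ Z) ⧸ Qb ≃* Matrix.SpecialLinearGroup (Fin 2) K :=
      (QuotientGroup.quotientQuotientEquivQuotient Z Q hZQ).trans e
    have hcard : Nat.card Qb < n := by
      rw [← hn]
      have hdvd := Subgroup.card_map_dvd Q π
      refine lt_of_le_of_ne (Nat.le_of_dvd Nat.card_pos hdvd) fun he => hZne ?_
      have hinj : Function.Injective (π.subgroupMap Q) :=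
        ((Nat.bijective_iff_surjective_and_card _).2 ⟨π.subgroupMap_surjective Q, he.symm⟩).1
      rw [eq_bot_iff]
      intro z hz
      have h1 : π.subgroupMap Q ⟨z, hZQ hz⟩ = π.subgroupMap Q 1 :=
        Subtype.ext ((QuotientGroup.eq_one_iff z).2 hz)
      exact mem_bot.2 (congrArg Subtype.val (hinj h1))
    have hxb : π x ∉ Qb := by
      rintro ⟨q, hq, hqx⟩
      exact hxQ (by simpa using Q.mul_mem hq (hZQ (QuotientGroup.eq.1 hqx)))
    have hfb : ∀ q ∈ Qb, π x * q * (π x)⁻¹ = q → q = 1 := by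
      rintro - ⟨q, hq, rfl⟩ h
      rw [← map_inv, ← map_mul, ← map_mul] at h
      set z : H := q⁻¹ * (x * q * x⁻¹) with hz
      have hzZ : z ∈ Z := QuotientGroup.eq.1 h.symm
      have hrel : z * (x * z * x⁻¹) * (x * (x * z * x⁻¹) * x⁻¹) = 1 := by
        have e3 : x * (x * (x * q * x⁻¹) * x⁻¹) * x⁻¹ = q := by
          calc _ = (x * x * x) * q * (x * x * x)⁻¹ := by group
            _ = q := by rw [← pow_three', hx]; group
        rw [hz]
        calc _ = q⁻¹ * (x * (x * (x * q * x⁻¹) * x⁻¹) * x⁻¹) := by group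
          _ = 1 := by rw [e3, inv_mul_cancel]
      have hw : x * z * x⁻¹ ∈ Z := hZn.conj_mem z hzZ x
      have hqw : q * (x * z * x⁻¹) = 1 := by
        refine hfpf _ (Q.mul_mem hq (hZQ hw)) ?_
        have h2 : x * (x * z * x⁻¹) * x⁻¹ = (z * (x * z * x⁻¹))⁻¹ := eq_inv_of_mul_eq_one_right hrel
        calc x * (q * (x * z * x⁻¹)) * x⁻¹ = (x * q * x⁻¹) * (x * (x * z * x⁻¹) * x⁻¹) := by group
          _ = (q * z) * (z * (x * z * x⁻¹))⁻¹ := by rw [h2, hz]; group
          _ = q * (x * z * x⁻¹)⁻¹ * (z⁻¹ * z) := by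
            have hcw : (z * (x * z * x⁻¹))⁻¹ = z⁻¹ * (x * z * x⁻¹)⁻¹ := by
              rw [_root_.mul_inv_rev]
              exact ((Z.inv_mem hw).2.2 z⁻¹ (Z.inv_mem hzZ).1).symm
            rw [hcw]; group
          _ = q * (x * z * x⁻¹) := by
            rw [inv_mul_cancel, mul_one, inv_eq_of_mul_eq_one_left hw.2.1]
      refine (QuotientGroup.eq_one_iff q).2 ?_
      rw [eq_inv_of_mul_eq_one_left hqw]
      exact Z.inv_mem hw
    have hbar : Cfsg.IsElementaryAbelian 2 Qb :=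
      ih _ hcard (H ⧸ Z) Qb rfl (hQ.map π) eb (π x) (by rw [← map_pow, hx, map_one]) hxb hfb
    haveI hQbc : IsMulCommutative Qb := hbar.1
    have hQQb : Qb ≤ centralizer (Qb : Set (H ⧸ Z)) := fun q hq =>
      mem_centralizer_iff.2 fun r hr =>
        congrArg Subtype.val (hbar.1.is_comm.comm (⟨r, hr⟩ : Qb) ⟨q, hq⟩)
    letI actQ := actOn eb hQQb
    have hrelQ := rel_actOn eb hQQb (x := π x) (by rw [← map_pow, hx, map_one]) hxb hfb
    have hcomm : ∀ u ∈ Q, ∀ v ∈ Q, ⁅u, v⁆ ∈ Z := by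
      intro u hu v hv
      refine (QuotientGroup.eq_one_iff _).1 ?_
      show π ⁅u, v⁆ = 1
      rw [map_commutatorElement, commutatorElement_eq_one_iff_mul_comm]
      exact mem_centralizer_iff.1 (hQQb ⟨v, hv, rfl⟩) _ ⟨u, hu, rfl⟩
    have hcen : ∀ u ∈ Q, ∀ v ∈ Q, ∀ r ∈ Q, r * ⁅u, v⁆ = ⁅u, v⁆ * r := fun u hu v hv r hr =>
      (hcomm u hu v hv).2.2 r hr
    have hbl : ∀ u ∈ Q, ∀ u' ∈ Q, ∀ v ∈ Q, ⁅u * u', v⁆ = ⁅u, v⁆ * ⁅u', v⁆ := by
      intro u hu u' hu' v hv
      calc ⁅u * u', v⁆ = u * ⁅u', v⁆ * u⁻¹ * ⁅u, v⁆ := by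
            simp only [commutatorElement_def]; group
        _ = ⁅u', v⁆ * ⁅u, v⁆ := by rw [hcen u' hu' v hv u hu, mul_inv_cancel_right]
        _ = _ := by
            rw [hcen u hu v hv _ (hZQ (hcomm u' hu' v hv))]
    have hbr : ∀ u ∈ Q, ∀ v ∈ Q, ∀ v' ∈ Q, ⁅u, v * v'⁆ = ⁅u, v⁆ * ⁅u, v'⁆ := by
      intro u hu v hv v' hv'
      calc ⁅u, v * v'⁆ = ⁅u, v⁆ * (v * ⁅u, v'⁆ * v⁻¹) := by
            simp only [commutatorElement_def]; group
        _ = _ := by rw [hcen u hu v' hv' v hv, mul_inv_cancel_right]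
    choose s hsQ hs using fun q : Qb => q.2
    have hwd : ∀ u (hu : u ∈ Q) v (hv : v ∈ Q),
        ⁅s ⟨π u, u, hu, rfl⟩, s ⟨π v, v, hv, rfl⟩⁆ = ⁅u, v⁆ := by
      intro u hu v hv
      set u' := s ⟨π u, u, hu, rfl⟩
      set v' := s ⟨π v, v, hv, rfl⟩
      have hu' : u⁻¹ * u' ∈ Z := QuotientGroup.eq.1 (hs ⟨π u, u, hu, rfl⟩).symm
      have hv' : v⁻¹ * v' ∈ Z := QuotientGroup.eq.1 (hs ⟨π v, v, hv, rfl⟩).symm
      have hvQ : v' ∈ Q := hsQ _
      have e1 : ⁅u⁻¹ * u', v'⁆ = 1 := by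
        rw [commutatorElement_eq_one_iff_mul_comm]; exact (hu'.2.2 v' hvQ).symm
      have e2 : ⁅u, v⁻¹ * v'⁆ = 1 := by
        rw [commutatorElement_eq_one_iff_mul_comm]; exact hv'.2.2 u hu
      calc ⁅u', v'⁆ = ⁅u * (u⁻¹ * u'), v'⁆ := by rw [mul_inv_cancel_left]
        _ = ⁅u, v'⁆ := by rw [hbl u hu _ (hZQ hu') v' hvQ, e1, mul_one]
        _ = ⁅u, v * (v⁻¹ * v')⁆ := by rw [mul_inv_cancel_left]
        _ = ⁅u, v⁆ := by rw [hbr u hu v hv _ (hZQ hv'), e2, mul_one]
    let bfun : Additive Qb → Additive Qb → Additive Z := fun u v =>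
      Additive.ofMul ⟨⁅s u.toMul, s v.toMul⁆, hcomm _ (hsQ _) _ (hsQ _)⟩
    have hb0 : ∀ (u v : H) (hu : u ∈ Q) (hv : v ∈ Q),
        bfun (Additive.ofMul ⟨π u, u, hu, rfl⟩) (Additive.ofMul ⟨π v, v, hv, rfl⟩) =
          Additive.ofMul ⟨⁅u, v⁆, hcomm u hu v hv⟩ := fun u v hu hv =>
      congrArg Additive.ofMul (Subtype.ext (hwd u hu v hv))
    have hlift : ∀ m : Additive Qb, ∃ (u : H) (hu : u ∈ Q), m = Additive.ofMul ⟨π u, u, hu, rfl⟩ :=
      fun m => ⟨s m.toMul, hsQ _, Additive.toMul.injective (Subtype.ext (hs _).symm)⟩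
    let β : Additive Qb →+ Additive Qb →+ Additive Z :=
      AddMonoidHom.mk' (fun u => AddMonoidHom.mk' (bfun u) (fun v v' => by
        obtain ⟨a, ha, rfl⟩ := hlift u
        obtain ⟨b, hb, rfl⟩ := hlift v
        obtain ⟨b', hb', rfl⟩ := hlift v'
        rw [← ofMul_mul, show (⟨π b, b, hb, rfl⟩ * ⟨π b', b', hb', rfl⟩ : Qb) =
          ⟨π (b * b'), b * b', Q.mul_mem hb hb', rfl⟩ from Subtype.ext (map_mul π b b').symm,
          hb0 a _ ha (Q.mul_mem hb hb'), hb0 a b ha hb, hb0 a b' ha hb', ← ofMul_mul]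
        exact congrArg Additive.ofMul (Subtype.ext (hbr a ha b hb b' hb'))))
      (fun u u' => by
        refine AddMonoidHom.ext fun v => ?_
        obtain ⟨a, ha, rfl⟩ := hlift u
        obtain ⟨a', ha', rfl⟩ := hlift u'
        obtain ⟨b, hb, rfl⟩ := hlift v
        show bfun _ _ = bfun _ _ + bfun _ _
        rw [← ofMul_mul, show (⟨π a, a, ha, rfl⟩ * ⟨π a', a', ha', rfl⟩ : Qb) =
          ⟨π (a * a'), a * a', Q.mul_mem ha ha', rfl⟩ from Subtype.ext (map_mul π a a').symm,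
          hb0 _ b (Q.mul_mem ha ha') hb, hb0 a b ha hb, hb0 a' b ha' hb, ← ofMul_mul]
        exact congrArg Additive.ofMul (Subtype.ext (hbl a ha a' ha' b hb)))
    have hβ : ∀ (g : Matrix.SpecialLinearGroup (Fin 2) K) (u v : Additive Qb),
        β (g • u) (g • v) = g • β u v := by
      intro g u v
      obtain ⟨q, hq⟩ := e.surjective g
      obtain ⟨g₀, rfl⟩ := QuotientGroup.mk_surjective q
      obtain ⟨a, ha, rfl⟩ := hlift u
      obtain ⟨b, hb, rfl⟩ := hlift v
      have hebg : eb (QuotientGroup.mk (π g₀)) = g := by rw [← hq]; rfl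
      have hca : g₀ * a * g₀⁻¹ ∈ Q := Subgroup.Normal.conj_mem inferInstance a ha g₀
      have hcb : g₀ * b * g₀⁻¹ ∈ Q := Subgroup.Normal.conj_mem inferInstance b hb g₀
      have hact : ∀ (c : H) (hc : c ∈ Q) (hc' : g₀ * c * g₀⁻¹ ∈ Q),
          g • (Additive.ofMul (⟨π c, c, hc, rfl⟩ : Qb)) =
            Additive.ofMul (⟨π (g₀ * c * g₀⁻¹), _, hc', rfl⟩ : Qb) := fun c hc hc' => by
        apply Additive.toMul.injective
        apply Subtype.ext
        show ((actHom eb hQQb g _ : Qb) : H ⧸ Z) = π (g₀ * c * g₀⁻¹)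
        rw [← hebg]
        exact (actHom_apply eb hQQb (π g₀) _).trans (by simp)
      rw [hact a ha hca, hact b hb hcb]
      show bfun _ _ = Additive.ofMul (actHom e hQZ g (bfun _ _).toMul)
      rw [hb0 _ _ hca hcb, hb0 a b ha hb]
      refine congrArg Additive.ofMul (Subtype.ext ?_)
      rw [← hq]
      exact ((actHom_apply e hQZ g₀ _).trans (by simp [commutatorElement_def, mul_assoc])).symm
    have h2Q : ∀ m : Additive Qb, m + m = 0 := fun m => by
      apply Additive.toMul.injective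
      apply Subtype.ext
      show ((m.toMul : Qb) : H ⧸ Z) * (m.toMul : Qb) = 1
      rw [← pow_two]
      exact hbar.2 _ (m.toMul).2
    have h2Z : ∀ m : Additive Z, m + m = 0 := fun m =>
      Additive.toMul.injective (Subtype.ext (m.toMul).2.2.1)
    have hzero := bilinear_eq_zero (K := K) h2Q hrelQ h2Z hrelZ ha0 ha1 β hβ
    haveI hQc : IsMulCommutative Q := ⟨⟨fun u v => by
      have h := hzero (Additive.ofMul ⟨π u, u, u.2, rfl⟩) (Additive.ofMul ⟨π v, v, v.2, rfl⟩)
      have h' : bfun (Additive.ofMul ⟨π u, u, u.2, rfl⟩) (Additive.ofMul ⟨π v, v, v.2, rfl⟩) = 0 := h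
      rw [hb0 u v u.2 v.2] at h'
      exact Subtype.ext (commutatorElement_eq_one_iff_mul_comm.1
        (congrArg (fun z : Additive Z => ((z.toMul : Z) : H)) h'))⟩⟩
    exact elementary_of_abelian e
      (fun q hq => mem_centralizer_iff.2 fun r hr =>
        congrArg Subtype.val (hQc.is_comm.comm (⟨r, hr⟩ : Q) ⟨q, hq⟩))
      hQ ha0 ha1 hx hxQ hfpf

/-- Higman's theorem. -/
theorem natural_decomposition [Finite K] (hQ : IsPGroup 2 Q)
    (e : G ⧸ Q ≃* Matrix.SpecialLinearGroup (Fin 2) K) {a₀ : K} (ha0 : a₀ ≠ 0) (ha1 : a₀ ≠ 1)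
    {x : G} (hx : x ^ 3 = 1) (hxQ : x ∉ Q) (hfpf : ∀ q ∈ Q, x * q * x⁻¹ = q → q = 1) :
    Cfsg.IsElementaryAbelian 2 Q ∧
      ∃ (k : ℕ) (V : Fin k → Subgroup G), (∀ i, V i ≤ Q ∧ (V i).Normal ∧
        Cfsg.ActsAsSL2OnSection K ⊤ ⊤ (V i) ⊥) ∧ iSupIndep V ∧ ⨆ i, V i = Q := by
  classical
  have hel := elementary_of_fpf ha0 ha1 (Nat.card Q) G Q rfl hQ e x hx hxQ hfpf
  refine ⟨hel, ?_⟩
  haveI := hel.1
  have hQQ : Q ≤ centralizer (Q : Set G) := fun q hq =>
    mem_centralizer_iff.2 fun r hr => congrArg Subtype.val (hel.1.is_comm.comm (⟨r, hr⟩ : Q) ⟨q, hq⟩)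
  letI := actOn e hQQ
  have h2 : ∀ m : Additive Q, m + m = 0 := fun m => by
    apply Additive.toMul.injective
    apply Subtype.ext
    show ((m.toMul : Q) : G) * (m.toMul : Q) = 1
    rw [← pow_two]
    exact hel.2 _ (m.toMul).2
  obtain ⟨k, Φ, hΦ⟩ := exists_coords (K := K) h2 (rel_actOn e hQQ hx hxQ hfpf)
  let Φ₁ : Fin k → (Q →* Multiplicative (Fin 2 → K)) := fun i =>
    { toFun := fun q => Multiplicative.ofAdd (Φ (Additive.ofMul q) i)
      map_one' := by simp
      map_mul' := fun u v => by simp }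
  have hΦ₁ : ∀ i q, Φ₁ i q = 1 ↔ Φ (Additive.ofMul q) i = 0 := fun i q => ofAdd_eq_one
  have hconj : ∀ (g : G) (q : Q) (hq : g * q * g⁻¹ ∈ Q) i,
      Φ (Additive.ofMul ⟨g * q * g⁻¹, hq⟩) i =
        ((e (QuotientGroup.mk g) : Matrix.SpecialLinearGroup (Fin 2) K) : Matrix (Fin 2) (Fin 2) K).mulVec
          (Φ (Additive.ofMul q) i) := by
    intro g q hq i
    rw [← hΦ]
    refine congrArg (fun z => Φ z i) ?_
    apply Additive.toMul.injective
    exact Subtype.ext (actHom_apply e hQQ g q).symm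
  let W : Fin k → Subgroup G := fun i => ((Φ₁ i).ker).map Q.subtype
  let V : Fin k → Subgroup G := fun i => (⨅ j : {j // j ≠ i}, (Φ₁ j.1).ker).map Q.subtype
  have hV : ∀ i (q : Q), (q : G) ∈ V i ↔ ∀ j, j ≠ i → Φ (Additive.ofMul q) j = 0 := by
    intro i q
    constructor
    · rintro ⟨r, hr, hrq⟩ j hj
      obtain rfl : r = q := Subtype.ext hrq
      exact (hΦ₁ j r).1 (Subgroup.mem_iInf.1 hr ⟨j, hj⟩)
    · intro h
      exact ⟨q, Subgroup.mem_iInf.2 fun j => (hΦ₁ _ q).2 (h j.1 j.2), rfl⟩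
  have hVQ : ∀ i, V i ≤ Q := fun i => map_subtype_le _
  refine ⟨k, V, fun i => ?_, ?_, ?_⟩
  · have hn : (V i).Normal := ⟨fun v hv g => by
      have hq : g * v * g⁻¹ ∈ Q := Subgroup.Normal.conj_mem inferInstance v (hVQ i hv) g
      refine (hV i ⟨_, hq⟩).2 fun j hj => ?_
      rw [hconj g ⟨v, hVQ i hv⟩ hq j, (hV i ⟨v, hVQ i hv⟩).1 hv j hj, Matrix.mulVec_zero]⟩
    refine ⟨hVQ i, hn, le_of_le_of_eq le_top (normalizer_eq_top_iff.2 hn).symm, bot_le,
      e.toMonoidHom.comp ((QuotientGroup.mk' Q).comp (Subgroup.subtype ⊤)),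
      (Φ₁ i).comp (Subgroup.inclusion (hVQ i)), ?_, ?_, ?_, ?_⟩
    · refine MonoidHom.range_eq_top.2 fun s => ?_
      obtain ⟨q, rfl⟩ := e.surjective s
      obtain ⟨g, rfl⟩ := QuotientGroup.mk_surjective q
      exact ⟨⟨g, mem_top g⟩, rfl⟩
    · intro y
      set q : Q := (Φ.symm (Pi.single i (Multiplicative.toAdd y))).toMul
      have hq : ∀ j, Φ (Additive.ofMul q) j = Pi.single (M := fun _ => Fin 2 → K) i (Multiplicative.toAdd y) j :=
        fun j => congrFun (Φ.apply_symm_apply _) j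
      refine ⟨⟨q, (hV i q).2 fun j hj => by rw [hq, Pi.single_eq_of_ne hj]⟩, ?_⟩
      show Multiplicative.ofAdd (Φ (Additive.ofMul q) i) = y
      rw [hq, Pi.single_eq_same]; rfl
    · intro u
      rw [mem_bot]
      refine ⟨fun h => ?_, fun h => ?_⟩
      · have h0 : Φ (Additive.ofMul ⟨(u : G), hVQ i u.2⟩) = 0 := by
          funext j
          by_cases hj : j = i
          · subst hj; exact (hΦ₁ _ _).1 h
          · exact (hV i ⟨_, hVQ i u.2⟩).1 u.2 j hj
        exact congrArg (fun z : Additive Q => ((z.toMul : Q) : G))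
          (Φ.injective (h0.trans (map_zero Φ).symm))
      · rw [show u = 1 from Subtype.ext h, map_one]
    · intro g u
      exact ⟨⟨_, hn.conj_mem u u.2 g⟩, rfl, hconj g ⟨u, hVQ i u.2⟩ _ i⟩
  · intro i
    rw [disjoint_iff, eq_bot_iff]
    rintro v ⟨hv1, hv2⟩
    have hle : (⨆ (j) (_ : j ≠ i), V j) ≤ W i := iSup₂_le fun j hj => by
      intro w hw
      exact ⟨⟨w, hVQ j hw⟩, (hΦ₁ i _).2 ((hV j ⟨w, hVQ j hw⟩).1 hw i hj.symm), rfl⟩
    obtain ⟨r, hr, rfl⟩ := hle hv2
    have h0 : Φ (Additive.ofMul r) = 0 := by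
      funext j
      by_cases hj : j = i
      · subst hj; exact (hΦ₁ _ _).1 hr
      · exact (hV i r).1 hv1 j hj
    exact mem_bot.2 (congrArg (fun z : Additive Q => ((z.toMul : Q) : G))
      (Φ.injective (h0.trans (map_zero Φ).symm)))
  · refine le_antisymm (iSup_le hVQ) fun q hq => ?_
    have key : ∀ s : Finset (Fin k), ∀ f : Fin k → Fin 2 → K,
        ((Φ.symm (∑ i ∈ s, Pi.single i (f i))).toMul : G) ∈ ⨆ i, V i := by
      intro s f
      induction s using Finset.induction with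
      | empty =>
        rw [Finset.sum_empty, map_zero]
        exact one_mem _
      | @insert i s hi ih =>
        rw [Finset.sum_insert hi, map_add, toMul_add, Subgroup.coe_mul]
        refine mul_mem (Subgroup.mem_iSup_of_mem i ((hV i _).2 fun j hj => ?_)) ih
        rw [ofMul_toMul, Φ.apply_symm_apply, Pi.single_eq_of_ne hj]
    have := key Finset.univ (Φ (Additive.ofMul ⟨q, hq⟩))
    rw [Finset.univ_sum_single, Φ.symm_apply_apply] at this
    exact this

end Main

end CfsgLib.Higman
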