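import Mathlib.GroupTheory.Sylow
import Mathlib.GroupTheory.Nilpotent

/-!
Elementary facts on conjugates and on subgroups meeting their other conjugates in p'-groups
(strongly p-embedded subgroups).
-/

set_option autoImplicit false

namespace CfsgLib.LocalB

variable {G : Type*} [Group G]

theorem mem_map_conj {H : Subgroup G} {g x : G} :
    x ∈ H.map (MulAut.conj g).toMonoidHom ↔ g⁻¹ * x * g ∈ H := by
  constructor
  · rintro ⟨y, hy, rfl⟩; simpa [mul_assoc] using hy
  · intro h; exact ⟨g⁻¹ * x * g, h, by simp [mul_assoc]⟩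

theorem map_conj_map_conj (H : Subgroup G) (g h : G) :
    (H.map (MulAut.conj g).toMonoidHom).map (MulAut.conj h).toMonoidHom
      = H.map (MulAut.conj (h * g)).toMonoidHom := by
  rw [Subgroup.map_map]; congr 1; ext x; simp [mul_assoc]

theorem map_conj_eq_of_mem_normalizer {H : Subgroup G} {g : G}
    (hg : g ∈ Subgroup.normalizer (H : Set G)) : H.map (MulAut.conj g).toMonoidHom = H := by
  ext x
  rw [mem_map_conj]
  have := Subgroup.mem_normalizer_iff.mp (inv_mem hg) x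
  simpa using this.symm

theorem mem_normalizer_of_map_conj_eq {H : Subgroup G} {g : G}
    (h : H.map (MulAut.conj g).toMonoidHom = H) : g ∈ Subgroup.normalizer (H : Set G) := by
  rw [Subgroup.mem_normalizer_iff]
  intro x
  conv_rhs => rw [← h, mem_map_conj]
  simp [mul_assoc]

theorem card_map_conj (H : Subgroup G) (g : G) :
    Nat.card (H.map (MulAut.conj g).toMonoidHom) = Nat.card H :=
  (Nat.card_congr (H.equivMapOfInjective (MulAut.conj g).toMonoidHom (MulAut.conj g).injective).toEquiv).symm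

theorem mem_normalizer_of_conj_le [Finite G] {H : Subgroup G} {g : G}
    (h : ∀ x ∈ H, g * x * g⁻¹ ∈ H) : g ∈ Subgroup.normalizer (H : Set G) := by
  refine mem_normalizer_of_map_conj_eq (Subgroup.eq_of_le_of_card_ge ?_ (card_map_conj H g).ge)
  rintro _ ⟨x, hx, rfl⟩; exact h x hx

theorem dvd_card_of_ne_bot {p : ℕ} [Fact p.Prime] [Finite G] {Q : Subgroup G} (hQ : IsPGroup p Q)
    (hne : Q ≠ ⊥) : p ∣ Nat.card Q := by
  obtain ⟨k, hk⟩ := hQ.exists_card_eq
  rcases Nat.eq_zero_or_pos k with rfl | hk0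
  · exact absurd (Subgroup.eq_bot_of_card_eq Q (by simpa using hk)) hne
  · rw [hk]; exact dvd_pow_self p hk0.ne'

theorem exists_pgroup_of_dvd {p : ℕ} [Fact p.Prime] [Finite G] {H : Subgroup G} (h : p ∣ Nat.card H) :
    ∃ x ∈ H, orderOf x = p := by
  obtain ⟨x, hx⟩ := exists_prime_orderOf_dvd_card' p h
  exact ⟨x, x.2, by rw [Subgroup.orderOf_coe]; exact hx⟩

theorem isPGroup_zpowers {p : ℕ} {x : G} (hx : ∃ k, orderOf x = p ^ k) :
    IsPGroup p (Subgroup.zpowers x) := by
  obtain ⟨k, hk⟩ := hx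
  exact IsPGroup.of_card (n := k) (by rw [Nat.card_zpowers, hk])

/-- A proper subgroup of a p-group is properly contained in its normalizer, in relative form. -/
theorem exists_mem_normalizer_not_mem [Finite G] {p : ℕ} [Fact p.Prime] {U V : Subgroup G}
    (hU : IsPGroup p U) (hVU : V ≤ U) (hne : V ≠ U) :
    ∃ u ∈ U, u ∈ Subgroup.normalizer (V : Set G) ∧ u ∉ V := by
  have := hU.isNilpotent
  have hlt : V.subgroupOf U < ⊤ :=
    lt_top_iff_ne_top.mpr fun h => hne (le_antisymm hVU (Subgroup.subgroupOf_eq_top.mp h))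
  obtain ⟨y, hy, hyV⟩ := SetLike.exists_of_lt (Group.normalizerCondition_of_isNilpotent _ hlt)
  refine ⟨y, y.2, mem_normalizer_of_conj_le fun x hx => ?_, hyV⟩
  exact (Subgroup.mem_normalizer_iff.mp hy ⟨x, hVU hx⟩).mp hx

/-- The subgroup `H` meets each conjugate `gHg⁻¹`, `g ∉ H`, in a subgroup of order prime to `p`. -/
def MeetsPrime (p : ℕ) (H : Subgroup G) : Prop :=
  ∀ g : G, g ∉ H → ¬ p ∣ Nat.card ↥(H ⊓ H.map (MulAut.conj g).toMonoidHom)

set_option linter.unusedSectionVars false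

variable [Finite G] {p : ℕ} [hp : Fact p.Prime] {H : Subgroup G}

theorem MeetsPrime.mem_of (hH : MeetsPrime p H) {x g : G} (hx : x ∈ H) (hox : orderOf x = p)
    (hxg : g⁻¹ * x * g ∈ H) : g ∈ H := by
  by_contra hg
  apply hH g hg
  rw [← hox]
  refine Subgroup.orderOf_dvd_natCard _ ⟨hx, mem_map_conj.mpr hxg⟩

theorem MeetsPrime.normalizer_le (hH : MeetsPrime p H) {Q : Subgroup G} (hQH : Q ≤ H)
    (hQ : IsPGroup p Q) (hne : Q ≠ ⊥) : Subgroup.normalizer (Q : Set G) ≤ H := by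
  intro g hg
  obtain ⟨x, hx, hox⟩ := exists_pgroup_of_dvd (dvd_card_of_ne_bot hQ hne)
  refine hH.mem_of (hQH hx) hox (hQH ?_)
  have := (Subgroup.mem_normalizer_iff.mp (inv_mem hg) x).mp hx
  simpa using this

theorem MeetsPrime.pgroup_le (hH : MeetsPrime p H) {U : Subgroup G} (hU : IsPGroup p U)
    (hne : U ⊓ H ≠ ⊥) : U ≤ H := by
  by_contra hle
  obtain ⟨u, huU, hun, huV⟩ :=
    exists_mem_normalizer_not_mem hU inf_le_left (fun h => hle (inf_eq_left.mp h))
  exact huV ⟨huU, hH.normalizer_le inf_le_right (hU.to_le inf_le_left) hne hun⟩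

theorem MeetsPrime.exists_sylow_le (hH : MeetsPrime p H) (hpH : p ∣ Nat.card H) :
    ∃ P : Sylow p G, (P : Subgroup G) ≤ H := by
  obtain ⟨x, hx, hox⟩ := exists_pgroup_of_dvd hpH
  obtain ⟨P, hP⟩ := (isPGroup_zpowers (p := p) ⟨1, by rw [hox, pow_one]⟩ : IsPGroup p (Subgroup.zpowers x)).exists_le_sylow
  refine ⟨P, hH.pgroup_le P.isPGroup' ?_⟩
  intro h
  have : x ∈ (P : Subgroup G) ⊓ H := ⟨hP (Subgroup.mem_zpowers x), hx⟩
  rw [h, Subgroup.mem_bot] at this
  rw [this, orderOf_one] at hox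
  exact hp.1.one_lt.ne hox

theorem MeetsPrime.mem_of_sylow_le (hH : MeetsPrime p H) (hpH : p ∣ Nat.card H) {P : Sylow p G}
    {g : G} (h1 : (P : Subgroup G) ≤ H)
    (h2 : (P : Subgroup G).map (MulAut.conj g).toMonoidHom ≤ H) : g ∈ H := by
  obtain ⟨Q, hQ⟩ := hH.exists_sylow_le hpH
  have hdvd : p ∣ Nat.card (P : Subgroup G) := by
    rw [Sylow.card_eq_multiplicity P]
    refine dvd_pow_self p (hp.1.factorization_pos_of_dvd Nat.card_pos.ne' ?_).ne'
    exact hpH.trans (Subgroup.card_subgroup_dvd_card H)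
  obtain ⟨x, hx, hox⟩ := exists_pgroup_of_dvd hdvd
  refine hH.mem_of (x := g * x * g⁻¹) (h2 ⟨x, hx, rfl⟩) ?_ (by simpa [mul_assoc] using h1 hx)
  rw [← hox]
  exact orderOf_injective (MulAut.conj g).toMonoidHom (MulAut.conj g).injective x

end CfsgLib.LocalB
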