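import Cfsg.Agent.Fusion.Alperin
import Cfsg.Agent.LocalB.Embedded
import Cfsg.Agent.Functor.Sylow
import Cfsg.Agent.Solvable.Basics
import Cfsg.Agent.Solvable.CoprimeAbelian
import Mathlib.GroupTheory.SpecificGroups.Quaternion
import Cfsg.Prelude.Def_Amalgam

/-!
Characterisations of strongly p-embedded subgroups.
-/

set_option autoImplicit false
set_option linter.style.haveILetI false

namespace CfsgLib.LocalB

open Subgroup Cfsg
open scoped CfsgLib.Functor

variable {G : Type*} [Group G] [Finite G] {p : ℕ} [Fact p.Prime]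

/-- A subgroup has p-rank at least one when it is a nontrivial p-subgroup. -/
theorem not_prankLE_zero_iff {Q : Subgroup G} (hQ : IsPGroup p Q) :
    ¬ Cfsg.PRankLE p (1 - 1) Q ↔ Q ≠ ⊥ := by
  constructor
  · rintro h rfl
    refine h fun A _ _ => ?_
    haveI : Subsingleton (⊥ : Subgroup G) := inferInstance
    simp [Nat.card_unique]
  · intro hne hr
    obtain ⟨x, hx, hxo⟩ := exists_pgroup_of_dvd (dvd_card_of_ne_bot hQ hne)
    have h := hr (zpowers (⟨x, hx⟩ : Q)) inferInstance (by
      rintro _ ⟨i, rfl⟩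
      refine Subtype.ext ?_
      show (x ^ i) ^ p = 1
      rw [← zpow_natCast, ← zpow_mul, mul_comm, zpow_mul, zpow_natCast, ← hxo, pow_orderOf_eq_one,
        one_zpow])
    rw [Nat.card_zpowers, Subgroup.orderOf_mk, hxo, Nat.sub_self, pow_zero] at h
    exact absurd h (not_le.mpr (Fact.out : p.Prime).one_lt)

/-- The 1-generated core is generated by the normalizers of the nontrivial subgroups. -/
theorem kGeneratedCore_one (P : Subgroup G) (hP : IsPGroup p P) :
    Cfsg.kGeneratedCore p 1 P =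
      ⨆ A : {A : Subgroup G // A ≤ P ∧ A ≠ ⊥}, normalizer ((A : Subgroup G) : Set G) := by
  refine le_antisymm (iSup_le fun Q => ?_) (iSup_le fun A => ?_)
  · exact le_iSup_of_le (⟨Q.1, Q.2.1, (not_prankLE_zero_iff (hP.to_le Q.2.1)).mp Q.2.2⟩ :
      {A : Subgroup G // A ≤ P ∧ A ≠ ⊥}) le_rfl
  · exact le_iSup_of_le (⟨A.1, A.2.1, (not_prankLE_zero_iff (hP.to_le A.2.1)).mpr A.2.2⟩ :
      {Q : Subgroup G // Q ≤ P ∧ ¬ Cfsg.PRankLE p (1 - 1) Q}) le_rfl

omit [Finite G] in
theorem kGeneratedCore_cj (g : G) (P : Subgroup G) :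
    (⨆ A : {A : Subgroup G // A ≤ P ∧ A ≠ ⊥}, normalizer ((A : Subgroup G) : Set G)).map
        (MulAut.conj g).toMonoidHom =
      ⨆ A : {A : Subgroup G // A ≤ P.map (MulAut.conj g).toMonoidHom ∧ A ≠ ⊥},
        normalizer ((A : Subgroup G) : Set G) := by
  rw [Subgroup.map_iSup]
  refine le_antisymm (iSup_le fun A => ?_) (iSup_le fun A => ?_)
  · exact le_iSup_of_le (⟨A.1.map (MulAut.conj g).toMonoidHom, map_mono A.2.1,
      fun h => A.2.2 (CfsgLib.Functor.cj_eq_bot_iff.mp h)⟩ :
        {B : Subgroup G // B ≤ P.map (MulAut.conj g).toMonoidHom ∧ B ≠ ⊥})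
      (CfsgLib.Functor.cj_normalizer g A.1).le
  · refine le_iSup_of_le (⟨g⁻¹ ⋆ A.1, ?_, fun h => A.2.2 (CfsgLib.Functor.cj_eq_bot_iff.mp h)⟩ :
      {B : Subgroup G // B ≤ P ∧ B ≠ ⊥}) ?_
    · rw [CfsgLib.Functor.cj_le_iff', inv_inv]
      exact A.2.1
    · rw [CfsgLib.Functor.cj_normalizer, CfsgLib.Functor.cj_cj_inv]

variable {M : Subgroup G}

theorem dvd_card_sylow (hG : p ∣ Nat.card G) (P : Sylow p G) : (P : Subgroup G) ≠ ⊥ := by
  intro h
  have h1 := P.not_dvd_index
  rw [h, index_bot] at h1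
  exact h1 hG

/-- The classical definition follows from that by the 1-generated core. -/
theorem meetsPrime_of_stronglyPEmbedded (hM : Cfsg.IsStronglyPEmbedded p M) : MeetsPrime p M := by
  obtain ⟨hpG, -, P, hP⟩ := hM
  intro g hg hdvd
  obtain ⟨x, hx, hxo⟩ := exists_pgroup_of_dvd hdvd
  have hne := dvd_card_sylow hpG P
  have hPM := CfsgLib.Fusion.sylow_le_of_kGen p hP hne
  have hSyl : CfsgLib.Functor.IsSylowIn p (P : Subgroup G) M :=
    (CfsgLib.Functor.isSylowIn_top P).of_le hPM le_top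
  have hto : ∀ y ∈ M, orderOf y = p → ∃ c ∈ M, c * y * c⁻¹ ∈ (P : Subgroup G) := fun y hy hyo => by
    obtain ⟨c, hc, hle⟩ := hSyl.exists_cj_le (isPGroup_zpowers (p := p) ⟨1, by rw [hyo, pow_one]⟩)
      (zpowers_le.mpr hy)
    exact ⟨c, hc, hle (CfsgLib.Functor.conj_mem_cj (mem_zpowers y))⟩
  have hx' : g⁻¹ * x * g ∈ M := mem_map_conj.mp hx.2
  have hxo' : orderOf (g⁻¹ * x * g) = p := by
    rw [← hxo]
    rw [show g⁻¹ * x * g = (MulAut.conj g⁻¹).toMonoidHom x by simp]
    exact orderOf_injective _ (MulAut.conj g⁻¹).injective x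
  obtain ⟨c, hc, hcx⟩ := hto x hx.1 hxo
  obtain ⟨d, hd, hdx⟩ := hto _ hx' hxo'
  have hq1 : c * x * c⁻¹ ≠ 1 := fun h => (Fact.out : p.Prime).one_lt.ne (by
    rw [← hxo, conj_eq_one_iff.mp h, orderOf_one])
  have h := CfsgLib.Fusion.mem_of_kGen p hP (x := d * g⁻¹ * c⁻¹) hcx (by
    rw [show d * g⁻¹ * c⁻¹ * (c * x * c⁻¹) * (d * g⁻¹ * c⁻¹)⁻¹ = d * (g⁻¹ * x * g) * d⁻¹ by group]
    exact hdx) hq1
  refine hg (inv_mem_iff.mp ?_)
  rw [show g⁻¹ = d⁻¹ * (d * g⁻¹ * c⁻¹) * c by group]
  exact mul_mem (mul_mem (inv_mem hd) h) hc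

/-- Strong p-embedding from normalizers of the nontrivial p-subgroups. -/
theorem stronglyPEmbedded_of_normalizer_le (hM : M ≠ ⊤) (hpM : p ∣ Nat.card M)
    (h : ∀ A : Subgroup G, A ≤ M → IsPGroup p A → A ≠ ⊥ → normalizer (A : Set G) ≤ M) :
    Cfsg.IsStronglyPEmbedded p M := by
  refine ⟨hpM.trans (card_subgroup_dvd_card M), hM, ?_⟩
  obtain ⟨R⟩ := (inferInstance : Nonempty (Sylow p M))
  set R' := (R : Subgroup M).map M.subtype with hR'
  have hR'p : IsPGroup p R' := R.2.map _
  have hR'1 : R' ≠ ⊥ := fun hb => dvd_card_sylow hpM R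
    ((map_eq_bot_iff_of_injective _ M.subtype_injective).mp hb)
  obtain ⟨P, hP⟩ := hR'p.exists_le_sylow
  have hPM : (P : Subgroup G) ≤ M := by
    by_cases he : R' = (P : Subgroup G)
    · exact he ▸ map_subtype_le _
    obtain ⟨u, huP, hun, huR⟩ := exists_mem_normalizer_not_mem P.2 hP he
    have huM : u ∈ M := h R' (map_subtype_le _) hR'p hR'1 hun
    have hle : R' ⊔ zpowers u ≤ (P : Subgroup G) := sup_le hP (zpowers_le.mpr huP)
    have hT := (CfsgLib.Functor.isSylowIn_map_subtype R).eq_of_le (P.2.to_le hle)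
      (sup_le (map_subtype_le _) (zpowers_le.mpr huM)) le_sup_left
    exact absurd ((congrArg (u ∈ ·) hT).mpr (mem_sup_right (mem_zpowers u))) huR
  refine ⟨P, ?_⟩
  rw [kGeneratedCore_one _ P.2]
  exact iSup_le fun A => h A.1 (A.2.1.trans hPM) (P.2.to_le A.2.1) A.2.2

/-- The classical definition gives the definition by the 1-generated core. -/
theorem stronglyPEmbedded_of_meetsPrime (hM : M ≠ ⊤) (hpM : p ∣ Nat.card M) (h : MeetsPrime p M) :
    Cfsg.IsStronglyPEmbedded p M :=
  stronglyPEmbedded_of_normalizer_le hM hpM fun _ hA hAp hA1 => h.normalizer_le hA hAp hA1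

/-- A strongly p-embedded subgroup has order divisible by p. -/
theorem dvd_card_of_stronglyPEmbedded (hM : Cfsg.IsStronglyPEmbedded p M) : p ∣ Nat.card M := by
  obtain ⟨hpG, -, P, hP⟩ := hM
  exact (dvd_card_of_ne_bot P.2 (dvd_card_sylow hpG P)).trans
    (card_dvd_of_le (CfsgLib.Fusion.sylow_le_of_kGen p hP (dvd_card_sylow hpG P)))

theorem exists_sylow_le_of_stronglyPEmbedded (hM : Cfsg.IsStronglyPEmbedded p M) :
    ∃ P : Sylow p G, (P : Subgroup G) ≤ M :=
  let ⟨hpG, _, P, hP⟩ := hM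
  ⟨P, CfsgLib.Fusion.sylow_le_of_kGen p hP (dvd_card_sylow hpG P)⟩

/-- Sylow subgroups of a strongly p-embedded subgroup have the order of those of the group. -/
theorem card_sylow_of_stronglyPEmbedded (hM : Cfsg.IsStronglyPEmbedded p M) (S : Sylow p M)
    (P : Sylow p G) : Nat.card S = Nat.card P := by
  obtain ⟨Q, hQ⟩ := exists_sylow_le_of_stronglyPEmbedded hM
  obtain ⟨g, hg⟩ := MulAction.exists_smul_eq M S (Q.subtype hQ)
  show Nat.card (S : Subgroup M) = Nat.card (P : Subgroup G)
  rw [S.card_eq_multiplicity, ← (Q.subtype hQ).card_eq_multiplicity,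
    show ((Q.subtype hQ : Sylow p M) : Subgroup M) = (Q : Subgroup G).subgroupOf M from rfl,
    Nat.card_congr (subgroupOfEquivOfLe hQ).toEquiv, Q.card_eq_multiplicity, P.card_eq_multiplicity]

/-- The normal core of a strongly p-embedded subgroup has order prime to p. -/
theorem normalCore_le_pPrimeCore (hM : Cfsg.IsStronglyPEmbedded p M) :
    M.normalCore ≤ Cfsg.pPrimeCore p G := by
  refine Solvable.le_pPrimeCore p M.normalCore_normal ?_
  refine ((Fact.out : p.Prime).coprime_iff_not_dvd.mpr fun hdvd => ?_).symm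
  obtain ⟨R⟩ := (inferInstance : Nonempty (Sylow p M.normalCore))
  have hle : normalizer (((R : Subgroup M.normalCore).map M.normalCore.subtype : Subgroup G) : Set G) ≤ M :=
    (meetsPrime_of_stronglyPEmbedded hM).normalizer_le ((map_subtype_le _).trans M.normalCore_le)
      (R.2.map _) fun h => dvd_card_sylow hdvd R
        ((map_eq_bot_iff_of_injective _ M.normalCore.subtype_injective).mp h)
  exact hM.2.1 (top_le_iff.mp ((Sylow.normalizer_sup_eq_top R).ge.trans (sup_le hle M.normalCore_le)))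

/-- With p-rank two, the p'-core lies in a strongly p-embedded subgroup. -/
theorem pPrimeCore_le_normalCore (hM : Cfsg.IsStronglyPEmbedded p M)
    (hr : Cfsg.PRankAtLeast p 2 M) : Cfsg.pPrimeCore p G ≤ M.normalCore := by
  haveI : (Cfsg.pPrimeCore p G).Normal := Solvable.pPrimeCore_normal p
  refine normal_le_normalCore.mpr ?_
  have hmp := meetsPrime_of_stronglyPEmbedded hM
  obtain ⟨A, hAc, hAexp, hAcard⟩ := hr
  haveI := hAc
  haveI : IsMulCommutative (A.map M.subtype) := Subgroup.map_isMulCommutative A M.subtype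
  have hexp : ∀ a : A.map M.subtype, a ^ p = 1 := by
    rintro ⟨_, b, hb, rfl⟩
    exact Subtype.ext (by simpa using congrArg Subtype.val (hAexp b hb))
  have hAp : IsPGroup p (A.map M.subtype) := fun a => ⟨1, by rw [pow_one]; exact hexp a⟩
  have hcard : p ^ 2 ≤ Nat.card (A.map M.subtype) := by
    rwa [card_map_of_injective M.subtype_injective]
  have hnc : ¬ IsCyclic (A.map M.subtype) := fun hc => by
    obtain ⟨g, hg⟩ := hc.exists_ofOrder_eq_natCard
    have h1 := Nat.le_of_dvd (Fact.out : p.Prime).pos (orderOf_dvd_of_pow_eq_one (hexp g))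
    rw [hg] at h1
    have := hcard.trans h1
    rw [pow_two] at this
    exact absurd this (not_le.mpr (lt_mul_of_one_lt_left (Fact.out : p.Prime).pos
      (Fact.out : p.Prime).one_lt))
  rw [← CfsgLib.CoprimeAct.generated_by_centralizers (A := A.map M.subtype)
    (K := Cfsg.pPrimeCore p G) hnc (by rw [normalizer_eq_top (H := Cfsg.pPrimeCore p G)]; exact le_top) ?_]
  · refine iSup₂_le fun a ha => inf_le_right.trans (le_trans ?_ (hmp.normalizer_le
      (zpowers_le.mpr (map_subtype_le _ ha.1)) (hAp.to_le (zpowers_le.mpr ha.1))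
      (fun h => ha.2 (zpowers_eq_bot.mp h))))
    rw [zpowers_eq_closure, ← centralizer_closure]
    exact centralizer_le_normalizer _
  · obtain ⟨k, hk⟩ := hAp.exists_card_eq
    rw [hk]
    exact ((Solvable.coprime_card_pPrimeCore (G := G) p).symm).pow_left k

/-- Control of fusion of involutions. -/
theorem fusion_of_dvd_centralizer (hM : Cfsg.IsStronglyPEmbedded p M)
    (hdiv : ∀ t : G, t ∈ M → orderOf t = 2 →
      p ∣ Nat.card ↥(M ⊓ centralizer ({t} : Set G))) (t : G) (ht : t ∈ M) (ht2 : orderOf t = 2)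
    (g : G) (hg : g * t * g⁻¹ ∈ M) : ∃ h ∈ M, h * t * h⁻¹ = g * t * g⁻¹ := by
  have hmp := meetsPrime_of_stronglyPEmbedded hM
  have ht'2 : orderOf (g * t * g⁻¹) = 2 := by
    rw [← ht2]
    exact orderOf_injective (MulAut.conj g).toMonoidHom (MulAut.conj g).injective t
  obtain ⟨x, hx, hxo⟩ := exists_pgroup_of_dvd (hdiv t ht ht2)
  obtain ⟨y, hy, hyo⟩ := exists_pgroup_of_dvd (hdiv _ hg ht'2)
  set C := centralizer ({g * t * g⁻¹} : Set G) with hC
  obtain ⟨R, hR, hyR⟩ := CfsgLib.Functor.exists_sylowIn_ge (p := p) (H := C)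
    (isPGroup_zpowers (p := p) ⟨1, by rw [hyo, pow_one]⟩) (zpowers_le.mpr hy.2)
  have hRM : R ≤ M := hmp.pgroup_le hR.isPGroup fun h => by
    have : y ∈ R ⊓ M := ⟨hyR (mem_zpowers y), hy.1⟩
    rw [h, mem_bot] at this
    rw [this, orderOf_one] at hyo
    exact (Fact.out : p.Prime).one_lt.ne hyo
  have hx' : g * x * g⁻¹ ∈ C := by
    refine mem_centralizer_singleton_iff.mpr ?_
    calc g * x * g⁻¹ * (g * t * g⁻¹) = g * (x * t) * g⁻¹ := by group
      _ = g * t * g⁻¹ * (g * x * g⁻¹) := by rw [mem_centralizer_singleton_iff.mp hx.2]; group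
  have hxo' : orderOf (g * x * g⁻¹) = p := by
    rw [← hxo]
    exact orderOf_injective (MulAut.conj g).toMonoidHom (MulAut.conj g).injective x
  obtain ⟨c, hc, hle⟩ := hR.exists_cj_le (isPGroup_zpowers (p := p) ⟨1, by rw [hxo', pow_one]⟩)
    (zpowers_le.mpr hx')
  have hcx : c * g * x * (c * g)⁻¹ ∈ M := by
    rw [show c * g * x * (c * g)⁻¹ = c * (g * x * g⁻¹) * c⁻¹ by group]
    exact hRM (hle (CfsgLib.Functor.conj_mem_cj (mem_zpowers _)))
  have hmem : (c * g)⁻¹ ∈ M := hmp.mem_of (x := x) hx.1 hxo (by rwa [inv_inv])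
  refine ⟨c * g, inv_mem_iff.mp hmem, ?_⟩
  rw [show c * g * t * (c * g)⁻¹ = c * (g * t * g⁻¹) * c⁻¹ by group,
    mem_centralizer_singleton_iff.mp hc, mul_inv_cancel_right]

/-- Strong p-embedding passes to subgroups. -/
theorem inf_stronglyPEmbedded (hM : Cfsg.IsStronglyPEmbedded p M) {H : Subgroup G} (hH : ¬ H ≤ M)
    (hpH : p ∣ Nat.card ↥(H ⊓ M)) : Cfsg.IsStronglyPEmbedded p ((H ⊓ M).subgroupOf H) := by
  refine stronglyPEmbedded_of_meetsPrime (fun h => hH ((subgroupOf_eq_top.mp h).trans inf_le_right))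
    (by rwa [Nat.card_congr (subgroupOfEquivOfLe inf_le_left).toEquiv]) fun g hg hdvd => ?_
  refine meetsPrime_of_stronglyPEmbedded hM (g : G) (fun h => hg ⟨g.2, h⟩) (hdvd.trans ?_)
  rw [← card_map_of_injective H.subtype_injective]
  refine card_dvd_of_le ?_
  rintro _ ⟨z, ⟨hz1, hz2⟩, rfl⟩
  refine ⟨(mem_subgroupOf.mp hz1).2, mem_map_conj.mpr ?_⟩
  have := mem_subgroupOf.mp (mem_map_conj.mp hz2)
  exact this.2

omit [Finite G] in
theorem sylow_le_pElementClosure (P : Sylow p G) :
    (P : Subgroup G) ≤ Cfsg.pElementClosure p (⊤ : Subgroup G) := fun x hx => by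
  refine subset_closure ⟨mem_top x, ?_⟩
  obtain ⟨j, hj⟩ := IsPGroup.iff_orderOf.mp P.2 ⟨x, hx⟩
  exact ⟨j, by rwa [Subgroup.orderOf_mk] at hj⟩

omit [Finite G] [Fact p.Prime] in
theorem pElementClosure_normal : (Cfsg.pElementClosure p (⊤ : Subgroup G)).Normal := by
  refine ⟨fun x hx g => ?_⟩
  have hle : Cfsg.pElementClosure p (⊤ : Subgroup G) ≤
      (Cfsg.pElementClosure p (⊤ : Subgroup G)).comap (MulAut.conj g).toMonoidHom := by
    refine (closure_le _).mpr ?_
    rintro y ⟨-, k, hk⟩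
    exact subset_closure ⟨mem_top _, k, by
      rw [orderOf_injective (MulAut.conj g).toMonoidHom (MulAut.conj g).injective y, hk]⟩
  exact hle hx

/-- Strong p-embedding passes to the subgroup generated by the p-elements. -/
theorem pElementClosure_stronglyPEmbedded (hM : Cfsg.IsStronglyPEmbedded p M) :
    Cfsg.IsStronglyPEmbedded p (M.subgroupOf (Cfsg.pElementClosure p (⊤ : Subgroup G))) := by
  set N := Cfsg.pElementClosure p (⊤ : Subgroup G) with hN
  haveI : N.Normal := pElementClosure_normal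
  obtain ⟨P, hP⟩ := exists_sylow_le_of_stronglyPEmbedded hM
  have hPN : (P : Subgroup G) ≤ N := sylow_le_pElementClosure P
  have hne := dvd_card_sylow hM.1 P
  have hNM : ¬ N ≤ M := fun h => hM.2.1 (top_le_iff.mp ((Sylow.normalizer_sup_eq_top' P hPN).ge.trans
    (sup_le ((meetsPrime_of_stronglyPEmbedded hM).normalizer_le hP P.2 hne) h)))
  have := inf_stronglyPEmbedded hM hNM
    ((dvd_card_of_ne_bot P.2 hne).trans (card_dvd_of_le (le_inf hPN hP)))
  rwa [inf_subgroupOf_left] at this

/-- Strong p-embedding passes to the quotient by the p'-core. -/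
theorem quotient_stronglyPEmbedded (hM : Cfsg.IsStronglyPEmbedded p M)
    (hne : M ⊔ Cfsg.pPrimeCore p G ≠ ⊤) :
    Cfsg.IsStronglyPEmbedded p (M.map (QuotientGroup.mk' (Cfsg.pPrimeCore p G))) := by
  set O := Cfsg.pPrimeCore p G with hO
  set π := QuotientGroup.mk' O with hπ
  have hcomap : (M.map π).comap π = M ⊔ O := by rw [comap_map_eq, QuotientGroup.ker_mk']
  obtain ⟨P, hP⟩ := exists_sylow_le_of_stronglyPEmbedded hM
  have hOcop : (Nat.card O).Coprime p := Solvable.coprime_card_pPrimeCore p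
  refine stronglyPEmbedded_of_normalizer_le (fun h => hne ?_) ?_ fun Ab hAb hAbp hAb1 => ?_
  · rw [← hcomap, h, comap_top]
  · refine (dvd_card_of_ne_bot (P.2.map π) fun h => ?_).trans (card_dvd_of_le (map_mono hP))
    rw [Subgroup.map_eq_bot_iff, QuotientGroup.ker_mk'] at h
    exact Nat.Prime.one_lt Fact.out |>.ne' (Nat.eq_one_of_dvd_coprimes hOcop
      ((dvd_card_of_ne_bot P.2 (dvd_card_sylow hM.1 P)).trans (card_dvd_of_le h)) dvd_rfl)
  set E := Ab.comap π with hE
  have hEM : ∀ e ∈ E, ∃ m ∈ E ⊓ M, π m = π e := fun e he => by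
    obtain ⟨m, hm, hme⟩ := hAb (mem_comap.mp he)
    exact ⟨m, ⟨mem_comap.mpr (by rw [hme]; exact he), hm⟩, hme⟩
  have hmap : (E ⊓ M).map π = Ab := by
    refine le_antisymm (map_le_iff_le_comap.mpr inf_le_left) fun a ha => ?_
    obtain ⟨e, rfl⟩ := QuotientGroup.mk'_surjective O a
    obtain ⟨m, hm, hme⟩ := hEM e (mem_comap.mpr ha)
    exact ⟨m, hm, hme⟩
  obtain ⟨A, hA⟩ := CfsgLib.Functor.exists_sylowIn (p := p) (E ⊓ M)
  have hAmap : A.map π = Ab := by
    have h1 := hA.map π
    rw [hmap] at h1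
    exact h1.eq_of_le hAbp le_rfl h1.le
  have hA1 : A ≠ ⊥ := fun h => hAb1 (by rw [← hAmap, h, Subgroup.map_bot])
  have hAE : CfsgLib.Functor.IsSylowIn p A E := by
    refine CfsgLib.Functor.isSylowIn_of_card_le (hA.le.trans inf_le_left) hA.isPGroup ?_
    intro Q hQE hQ
    have hinj : Q ⊓ O = ⊥ := by
      refine eq_bot_of_card_eq _ ?_
      obtain ⟨j, hj⟩ := hQ.exists_card_eq
      exact Nat.eq_one_of_dvd_coprimes ((hOcop.symm).pow_left j)
        (hj ▸ card_dvd_of_le inf_le_left) (card_dvd_of_le inf_le_right)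
    have hle : Nat.card Q ≤ Nat.card Ab := by
      refine Nat.card_le_card_of_injective (fun q : Q => (⟨π q, hQE q.2⟩ : Ab)) fun a b hab => ?_
      have h0 : (a : G)⁻¹ * b ∈ Q := Q.mul_mem (Q.inv_mem a.2) b.2
      have h1 : (a : G)⁻¹ * b ∈ Q ⊓ O :=
        ⟨h0, (QuotientGroup.eq).mp (congrArg Subtype.val hab)⟩
      rw [hinj, mem_bot, inv_mul_eq_one] at h1
      exact Subtype.ext h1
    refine hle.trans ?_
    rw [← hAmap]
    exact Nat.card_le_card_of_surjective _ (π.subgroupMap_surjective A)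
  intro nb hnb
  obtain ⟨n, rfl⟩ := QuotientGroup.mk'_surjective O nb
  have hnE : n ∈ normalizer (E : Set G) := le_normalizer_comap π hnb
  obtain ⟨e, he, hee⟩ := hAE.exists_cj_eq (hAE.cj_of_mem hnE)
  rw [CfsgLib.Functor.cj_cj, ← CfsgLib.Functor.mem_normalizer_iff_cj] at hee
  have h1 : e * n ∈ M :=
    (meetsPrime_of_stronglyPEmbedded hM).normalizer_le (hA.le.trans inf_le_right) hA.isPGroup hA1 hee
  rw [show n = e⁻¹ * (e * n) by group, map_mul, map_inv]
  exact mul_mem (inv_mem (hAb (mem_comap.mp he))) (mem_map_of_mem π h1)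

theorem eq_of_orderOf_two_quaternion {n : ℕ} [NeZero n] {x y : QuaternionGroup n}
    (hx : orderOf x = 2) (hy : orderOf y = 2) : x = y := by
  have key : ∀ z : QuaternionGroup n, orderOf z = 2 → z = QuaternionGroup.a (n : ZMod (2 * n)) := by
    intro z hz
    rcases z with i | i
    · have h0 := pow_orderOf_eq_one (QuaternionGroup.a i)
      rw [hz, pow_two, QuaternionGroup.a_mul_a] at h0
      change QuaternionGroup.a (i + i) = QuaternionGroup.a 0 at h0
      injection h0 with h0
      have hi : i.val ≠ 0 := by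
        intro h
        rw [(ZMod.val_eq_zero i).mp h, QuaternionGroup.a_zero, orderOf_one] at hz
        omega
      have hv : 2 * n ∣ i.val + i.val := by
        rw [← ZMod.natCast_eq_zero_iff, Nat.cast_add, ZMod.natCast_zmod_val]
        exact h0
      obtain ⟨c, hc⟩ := hv
      have hlt := i.val_lt
      have hc1 : c = 1 := by
        rcases c with _ | _ | c
        · omega
        · rfl
        · exfalso
          have : 2 * n * 2 ≤ 2 * n * (c + 1 + 1) := Nat.mul_le_mul_left _ (by omega)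
          omega
      rw [hc1, mul_one] at hc
      refine congrArg QuaternionGroup.a ?_
      rw [← ZMod.natCast_zmod_val i]
      congr 1
      omega
    · rw [QuaternionGroup.orderOf_xa] at hz
      omega
  rw [key x hx, key y hy]

/-- In a cyclic or quaternion p-group elements of order p generate the same subgroup. -/
theorem zpowers_eq_of_orderOf {T : Type*} [Group T] [Finite T] (hT : IsPGroup p T)
    (hs : IsCyclic T ∨ ∃ n : ℕ, Nonempty (T ≃* QuaternionGroup n)) {x y : T} (hx : orderOf x = p)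
    (hy : orderOf y = p) : zpowers x = zpowers y := by
  rcases hs with hc | ⟨n, ⟨e⟩⟩
  · haveI := hc
    classical
    haveI : Fintype T := Fintype.ofFinite T
    have key : ∀ a b : T, orderOf a = p → orderOf b = p → b ∈ zpowers a := by
      intro a b ha hb
      by_contra hba
      have hsub : insert b (Finset.univ.filter fun c => c ∈ zpowers a) ⊆
          Finset.univ.filter fun c : T => c ^ p = 1 := by
        intro c hc
        simp only [Finset.mem_insert, Finset.mem_filter, Finset.mem_univ, true_and] at hc ⊢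
        rcases hc with rfl | hc
        · rw [← hb, pow_orderOf_eq_one]
        · exact orderOf_dvd_iff_pow_eq_one.mp (ha ▸ orderOf_dvd_of_mem_zpowers hc)
      have h1 := (Finset.card_le_card hsub).trans
        (IsCyclic.card_pow_eq_one_le (α := T) (Fact.out : p.Prime).pos)
      rw [Finset.card_insert_of_notMem (by simpa using hba), ← Fintype.card_subtype,
        ← Nat.card_eq_fintype_card, show Nat.card {c : T // c ∈ zpowers a} = Nat.card (zpowers a) from rfl,
        Nat.card_zpowers, ha] at h1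
      omega
    exact le_antisymm (zpowers_le.mpr (key y x hy hx)) (zpowers_le.mpr (key x y hx hy))
  · haveI : Finite (QuaternionGroup n) := Finite.of_equiv T e.toEquiv
    haveI : NeZero n := ⟨by
      rintro rfl
      haveI : Infinite (QuaternionGroup 0) :=
        Infinite.of_injective (fun z : ℤ => (QuaternionGroup.a z : QuaternionGroup 0))
          fun a b h => by injection h
      exact not_finite (QuaternionGroup 0)⟩
    have hp2 : p = 2 := by
      obtain ⟨k, hk⟩ := hT.exists_card_eq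
      have hc : Nat.card (QuaternionGroup n) = 4 * n := by
        rw [Nat.card_eq_fintype_card, QuaternionGroup.card]
      rw [Nat.card_congr e.toEquiv, hc] at hk
      exact ((Nat.prime_dvd_prime_iff_eq Nat.prime_two (Fact.out : p.Prime)).mp
        (Nat.prime_two.dvd_of_dvd_pow (hk ▸ (⟨2 * n, by ring⟩ : 2 ∣ 4 * n)))).symm
    subst hp2
    have : e x = e y := eq_of_orderOf_two_quaternion
      (by rw [e.orderOf_eq, hx]) (by rw [e.orderOf_eq, hy])
    rw [e.injective this]

/-- In a group with trivial p-core and cyclic or quaternion Sylow p-subgroup, the normalizer of the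
subgroup of order p is strongly p-embedded. -/
theorem normalizer_omegaOne_stronglyPEmbedded (hO : Cfsg.pCore p G = ⊥) (T : Sylow p G)
    (hT1 : (T : Subgroup G) ≠ ⊥)
    (hT : IsCyclic ↥(T : Subgroup G) ∨ ∃ n : ℕ, Nonempty (↥(T : Subgroup G) ≃* QuaternionGroup n)) :
    Cfsg.IsStronglyPEmbedded p (normalizer (Cfsg.omegaOne p (T : Subgroup G) : Set G)) := by
  obtain ⟨z, hz, hzo⟩ := exists_pgroup_of_dvd (dvd_card_of_ne_bot T.2 hT1)
  have huniq : ∀ x ∈ (T : Subgroup G), orderOf x = p → zpowers x = zpowers z := by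
    intro x hx hxo
    have h1 := zpowers_eq_of_orderOf T.2 hT (x := ⟨x, hx⟩) (y := ⟨z, hz⟩)
      (by rwa [Subgroup.orderOf_mk]) (by rwa [Subgroup.orderOf_mk])
    have h2 := congrArg (Subgroup.map (T : Subgroup G).subtype) h1
    rwa [MonoidHom.map_zpowers, MonoidHom.map_zpowers] at h2
  have hΩ : Cfsg.omegaOne p (T : Subgroup G) = zpowers z := by
    refine le_antisymm ((closure_le _).mpr ?_) (zpowers_le.mpr (subset_closure ⟨hz, by
      rw [← hzo, pow_orderOf_eq_one]⟩))
    rintro x ⟨hx, hxp⟩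
    by_cases hx1 : x = 1
    · rw [hx1]; exact one_mem _
    rw [SetLike.mem_coe, ← huniq x hx (orderOf_eq_prime hxp hx1)]
    exact mem_zpowers x
  rw [hΩ]
  set H := normalizer ((zpowers z : Subgroup G) : Set G) with hH
  have hzH : z ∈ H := le_normalizer (mem_zpowers z)
  have hTH : (T : Subgroup G) ≤ H := fun t ht => by
    rw [hH, mem_normalizer_iff_map_conj_eq, MonoidHom.map_zpowers]
    exact huniq _ (mul_mem (mul_mem ht hz) (inv_mem ht)) (by
      rw [← hzo]
      exact orderOf_injective (MulAut.conj t).toMonoidHom (MulAut.conj t).injective z)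
  refine stronglyPEmbedded_of_normalizer_le (fun htop => ?_) ?_ fun A hA hAp hA1 => ?_
  · have hz1 : z = 1 := mem_bot.mp (hO ▸ Solvable.le_pCore p (normalizer_eq_top_iff.mp htop)
      (IsPGroup.of_card (n := 1) (by rw [Nat.card_zpowers, hzo, pow_one])) (mem_zpowers z))
    rw [hz1, orderOf_one] at hzo
    exact (Fact.out : p.Prime).one_lt.ne hzo
  · rw [← hzo]
    exact H.orderOf_dvd_natCard hzH
  obtain ⟨x, hx, hxo⟩ := exists_pgroup_of_dvd (dvd_card_of_ne_bot hAp hA1)
  obtain ⟨h, hh, hle⟩ :=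
    ((CfsgLib.Functor.isSylowIn_top T).of_le hTH le_top).exists_cj_le hAp hA
  have hsame : ∀ y ∈ A, orderOf y = p → zpowers y = zpowers z := by
    intro y hy hyo
    have h1 := huniq _ (hle (CfsgLib.Functor.conj_mem_cj hy)) (by
      rw [← hyo]
      exact orderOf_injective (MulAut.conj h).toMonoidHom (MulAut.conj h).injective y)
    have h2 := mem_normalizer_iff_map_conj_eq.mp hh
    rw [show zpowers (h * y * h⁻¹) = (zpowers y).map (MulAut.conj h).toMonoidHom by
      rw [MonoidHom.map_zpowers]; rfl, ← h2] at h1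
    exact map_injective (MulAut.conj h).injective h1
  intro n hn
  rw [hH, mem_normalizer_iff_map_conj_eq]
  nth_rewrite 1 [← hsame x hx hxo]
  rw [MonoidHom.map_zpowers]
  exact hsame _ ((mem_normalizer_iff.mp hn x).mp hx) (by
    rw [← hxo]
    exact orderOf_injective (MulAut.conj n).toMonoidHom (MulAut.conj n).injective x)

end CfsgLib.LocalB
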