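import Cfsg.Prelude.Def_Transfer
import Cfsg.Agent.LocalB.Embedded

/-! The normalizer of a subgroup normalizes its Thompson subgroup. -/

set_option autoImplicit false

namespace CfsgLib.LocalB

theorem map_maxElementaryAbelian {P : Type*} [Group P] (p : ℕ) (e : P ≃* P) {A : Subgroup P}
    (hA : A ∈ Cfsg.maxElementaryAbelianSubgroups p P) :
    A.map e.toMonoidHom ∈ Cfsg.maxElementaryAbelianSubgroups p P := by
  obtain ⟨⟨hc, hp⟩, hmax⟩ := hA
  refine ⟨⟨inferInstance, ?_⟩, fun B hB => ?_⟩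
  · rintro _ ⟨a, ha, rfl⟩; rw [← map_pow, hp a ha, map_one]
  · rw [← Nat.card_congr (A.equivMapOfInjective e.toMonoidHom e.injective).toEquiv]
    exact hmax B hB

theorem map_thompsonSubgroup_le {P : Type*} [Group P] (p : ℕ) (e : P ≃* P) :
    (Cfsg.thompsonSubgroup p P).map e.toMonoidHom ≤ Cfsg.thompsonSubgroup p P := by
  rw [Subgroup.map_le_iff_le_comap]
  refine sSup_le fun A hA => ?_
  rw [← Subgroup.map_le_iff_le_comap]
  exact le_sSup (map_maxElementaryAbelian p e hA)

theorem normalizer_le_normalizer_thompsonOf {G : Type*} [Group G] [Finite G] (p : ℕ) (P : Subgroup G) :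
    Subgroup.normalizer (P : Set G) ≤ Subgroup.normalizer (Cfsg.thompsonSubgroupOf p P : Set G) := by
  intro g hg
  refine mem_normalizer_of_conj_le ?_
  rintro _ ⟨x, hx, rfl⟩
  have := map_thompsonSubgroup_le p (P.normalizerMonoidHom ⟨g, hg⟩) ⟨x, hx, rfl⟩
  exact ⟨_, this, rfl⟩

end CfsgLib.LocalB
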