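import Cfsg.Agent.LocalB.JSymFour

/-! Existence of two components with different overgroups. -/

set_option autoImplicit false
set_option linter.unusedVariables false
set_option linter.unusedSectionVars false

namespace CfsgLib.JComp

open Subgroup Cfsg CfsgLib
open scoped CfsgLib.Functor

variable {G : Type*} [Group G] [Finite G] {T T' L M K K' L' : Subgroup G} {v v' : G}

theorem exists_sylow_ge (S : Sylow 2 G)
    (hMJ : normalizer (thompsonSubgroupOf 2 (S : Subgroup G) : Set G) ≤ M)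
    (hT : T ∈ maxStraddlingTwoSubgroups M) :
    ∃ P : Sylow 2 G, T ≤ P ∧ normalizer (thompsonSubgroupOf 2 (P : Subgroup G) : Set G) ≤ M := by
  have : Fact (Nat.Prime 2) := ⟨Nat.prime_two⟩
  have hSM : (S : Subgroup G) ≤ M := (Subgroup.le_normalizer.trans
    (Thompson.normalizer_le_normalizer_thompsonSubgroupOf _)).trans hMJ
  have hSyl : Functor.IsSylowIn 2 (S : Subgroup G) M :=
    (Functor.isSylowIn_top S).of_le hSM le_top
  obtain ⟨m, hm, hle⟩ := hSyl.exists_cj_le hT.1.1 hT.1.2.2.1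
  refine ⟨m⁻¹ • S, ?_, ?_⟩
  · have h := Functor.cj_mono m⁻¹ hle
    rw [Functor.cj_inv_cj] at h
    exact h
  · show normalizer (thompsonSubgroupOf 2 (m⁻¹ ⋆ (S : Subgroup G)) : Set G) ≤ M
    rw [← Thompson.map_thompsonSubgroupOf, ← Functor.cj_normalizer,
      ← Functor.cj_eq_self_of_mem (H := M) (inv_mem hm)]
    exact Functor.cj_mono m⁻¹ hMJ

/-- A second component normalized by `T'` is incompatible with a component normalized by `S > T'`
whose fixed point is central in `S`. -/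
theorem no_smaller_pair (hG : Hyp G) (S : Sylow 2 G) (o : OutComp (S : Subgroup G) K L v)
    (o' : OutComp T' K' L' v') (hle : T' ≤ S) {x : G} (hxS : x ∈ (S : Subgroup G))
    (hxN : x ∈ normalizer (T' : Set G)) (o'' : OutComp T' (x ⋆ K') (x ⋆ L') (x * v' * x⁻¹))
    (hne : L' ≠ x ⋆ L') (hlt : T' ≠ S) : False := by
  have : Fact (Nat.Prime 2) := ⟨Nat.prime_two⟩
  have hW : wOf K ≤ S := o.w_le
  have hQ'' : coreT T' (x ⋆ K') = x ⋆ coreT T' K' := by
    ext g
    constructor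
    · rintro ⟨hgT, hgC⟩
      refine Functor.mem_cj.mpr ⟨?_, mem_centralizer_iff.mpr fun u hu => ?_⟩
      · simpa using (mem_normalizer_iff.mp (inv_mem hxN) g).mp hgT
      · have h := mem_centralizer_iff.mp hgC (x * u * x⁻¹) (by rw [← cj_wOf]; exact ⟨u, hu, rfl⟩)
        calc u * (x⁻¹ * g * x) = x⁻¹ * (x * u * x⁻¹ * g) * x := by group
          _ = _ := by rw [h]; group
    · intro hg
      obtain ⟨hgT, hgC⟩ := Functor.mem_cj.mp hg
      refine ⟨?_, mem_centralizer_iff.mpr ?_⟩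
      · have h := (mem_normalizer_iff.mp hxN _).mp hgT
        rwa [show x * (x⁻¹ * g * x) * x⁻¹ = g by group] at h
      · rw [← cj_wOf]
        rintro _ ⟨u, hu, rfl⟩
        show x * u * x⁻¹ * g = g * (x * u * x⁻¹)
        have h := mem_centralizer_iff.mp hgC u hu
        calc x * u * x⁻¹ * g = x * (u * (x⁻¹ * g * x)) * x⁻¹ := by group
          _ = _ := by rw [h]; group
  set E := coreT T' K' with hEdef
  have hvE : v ∈ E := by
    have h : v ∈ coreT T' K' ⊓ coreT T' (x ⋆ K') := by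
      rw [o'.inf_eq_omega o'' hG hne]
      exact omega_le_omega_setting o'.set hle o.memZ
    exact h.1
  -- `W` normalizes `E`
  have hWN : wOf K ≤ normalizer (E : Set G) := fun w hw => LocalB.mem_normalizer_of_conj_le fun q hq => by
    rcases o.conj_cases (hle hq.1) (inv_mem hw) with h | h
    · rw [show w * q * w⁻¹ = w * (q * w⁻¹ * q⁻¹) * q by group, h, mul_inv_cancel, one_mul]
      exact hq
    · rw [show w * q * w⁻¹ = w * (q * w⁻¹ * q⁻¹) * q by group, h, ← mul_assoc, mul_inv_cancel,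
        one_mul]
      exact mul_mem hvE hq
  have hcore : pCoreOf 2 L' = E := by
    rw [o'.max_eq o'' hG hne, o'.core_sup]
  have hWL : wOf K ≤ L' := by rw [← normalizer_core_eq o'.max, hcore]; exact hWN
  have hWT : wOf K ≤ T' := fun w hw => by
    have h := o'.set.eq_of_le (P := (S : Subgroup G) ⊓ L') (S.2.to_le inf_le_left)
      (le_inf hle o'.set.le) inf_le_right
    exact h ▸ ⟨hW hw, hWL hw⟩
  -- `W` lies in one of the two elementary groups
  have hun : ∀ u ∈ wOf K, u ∈ E ∨ u ∈ coreT T' (x ⋆ K') := by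
    intro u hu
    by_contra hcon
    rw [not_or] at hcon
    obtain ⟨huE, huE''⟩ := hcon
    obtain ⟨a, haE'', haE⟩ := SetLike.not_le_iff_exists.mp (o'.coreT_not_le o'' hne)
    have hua : u * a ∈ E := o'.mul_mem_coreT haE''.1 (hWT hu) haE huE
    have h1 : (u * a) * (u * a) = 1 := o'.coreT_sq o'' hG hne hua
    have haa : a * a = 1 := o''.coreT_sq o' hG hne.symm haE''
    have huu : u * u = 1 := o.data.sq u hu
    have hcomm : u * a = a * u := by
      have h := inv_eq_of_mul_eq_one_right h1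
      rw [mul_inv_rev, inv_eq_of_mul_eq_one_right haa, inv_eq_of_mul_eq_one_right huu] at h
      exact h.symm
    apply huE''
    refine o''.centralizer_coreT (mem_centralizer_iff.mpr fun q hq => ?_)
    by_cases hqE : q ∈ E
    · exact mem_centralizer_iff.mp (Setting.omega_spec
        (show q ∈ omegaCenterOf T' by rw [← o'.inf_eq_omega o'' hG hne]; exact ⟨hqE, hq⟩)).2.1 u
        (hWT hu) |>.symm
    · have hqa : q * a ∈ omegaCenterOf T' := by
        rw [← o'.inf_eq_omega o'' hG hne]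
        exact ⟨o'.mul_mem_coreT haE''.1 hq.1 haE hqE, mul_mem hq haE''⟩
      have c1 : Commute (q * a) u :=
        (mem_centralizer_iff.mp (Setting.omega_spec hqa).2.1 u (hWT hu)).symm
      have c2 : Commute a u := hcomm.symm
      simpa using (c1.mul_left c2.inv_left).eq
  have hWZ : wOf K ≤ omegaCenterOf T' := by
    rw [← o'.inf_eq_omega o'' hG hne]
    have hxW : x ⋆ wOf K = wOf K := Functor.mem_normalizer_iff_cj.1 (o.norm_w hxS)
    by_cases h1 : wOf K ≤ E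
    · refine le_inf h1 ?_
      rw [hQ'', ← hxW]
      exact Functor.cj_mono x h1
    · obtain ⟨p, hp, hpE⟩ := SetLike.not_le_iff_exists.mp h1
      exfalso
      have h2 : wOf K ≤ coreT T' (x ⋆ K') := by
        intro u hu
        by_contra hu2
        have hu1 := (hun u hu).resolve_right hu2
        have hp2 := (hun p hp).resolve_left hpE
        rcases hun _ (mul_mem hu hp) with h | h
        · exact hpE (by simpa using mul_mem (inv_mem hu1) h)
        · exact hu2 (by simpa using mul_mem h (inv_mem hp2))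
      apply h1
      have h3 := Functor.cj_mono x⁻¹ h2
      rwa [hQ'', Functor.cj_inv_cj,
        Functor.mem_normalizer_iff_cj.1 (inv_mem (o.norm_w hxS))] at h3
  -- a conjugate of `v` centralizes `K'`
  have hlt' : Nat.card T' < Nat.card (S : Subgroup G) := by
    refine lt_of_not_ge fun h => hlt (eq_of_le_of_card_ge hle h)
  rcases o'.cases with h | ⟨c, hc, hc1, -, hKc, -⟩
  · have h2 : Nat.card ↥(wOf K) ≤ 2 := by
      rw [show Nat.card ↥(wOf K) = (wOf K : Set G).ncard from Nat.card_coe_set_eq _]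
      exact (Set.ncard_le_ncard (fun e he => h e (hWZ he) : _ ⊆ ({1, v'} : Set G))).trans
        (Set.ncard_insert_le 1 {v'}) |>.trans (by rw [Set.ncard_singleton])
    rw [o.data.card] at h2
    omega
  · have hcard : Nat.card ↥(omegaCenterOf T') ≤ Nat.card ↥(wOf K) := by
      rcases o'.card_two_or_four with h | h <;> rw [h, o.data.card]
      norm_num
    have hcW : c ∈ wOf K := (eq_of_le_of_card_ge hWZ hcard).ge hc
    obtain ⟨k, hk, hkv⟩ := o.transitive hcW hc1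
    have hSle : k ⋆ (S : Subgroup G) ≤ L' := by
      refine le_trans ?_ (o'.fixes_le c hc hc1 hKc)
      rintro _ ⟨s, hs, rfl⟩
      refine mem_centralizer_singleton_iff.mpr ?_
      show k * s * k⁻¹ * c = c * (k * s * k⁻¹)
      have h1 := o.v_comm hs
      rw [← hkv]
      calc k * s * k⁻¹ * (k * v * k⁻¹) = k * (s * v) * k⁻¹ := by group
        _ = _ := by rw [h1]; group
    obtain ⟨l, hl, hlT⟩ :=
      (sylowTwo_iff.1 o'.set.ovg.1).exists_cj_le (Functor.isPGroup_cj _ S.2) hSle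
    have := Nat.card_le_card_of_injective _ (inclusion_injective hlT)
    rw [Functor.card_cj, Functor.card_cj] at this
    omega

/-- Two components with different overgroups. -/
theorem exists_pair (hG : Hyp G) (hO : pCore 2 G = ⊥) (S : Sylow 2 G)
    (hMJ : normalizer (thompsonSubgroupOf 2 (S : Subgroup G) : Set G) ≤ M)
    (hT : T ∈ maxStraddlingTwoSubgroups M) :
    ∃ K₁ K₂ L₁ L₂ v₁ v₂, OutComp T K₁ L₁ v₁ ∧ OutComp T K₂ L₂ v₂ ∧ L₁ ≠ L₂ := by
  have : Fact (Nat.Prime 2) := ⟨Nat.prime_two⟩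
  obtain ⟨P, hTP, hPM⟩ := exists_sylow_ge S hMJ hT
  obtain ⟨K, hK⟩ := max_straddling_outside hG.charTwo hG.solv hG.zc P hPM hT
  obtain ⟨L, v, o⟩ := outside_spec hG hO P hPM hT hK
  have hTp := o.isP
  -- conjugation inside `N(T)`
  have hconj : ∀ {M₀ T₀ K₀ L₀ : Subgroup G} {v₀ : G},
      normalizer (thompsonSubgroupOf 2 (P : Subgroup G) : Set G) ≤ M₀ →
      T₀ ∈ maxStraddlingTwoSubgroups M₀ → K₀ ∈ jComponentsOutside M₀ T₀ → OutComp T₀ K₀ L₀ v₀ →
      ∀ x ∈ normalizer (T₀ : Set G), x ∉ L₀ →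
        OutComp T₀ (x ⋆ K₀) (x ⋆ L₀) (x * v₀ * x⁻¹) ∧ L₀ ≠ x ⋆ L₀ := by
    intro M₀ T₀ K₀ L₀ v₀ hM₀ hT₀ hK₀ o₀ x hx hxL
    have hxM : x ∈ M₀ := normalizer_thompson_le P hM₀ hT₀
      (Thompson.normalizer_le_normalizer_thompsonSubgroupOf T₀ hx)
    obtain ⟨L₁, v₁, o₁⟩ := outside_spec hG hO P hM₀ hT₀ (jComponentsOutside_cj hx hxM hK₀)
    have hL : x ⋆ L₀ = L₁ := o₁.unique _ (isMaximal_cj o₀.max x) (by
      rw [← Functor.mem_normalizer_iff_cj.1
        (Thompson.normalizer_le_normalizer_thompsonSubgroupOf (p := 2) T₀ hx), ← Subgroup.map_sup]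
      exact Functor.cj_mono x o₀.sup_j_le)
    have hv : x * v₀ * x⁻¹ = v₁ := by
      refine (o₁.only _ ?_ ?_).resolve_left fun e => o₀.ne_one (conj_eq_one_iff.mp e)
      · rw [← cj_wOf]; exact ⟨v₀, o₀.memW, rfl⟩
      · have h := (mem_normalizer_iff.mp (normalizer_le_normalizer_omegaCenterOf T₀ hx) _).mp o₀.memZ
        exact mem_centralizer_iff.mpr fun j hj => mem_centralizer_iff.mp (Setting.omega_spec h).2.1 j
          (Thompson.thompsonSubgroupOf_le T₀ hj)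
    exact ⟨by rw [hL, hv]; exact o₁, fun e => hxL (mem_of_cj_eq o₀.max e.symm)⟩
  by_cases hN : normalizer (T : Set G) ≤ L
  swap
  · obtain ⟨x, hx, hxL⟩ := SetLike.not_le_iff_exists.mp hN
    obtain ⟨o₂, hne⟩ := hconj hPM hT hK o x hx hxL
    exact ⟨_, _, _, _, _, _, o, o₂, hne⟩
  have hPT := sylow_of_normalizer_le hTp (sylowTwo_iff.1 o.set.ovg.1) o.set.le hN hTP
  -- `N(J(T))` lies in `L`
  have hNJ : normalizer (thompsonSubgroupOf 2 (P : Subgroup G) : Set G) ≤ L := by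
    rw [hPT]
    refine le_trans (fun g hg => ?_) hN
    have hle : g ⋆ T ≤ normalizer (T : Set G) := by
      refine le_trans ?_ (hPT ▸ hG.zc P)
      have hgZ : g ∈ normalizer (omegaCenterOf T : Set G) := by
        rw [o.omega]; exact normalizer_le_normalizer_omegaCenterOf _ hg
      rintro _ ⟨t, ht, rfl⟩
      refine mem_centralizer_iff.mpr fun z hz => ?_
      have hz' : g⁻¹ * z * g ∈ omegaCenterOf T := by
        simpa using (mem_normalizer_iff.mp (inv_mem hgZ) z).mp hz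
      have h := mem_centralizer_iff.mp (Setting.omega_spec hz').2.1 t ht
      show z * (g * t * g⁻¹) = g * t * g⁻¹ * z
      calc z * (g * t * g⁻¹) = g * ((g⁻¹ * z * g) * t) * g⁻¹ := by group
        _ = _ := by rw [← h]; group
    have hp : IsPGroup 2 ↥((g ⋆ T) ⊔ T) :=
      (Functor.isPGroup_cj g hTp).to_sup_of_normal_right' hTp hle
    have he : (g ⋆ T) ⊔ T = T := by
      rw [← hPT] at hp ⊢
      exact (P.is_maximal' hp le_sup_right)
    exact Functor.mem_normalizer_iff_cj.2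
      (Functor.eq_of_le_of_card_le' (le_sup_left.trans he.le) (Functor.card_cj g T).ge)
  by_cases hX : ∃ X, IsTwoLocal X ∧ T ≤ X ∧ ¬ X ≤ L
  · -- `T` is straddling for `L`
    obtain ⟨X, hX, hTX, hXL⟩ := hX
    have hTL : T ∈ straddlingTwoSubgroups L := ⟨hTp, o.ne_bot, o.set.le, X, hX, hTX, hXL⟩
    have hmax : T ∈ maxStraddlingTwoSubgroups L := by
      refine ⟨hTL, fun R hR => ?_⟩
      obtain ⟨l, hl, hlT⟩ := (sylowTwo_iff.1 o.set.ovg.1).exists_cj_le hR.1 hR.2.2.1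
      rw [← maxElemAbelianOrder_cj l R, ← Functor.card_cj l (thompsonSubgroupOf 2 R),
        Thompson.map_thompsonSubgroupOf, ← Functor.card_cj l R]
      obtain ⟨A, hA⟩ := Thompson.exists_maxIn (p := 2) T
      obtain ⟨B, hB⟩ := Thompson.exists_maxIn (p := 2) (l ⋆ R)
      rw [maxElemAbelianOrder_eq hA, maxElemAbelianOrder_eq hB]
      refine ⟨hA.2.2 B (hB.1.trans hlT) hB.2.1, fun e => ⟨?_, fun _ => ?_⟩⟩
      · refine Nat.card_le_card_of_injective _ (inclusion_injective ?_)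
        rw [Thompson.thompsonSubgroupOf_eq (l ⋆ R)]
        exact sSup_le fun C hC => maxIn_le_thompson ⟨hC.1.trans hlT, hC.2.1,
          fun D hD hDe => ((hA.2.2 D hD hDe).trans e.ge).trans (hC.2.2 B hB.1 hB.2.1)⟩
      · exact Nat.card_le_card_of_injective _ (inclusion_injective hlT)
    obtain ⟨K₂, hK₂⟩ := max_straddling_outside hG.charTwo hG.solv hG.zc P hNJ hmax
    obtain ⟨L₂, v₂, o₂⟩ := outside_spec hG hO P hNJ hmax hK₂
    exact ⟨_, _, _, _, _, _, o, o₂, fun e => hK₂.2.1 (e ▸ o₂.le)⟩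
  -- otherwise everything around `T` lies in `L`
  exfalso
  simp only [not_exists, not_and, not_not] at hX
  obtain ⟨T₁, hT₁⟩ := exists_maxStraddling (straddling_nonempty hO o.max o.set hN)
  obtain ⟨l, hl, hlT⟩ := (sylowTwo_iff.1 o.set.ovg.1).exists_cj_le hT₁.1.1 hT₁.1.2.2.1
  have hT' := maxStraddling_cj hl hT₁
  set T' := l ⋆ T₁
  obtain ⟨K', hK'⟩ := max_straddling_outside hG.charTwo hG.solv hG.zc P hNJ hT'
  obtain ⟨L', v', o'⟩ := outside_spec hG hO P hNJ hT' hK'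
  have hne' : T' ≠ (P : Subgroup G) := by
    intro e
    obtain ⟨-, -, -, X, hXl, hTX, hXL⟩ := hT'.1
    exact hXL (hX X hXl (by rwa [e, hPT] at hTX))
  have hT'P : T' ≤ P := hPT ▸ hlT
  obtain ⟨x, hxP, hxN, hxT⟩ := LocalB.exists_mem_normalizer_not_mem P.2 hT'P hne'
  have hxL : x ∉ L' := fun h => hxT (by
    have e := o'.set.eq_of_le (P := (P : Subgroup G) ⊓ L') (P.2.to_le inf_le_left)
      (le_inf hT'P o'.set.le) inf_le_right
    exact e ▸ ⟨hxP, h⟩)
  obtain ⟨o'', hne⟩ := hconj hNJ hT' hK' o' x hxN hxL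
  exact no_smaller_pair hG P (hPT.symm ▸ o) o' hT'P hxP hxN o'' hne hne'

theorem two_amalgam (hG : Hyp G) (hO : pCore 2 G = ⊥) (S : Sylow 2 G)
    (hMJ : normalizer (thompsonSubgroupOf 2 (S : Subgroup G) : Set G) ≤ M)
    (hT : T ∈ maxStraddlingTwoSubgroups M) :
    ∃ K₁ K₂ : Subgroup G, K₁ ≠ K₂ ∧ IsJComponent T K₁ ∧ IsJComponent T K₂ ∧
      pCoreOf 2 ((K₁ ⊔ T) ⊔ (K₂ ⊔ T)) = ⊥ ∧
      ∀ P ∈ [K₁ ⊔ T, K₂ ⊔ T],
        centralizer (pCoreOf 2 P : Set G) ≤ pCoreOf 2 P ∧ IsSylowTwoIn T P ∧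
        (pCoreOf 2 P).relIndex P = 6 ∧ ¬ ⁅P, P⁆ ≤ pCoreOf 2 P ∧ ⁅omegaCenterOf T, P⁆ ≠ ⊥ ∧
        ∃ L : Subgroup G, IsMaximalTwoLocal L ∧ P ≤ L ∧ IsSylowTwoIn T L ∧
          ∀ L' : Subgroup G, IsMaximalTwoLocal L' → P ≤ L' → L' = L := by
  obtain ⟨K₁, K₂, L₁, L₂, v₁, v₂, o₁, o₂, hne⟩ := exists_pair hG hO S hMJ hT
  have hspec : ∀ {K L : Subgroup G} {v : G}, OutComp T K L v →
      centralizer (pCoreOf 2 (K ⊔ T) : Set G) ≤ pCoreOf 2 (K ⊔ T) ∧ IsSylowTwoIn T (K ⊔ T) ∧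
      (pCoreOf 2 (K ⊔ T)).relIndex (K ⊔ T) = 6 ∧ ¬ ⁅K ⊔ T, K ⊔ T⁆ ≤ pCoreOf 2 (K ⊔ T) ∧
      ⁅omegaCenterOf T, K ⊔ T⁆ ≠ ⊥ ∧
        ∃ L : Subgroup G, IsMaximalTwoLocal L ∧ K ⊔ T ≤ L ∧ IsSylowTwoIn T L ∧
          ∀ L' : Subgroup G, IsMaximalTwoLocal L' → K ⊔ T ≤ L' → L' = L := by
    intro K L v o
    exact ⟨by rw [o.core_sup]; exact o.centralizer_coreT, sylowTwo_iff.2 o.sylow_sup,
      o.relIndex_core_sup, o.commutator_not_le, o.omega_commutator_ne_bot, L, o.max, o.sup_le,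
      o.set.ovg.1, fun L' h hle => o.unique L' h
        ((sup_le_sup_left (Thompson.thompsonSubgroupOf_le T) K).trans hle)⟩
  refine ⟨K₁, K₂, fun e => hne ?_, o₁.comp, o₂.comp, o₁.core_pair_eq_bot o₂ hne, ?_⟩
  · subst e
    exact o₂.unique L₁ o₁.max o₁.sup_j_le
  · intro P hP
    simp only [List.mem_cons, List.not_mem_nil, or_false] at hP
    rcases hP with rfl | rfl
    · exact hspec o₁
    · exact hspec o₂

theorem two_sym_four (hG : Hyp G) (hO : pCore 2 G = ⊥) (S : Sylow 2 G)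
    (hMJ : normalizer (thompsonSubgroupOf 2 (S : Subgroup G) : Set G) ≤ M)
    (hT : T ∈ maxStraddlingTwoSubgroups M) :
    ∃ P₁ P₂ : Subgroup G, P₁ ≠ P₂ ∧ IsMaximalTwoLocal P₁ ∧ IsMaximalTwoLocal P₂ ∧
      IsSylowTwoIn T P₁ ∧ IsSylowTwoIn T P₂ ∧
      ((Nonempty (↥P₁ ≃* Equiv.Perm (Fin 4)) ∧ Nonempty (↥P₂ ≃* Equiv.Perm (Fin 4))) ∨
        (Nonempty (↥P₁ ≃* Equiv.Perm (Fin 4) × Multiplicative (ZMod 2)) ∧
          Nonempty (↥P₂ ≃* Equiv.Perm (Fin 4) × Multiplicative (ZMod 2)))) := by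
  obtain ⟨K₁, K₂, L₁, L₂, v₁, v₂, o₁, o₂, hne⟩ := exists_pair hG hO S hMJ hT
  refine ⟨L₁, L₂, hne, o₁.max, o₂.max, o₁.set.ovg.1, o₂.set.ovg.1, ?_⟩
  rcases o₁.iso_symFour o₂ hG hne with ⟨h, e⟩ | ⟨h, e⟩ <;>
    rcases o₂.iso_symFour o₁ hG hne.symm with ⟨h', e'⟩ | ⟨h', e'⟩
  · exact Or.inl ⟨e, e'⟩
  · omega
  · omega
  · exact Or.inr ⟨e, e'⟩

end CfsgLib.JComp
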