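import Cfsg.Prelude.Def_SylowChains
import Cfsg.Agent.Transfer.Alperin
import Cfsg.Agent.LocalB.Embedded

/-! Control of Sylow intersections by a family of subgroups, in the form of a reachability relation. -/

set_option autoImplicit false
set_option linter.unusedVariables false
set_option linter.unusedSectionVars false
set_option linter.deprecated false

namespace CfsgLib.LocalB.SylowControl

open Subgroup CfsgLib.LocalB

variable {G : Type*} [Group G] [Finite G] {p : ℕ} [hp : Fact p.Prime]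
  {𝓕 : Set (Subgroup G)} {D : Subgroup G}

theorem mem_conjRight {X : Subgroup G} {g x : G} :
    x ∈ Cfsg.subgroupConjRight g X ↔ g * x * g⁻¹ ∈ X := by
  rw [Cfsg.subgroupConjRight, mem_map_conj, inv_inv]

theorem conjRight_sylow (g : G) (S : Sylow p G) :
    Cfsg.subgroupConjRight g (S : Subgroup G) = ((g⁻¹ • S : Sylow p G) : Subgroup G) := rfl

theorem mem_smul_sylow {S : Sylow p G} {g x : G} :
    x ∈ ((g • S : Sylow p G) : Subgroup G) ↔ g⁻¹ * x * g ∈ (S : Subgroup G) := mem_map_conj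

theorem mem_sylowMembers_iff {A X : Subgroup G} (hA : IsPGroup p A) :
    X ∈ Cfsg.sylowMembers p 𝓕 A ↔ X ∈ 𝓕 ∧ ¬ p ∣ (A ⊓ X).relIndex X := by
  refine and_congr_right fun _ => ⟨?_, fun h => ?_⟩
  · rintro ⟨P, hP⟩
    rw [← hP, relIndex, subgroupOf, comap_map_eq_self_of_injective X.subtype_injective]
    exact P.not_dvd_index
  · exact ⟨((hA.to_le inf_le_left).comap_subtype (K := X)).toSylow h,
      map_subgroupOf_eq_of_le inf_le_right⟩

theorem mem_sylowMembers_of_le {A : Sylow p G} {X : Subgroup G} (hX : X ∈ 𝓕)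
    (hle : (A : Subgroup G) ≤ X) : X ∈ Cfsg.sylowMembers p 𝓕 (A : Subgroup G) := by
  rw [mem_sylowMembers_iff A.isPGroup', inf_eq_left.2 hle]
  exact ⟨hX, fun h => A.not_dvd_index (h.trans (relIndex_dvd_index_of_le hle))⟩

theorem sylowMembers_conj (h𝓕 : Cfsg.IsNormalSet 𝓕) {A : Sylow p G} {X : Subgroup G}
    (hX : X ∈ Cfsg.sylowMembers p 𝓕 (A : Subgroup G)) (g : G) :
    Cfsg.subgroupConjRight g X ∈ Cfsg.sylowMembers p 𝓕 ((g⁻¹ • A : Sylow p G) : Subgroup G) := by
  rw [mem_sylowMembers_iff A.isPGroup'] at hX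
  rw [mem_sylowMembers_iff (g⁻¹ • A : Sylow p G).isPGroup', ← conjRight_sylow]
  refine ⟨h𝓕 X hX.1 g, ?_⟩
  rw [Cfsg.subgroupConjRight, Cfsg.subgroupConjRight,
    ← map_inf _ _ _ (MulAut.conj g⁻¹).injective,
    relIndex_map_map_of_injective _ _ (MulAut.conj g⁻¹).injective]
  exact hX.2

/-- Two Sylow subgroups containing `D` linked by an element of a member of the family containing `D`. -/
def Link (p : ℕ) (𝓕 : Set (Subgroup G)) (D : Subgroup G) (A B : Sylow p G) : Prop :=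
  ∃ X, X ∈ Cfsg.sylowMembers p 𝓕 (A : Subgroup G) ∧ X ∈ Cfsg.sylowMembers p 𝓕 (B : Subgroup G) ∧
    (∃ x ∈ X, Cfsg.subgroupConjRight x (B : Subgroup G) = (A : Subgroup G)) ∧
    D ≤ (A : Subgroup G) ∧ D ≤ (B : Subgroup G) ∧ D ≤ X

theorem Link.symm {A B : Sylow p G} (h : Link p 𝓕 D A B) : Link p 𝓕 D B A := by
  obtain ⟨X, hA, hB, ⟨x, hx, hxe⟩, h1, h2, h3⟩ := h
  refine ⟨X, hB, hA, ⟨x⁻¹, inv_mem hx, ?_⟩, h2, h1, h3⟩
  ext u
  rw [mem_conjRight, ← hxe, mem_conjRight]
  simp [mul_assoc]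

theorem Link.mono {A B : Sylow p G} (h : Link p 𝓕 D A B) {E : Subgroup G} (hE : E ≤ D) :
    Link p 𝓕 E A B := by
  obtain ⟨X, hA, hB, hx, h1, h2, h3⟩ := h
  exact ⟨X, hA, hB, hx, hE.trans h1, hE.trans h2, hE.trans h3⟩

theorem sim_mono {A B : Sylow p G} (h : Relation.ReflTransGen (Link p 𝓕 D) A B) {E : Subgroup G}
    (hE : E ≤ D) : Relation.ReflTransGen (Link p 𝓕 E) A B := by
  induction h with
  | refl => exact .refl
  | tail _ hl ih => exact ih.tail (hl.mono hE)

theorem sim_symm {A B : Sylow p G} (h : Relation.ReflTransGen (Link p 𝓕 D) A B) :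
    Relation.ReflTransGen (Link p 𝓕 D) B A := by
  induction h with
  | refl => exact .refl
  | tail _ hl ih => exact .head hl.symm ih

theorem Link.conj (h𝓕 : Cfsg.IsNormalSet 𝓕) {A B : Sylow p G} (h : Link p 𝓕 D A B) (g : G) :
    Link p 𝓕 (Cfsg.subgroupConjRight g D) (g⁻¹ • A) (g⁻¹ • B) := by
  obtain ⟨X, hA, hB, ⟨x, hx, hxe⟩, h1, h2, h3⟩ := h
  refine ⟨_, sylowMembers_conj h𝓕 hA g, sylowMembers_conj h𝓕 hB g,
    ⟨g⁻¹ * x * g, by rw [mem_conjRight]; simpa [mul_assoc] using hx, ?_⟩,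
    map_mono h1, map_mono h2, map_mono h3⟩
  ext u
  rw [← conjRight_sylow, ← conjRight_sylow, mem_conjRight, mem_conjRight, mem_conjRight, ← hxe,
    mem_conjRight]
  simp [mul_assoc]

theorem exists_chain {S U : Sylow p G} (h : Relation.ReflTransGen (Link p 𝓕 D) S U) :
    ∃ (n : ℕ) (c : Fin (n + 1) → Sylow p G) (X : Fin n → Subgroup G) (x : Fin n → G),
      c 0 = S ∧ c (Fin.last n) = U ∧
      ∀ i : Fin n,
        X i ∈ Cfsg.sylowMembers p 𝓕 (c i.castSucc : Subgroup G) ∧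
        X i ∈ Cfsg.sylowMembers p 𝓕 (c i.succ : Subgroup G) ∧
        x i ∈ X i ∧ Cfsg.subgroupConjRight (x i) (c i.succ : Subgroup G) = (c i.castSucc : Subgroup G) ∧
        D ≤ (c i.succ : Subgroup G) ⊓ X i := by
  induction h with
  | refl => exact ⟨0, fun _ => S, Fin.elim0, Fin.elim0, rfl, rfl, fun i => i.elim0⟩
  | @tail b c' _ hl ih =>
    obtain ⟨n, c, X, x, h0, hlast, hi⟩ := ih
    obtain ⟨Y, hY1, hY2, ⟨y, hy, hye⟩, -, hD2, hD3⟩ := hl
    refine ⟨n + 1, Fin.snoc c c', Fin.snoc X Y, Fin.snoc x y, ?_, Fin.snoc_last _ _, fun i => ?_⟩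
    · rw [show (0 : Fin (n + 1 + 1)) = Fin.castSucc 0 from rfl, Fin.snoc_castSucc, h0]
    refine Fin.lastCases ?_ (fun j => ?_) i
    · rw [Fin.succ_last]
      simp only [Fin.snoc_last, Fin.snoc_castSucc, hlast]
      exact ⟨hY1, hY2, hy, hye, le_inf hD2 hD3⟩
    · rw [← Fin.castSucc_succ]
      simp only [Fin.snoc_castSucc]
      exact hi j

theorem controls_of (h : ∀ S T : Sylow p G, S ≠ T → (S : Subgroup G) ⊓ (T : Subgroup G) ≠ ⊥ →
      Relation.ReflTransGen (Link p 𝓕 ((S : Subgroup G) ⊓ (T : Subgroup G))) S T) :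
    Cfsg.ControlsSylowIntersections p 𝓕 := fun S T hne hbot => exists_chain (h S T hne hbot)

theorem link_of_controls (h : Cfsg.ControlsSylowIntersections p 𝓕) {S T : Sylow p G}
    (hS : D ≤ (S : Subgroup G)) (hT : D ≤ (T : Subgroup G)) (hD : D ≠ ⊥) :
    Relation.ReflTransGen (Link p 𝓕 D) S T := by
  by_cases hST : S = T
  · subst hST; exact .refl
  obtain ⟨n, c, X, x, h0, hlast, hi⟩ :=
    h S T hST fun e => hD (le_bot_iff.1 (e ▸ le_inf hS hT))
  have hle : ∀ i, D ≤ (c i : Subgroup G) := by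
    intro i
    refine Fin.cases ?_ (fun j => ?_) i
    · rw [h0]; exact hS
    · exact (le_inf hS hT).trans ((hi j).2.2.2.2.trans inf_le_left)
  have hchain : ∀ i, Relation.ReflTransGen (Link p 𝓕 D) S (c i) := by
    intro i
    induction i using Fin.induction with
    | zero => rw [h0]
    | succ j ih =>
      obtain ⟨h1, h2, h3, h4, h5⟩ := hi j
      exact ih.tail ⟨X j, h1, h2, ⟨x j, h3, h4⟩, hle _, hle _,
        (le_inf hS hT).trans (h5.trans inf_le_right)⟩
  exact hlast ▸ hchain (Fin.last n)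

variable {f : Subgroup G → Set (Subgroup G)}

/-- The family of normalizers of the functor values is conjugation invariant. -/
theorem isNormalSet_functorFamily (hf : Cfsg.IsNormalizerFunctor p f) :
    Cfsg.IsNormalSet (Cfsg.functorFamily p f ⊤) := by
  rintro X ⟨P, F, hF, rfl⟩ g
  obtain ⟨P', hP'⟩ : ∃ P' : Sylow p (⊤ : Subgroup G), (P' : Subgroup (⊤ : Subgroup G)).map
      (⊤ : Subgroup G).subtype = ((P : Subgroup (⊤ : Subgroup G)).map
        (⊤ : Subgroup G).subtype).map (MulAut.conj g⁻¹).toMonoidHom := by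
    refine ⟨(⟨g⁻¹, trivial⟩ : (⊤ : Subgroup G)) • P, ?_⟩
    ext u
    constructor
    · rintro ⟨_, ⟨v, hv, rfl⟩, rfl⟩; exact ⟨v, ⟨v, hv, rfl⟩, rfl⟩
    · rintro ⟨_, ⟨v, hv, rfl⟩, rfl⟩; exact ⟨_, ⟨v, hv, rfl⟩, rfl⟩
  refine ⟨P', F.map (MulAut.conj g⁻¹).toMonoidHom, ?_, ?_⟩
  · rw [hP', (hf _ (P.isPGroup'.map _)).2 g⁻¹]
    exact ⟨F, hF, rfl⟩
  · rw [top_inf_eq, top_inf_eq]
    exact map_equiv_normalizer_eq F (MulAut.conj g⁻¹)

theorem exists_sylow_of_map {M : Subgroup G} (P : Sylow p M) :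
    ∃ P' : Sylow p G, (P : Subgroup M).map M.subtype ≤ (P' : Subgroup G) :=
  (P.isPGroup'.map _).exists_le_sylow

/-- One step inside a regular subgroup `M`, seen in `G`. -/
def Step (p : ℕ) (f : Subgroup G → Set (Subgroup G)) (M D a b : Subgroup G) : Prop :=
  ∃ (P : Sylow p M), ∃ F ∈ f ((P : Subgroup M).map M.subtype),
    D ≤ a ∧ D ≤ b ∧ a ≤ normalizer (F : Set G) ∧ b ≤ normalizer (F : Set G) ∧
      ∃ x ∈ M ⊓ normalizer (F : Set G), Cfsg.subgroupConjRight x b = a

theorem card_sylow_map {M : Subgroup G} (A B : Sylow p M) :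
    Nat.card ((A : Subgroup M).map M.subtype) = Nat.card ((B : Subgroup M).map M.subtype) := by
  rw [card_map_of_injective M.subtype_injective, card_map_of_injective M.subtype_injective,
    A.card_eq_multiplicity, B.card_eq_multiplicity]

theorem steps_of_regular {M : Subgroup G} (hf : Cfsg.IsNormalizerFunctor p f)
    (hr : Cfsg.IsFunctorRegular p f M) (hD : D ≠ ⊥) {A B : Sylow p M}
    (hA : D ≤ (A : Subgroup M).map M.subtype) (hB : D ≤ (B : Subgroup M).map M.subtype) :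
    Relation.ReflTransGen
      (fun a b : Sylow p M => Step p f M D ((a : Subgroup M).map M.subtype) ((b : Subgroup M).map M.subtype))
      A B := by
  have hDM : D ≤ M := hA.trans (map_subtype_le _)
  have hA' : D.subgroupOf M ≤ (A : Subgroup M) := fun u hu => by
    obtain ⟨v, hv, hve⟩ := hA hu
    rwa [← Subtype.ext hve]
  have hB' : D.subgroupOf M ≤ (B : Subgroup M) := fun u hu => by
    obtain ⟨v, hv, hve⟩ := hB hu
    rwa [← Subtype.ext hve]
  have hD' : D.subgroupOf M ≠ ⊥ := fun e => hD (by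
    rw [← map_subgroupOf_eq_of_le hDM, e, Subgroup.map_bot])
  have hl0 := link_of_controls hr hA' hB' hD'
  clear hB hB'
  induction hl0 with
  | refl => exact .refl
  | @tail a b _ hl ih =>
  refine ih.tail ?_
  obtain ⟨X, hXa, hXb, ⟨x, hx, hxe⟩, hDa, hDb, -⟩ := hl
  obtain ⟨⟨_, ⟨P, F, hF, rfl⟩, rfl⟩, Pa, hPa⟩ := hXa
  obtain ⟨-, Pb, hPb⟩ := hXb
  simp only at hPa hPb Pa Pb hx
  set X' := M ⊓ normalizer (F : Set G)
  have hPX : (P : Subgroup M).map M.subtype ≤ X' :=
    le_inf (map_subtype_le _) (le_normalizer.trans ((hf _ (P.isPGroup'.map _)).1 F hF).2)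
  have key : ∀ (c : Sylow p M) (Pc : Sylow p ↥(X'.subgroupOf M)),
      (Pc : Subgroup ↥(X'.subgroupOf M)).map (X'.subgroupOf M).subtype = (c : Subgroup M) ⊓ X'.subgroupOf M →
      (c : Subgroup M).map M.subtype ≤ normalizer (F : Set G) := by
    intro c Pc hPc
    have hPle : (P : Subgroup M) ≤ X'.subgroupOf M := fun u hu => hPX ⟨u, hu, rfl⟩
    have hcard : Nat.card (c : Subgroup M) ≤ Nat.card ↥((c : Subgroup M) ⊓ X'.subgroupOf M) := by
      rw [← hPc, card_map_of_injective (subtype_injective _), c.card_eq_multiplicity,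
        ← P.card_eq_multiplicity, Pc.card_eq_multiplicity, ← (P.subtype hPle).card_eq_multiplicity]
      refine le_of_eq (Nat.card_congr (Subgroup.subgroupOfEquivOfLe hPle).toEquiv).symm
    have h2 : (c : Subgroup M) ⊓ X'.subgroupOf M = c := eq_of_le_of_card_ge inf_le_left hcard
    rintro _ ⟨u, hu, rfl⟩
    rw [← h2] at hu
    exact hu.2.2
  refine ⟨P, F, hF, ?_, ?_, key a _ hPa, key b _ hPb, (x : G), hx, ?_⟩
  · intro u hu; exact ⟨⟨u, hDM hu⟩, hDa hu, rfl⟩
  · intro u hu; exact ⟨⟨u, hDM hu⟩, hDb hu, rfl⟩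
  · rw [← hxe]
    ext u
    rw [mem_conjRight]
    constructor
    · rintro ⟨v, hv, hve⟩
      refine ⟨x⁻¹ * v * x, ?_, ?_⟩
      · rw [SetLike.mem_coe, mem_conjRight]; rw [show (x : M) * (x⁻¹ * v * x) * x⁻¹ = v by group]; exact hv
      · have : (v : G) = (x : G) * u * (x : G)⁻¹ := hve
        simp [this, mul_assoc]
    · rintro ⟨v, hv, rfl⟩
      exact ⟨x * v * x⁻¹, mem_conjRight.1 hv, by simp⟩

theorem sim_conj (h𝓕 : Cfsg.IsNormalSet 𝓕) {A B : Sylow p G}
    (h : Relation.ReflTransGen (Link p 𝓕 D) A B) (g : G) :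
    Relation.ReflTransGen (Link p 𝓕 (Cfsg.subgroupConjRight g D)) (g⁻¹ • A) (g⁻¹ • B) := by
  induction h with
  | refl => exact .refl
  | tail _ hl ih => exact ih.tail (hl.conj h𝓕 g)

/-- A Sylow subgroup of a subgroup of `p'`-index is a Sylow subgroup of the group. -/
theorem exists_lift {M : Subgroup G} {S : Sylow p G} (hS : (S : Subgroup G) ≤ M) (A : Sylow p M) :
    ∃ A' : Sylow p G, (A' : Subgroup G) = (A : Subgroup M).map M.subtype := by
  obtain ⟨m, hm⟩ := MulAction.exists_smul_eq M (S.subtype hS) A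
  refine ⟨(m : G) • S, ?_⟩
  rw [← hm]
  ext u
  constructor
  · intro hu
    have hu' : u ∈ M := by
      have := mul_mem (mul_mem m.2 (hS (mem_smul_sylow.1 hu))) (inv_mem m.2)
      simpa [mul_assoc] using this
    exact ⟨⟨u, hu'⟩, ⟨⟨(m : G)⁻¹ * u * m, hS (mem_smul_sylow.1 hu)⟩, mem_smul_sylow.1 hu,
      Subtype.ext (by simp [mul_assoc])⟩, rfl⟩
  · rintro ⟨_, ⟨v, hv, rfl⟩, rfl⟩
    exact mem_smul_sylow.2 (by simpa [mul_assoc, Subgroup.mem_subgroupOf] using hv)

theorem mem_functorFamily_top {M : Subgroup G} (P : Sylow p M) {S : Sylow p G}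
    (hS : (S : Subgroup G) = (P : Subgroup M).map M.subtype) {F : Subgroup G}
    (hF : F ∈ f ((P : Subgroup M).map M.subtype)) :
    normalizer (F : Set G) ∈ Cfsg.functorFamily p f ⊤ := by
  refine ⟨S.subtype le_top, F, ?_, by rw [top_inf_eq]⟩
  rw [show ((S.subtype le_top : Sylow p (⊤ : Subgroup G)) : Subgroup (⊤ : Subgroup G)).map
    (⊤ : Subgroup G).subtype = (S : Subgroup G) from map_subgroupOf_eq_of_le le_top, hS]
  exact hF

theorem link_of_step {M : Subgroup G} {S A B : Sylow p G} (hS : (S : Subgroup G) ≤ M)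
    (hsub : Cfsg.functorFamily p f ⊤ ⊆ 𝓕)
    (h : Step p f M D (A : Subgroup G) (B : Subgroup G)) : Link p 𝓕 D A B := by
  obtain ⟨P, F, hF, hDa, hDb, hA, hB, x, hx, hxe⟩ := h
  obtain ⟨P', hP'⟩ := exists_lift hS P
  have hX := hsub (mem_functorFamily_top P hP' hF)
  exact ⟨_, mem_sylowMembers_of_le hX hA, mem_sylowMembers_of_le hX hB, ⟨x, hx.2, hxe⟩, hDa, hDb,
    hDa.trans hA⟩

/-- Two Sylow subgroups of `G` in a regular subgroup are joined through any common subgroup. -/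
theorem sim_of_regular (hf : Cfsg.IsNormalizerFunctor p f) {M : Subgroup G}
    (hr : Cfsg.IsFunctorRegular p f M) (hsub : Cfsg.functorFamily p f ⊤ ⊆ 𝓕) {A B : Sylow p G}
    (hA : (A : Subgroup G) ≤ M) (hB : (B : Subgroup G) ≤ M) (hDA : D ≤ (A : Subgroup G))
    (hDB : D ≤ (B : Subgroup G)) (hD : D ≠ ⊥) : Relation.ReflTransGen (Link p 𝓕 D) A B := by
  have e : ∀ C : Sylow p G, ∀ hC : (C : Subgroup G) ≤ M,
      ((C.subtype hC : Sylow p M) : Subgroup M).map M.subtype = (C : Subgroup G) :=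
    fun C hC => map_subgroupOf_eq_of_le hC
  have hsteps := steps_of_regular (D := D) hf hr hD (A := A.subtype hA) (B := B.subtype hB)
    (by rw [e]; exact hDA) (by rw [e]; exact hDB)
  suffices h : ∀ b : Sylow p M, Relation.ReflTransGen (fun a b : Sylow p M =>
      Step p f M D ((a : Subgroup M).map M.subtype) ((b : Subgroup M).map M.subtype)) (A.subtype hA) b →
      ∀ b' : Sylow p G, (b' : Subgroup G) = (b : Subgroup M).map M.subtype →
        Relation.ReflTransGen (Link p 𝓕 D) A b' from h _ hsteps B (e B hB).symm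
  intro b hb
  induction hb with
  | refl =>
    intro b' hb'
    rw [e] at hb'
    rw [Sylow.ext hb']
  | @tail a b _ hl ih =>
    intro b' hb'
    obtain ⟨a', ha'⟩ := exists_lift hA a
    exact (ih a' ha').tail (link_of_step hA hsub (by rw [ha', hb']; exact hl))

end CfsgLib.LocalB.SylowControl
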