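import Cfsg.Agent.LocalB.CharP
import Cfsg.Agent.Comp.Layer

/-! `F*(H) = O_p(H)` if and only if `C_H(O_p(H)) ≤ O_p(H)`. -/

set_option autoImplicit false

namespace CfsgLib.LocalB

variable {H : Type*} [Group H] [Finite H] {p : ℕ} [Fact p.Prime]

/-- A group of characteristic p has no component. -/
theorem no_component_of_charP (hH : Subgroup.centralizer (Cfsg.pCore p H : Set H) ≤ Cfsg.pCore p H)
    {L : Subgroup H} (hL : Cfsg.IsComponent L) : False := by
  have h1 : L ≤ Subgroup.centralizer (Cfsg.fittingSubgroup H : Set H) :=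
    CfsgLib.Comp.component_le_centralizer_fitting hL
  have h2 : Subgroup.centralizer (Cfsg.fittingSubgroup H : Set H) ≤ Cfsg.pCore p H :=
    (Subgroup.centralizer_le (CfsgLib.Solvable.pCore_le_fittingSubgroup p)).trans hH
  have : Group.IsNilpotent (Cfsg.pCore p H) := (CfsgLib.Solvable.isPGroup_pCore p).isNilpotent
  exact CfsgLib.Comp.component_not_le_solvable hL (IsNilpotent.to_isSolvable) (h1.trans h2)

theorem layer_eq_bot_of_charP
    (hH : Subgroup.centralizer (Cfsg.pCore p H : Set H) ≤ Cfsg.pCore p H) : Cfsg.layer H = ⊥ :=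
  eq_bot_iff.mpr (sSup_le fun _ hL => (no_component_of_charP hH hL).elim)

theorem fstar_eq_pCore (hH : Subgroup.centralizer (Cfsg.pCore p H : Set H) ≤ Cfsg.pCore p H) :
    Cfsg.generalizedFittingSubgroup H = Cfsg.pCore p H := by
  refine le_antisymm (sup_le ?_ ?_)
    (le_sup_of_le_right (CfsgLib.Solvable.pCore_le_fittingSubgroup p))
  · rw [layer_eq_bot_of_charP hH]; exact bot_le
  · rw [CfsgLib.Solvable.fittingSubgroup_eq_iSup_pCore]
    refine iSup_le fun q => ?_
    have : Fact (q : ℕ).Prime := ⟨q.2⟩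
    by_cases hqp : (q : ℕ) = p
    · rw [hqp]
    intro x hx
    have hnp : (Cfsg.pCore p H).Normal := CfsgLib.Solvable.pCore_normal p
    have hnq : (Cfsg.pCore (q : ℕ) H).Normal := CfsgLib.Solvable.pCore_normal _
    refine hH (Subgroup.mem_centralizer_iff.mpr fun y hy => ?_)
    have hdis : Disjoint (Cfsg.pCore p H) (Cfsg.pCore (q : ℕ) H) :=
      IsPGroup.disjoint_of_ne p q (Ne.symm hqp) _ _ (CfsgLib.Solvable.isPGroup_pCore p)
        (CfsgLib.Solvable.isPGroup_pCore _)
    exact Subgroup.commute_of_normal_of_disjoint _ _ hnp hnq hdis y x hy hx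

theorem centralizer_le_of_fstar (hH : Cfsg.generalizedFittingSubgroup H = Cfsg.pCore p H) :
    Subgroup.centralizer (Cfsg.pCore p H : Set H) ≤ Cfsg.pCore p H := by
  have h := CfsgLib.Comp.centralizer_Fstar_le (G := H)
  rwa [hH] at h

end CfsgLib.LocalB
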