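import Cfsg.Agent.LocalB.BlockConj
import Cfsg.Agent.Kinf.Minimal

/-!
An element of small degree on the chief factors below `O_p` in a group with a block structure.
-/

set_option autoImplicit false
set_option linter.style.haveILetI false
set_option linter.unusedSectionVars false

namespace CfsgLib.CTheorem

open Subgroup CfsgLib.Functor CfsgLib.BlockModule CfsgLib.BlockBasic CfsgLib.BlockCore
  CfsgLib.BlockSection CfsgLib.BlockSL2 CfsgLib.BlockLinearSL CfsgLib.BlockLinear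
open scoped CfsgLib.Functor commutatorElement

universe u

variable {G : Type u} [Group G] [Finite G] {p : ℕ} [hp : Fact p.Prime]

theorem exists_pow_of_mem_zpowers {u g : G} (hg : g ∈ zpowers u) : ∃ i : ℕ, u ^ i = g :=
  ((isOfFinOrder_of_finite u).mem_powers_iff_mem_zpowers.2 hg)

/-- A linear element of `p`-power order is quadratic on a natural section. -/
theorem quad_layer {F : Type} [Field F] [Fintype F] {E A A₀ : Subgroup G} (S : Sec E A A₀ F)
    (hpF : (p : F) = 0) {u : G} {k : ℕ} (hu : u ^ p ^ k = 1) (hA : u ∈ normalizer (A : Set G))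
    (hA₀ : u ∈ normalizer (A₀ : Set G))
    (hlin : ∀ (c : F) v, S.act u (c • v) = c • S.act u v) :
    ⁅⁅A, zpowers u⁆, zpowers u⁆ ≤ A₀ := by
  set L := S.actHom hA hA₀
  have hL : ∀ v, L v = S.act u v := fun _ => rfl
  have hit : ∀ (i : ℕ) v, L^[i] v = S.act (u ^ i) v := by
    intro i
    induction i with
    | zero => intro v; rw [pow_zero, S.act_one]; rfl
    | succ i ih =>
      intro v
      rw [Function.iterate_succ_apply', ih, pow_succ',
        S.act_mul hA hA₀ (pow_mem hA i) (pow_mem hA₀ i)]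
      rfl
  have hsq := quadratic_of_iterate hpF L hlin (k := k) fun v => by rw [hit, hu, S.act_one]
  have hact : ∀ (i : ℕ) v, S.act (u ^ i) v = v + i • (L v - v) := by
    intro i
    induction i with
    | zero => intro v; rw [pow_zero, S.act_one, zero_smul, add_zero]
    | succ i ih =>
      intro v
      rw [← hit, Function.iterate_succ_apply', hit, ih, map_add, map_nsmul, hsq, succ_nsmul]
      abel
  let B : Subgroup G :=
    { carrier := {a | a ∈ A ∧ L (S.f a) = S.f a}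
      one_mem' := ⟨one_mem _, by rw [S.map_one, map_zero]⟩
      mul_mem' := fun {a b} ha hb => ⟨mul_mem ha.1 hb.1, by
        rw [S.map_mul _ ha.1 _ hb.1, map_add, ha.2, hb.2]⟩
      inv_mem' := fun {a} ha => ⟨inv_mem ha.1, by rw [S.map_inv ha.1, map_neg, ha.2]⟩ }
  have key : ∀ a ∈ A, ∀ g ∈ zpowers u, ∃ i : ℕ, ⁅a, g⁆ ∈ A ∧
      S.f ⁅a, g⁆ = -(i • (L (S.f a) - S.f a)) := by
    intro a ha g hg
    obtain ⟨i, rfl⟩ := exists_pow_of_mem_zpowers hg
    have hn : u ^ i * a⁻¹ * (u ^ i)⁻¹ ∈ A := (mem_normalizer_iff.1 (pow_mem hA i) _).1 (inv_mem ha)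
    have he : ⁅a, u ^ i⁆ = a * (u ^ i * a⁻¹ * (u ^ i)⁻¹) := by
      rw [commutatorElement_def]; group
    refine ⟨i, he ▸ mul_mem ha hn, ?_⟩
    rw [he, S.map_mul _ ha _ hn, ← S.act_apply (pow_mem hA i) (pow_mem hA₀ i) (inv_mem ha), hact,
      S.map_inv ha, map_neg]
    simp only [smul_sub, smul_neg, neg_sub]
    abel
  have h1 : ⁅A, zpowers u⁆ ≤ B := commutator_le.2 fun a ha g hg => by
    obtain ⟨i, hm, hf⟩ := key a ha g hg
    refine ⟨hm, ?_⟩
    rw [hf, map_neg, map_nsmul, hsq]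
  refine (commutator_mono h1 le_rfl).trans (commutator_le.2 fun a ha g hg => ?_)
  obtain ⟨i, hm, hf⟩ := key a ha.1 g hg
  rw [← S.zero _ hm, hf, ha.2, sub_self, smul_zero, neg_zero]

/-- A commutator of a join lies in what contains the commutators of the members. -/
theorem commutator_iSup_le {ι : Sort*} (A : ι → Subgroup G) (Z M : Subgroup G)
    (hn : ∀ i, A i ≤ normalizer (M : Set G)) (h : ∀ i, ⁅A i, Z⁆ ≤ M) : ⁅⨆ i, A i, Z⁆ ≤ M := by
  let D : Subgroup G :=
    { carrier := {x | x ∈ normalizer (M : Set G) ∧ ∀ g ∈ Z, ⁅x, g⁆ ∈ M}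
      one_mem' := ⟨one_mem _, fun g _ => by rw [commutatorElement_one_left]; exact one_mem _⟩
      mul_mem' := fun {a b} ha hb => ⟨mul_mem ha.1 hb.1, fun g hg => by
        rw [show ⁅a * b, g⁆ = a * ⁅b, g⁆ * a⁻¹ * ⁅a, g⁆ by simp only [commutatorElement_def]; group]
        exact mul_mem ((mem_normalizer_iff.1 ha.1 _).1 (hb.2 g hg)) (ha.2 g hg)⟩
      inv_mem' := fun {a} ha => ⟨inv_mem ha.1, fun g hg => by
        rw [show ⁅a⁻¹, g⁆ = a⁻¹ * ⁅a, g⁆⁻¹ * a⁻¹⁻¹ by simp only [commutatorElement_def]; group]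
        exact (mem_normalizer_iff.1 (inv_mem ha.1) _).1 (inv_mem (ha.2 g hg))⟩ }
  have hD : ⨆ i, A i ≤ D := iSup_le fun i x hx =>
    ⟨hn i hx, fun g hg => h i (commutator_mem_commutator hx hg)⟩
  exact commutator_le.2 fun x hx g hg => (hD hx).2 g hg

theorem le_normalizer_of_le_centralizer {A M : Subgroup G} (h : A ≤ centralizer (M : Set G)) :
    A ≤ normalizer (M : Set G) := h.trans (CfsgLib.FrakM.centralizer_le_normalizer _)

/-- Two steps of commutation on a join of commuting pieces. -/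
theorem double_commutator_iSup_le {ι : Type*} (A : ι → Subgroup G) (Z M : Subgroup G) [M.Normal]
    (hcomm : ∀ i j, i ≠ j → A i ≤ centralizer (A j : Set G))
    (hZ : ∀ i, ⁅A i, Z⁆ ≤ A i) (h : ∀ i, ⁅⁅A i, Z⁆, Z⁆ ≤ M) :
    ⁅⁅⨆ i, A i, Z⁆, Z⁆ ≤ M := by
  have h1 : ⁅⨆ i, A i, Z⁆ ≤ ⨆ i, ⁅A i, Z⁆ := by
    refine commutator_iSup_le A Z _ (fun i x hx => ?_) fun i => le_iSup (fun i => ⁅A i, Z⁆) i
    rw [mem_normalizer_iff_cj, Subgroup.map_iSup]
    refine iSup_congr fun j => mem_normalizer_iff_cj.1 ?_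
    by_cases hij : i = j
    · subst hij
      exact CfsgLib.Baumann.le_normalizer_commutator_left (A i) Z hx
    · exact CfsgLib.FrakM.centralizer_le_normalizer _
        (centralizer_le (hZ j) (hcomm i j hij hx))
  refine (commutator_mono h1 le_rfl).trans ?_
  exact commutator_iSup_le _ Z M (fun i => le_normalizer_of_normal) h

/-- Where a normal supplement of `T` centralizes, `T` centralizes. -/
theorem commutator_zpowers_le_of_central (T : Sylow p G) {N X W : Subgroup G} [N.Normal]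
    (hTN : (T : Subgroup G) ⊔ N = ⊤) (h : Cfsg.IsChiefFactor X W) (hXp : IsPGroup p X)
    (hN : ⁅X, N⁆ ≤ W) {u : G} (hu : u ∈ (T : Subgroup G)) : ⁅X, zpowers u⁆ ≤ W := by
  haveI := h.2.1
  haveI := h.2.2.1
  obtain ⟨w, hwX, hwW, hw⟩ := exists_fixed_mod T.2 hXp h.1.not_ge le_normalizer_of_normal
    le_normalizer_of_normal le_normalizer_of_normal
  set π := QuotientGroup.mk' W
  set K := (centralizer (((⊤ : Subgroup G).map π : Subgroup (G ⧸ W)) : Set (G ⧸ W))).comap π
  have hK : ∀ {x : G}, x ∈ X → (∀ t ∈ (T : Subgroup G), t * x * t⁻¹ * x⁻¹ ∈ W) → x ∈ K := by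
    intro x hx hxT
    refine mem_centralizer_iff.2 ?_
    rintro _ ⟨g, -, rfl⟩
    have hall : (⊤ : Subgroup G) ≤ (centralizer {π x}).comap π := by
      rw [← hTN]
      refine sup_le (fun t ht => ?_) fun n hn => ?_
      · refine mem_centralizer_singleton_iff.2 ?_
        rw [← map_mul, ← map_mul, ← mul_inv_eq_one, ← map_inv, ← map_mul]
        refine (QuotientGroup.eq_one_iff _).2 ?_
        simpa [mul_assoc] using hxT t ht
      · refine mem_centralizer_singleton_iff.2 ?_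
        refine (commutatorElement_eq_one_iff_mul_comm.1 ?_).symm
        rw [← map_commutatorElement]
        exact (QuotientGroup.eq_one_iff _).2 (hN (commutator_mem_commutator hx hn))
    exact mem_centralizer_singleton_iff.1 (hall (mem_top g))
  haveI : K.Normal := by
    haveI : ((⊤ : Subgroup G).map π).Normal :=
      (inferInstance : (⊤ : Subgroup G).Normal).map π (QuotientGroup.mk'_surjective W)
    exact inferInstance
  have hWK : W ≤ K := fun x hx => by
    show π x ∈ centralizer _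
    rw [show π x = 1 from (QuotientGroup.eq_one_iff x).2 hx]
    exact one_mem _
  have hXK : X ≤ K := by
    rcases h.2.2.2 (X ⊓ K) inferInstance (le_inf h.1.le hWK) inf_le_left with he | he
    · exact absurd (he.le ⟨hwX, hK hwX hw⟩) hwW
    · exact inf_eq_left.1 he
  refine commutator_le.2 fun x hx g _ => (QuotientGroup.eq_one_iff _).1 ?_
  show π ⁅x, g⁆ = 1
  rw [map_commutatorElement, commutatorElement_eq_one_iff_mul_comm]
  exact (mem_centralizer_iff.1 (hXK hx) (π g) (mem_map_of_mem π (mem_top g))).symm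

theorem double_le_of_sup {X W X' Z : Subgroup G} [W.Normal] (he : W ⊔ X' = X)
    (h : ⁅⁅X', Z⁆, Z⁆ ≤ W) : ⁅⁅X, Z⁆, Z⁆ ≤ W := by
  have hk : ∀ U : Subgroup G, U ≤ W ↔ U.map (QuotientGroup.mk' W) = ⊥ := fun U => by
    rw [Subgroup.map_eq_bot_iff, QuotientGroup.ker_mk']
  rw [hk, map_commutator, map_commutator] at h ⊢
  rwa [← he, Subgroup.map_sup, (hk W).1 le_rfl, bot_sup_eq]

theorem up_one_pow {F : Type} [Field F] (n : ℕ) : (up (1 : F) : SL F) ^ n = up (n : F) := by
  induction n with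
  | zero => refine Subtype.ext ?_; ext i j; fin_cases i <;> fin_cases j <;> simp [coe_up]
  | succ n ih =>
    rw [pow_succ, ih]
    refine Subtype.ext ?_
    ext i j
    fin_cases i <;> fin_cases j <;>
      simp [coe_up, Matrix.mul_apply, Fin.sum_univ_two, add_comm]

/-- A block sitting in a group with a block structure. -/
theorem exists_small {T : Sylow p G} {𝓑 : Set (Subgroup G)} (hp2 : p ≠ 2)
    (hB : Cfsg.HasBaumannBlockStructure p (T : Subgroup G) 𝓑) (hne : 𝓑.Nonempty)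
    (hcs : Cfsg.cStarOf p (T : Subgroup G) =
      (Cfsg.cStarOf p (T : Subgroup G) ⊓ sSup 𝓑) ⊔ (T : Subgroup G)) :
    ∃ u ∈ (T : Subgroup G), u ∉ Cfsg.pCore p G ∧ ∀ X W : Subgroup G, Cfsg.IsChiefFactor X W →
      X ≤ Cfsg.pCore p G → Cfsg.iterCommutator X (zpowers u) 2 ≤ W := by
  obtain ⟨hblk, hcl, hcomm, hgen, -, -, -⟩ := hB
  have hclg : ∀ E ∈ 𝓑, ∀ g : G, g ⋆ E ∈ 𝓑 := hcl
  have hcom : ∀ E ∈ 𝓑, ∀ E' ∈ 𝓑, E ≠ E' → E ≤ centralizer (E' : Set G) := fun E hE E' hE' hne' =>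
    Subgroup.commutator_eq_bot_iff_le_centralizer.1 (hcomm E hE E' hE' hne')
  -- equivariant joins
  have hnor : ∀ f : Subgroup G → Subgroup G, (∀ g E, g ⋆ f E = f (g ⋆ E)) →
      (⨆ E : 𝓑, f E).Normal := by
    intro f hf
    refine ⟨fun x hx g => ?_⟩
    have h1 : g ⋆ (⨆ E : 𝓑, f E) ≤ ⨆ E : 𝓑, f E := by
      rw [Subgroup.map_iSup]
      refine iSup_le fun E => ?_
      rw [hf]
      exact le_iSup (fun E : 𝓑 => f E) ⟨g ⋆ (E : Subgroup G), hclg E E.2 g⟩
    exact h1 (conj_mem_cj hx)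
  set R := ⨆ E : 𝓑, Cfsg.pCoreOf p (E : Subgroup G) with hR
  set R1 := ⨆ E : 𝓑, Wm p (E : Subgroup G) with hR1
  set R0 := ⨆ E : 𝓑, Zm p (E : Subgroup G) with hR0
  set N := sSup 𝓑 with hN
  have hcjW : ∀ g E, g ⋆ Wm p E = Wm p (g ⋆ E : Subgroup G) := fun g E => by
    rw [Wm, Wm, CfsgLib.Baumann.cj_omegaOneCenter, CfsgLib.BlockTransport.cj_pCoreOf]
  haveI hRn : R.Normal := hnor _ CfsgLib.BlockTransport.cj_pCoreOf
  haveI hR1n : R1.Normal := hnor _ hcjW
  haveI hR0n : R0.Normal := hnor _ fun g E => by rw [cj_inf, cj_centralizer, hcjW]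
  haveI hNn : N.Normal := by
    have := hnor id (fun g E => rfl)
    rw [hN, sSup_eq_iSup']
    exact this
  have hTN : (T : Subgroup G) ⊔ N = ⊤ := top_le_iff.1 (hgen.ge.trans
    (sup_le (hcs.le.trans (sup_le (inf_le_right.trans le_sup_right) le_sup_left)) le_sup_right))
  set U := Cfsg.pCore p G with hU
  haveI : U.Normal := CfsgLib.Solvable.pCore_normal p
  have hUE : ∀ E ∈ 𝓑, U ⊓ E ≤ Cfsg.pCoreOf p E := fun E hE => by
    refine CfsgLib.FrakM.le_pCoreOf inf_le_right
      ((CfsgLib.Solvable.isPGroup_pCore (G := G) p).to_le inf_le_left) fun x hx => ?_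
    rw [mem_normalizer_iff_cj, cj_inf, cj_eq_self_of_mem hx,
      mem_normalizer_iff_cj.1 (le_normalizer_of_normal (H := U) (mem_top x))]
  have hUN : ⁅U, N⁆ ≤ R := by
    rw [commutator_comm, hN, sSup_eq_iSup']
    refine commutator_iSup_le _ U R (fun _ => le_normalizer_of_normal) fun E => ?_
    exact commutator_le.2 fun e he o ho =>
      (le_iSup (fun E : 𝓑 => Cfsg.pCoreOf p (E : Subgroup G)) E)
        (comm_O_le (hblk E E.2) ho he)
  have hR0N : ⁅R0, N⁆ = ⊥ := by
    refine Subgroup.commutator_eq_bot_iff_le_centralizer.2 (iSup_le fun E => ?_)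
    rw [le_centralizer_iff, hN]
    refine sSup_le fun E' hE' => ?_
    by_cases he : E' = E
    · subst he
      exact le_centralizer_iff.2 inf_le_right
    · exact (hcom E' hE' E E.2 he).trans (centralizer_le (inf_le_left.trans
        ((W_le_Q (p := p) (E : Subgroup G)).trans (Q_le _))))
  -- linear data
  have hsec : ∀ E ∈ 𝓑, ∃ (F : Type) (_ : Field F) (_ : Fintype F), (p : F) = 0 ∧
      ∃ _ : Sec E (Wm p E) (Zm p E) F, Cfsg.pCoreOf p E = Wm p E ∨
        Nonempty (Sec E (Cfsg.pCoreOf p E) (Wm p E) F) := by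
    intro E hE
    rcases (hblk E hE).2.2.2.2 with ⟨F, iF, iFt, n, hcard, -, hW, hQ⟩ | ⟨h2, -⟩
    · obtain ⟨X⟩ := exists_ldata (hblk E hE) hcard hW
      refine ⟨F, iF, iFt, X.char, X.S, ?_⟩
      rcases hQ with hQ | ⟨-, hQ, -⟩
      · exact Or.inl hQ
      · exact Or.inr (exists_sec hQ)
    · exact absurd h2 hp2
  -- the element
  obtain ⟨u, huT, huU, huN, hlayer⟩ : ∃ u ∈ (T : Subgroup G), u ∉ U ∧
      (∀ E ∈ 𝓑, u ∈ normalizer (E : Set G)) ∧ ∀ E ∈ 𝓑, u ∈ centralizer (E : Set G) ∨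
        ∀ (F : Type) [Field F] [Fintype F], (p : F) = 0 → Sec E (Wm p E) (Zm p E) F →
          ∀ A A₀ : Subgroup G, ∀ S : Sec E A A₀ F, ∀ (c : F) (v : Fin 2 → F),
            u ∈ normalizer (A : Set G) → u ∈ normalizer (A₀ : Set G) →
            S.act u (c • v) = c • S.act u v := by
    by_cases hbig : ∃ E ∈ 𝓑, ∃ (F : Type) (_ : Field F) (_ : Fintype F), (p : F) = 0 ∧
        ∃ _ : Sec E (Wm p E) (Zm p E) F, ∃ t : F, t ≠ 0 ∧ t * t ≠ 1
    · obtain ⟨E, hE, F, iF, iFt, hpF, S, ht⟩ := hbig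
      obtain ⟨e, he⟩ := S.exists_pre (up 1) (up_mem_R ht 1)
      obtain ⟨k, m, hm, hkm⟩ :=
        Nat.exists_eq_pow_mul_and_not_dvd (orderOf_pos (e : G)).ne' p hp.out.ne_one
      set x : ↥E := e ^ m with hx
      have hxp : (x : G) ^ p ^ k = 1 := by
        rw [hx, SubgroupClass.coe_pow, ← pow_mul, mul_comm, ← hkm, pow_orderOf_eq_one]
      have hxU : (x : G) ∉ U := fun hc => by
        have hxQ := hUE E hE ⟨hc, x.2⟩
        have h1 := S.rho_eq_one x fun a ha => by
          rw [W_comm ha hxQ, mul_inv_cancel_right, mul_inv_cancel]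
          exact one_mem _
        rw [hx, map_pow, he] at h1
        rw [up_one_pow] at h1
        have h2 := congrFun (congrFun (congrArg Subtype.val h1) 0) 1
        simp [coe_up] at h2
        haveI : CharP F p := (CharP.charP_iff_prime_eq_zero hp.out).2 hpF
        exact hm ((CharP.cast_eq_zero_iff F p m).1 h2)
      obtain ⟨g, -, hg⟩ := (isSylowIn_top T).exists_cj_le (Q := zpowers (x : G))
        (IsPGroup.iff_orderOf.2 fun ⟨y, hy⟩ => by
          obtain ⟨i, rfl⟩ := exists_pow_of_mem_zpowers hy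
          obtain ⟨j, -, hj⟩ := (Nat.dvd_prime_pow hp.out).1
            (orderOf_dvd_of_pow_eq_one (x := (x : G) ^ i) (n := p ^ k) (by
              rw [← pow_mul, mul_comm, pow_mul, hxp, one_pow]))
          exact ⟨j, by rw [Subgroup.orderOf_mk]; exact hj⟩) le_top
      set u := g * (x : G) * g⁻¹
      have huE : u ∈ g ⋆ E := conj_mem_cj x.2
      refine ⟨u, hg (conj_mem_cj (mem_zpowers _)), fun hc => hxU ?_, fun E' hE' => ?_,
        fun E' hE' => ?_⟩
      · have := (inferInstance : U.Normal).conj_mem u hc g⁻¹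
        simpa [u, mul_assoc] using this
      · by_cases he' : g ⋆ E = E'
        · exact le_normalizer (he' ▸ huE)
        · exact CfsgLib.FrakM.centralizer_le_normalizer _ (hcom _ (hclg E hE g) E' hE' he' huE)
      · by_cases he' : g ⋆ E = E'
        · refine Or.inr fun F _ _ _ _ A A₀ S c v _ hA₀ => ?_
          rw [S.act_of_mem ⟨u, he' ▸ huE⟩ hA₀, S.act_of_mem ⟨u, he' ▸ huE⟩ hA₀, Matrix.mulVec_smul]
        · exact Or.inl (hcom _ (hclg E hE g) E' hE' he' huE)
    · push Not at hbig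
      obtain ⟨E₀, hE₀⟩ := hne
      have hBU : ¬ Cfsg.baumannSubgroupOf p (T : Subgroup G) ≤ U := fun hle => by
        have h1 : E₀ ≤ U :=
          (hblk E₀ hE₀).2.1.ge.trans ((commutator_mono le_rfl hle).trans (commutator_le_right E₀ U))
        have h2 : E₀ = ⊥ := by
          rw [eq_bot_iff, ← (facts_of_block (hblk E₀ hE₀)).res]
          refine CfsgLib.WeakFactor.pResidualOf_le fun x hx hco => ?_
          obtain ⟨k, hk⟩ := IsPGroup.iff_orderOf.1 (CfsgLib.Solvable.isPGroup_pCore (G := G) p)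
            ⟨x, h1 hx⟩
          rw [Subgroup.orderOf_mk] at hk
          rw [mem_bot, ← orderOf_eq_one_iff, ← Nat.coprime_self]
          nth_rw 2 [hk]
          exact hco.pow_right k
        refine (facts_of_block (hblk E₀ hE₀)).ne fun w hw => ?_
        rw [mem_bot.1 (h2.le (Q_le (p := p) E₀ (W_le_Q (p := p) E₀ hw)))]
        exact one_mem _
      obtain ⟨u, huB, huU⟩ := SetLike.not_le_iff_exists.1 hBU
      refine ⟨u, CfsgLib.Baumann.baumann_le _ huB, huU,
        fun E hE => B_le_normalizer_E (CfsgLib.Baumann.blk_of_isBaumannBlock (hblk E hE)) huB,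
        fun E hE => Or.inr fun F iF iFt hpF S₀ A A₀ S c v hA hA₀ => ?_⟩
      have hsmall : ¬ ∃ t : F, t ≠ 0 ∧ t * t ≠ 1 := fun ⟨t, h0, h1⟩ =>
        h1 (hbig E hE F iF iFt hpF S₀ t h0)
      have hadd := map_zero (S.actHom hA hA₀)
      rcases small_cases hsmall c with rfl | rfl | rfl
      · rw [zero_smul, zero_smul]; exact hadd
      · rw [one_smul, one_smul]
      · rw [neg_one_smul, neg_one_smul]
        exact map_neg (S.actHom hA hA₀) v
  -- the layers
  obtain ⟨k, hk⟩ := IsPGroup.iff_orderOf.1 T.2 ⟨u, huT⟩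
  rw [Subgroup.orderOf_mk] at hk
  have hup : u ^ p ^ k = 1 := hk ▸ pow_orderOf_eq_one u
  set Z := zpowers u with hZ
  have hnW : ∀ E ∈ 𝓑, u ∈ normalizer (Wm p E : Set G) := fun E hE =>
    CfsgLib.Baumann.le_normalizer_W E (huN E hE)
  have hZle : ∀ A : Subgroup G, u ∈ normalizer (A : Set G) → ⁅A, Z⁆ ≤ A := fun A hA =>
    commutator_le.2 fun a ha g hg => by
      have hgA : g ∈ normalizer (A : Set G) := zpowers_le.2 hA hg
      rw [commutatorElement_def, show a * g * a⁻¹ * g⁻¹ = a * (g * a⁻¹ * g⁻¹) by group]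
      exact mul_mem ha ((mem_normalizer_iff.1 hgA _).1 (inv_mem ha))
  have hblock : ∀ E ∈ 𝓑, ⁅⁅Wm p E, Z⁆, Z⁆ ≤ Zm p E ∧ ⁅⁅Cfsg.pCoreOf p E, Z⁆, Z⁆ ≤ Wm p E := by
    intro E hE
    rcases hlayer E hE with hc | hlin
    · have h0 : ∀ A : Subgroup G, A ≤ E → ⁅A, Z⁆ = ⊥ := fun A hA =>
        Subgroup.commutator_eq_bot_iff_le_centralizer.2 (hA.trans (le_centralizer_iff.1
          (zpowers_le.2 hc)))
      constructor
      · rw [h0 _ ((W_le_Q E).trans (Q_le E)), commutator_bot_left]; exact bot_le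
      · rw [h0 _ (Q_le E), commutator_bot_left]; exact bot_le
    · obtain ⟨F, iF, iFt, hpF, S, hQ⟩ := hsec E hE
      have hnZ := (facts_of_block (hblk E hE)).norm_Z (huN E hE)
      refine ⟨quad_layer S hpF hup (hnW E hE) hnZ fun c v =>
        hlin F hpF S _ _ S c v (hnW E hE) hnZ, ?_⟩
      rcases hQ with hQ | ⟨⟨S'⟩⟩
      · rw [hQ]
        exact (commutator_mono (hZle _ (hnW E hE)) le_rfl).trans (hZle _ (hnW E hE))
      · have hnQ : u ∈ normalizer (Cfsg.pCoreOf p E : Set G) :=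
          CfsgLib.FrakM.normalizer_le_normalizer_pCoreOf _ (huN E hE)
        exact quad_layer S' hpF hup hnQ (hnW E hE) fun c v =>
          hlin F hpF S _ _ S' c v hnQ (hnW E hE)
  have hcomA : ∀ (f : Subgroup G → Subgroup G), (∀ E, f E ≤ E) → ∀ i j : 𝓑, i ≠ j →
      f i ≤ centralizer (f j : Set G) := fun f hf i j hij =>
    ((hf _).trans (hcom i i.2 j j.2 fun he => hij (Subtype.ext he))).trans (centralizer_le (hf _))
  have hW1 : ⁅⁅R1, Z⁆, Z⁆ ≤ R0 := double_commutator_iSup_le _ Z R0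
    (hcomA _ fun E => (W_le_Q E).trans (Q_le E)) (fun E => hZle _ (hnW E E.2))
    fun E => (hblock E E.2).1.trans (le_iSup (fun E : 𝓑 => Zm p (E : Subgroup G)) E)
  have hQ1 : ⁅⁅R, Z⁆, Z⁆ ≤ R1 := double_commutator_iSup_le _ Z R1
    (hcomA _ fun E => Q_le E) (fun E => hZle _
      (CfsgLib.FrakM.normalizer_le_normalizer_pCoreOf _ (huN E E.2)))
    fun E => (hblock E E.2).2.trans (le_iSup (fun E : 𝓑 => Wm p (E : Subgroup G)) E)
  refine ⟨u, huT, huU, fun X W h hXU => ?_⟩
  haveI := h.2.1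
  haveI := h.2.2.1
  have hXp : IsPGroup p X := (CfsgLib.Solvable.isPGroup_pCore (G := G) p).to_le hXU
  show ⁅⁅X, Z⁆, Z⁆ ≤ W
  have hone : ⁅X, N⁆ ≤ W → ⁅⁅X, Z⁆, Z⁆ ≤ W := fun hN' =>
    (commutator_mono (commutator_zpowers_le_of_central T hTN h hXp hN' huT) le_rfl).trans
      (commutator_le_left W Z)
  have hXle : ∀ U' : Subgroup G, ⁅⁅X ⊓ U', Z⁆, Z⁆ ≤ X :=
    fun U' => (commutator_mono ((commutator_mono inf_le_left le_rfl).trans (commutator_le_left X Z))
      le_rfl).trans (commutator_le_left X Z)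
  by_cases hA : X ⊓ R ≤ W
  · exact hone ((le_inf (commutator_le_left X N) ((commutator_mono hXU le_rfl).trans hUN)).trans hA)
  by_cases hB : X ⊓ R0 ≤ W
  · by_cases hC : X ⊓ R1 ≤ W
    · exact double_le_of_sup (CfsgLib.Kinf.le_sup_of_normal_factor h inf_le_left hA)
        ((le_inf (hXle R) ((commutator_mono (commutator_mono inf_le_right le_rfl) le_rfl).trans hQ1)).trans hC)
    · exact double_le_of_sup (CfsgLib.Kinf.le_sup_of_normal_factor h inf_le_left hC)
        ((le_inf (hXle R1) ((commutator_mono (commutator_mono inf_le_right le_rfl) le_rfl).trans hW1)).trans hB)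
  · refine hone ?_
    rw [← CfsgLib.Kinf.le_sup_of_normal_factor h inf_le_left hB]
    set π := QuotientGroup.mk' W
    have hk : ∀ V : Subgroup G, V ≤ W ↔ V.map π = ⊥ := fun V => by
      rw [Subgroup.map_eq_bot_iff, QuotientGroup.ker_mk']
    rw [hk, map_commutator, Subgroup.map_sup, (hk W).1 le_rfl, bot_sup_eq, ← map_commutator,
      ← hk]
    exact (commutator_mono inf_le_right le_rfl).trans (hR0N.le.trans bot_le)

end CfsgLib.CTheorem
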