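import Cfsg.Agent.LocalB.IsolatedPMin
import Cfsg.Agent.CharP.PMinimal
import Cfsg.Agent.ZJ.ControlCore

/-!
Isolated `p`-minimal subgroups: generation by `p`-minimal overgroups of a Sylow subgroup, and
reduction to the configuration modulo the `p`-core.
-/

set_option autoImplicit false
set_option linter.style.haveILetI false

namespace CfsgLib.Isolated

open Subgroup

variable {G : Type*} [Group G] [Finite G] {p : ℕ} [Fact p.Prime]

/-- One Sylow subgroup suffices in the definition of `p`-minimality. -/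
theorem isPMinimal_of_one {X : Type*} [Group X] [Finite X] (S : Sylow p X) (hn : ¬ (S : Subgroup X).Normal)
    (hu : ∃! M : Subgroup X, IsCoatom M ∧ (S : Subgroup X) ≤ M) : Cfsg.IsPMinimal p X := by
  intro T
  obtain ⟨g, hg⟩ := MulAction.exists_smul_eq X S T
  set c := MulAut.conj g with hc
  have hmap : (T : Subgroup X) = (S : Subgroup X).map c.toMonoidHom := by rw [← hg]; rfl
  refine ⟨fun hT => hn ?_, ?_⟩
  · have e : (S : Subgroup X) = (T : Subgroup X).map c.symm.toMonoidHom := by
      rw [hmap, Subgroup.map_map]; ext x; simp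
    rw [e]
    exact hT.map _ c.symm.surjective
  · obtain ⟨M, ⟨hM, hSM⟩, hu⟩ := hu
    refine ⟨M.map c.toMonoidHom, ⟨(c.mapSubgroup.isCoatom_iff M).2 hM, hmap.trans_le (map_mono hSM)⟩,
      fun M' hM' => ?_⟩
    have h1 := hu (M'.map c.symm.toMonoidHom) ⟨(c.symm.mapSubgroup.isCoatom_iff M').2 hM'.1, ?_⟩
    · rw [← h1, Subgroup.map_map]; ext x; simp
    · refine le_trans (le_of_eq ?_) (map_mono (hmap.ge.trans hM'.2))
      rw [Subgroup.map_map]; ext x; simp

/-- Every overgroup of a Sylow subgroup is generated by the Sylow normalizer and `p`-minimal overgroups. -/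
theorem generated (S : Sylow p G) (n : ℕ) : ∀ X : Subgroup G, Nat.card X ≤ n → (S : Subgroup G) ≤ X →
    X ≤ (X ⊓ normalizer ((S : Subgroup G) : Set G)) ⊔
      ⨆ P' : {P' : Subgroup G // (S : Subgroup G) ≤ P' ∧ P' ≤ X ∧ Cfsg.IsPMinimal p ↥P'}, (P' : Subgroup G) := by
  induction n with
  | zero => intro X hX; have : 0 < Nat.card X := Nat.card_pos; omega
  | succ n ih =>
    intro X hX hSX
    by_cases hp : Cfsg.IsPMinimal p ↥X
    · exact le_trans (le_iSup (fun P' : {P' : Subgroup G // (S : Subgroup G) ≤ P' ∧ P' ≤ X ∧ Cfsg.IsPMinimal p ↥P'} =>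
        (P' : Subgroup G)) ⟨X, hSX, le_rfl, hp⟩) le_sup_right
    set S' := S.subtype hSX
    by_cases hn : (S' : Subgroup X).Normal
    · have h := (normal_subgroupOf_iff_le_normalizer hSX).1 hn
      exact (le_inf le_rfl h).trans le_sup_left
    -- two maximal subgroups
    obtain ⟨M₁, hM₁, hS₁⟩ : ∃ M : Subgroup X, IsCoatom M ∧ (S' : Subgroup X) ≤ M := by
      rcases eq_top_or_exists_le_coatom (S' : Subgroup X) with h | ⟨M, hM, hle⟩
      · exact absurd (h ▸ inferInstance : (S' : Subgroup X).Normal) hn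
      · exact ⟨M, hM, hle⟩
    obtain ⟨M₂, hM₂, hS₂, hne⟩ : ∃ M : Subgroup X, IsCoatom M ∧ (S' : Subgroup X) ≤ M ∧ M ≠ M₁ := by
      by_contra h
      push Not at h
      exact hp (isPMinimal_of_one S' hn ⟨M₁, ⟨hM₁, hS₁⟩, fun M hM => h M hM.1 hM.2⟩)
    have hsup : M₁ ⊔ M₂ = ⊤ := hM₁.2 _ (lt_of_le_of_ne le_sup_left fun h =>
      hne ((hM₂.le_iff.1 (h.ge.trans' le_sup_right)).resolve_left hM₁.1).symm)
    have step : ∀ M : Subgroup X, IsCoatom M → (S' : Subgroup X) ≤ M → M.map X.subtype ≤
        (X ⊓ normalizer ((S : Subgroup G) : Set G)) ⊔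
          ⨆ P' : {P' : Subgroup G // (S : Subgroup G) ≤ P' ∧ P' ≤ X ∧ Cfsg.IsPMinimal p ↥P'}, (P' : Subgroup G) := by
      intro M hM hSM
      have hSM' : (S : Subgroup G) ≤ M.map X.subtype := by
        have := map_mono (f := X.subtype) hSM
        rwa [Sylow.coe_subtype, map_subgroupOf_eq_of_le hSX] at this
      have hlt : Nat.card (M.map X.subtype) ≤ n := by
        rw [card_map_of_injective X.subtype_injective]
        have : Nat.card M < Nat.card X := lt_of_le_of_ne M.card_le_card_group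
          fun he => hM.1 (Subgroup.eq_top_of_card_eq M he)
        omega
      refine (ih _ hlt hSM').trans (sup_le ((inf_le_inf_right _ (map_subtype_le M)).trans le_sup_left) ?_)
      refine iSup_le fun P' => le_trans ?_ le_sup_right
      exact le_iSup (fun P'' : {P' : Subgroup G // (S : Subgroup G) ≤ P' ∧ P' ≤ X ∧ Cfsg.IsPMinimal p ↥P'} =>
        (P'' : Subgroup G)) ⟨P'.1, P'.2.1, P'.2.2.1.trans (map_subtype_le M), P'.2.2.2⟩
    have hX' : X = (M₁ ⊔ M₂).map X.subtype := by
      rw [hsup, ← MonoidHom.range_eq_map, range_subtype]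
    conv_lhs => rw [hX', Subgroup.map_sup]
    exact sup_le (step _ hM₁ hS₁) (step _ hM₂ hS₂)

/-- The hypotheses of the statements. -/
structure Data (S : Sylow p G) (P L Y : Subgroup G) : Prop where
  hSP : (S : Subgroup G) ≤ P
  hmin : Cfsg.IsPMinimal p ↥P
  hL : L = normalizer ((S : Subgroup G) : Set G) ⊔
    ⨆ P' : {P' : Subgroup G // (S : Subgroup G) ≤ P' ∧ Cfsg.IsPMinimal p ↥P' ∧ P' ≠ P}, (P' : Subgroup G)
  hiso : ¬ (Cfsg.pCore p ↥L).map L.subtype ≤ (Cfsg.pCore p ↥P).map P.subtype
  hY : Y = normalClosure (((Cfsg.pResidual p ↥P).map P.subtype : Subgroup G) : Set G)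

variable {S : Sylow p G} {P L Y : Subgroup G}

theorem Data.S_le_L (D : Data S P L Y) : (S : Subgroup G) ≤ L := by
  rw [D.hL]; exact Subgroup.le_normalizer.trans le_sup_left

theorem Data.gen (D : Data S P L Y) (X : Subgroup G) (hSX : (S : Subgroup G) ≤ X) :
    X ≤ (X ⊓ L) ⊔ (Cfsg.pResidual p ↥P).map P.subtype := by
  have hPS : P ≤ (S : Subgroup G) ⊔ (Cfsg.pResidual p ↥P).map P.subtype := by
    have h := congrArg (Subgroup.map P.subtype) (CharP.pResidual_sup_sylow (S.subtype D.hSP))
    rw [Subgroup.map_sup, Sylow.coe_subtype, map_subgroupOf_eq_of_le D.hSP, ← MonoidHom.range_eq_map,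
      range_subtype] at h
    rw [sup_comm]
    exact h.ge
  refine (generated S _ X le_rfl hSX).trans (sup_le (le_trans (inf_le_inf_left _ ?_) le_sup_left) (iSup_le ?_))
  · rw [D.hL]; exact le_sup_left
  · rintro ⟨P', h1, h2, h3⟩
    by_cases hP' : P' = P
    · subst hP'
      exact hPS.trans (sup_le ((le_inf hSX D.S_le_L).trans le_sup_left) le_sup_right)
    · refine le_trans (le_inf h2 ?_) le_sup_left
      rw [D.hL]
      exact le_trans (le_iSup (fun P'' : {P' : Subgroup G // (S : Subgroup G) ≤ P' ∧ Cfsg.IsPMinimal p ↥P' ∧ P' ≠ P} =>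
        (P'' : Subgroup G)) ⟨P', h1, h3, hP'⟩) le_sup_right

theorem Data.dich (D : Data S P L Y) (X : Subgroup G) (hSX : (S : Subgroup G) ≤ X) (hX : ¬ X ≤ L) : P ≤ X := by
  by_contra hP
  refine hX ((generated S _ X le_rfl hSX).trans (sup_le (inf_le_right.trans ?_) (iSup_le ?_)))
  · rw [D.hL]; exact le_sup_left
  · rintro ⟨P', h1, h2, h3⟩
    rw [D.hL]
    exact le_trans (le_iSup (fun P'' : {P' : Subgroup G // (S : Subgroup G) ≤ P' ∧ Cfsg.IsPMinimal p ↥P' ∧ P' ≠ P} =>
      (P'' : Subgroup G)) ⟨P', h1, h3, fun e => hP (e ▸ h2)⟩) le_sup_right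

theorem Data.res_sup (D : Data S P L Y) : (Cfsg.pResidual p ↥P).map P.subtype ⊔ (S : Subgroup G) = P := by
  have h := congrArg (Subgroup.map P.subtype) (CharP.pResidual_sup_sylow (S.subtype D.hSP))
  rwa [Subgroup.map_sup, Sylow.coe_subtype, map_subgroupOf_eq_of_le D.hSP, ← MonoidHom.range_eq_map,
    range_subtype] at h

/-- `O_p(L)`. -/
theorem Data.Q_le_S (D : Data S P L Y) : (Cfsg.pCore p ↥L).map L.subtype ≤ (S : Subgroup G) := by
  obtain ⟨R, hR⟩ := (⟨S.subtype D.S_le_L, rfl⟩ : ∃ R : Sylow p L, R = S.subtype D.S_le_L)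
  refine le_trans (map_mono (ZJ.pCore_le_sylow R)) ?_
  rw [hR, Sylow.coe_subtype, map_subgroupOf_eq_of_le D.S_le_L]

theorem Data.L_le_normalizer (_D : Data S P L Y) :
    L ≤ normalizer (((Cfsg.pCore p ↥L).map L.subtype : Subgroup G) : Set G) := by
  haveI := Solvable.pCore_normal p (G := ↥L)
  refine le_trans ?_ (le_normalizer_map L.subtype)
  rw [normalizer_eq_top, ← MonoidHom.range_eq_map, range_subtype]

theorem Data.res_not_le (D : Data S P L Y) : ¬ (Cfsg.pResidual p ↥P).map P.subtype ≤ L := by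
  intro h
  have hP : P ≤ L := D.res_sup.ge.trans (sup_le h D.S_le_L)
  apply D.hiso
  set Q := (Cfsg.pCore p ↥L).map L.subtype
  have hQP : Q ≤ P := D.Q_le_S.trans D.hSP
  rw [← map_subgroupOf_eq_of_le hQP]
  refine map_mono (Solvable.le_pCore p ?_ ?_)
  · exact (normal_subgroupOf_iff_le_normalizer hQP).2 (hP.trans D.L_le_normalizer)
  · exact (S.2.to_le D.Q_le_S).comap_of_injective P.subtype P.subtype_injective

theorem Data.res_le_closure (D : Data S P L Y) : (Cfsg.pResidual p ↥P).map P.subtype ≤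
    normalClosure (((Cfsg.pCore p ↥L).map L.subtype : Subgroup G) : Set G) := by
  set Q := (Cfsg.pCore p ↥L).map L.subtype
  set S' := S.subtype D.hSP
  obtain ⟨-, M, ⟨hM, hSM⟩, -⟩ := D.hmin S'
  have hO := PMin.over_of_isPMinimal D.hmin S' hM hSM
  set N := (normalClosure (Q : Set G)).subgroupOf P
  haveI : N.Normal := Normal.subgroupOf inferInstance P
  rcases PMin.pResidual_le_or_le_core hO N with h | h
  · exact (map_mono h).trans ((subgroupOf_map_subtype _ _).le.trans inf_le_left)
  · exfalso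
    apply D.hiso
    have h1 : Q.subgroupOf P ≤ Cfsg.pCore p ↥P := by
      refine le_trans (le_inf (fun x hx => subset_normalClosure hx : Q.subgroupOf P ≤ N) ?_)
        (PMin.normal_inf_le_pCore hO N (h.trans M.normalCore_le))
      rw [Sylow.coe_subtype]
      exact comap_mono D.Q_le_S
    have h2 := map_mono (f := P.subtype) h1
    rwa [map_subgroupOf_eq_of_le (D.Q_le_S.trans D.hSP)] at h2

theorem Data.strip (_D : Data S P L Y) {N : Subgroup G} (hN : (S : Subgroup G) ≤ normalizer (N : Set G))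
    (h : (Cfsg.pResidual p ↥P).map P.subtype ≤ N ⊔ (S : Subgroup G)) :
    (Cfsg.pResidual p ↥P).map P.subtype ≤ N := by
  rw [Cfsg.pResidual, MonoidHom.map_closure, closure_le]
  rintro _ ⟨x, hx, rfl⟩
  set W := N ⊔ (S : Subgroup G)
  have hxW : (x : G) ∈ W := h (mem_map_of_mem _ (subset_closure hx))
  have hNW : N ≤ W := le_sup_left
  haveI : (N.subgroupOf W).Normal := (normal_subgroupOf_iff_le_normalizer hNW).2 (sup_le Subgroup.le_normalizer hN)
  have hWtop : (N.subgroupOf W) ⊔ ((S : Subgroup G).subgroupOf W) = ⊤ := by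
    rw [← subgroupOf_sup le_sup_left le_sup_right, subgroupOf_self]
  have h2 := CharP.pResidual_le_of_sup_pGroup (N := N.subgroupOf W)
    (Y := (S : Subgroup G).subgroupOf W) (S.2.comap_of_injective W.subtype W.subtype_injective) (hWtop ▸ le_top)
  exact h2 (subset_closure (show Nat.Coprime (orderOf (⟨(x : G), hxW⟩ : W)) p by
    rw [← Subgroup.orderOf_coe]
    show Nat.Coprime (orderOf (x : G)) p
    rw [Subgroup.orderOf_coe]; exact hx))

theorem Data.Y_sup_L (D : Data S P L Y) : Y ⊔ L = ⊤ := by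
  refine top_le_iff.1 ((D.gen ⊤ le_top).trans (sup_le (inf_le_right.trans le_sup_right) ?_))
  rw [D.hY]
  exact subset_normalClosure.trans (fun x hx => mem_sup_left hx)

theorem pCore_quotient_eq_bot : Cfsg.pCore p (G ⧸ Cfsg.pCore p G) = ⊥ := by
  haveI := Solvable.pCore_normal p (G := G)
  set π := QuotientGroup.mk' (Cfsg.pCore p G)
  have h1 : ((Cfsg.pCore p (G ⧸ Cfsg.pCore p G)).comap π) ≤ Cfsg.pCore p G := by
    refine Solvable.le_pCore p ((Solvable.pCore_normal p).comap π) ?_
    refine (Solvable.isPGroup_pCore p).comap_of_ker_isPGroup π ?_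
    rw [QuotientGroup.ker_mk']
    exact Solvable.isPGroup_pCore p
  rw [← map_comap_eq_self_of_surjective (QuotientGroup.mk'_surjective _) (Cfsg.pCore p (G ⧸ Cfsg.pCore p G)),
    Subgroup.map_eq_bot_iff, QuotientGroup.ker_mk']
  exact h1

theorem Data.setting (D : Data S P L Y) [(Cfsg.pCore p G).Normal] :
    Setting (H := G ⧸ Cfsg.pCore p G) p ((S : Subgroup G).map (QuotientGroup.mk' (Cfsg.pCore p G)))
      (L.map (QuotientGroup.mk' (Cfsg.pCore p G)))
      (((Cfsg.pCore p ↥L).map L.subtype).map (QuotientGroup.mk' (Cfsg.pCore p G)))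
      (((Cfsg.pResidual p ↥P).map P.subtype).map (QuotientGroup.mk' (Cfsg.pCore p G)))
      (Y.map (QuotientGroup.mk' (Cfsg.pCore p G))) := by
  set O := Cfsg.pCore p G
  set π := QuotientGroup.mk' O with hπ
  have hπs := QuotientGroup.mk'_surjective O
  have hOS : O ≤ (S : Subgroup G) := ZJ.pCore_le_sylow S
  have hcm : ∀ X : Subgroup G, O ≤ X → (X.map π).comap π = X := fun X hX => by
    rw [comap_map_eq, QuotientGroup.ker_mk']; exact sup_eq_left.2 hX
  have hup : ∀ X, (S : Subgroup G).map π ≤ X → (S : Subgroup G) ≤ X.comap π := fun X h => map_le_iff_le_comap.1 h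
  constructor
  · exact S.2.map π
  · exact pCore_quotient_eq_bot
  · exact map_mono D.S_le_L
  · exact map_mono D.Q_le_S
  · exact (map_mono D.L_le_normalizer).trans (le_normalizer_map π)
  · intro h
    refine D.res_not_le ?_
    rw [← hcm L (hOS.trans D.S_le_L)]
    exact map_le_iff_le_comap.1 h
  · refine (map_mono ?_).trans (le_normalizer_map π)
    refine D.hSP.trans (le_trans ?_ (le_normalizer_map P.subtype))
    haveI := PResidual.pResidual_normal p (G := ↥P)
    rw [normalizer_eq_top, ← MonoidHom.range_eq_map, range_subtype]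
  · refine (map_mono D.res_le_closure).trans (le_of_eq ?_)
    rw [Subgroup.map_normalClosure _ π hπs, ← coe_map]
  · rw [D.hY, Subgroup.map_normalClosure _ π hπs, coe_map]
    rfl
  · rw [← Subgroup.map_sup, D.Y_sup_L, map_top_of_surjective π hπs]
  · intro X hX
    have h := map_mono (f := π) (D.gen _ (hup X hX))
    rw [map_comap_eq_self_of_surjective hπs, Subgroup.map_sup] at h
    refine h.trans (sup_le_sup_right ((map_inf_le _ _ π).trans ?_) _)
    rw [map_comap_eq_self_of_surjective hπs]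
  · intro X hX hXL
    refine le_trans (map_mono ?_) (map_comap_eq_self_of_surjective hπs X).le
    refine (map_subtype_le _).trans (D.dich _ (hup X hX) fun h => hXL ?_)
    rw [← map_comap_eq_self_of_surjective hπs X]
    exact map_mono h
  · intro N hN h
    refine le_trans (map_mono (D.strip (N := N.comap π) ?_ ?_)) (map_comap_eq_self_of_surjective hπs N).le
    · exact (map_le_iff_le_comap.1 hN).trans (le_normalizer_comap π)
    · refine (map_le_iff_le_comap.1 h).trans (le_of_eq ?_)
      conv_lhs => rw [← map_comap_eq_self_of_surjective hπs N]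
      rw [← Subgroup.map_sup, hcm _ (hOS.trans le_sup_right)]

/-- The preimage statement: if the image of `Y` equals that of the residual then so do the groups. -/
theorem Data.eq_of_map_eq (D : Data S P L Y) [(Cfsg.pCore p G).Normal]
    (h : Y.map (QuotientGroup.mk' (Cfsg.pCore p G)) =
      ((Cfsg.pResidual p ↥P).map P.subtype).map (QuotientGroup.mk' (Cfsg.pCore p G))) :
    (Cfsg.pResidual p ↥P).map P.subtype = Y := by
  have hYP : Y ≤ P := by
    refine (le_comap_map (QuotientGroup.mk' (Cfsg.pCore p G)) Y).trans ?_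
    rw [h, comap_map_eq, QuotientGroup.ker_mk']
    exact sup_le (map_subtype_le _) ((ZJ.pCore_le_sylow S).trans D.hSP)
  refine le_antisymm (by rw [D.hY]; exact subset_normalClosure) ?_
  haveI : Y.Normal := D.hY ▸ normalClosure_normal
  have hgen : Y = closure {g : G | g ∈ Y ∧ (orderOf g).Coprime p} := by
    refine le_antisymm ?_ ((closure_le _).2 fun g hg => hg.1)
    conv_lhs => rw [D.hY]
    rw [normalClosure, closure_le]
    intro x hx
    rw [Group.mem_conjugatesOfSet_iff] at hx
    obtain ⟨a, ha, hc⟩ := hx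
    obtain ⟨c, rfl⟩ := isConj_iff.1 hc
    obtain ⟨a', ha', rfl⟩ := ha
    clear hc
    induction ha' using closure_induction with
    | mem w hw =>
      refine subset_closure ⟨?_, ?_⟩
      · exact (inferInstance : Y.Normal).conj_mem _ (D.hY ▸ subset_normalClosure (mem_map_of_mem _ (subset_closure hw))) c
      · rw [show c * P.subtype w * c⁻¹ = MulAut.conj c (w : G) from rfl, MulEquiv.orderOf_eq, Subgroup.orderOf_coe]
        exact hw
    | one => simp
    | mul u v _ _ h1 h2 =>
      have := mul_mem h1 h2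
      simpa [mul_assoc] using this
    | inv u _ h1 =>
      have := inv_mem h1
      simpa [mul_assoc] using this
  rw [hgen, closure_le]
  intro g hg
  refine ⟨⟨g, hYP hg.1⟩, subset_closure ?_, rfl⟩
  show Nat.Coprime (orderOf (⟨g, hYP hg.1⟩ : P)) p
  rw [Subgroup.orderOf_mk]
  exact hg.2

/-- The `p`-core of a normal subgroup is its intersection with the `p`-core. -/
theorem pCore_eq_subgroupOf (Y : Subgroup G) [Y.Normal] : Cfsg.pCore p ↥Y = (Cfsg.pCore p G).subgroupOf Y := by
  haveI := Solvable.pCore_normal p (G := G)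
  refine le_antisymm ?_ (Solvable.le_pCore p inferInstance
    ((Solvable.isPGroup_pCore p).comap_of_injective Y.subtype Y.subtype_injective))
  exact map_le_iff_le_comap.1 (CharP.subnormal_pGroup_le_pCore
    ((Solvable.pCore_normal p).isSubnormal.trans' (inferInstance : Y.Normal).isSubnormal)
    ((Solvable.isPGroup_pCore p).map Y.subtype))

/-- `Y / O_p(Y)` is the image of `Y` modulo `O_p(G)`. -/
theorem exists_quotientEquiv (Y : Subgroup G) [Y.Normal] [(Cfsg.pCore p ↥Y).Normal] [(Cfsg.pCore p G).Normal] :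
    ∃ e : (↥Y ⧸ Cfsg.pCore p ↥Y) ≃* ↥(Y.map (QuotientGroup.mk' (Cfsg.pCore p G))),
      ∀ y : Y, (e (QuotientGroup.mk y) : G ⧸ Cfsg.pCore p G) = QuotientGroup.mk (y : G) := by
  set f := (QuotientGroup.mk' (Cfsg.pCore p G)).subgroupMap Y
  have hk : f.ker = Cfsg.pCore p ↥Y := by
    rw [pCore_eq_subgroupOf]
    ext y
    rw [MonoidHom.mem_ker, mem_subgroupOf, ← QuotientGroup.eq_one_iff, ← Subtype.coe_inj]
    rfl
  exact ⟨(QuotientGroup.quotientMulEquivOfEq hk.symm).trans
    (QuotientGroup.quotientKerEquivOfSurjective f ((QuotientGroup.mk' (Cfsg.pCore p G)).subgroupMap_surjective Y)),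
    fun y => rfl⟩

end CfsgLib.Isolated
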