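import Cfsg.Agent.LocalB.CTTools
import Cfsg.Agent.LocalB.CTTransfer
import Cfsg.Agent.LocalB.IsolatedPMinLift
import Cfsg.Agent.Kinf.Sections

/-!
The focal subgroup for odd primes from pushing up of minimal parabolic groups.
-/

set_option autoImplicit false
set_option linter.style.haveILetI false
set_option linter.unusedSectionVars false

namespace CfsgLib.CTheorem

open Subgroup CfsgLib.Functor CfsgLib.Kinf
open scoped CfsgLib.Functor commutatorElement

universe u

/-- The conclusion of pushing up of minimal parabolic groups, in universe `u`. -/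
def PushUp (p : ℕ) : Prop :=
  ∀ (G : Type u) [Group G] [Finite G], Cfsg.IsPMinimal p G →
    centralizer (Cfsg.pCore p G : Set G) ≤ Cfsg.pCore p G → ∀ T : Sylow p G,
    (∀ C : Subgroup G, C ≤ Cfsg.baumannSubgroupOf p (T : Subgroup G) → C ≠ ⊥ →
      (C.subgroupOf (Cfsg.baumannSubgroupOf p (T : Subgroup G))).Characteristic → ¬ C.Normal) →
    ¬ (Cfsg.omegaOneCenter p (T : Subgroup G)).Normal →
    ∃ 𝓑 : Set (Subgroup G), Cfsg.HasBaumannBlockStructure p (T : Subgroup G) 𝓑 ∧
      Cfsg.cStarOf p (T : Subgroup G) =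
        (Cfsg.cStarOf p (T : Subgroup G) ⊓ sSup 𝓑) ⊔ (T : Subgroup G)

open Classical in
/-- The functor realising a characteristic subgroup of a given group. -/
noncomputable def charFunctor {S : Type u} [Group S] (C : Subgroup S) :
    ∀ (Q : Type u) [Group Q], Subgroup Q :=
  fun Q _ => if h : Nonempty (S ≃* Q) then C.map h.some.toMonoidHom else ⊤

theorem charFunctor_isCharP (p : ℕ) {S : Type u} [Group S] {C : Subgroup S} (hC : C.Characteristic)
    (hne : C ≠ ⊥) : Cfsg.IsCharPFunctor.{u} p (charFunctor C) := by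
  refine ⟨fun Q _ _ _ _ => ?_, fun Q R _ _ _ _ φ => ?_⟩
  · unfold charFunctor
    split
    · rw [Ne, Subgroup.map_eq_bot_iff_of_injective _ (MulEquiv.injective _)]; exact hne
    · exact top_ne_bot
  · unfold charFunctor
    by_cases hQ : Nonempty (S ≃* Q)
    · have hR : Nonempty (S ≃* R) := ⟨hQ.some.trans φ⟩
      rw [dif_pos hQ, dif_pos hR]
      have hchar := characteristic_iff_map_eq.1 hC ((hQ.some.trans φ).trans hR.some.symm)
      conv_rhs => rw [← hchar]
      rw [Subgroup.map_map, Subgroup.map_map]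
      congr 1
      ext x
      simp
    · have hR : ¬ Nonempty (S ≃* R) := fun ⟨e⟩ => hQ ⟨e.trans φ.symm⟩
      rw [dif_neg hQ, dif_neg hR]
      exact map_top_of_surjective _ φ.surjective

theorem charFunctor_self {S : Type u} [Group S] {C : Subgroup S} (hC : C.Characteristic) :
    charFunctor C S = C := by
  unfold charFunctor
  rw [dif_pos ⟨MulEquiv.refl S⟩]
  exact characteristic_iff_map_eq.1 hC _

variable {G : Type u} [Group G] [Finite G] {p : ℕ} [Fact p.Prime]

theorem omegaOneCenter_char (S : Subgroup G) :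
    ((Cfsg.omegaOneCenter p S).subgroupOf S).Characteristic := by
  set Z := Cfsg.omegaOneCenter p (⊤ : Subgroup S) with hZ
  have hmap : Z.map S.subtype = Cfsg.omegaOneCenter p S := by
    rw [hZ, Cfsg.omegaOneCenter, Cfsg.omegaOneCenter, CfsgLib.Thompson.map_omegaOne _ S.subtype_injective,
      map_centralizer_inf _ S.subtype_injective, ← MonoidHom.range_eq_map, range_subtype]
  rw [← hmap, subgroupOf, comap_map_eq_self_of_injective S.subtype_injective]
  refine characteristic_iff_map_eq.2 fun φ => ?_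
  rw [hZ, Cfsg.omegaOneCenter, CfsgLib.Thompson.map_omegaOne _ φ.injective,
    map_centralizer_inf _ φ.injective, map_top_of_surjective _ φ.surjective]

theorem omegaOneCenter_le (S : Subgroup G) :
    Cfsg.omegaOneCenter p S ≤ S ⊓ centralizer (S : Set G) :=
  (closure_le _).2 fun _ hx => hx.1

theorem omegaOneCenter_ne_bot {S : Subgroup G} (hS : IsPGroup p S) (hne : S ≠ ⊥) :
    Cfsg.omegaOneCenter p S ≠ ⊥ := by
  haveI : Nontrivial S := (nontrivial_iff_ne_bot S).2 hne
  haveI := hS.center_nontrivial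
  obtain ⟨k, hk0, hk⟩ := (hS.to_subgroup (center S)).nontrivial_iff_card.1 inferInstance
  obtain ⟨x, hx⟩ := exists_prime_orderOf_dvd_card' (G := center S) p (hk ▸ dvd_pow_self p hk0.ne')
  have hx1 : ((x : S) : G) ≠ 1 := fun h => by
    have : x = 1 := Subtype.ext (Subtype.ext h)
    rw [this, orderOf_one] at hx
    exact (Fact.out : p.Prime).one_lt.ne hx
  intro h
  refine hx1 (mem_bot.1 (h ▸ (subset_closure ⟨⟨(x : S).2, ?_⟩, ?_⟩ :
    ((x : S) : G) ∈ Cfsg.omegaOneCenter p S)))
  · refine mem_centralizer_iff.2 fun y hy => ?_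
    exact congrArg Subtype.val (mem_center_iff.1 x.2 ⟨y, hy⟩)
  · rw [← SubgroupClass.coe_pow, ← SubgroupClass.coe_pow, ← hx, pow_orderOf_eq_one]; rfl

/-- The minimal case. -/
theorem controls_section (hp : p ≠ 2) (hpush : PushUp.{u} p)
    (hsub : ∀ K : Subgroup G, K ≠ ⊤ → Cfsg.FamilyControlsTransferIn p
      (family G {W | Cfsg.IsCharPFunctor.{u} p W}) K)
    (hquot : ∀ (N : Subgroup G) [N.Normal], N ≠ ⊥ → Cfsg.FamilyControlsTransferIn p
      (family (G ⧸ N) {W | Cfsg.IsCharPFunctor.{u} p W}) ⊤) :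
    Cfsg.FamilyControlsTransferIn p (family G {W | Cfsg.IsCharPFunctor.{u} p W}) ⊤ := by
  set 𝓦 : Set (∀ (Q : Type u) [Group Q], Subgroup Q) := {W | Cfsg.IsCharPFunctor.{u} p W}
  have h𝓦 : ∀ W ∈ 𝓦, Cfsg.IsCharPFunctor.{u} p W := fun _ h => h
  have hne : 𝓦.Nonempty := ⟨_, isCharPFunctor_top p⟩
  by_contra hG
  obtain ⟨T⟩ := (inferInstance : Nonempty (Sylow p G))
  obtain ⟨hC, ⟨hMtop, hmax⟩, -, -, hlast⟩ :=
    minimal_structure h𝓦 hne hsub hquot hG T _ _ _ rfl rfl rfl
  set M := normalizer ((transferGen (family G 𝓦) ⊤ (T : Subgroup G) ⊓ Cfsg.pCore p G : Subgroup G)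
    : Set G)
  have hN : ∀ W ∈ 𝓦, normalizer ((Cfsg.inducedFunctor (G := G) W (T : Subgroup G) : Subgroup G)
      : Set G) ≠ ⊤ := fun W hW he => hG (by
    refine (familyTransfer_iff (family_conjugacy h𝓦) (isSylowIn_top T)).2 ?_
    rw [transferGen_family]
    exact le_iSup₂_of_le W hW (by rw [he]))
  have hchar : ∀ C : Subgroup G, C ≤ T → C ≠ ⊥ → (C.subgroupOf (T : Subgroup G)).Characteristic →
      (T : Subgroup G) ≤ normalizer (C : Set G) ∧ normalizer (C : Set G) ≠ ⊤ := by
    intro C hCT hC1 hch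
    have hne' : C.subgroupOf (T : Subgroup G) ≠ ⊥ := fun h => hC1 (by
      rw [← map_subgroupOf_eq_of_le hCT, h, Subgroup.map_bot])
    have hW := charFunctor_isCharP p hch hne'
    have hind : Cfsg.inducedFunctor (G := G) (charFunctor (C.subgroupOf (T : Subgroup G)))
        (T : Subgroup G) = C := by
      rw [Cfsg.inducedFunctor, charFunctor_self hch, map_subgroupOf_eq_of_le hCT]
    refine ⟨?_, fun he => hN _ hW (by rw [hind, he])⟩
    have := le_normalizer.trans (normalizer_le_functor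
      (family_conjugacy h𝓦 _ ⟨_, hW, rfl⟩) T.2)
    simpa only [hind] using this
  have hTn : normalizer ((T : Subgroup G) : Set G) ≠ ⊤ := fun he => hN _ (isCharPFunctor_top p) (by
    rw [show Cfsg.inducedFunctor (G := G) (fun Q [Group Q] => (⊤ : Subgroup Q)) (T : Subgroup G) =
      (T : Subgroup G) by rw [Cfsg.inducedFunctor, ← MonoidHom.range_eq_map, range_subtype], he])
  have hT1 : (T : Subgroup G) ≠ ⊥ := fun h => hTn (by rw [h, normalizer_eq_top])
  have hmin : Cfsg.IsPMinimal p G := by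
    refine CfsgLib.Isolated.isPMinimal_of_one T (fun h => hTn (normalizer_eq_top_iff.2 h)) ?_
    have hTM : (T : Subgroup G) ≤ M := hmax _ le_rfl fun he => hTn (by rw [he, normalizer_eq_top])
    have hco : IsCoatom M := ⟨hMtop, fun H hH => by
      by_contra h
      exact hH.not_ge (hmax H (hTM.trans hH.le) h)⟩
    refine ⟨M, ⟨hco, hTM⟩, fun H ⟨hH, hTH⟩ => ?_⟩
    exact (hH.le_iff.1 (hmax H hTH hH.1)).resolve_left hMtop |>.symm
  have hz : ¬ (Cfsg.omegaOneCenter p (T : Subgroup G)).Normal := fun h =>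
    (hchar _ ((omegaOneCenter_le _).trans inf_le_left) (omegaOneCenter_ne_bot T.2 hT1)
      (omegaOneCenter_char _)).2 (normalizer_eq_top_iff.2 h)
  have hcB : ∀ C : Subgroup G, C ≤ Cfsg.baumannSubgroupOf p (T : Subgroup G) → C ≠ ⊥ →
      (C.subgroupOf (Cfsg.baumannSubgroupOf p (T : Subgroup G))).Characteristic →
      (T : Subgroup G) ≤ normalizer (C : Set G) ∧ normalizer (C : Set G) ≠ ⊤ := fun C hle hC1 hch =>
    hchar C (hle.trans (CfsgLib.Baumann.baumann_le _)) hC1 (characteristic_of_baumann hle hch)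
  obtain ⟨𝓑, hB, hcs⟩ := hpush G hmin hC T
    (fun C hle hC1 hch h => (hcB C hle hC1 hch).2 (normalizer_eq_top_iff.2 h)) hz
  have hsM : Cfsg.cStarOf p (T : Subgroup G) ≤ M := by
    refine sup_le (hmax _ (le_centralizer_iff.1 ((omegaOneCenter_le _).trans inf_le_right))
      fun he => hz ?_) (iSup_le fun C => ?_)
    · exact normalizer_eq_top_iff.1 (top_le_iff.1 (he.ge.trans
        (CfsgLib.FrakM.centralizer_le_normalizer _)))
    · obtain ⟨h1, h2⟩ := hcB C C.2.1 C.2.2.1 C.2.2.2
      exact hmax _ h1 h2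
  have hBne : 𝓑.Nonempty := by
    by_contra h
    rw [Set.not_nonempty_iff_eq_empty] at h
    refine hMtop (top_le_iff.1 ?_)
    rw [← hB.2.2.2.1, h, sSup_empty, sup_bot_eq]
    exact hsM
  obtain ⟨u, huT, huU, hu⟩ := exists_small hp hB hBne hcs
  obtain ⟨X, W, hXW, hXU, hnot⟩ := hlast u huT huU
  haveI := hXW.2.1
  have h2 : 2 ≤ p - 1 := by have := (Fact.out : p.Prime).two_le; omega
  exact hnot ((iterCommutator_antitone (U := X) (zpowers u) h2).trans (hu X W hXW hXU))

/-- For odd primes the normalizers of the characteristic subgroups give the focal subgroup. -/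
theorem focal_le_of_pushUp (hp : p ≠ 2) (hpush : PushUp.{u} p) (S : Sylow p G)
    (hS : (S : Subgroup G) ≠ ⊥) :
    (S : Subgroup G) ⊓ commutator G ≤
      ⨆ K : {K : Subgroup ↥(S : Subgroup G) // K ≠ ⊥ ∧ K.Characteristic}, (S : Subgroup G) ⊓
        ⁅normalizer ((((K : Subgroup ↥(S : Subgroup G))).map (S : Subgroup G).subtype
            : Subgroup G) : Set G),
          normalizer ((((K : Subgroup ↥(S : Subgroup G))).map (S : Subgroup G).subtype
            : Subgroup G) : Set G)⁆ := by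
  set 𝓦 : Set (∀ (Q : Type u) [Group Q], Subgroup Q) := {W | Cfsg.IsCharPFunctor.{u} p W}
  have h𝓦 : ∀ W ∈ 𝓦, Cfsg.IsCharPFunctor.{u} p W := fun _ h => h
  have h := transfer_of_bot_section h𝓦 ⊤ (controls_of_minimal h𝓦
    (fun K R _ hsub hquot => controls_section (G := ↥K ⧸ R.subgroupOf K) hp hpush hsub hquot) (⊤ : Subgroup G) ⊥)
  refine le_trans (le_of_eq (by rw [_root_.commutator_def]))
    (le_trans ((familyTransfer_iff (family_conjugacy h𝓦) (isSylowIn_top S)).1 h) ?_)
  rw [transferGen_family]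
  refine iSup₂_le fun W hW => ?_
  haveI : Nontrivial ↥(S : Subgroup G) := (nontrivial_iff_ne_bot _).2 hS
  exact le_iSup_of_le ⟨W ↥(S : Subgroup G), (h𝓦 W hW).1 _ S.2 inferInstance,
    characteristic_iff_map_eq.2 fun φ => (h𝓦 W hW).2 _ _ S.2 φ⟩ le_rfl

end CfsgLib.CTheorem
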