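import Cfsg.Agent.LocalB.BaumannBlock
import Cfsg.Agent.PLocal.Thompson

/-!
The Baumann subgroup under injective homomorphisms, and its characteristic subgroups.
-/

set_option autoImplicit false
set_option linter.unusedSectionVars false

namespace CfsgLib.CTheorem

open Subgroup CfsgLib.Thompson

universe u v

variable {G : Type u} [Group G] {H : Type v} [Group H] {p : ℕ}

theorem maxIn_map_injective (f : H →* G) (hf : Function.Injective f) (U : Subgroup H) :
    maxIn p (U.map f) = Subgroup.map f '' maxIn p U := by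
  ext A
  constructor
  · rintro ⟨hAU, hA, hmax⟩
    obtain ⟨A₀, hA₀, rfl⟩ : ∃ A₀ ≤ U, A₀.map f = A := ⟨A.comap f ⊓ U, inf_le_right, by
      refine le_antisymm ((map_mono inf_le_left).trans (map_comap_le _ _)) fun a ha => ?_
      obtain ⟨u, hu, rfl⟩ := hAU ha
      exact mem_map_of_mem f ⟨ha, hu⟩⟩
    refine ⟨A₀, ⟨hA₀, ⟨⟨⟨fun x y => Subtype.ext (hf ?_)⟩⟩, fun a ha => hf ?_⟩, fun B hB hB' => ?_⟩,
      rfl⟩
    · rw [Subgroup.coe_mul, Subgroup.coe_mul, map_mul, map_mul]
      exact elab_commute hA (mem_map_of_mem f x.2) (mem_map_of_mem f y.2)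
    · rw [map_pow, map_one]
      exact hA.2 _ (mem_map_of_mem f ha)
    · rw [← card_map_of_injective (K := B) hf, ← card_map_of_injective (K := A₀) hf]
      exact hmax _ (map_mono hB) (elab_map f hB')
  · rintro ⟨A₀, ⟨hA₀, hA, hmax⟩, rfl⟩
    refine ⟨map_mono hA₀, elab_map f hA, fun B hB hB' => ?_⟩
    have e : (B.comap f).map f = B := map_comap_eq_self (hB.trans (f.range_eq_map ▸ map_mono le_top))
    rw [← e, card_map_of_injective hf, card_map_of_injective hf]
    refine hmax _ ((comap_mono hB).trans (comap_map_eq_self_of_injective hf U).le)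
      ⟨⟨⟨fun x y => Subtype.ext (hf ?_)⟩⟩, fun a ha => hf ?_⟩
    · rw [Subgroup.coe_mul, Subgroup.coe_mul, map_mul, map_mul]
      exact elab_commute hB' (mem_comap.1 x.2) (mem_comap.1 y.2)
    · rw [map_pow, map_one]
      exact hB'.2 _ (mem_comap.1 ha)

theorem map_centralizer_inf (f : H →* G) (hf : Function.Injective f) (U X : Subgroup H) :
    (U ⊓ centralizer (X : Set H)).map f = U.map f ⊓ centralizer (X.map f : Set G) := by
  ext y
  constructor
  · rintro ⟨x, ⟨hxU, hx⟩, rfl⟩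
    refine ⟨mem_map_of_mem f hxU, mem_centralizer_iff.2 ?_⟩
    rintro _ ⟨z, hz, rfl⟩
    rw [← map_mul, ← map_mul, mem_centralizer_iff.1 hx z hz]
  · rintro ⟨⟨x, hxU, rfl⟩, hy⟩
    refine ⟨x, ⟨hxU, mem_centralizer_iff.2 fun z hz => hf ?_⟩, rfl⟩
    rw [map_mul, map_mul]
    exact mem_centralizer_iff.1 hy _ (mem_map_of_mem f hz)

theorem map_thompsonOf {G H : Type u} [Group G] [Group H] (f : H →* G) (hf : Function.Injective f)
    (U : Subgroup H) :
    (Cfsg.thompsonSubgroupOf p U).map f = Cfsg.thompsonSubgroupOf p (U.map f) := by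
  rw [thompsonSubgroupOf_eq, thompsonSubgroupOf_eq, maxIn_map_injective f hf, sSup_image,
    sSup_eq_iSup, Subgroup.map_iSup]
  simp only [Subgroup.map_iSup]

theorem map_baumann {G H : Type u} [Group G] [Group H] (f : H →* G) (hf : Function.Injective f)
    (U : Subgroup H) :
    (Cfsg.baumannSubgroupOf p U).map f = Cfsg.baumannSubgroupOf p (U.map f) := by
  rw [Cfsg.baumannSubgroupOf, Cfsg.baumannSubgroupOf, Cfsg.centerThompsonOf, Cfsg.centerThompsonOf,
    map_centralizer_inf f hf, map_omegaOne f hf, map_centralizer_inf f hf, map_thompsonOf f hf]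

/-- A characteristic subgroup of `B(S)` is characteristic in `S`. -/
theorem characteristic_of_baumann {G : Type u} [Group G] {S C : Subgroup G}
    (hC : C ≤ Cfsg.baumannSubgroupOf p S)
    (hch : (C.subgroupOf (Cfsg.baumannSubgroupOf p S)).Characteristic) :
    (C.subgroupOf S).Characteristic := by
  set B := Cfsg.baumannSubgroupOf p S
  have hBS : B ≤ S := inf_le_left
  set B₀ := Cfsg.baumannSubgroupOf p (⊤ : Subgroup S) with hB₀
  have hB₀B : B₀.map S.subtype = B := by
    rw [hB₀, map_baumann _ S.subtype_injective, ← MonoidHom.range_eq_map, range_subtype]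
  refine characteristic_iff_map_le.2 fun φ => ?_
  have hφ : B₀.map φ.toMonoidHom = B₀ := by
    rw [hB₀, map_baumann _ φ.injective, map_top_of_surjective _ φ.surjective]
  have hmem : ∀ b : B, φ ⟨b, hBS b.2⟩ ∈ B₀ := fun b => by
    rw [← hφ]
    refine ⟨⟨b, hBS b.2⟩, ?_, rfl⟩
    obtain ⟨y, hy, hyb⟩ := hB₀B.ge b.2
    exact (Subtype.ext hyb : y = ⟨b, hBS b.2⟩) ▸ hy
  let ψ : B →* B :=
    { toFun := fun b => ⟨φ ⟨b, hBS b.2⟩, hB₀B.le (mem_map_of_mem _ (hmem b))⟩
      map_one' := Subtype.ext (by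
        show ((φ ⟨((1 : B) : G), _⟩ : S) : G) = 1
        rw [show (⟨((1 : B) : G), hBS (1 : B).2⟩ : S) = 1 from rfl, map_one]; rfl)
      map_mul' := fun a b => Subtype.ext (by
        show ((φ ⟨((a * b : B) : G), _⟩ : S) : G) = (φ ⟨a, _⟩ : S) * (φ ⟨b, _⟩ : S)
        rw [show (⟨((a * b : B) : G), hBS (a * b).2⟩ : S) = ⟨a, hBS a.2⟩ * ⟨b, hBS b.2⟩ from rfl,
          map_mul]; rfl) }
  have hbij : Function.Bijective ψ := by
    refine ⟨fun a b h => ?_, fun b => ?_⟩
    · have h1 : φ ⟨a, hBS a.2⟩ = φ ⟨b, hBS b.2⟩ := Subtype.ext (congrArg (fun x : B => (x : G)) h)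
      exact Subtype.ext (congrArg (fun x : S => (x : G)) (φ.injective h1))
    · obtain ⟨y, hy, hyb⟩ := hB₀B.ge b.2
      rw [← hφ] at hy
      obtain ⟨x, hx, rfl⟩ := hy
      refine ⟨⟨x, hB₀B.le (mem_map_of_mem _ hx)⟩, Subtype.ext ?_⟩
      exact hyb
  rintro _ ⟨c, hc, rfl⟩
  rw [SetLike.mem_coe, mem_subgroupOf] at hc
  have h1 := characteristic_iff_map_le.1 hch (MulEquiv.ofBijective ψ hbij)
    (mem_map_of_mem _ (show (⟨c, hC hc⟩ : B) ∈ C.subgroupOf B from hc))
  exact h1

end CfsgLib.CTheorem
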