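import Cfsg.Agent.ZJ.NormalPComplement
import Cfsg.Agent.ZJ.ZKinds
import Cfsg.Agent.S1250

/-!
The Glauberman–Thompson normal p-complement criterion for strongly closed subgroups.
-/

set_option autoImplicit false
set_option linter.style.haveILetI false

namespace CfsgLib.ClosedComplement

open Subgroup CfsgLib.Functor CfsgLib.ZJ
open scoped CfsgLib.Functor commutatorElement

universe u

variable {p : ℕ} [Fact p.Prime] {Z : ∀ (G : Type u) [Group G], Subgroup G → Subgroup G}

theorem stronglyClosed_map {G : Type*} [Group G] [Finite G] (S : Sylow p G) (A : Subgroup G)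
    (hA : Cfsg.IsStronglyClosed A (S : Subgroup G)) (N : Subgroup G) [N.Normal] :
    Cfsg.IsStronglyClosed (A.map (QuotientGroup.mk' N)) ((S : Subgroup G).map (QuotientGroup.mk' N)) :=
  Cfsg.Agent.S1250.result S A hA N

/-- The normal `p`-complement criterion. -/
theorem hasNormalPComplement (hp : p ≠ 2) (K : ZKind p Z) (G : Type u) [Group G] [Finite G]
    (P : Sylow p G) (D : Subgroup G) (hD : Cfsg.IsStronglyClosed D (P : Subgroup G)) (hD1 : D ≠ ⊥)
    (hN : Cfsg.HasNormalPComplement p (normalizer ((Z G D : Subgroup G) : Set G))) :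
    Cfsg.HasNormalPComplement p G := by
  obtain ⟨n, hn⟩ : ∃ n, Nat.card G = n := ⟨_, rfl⟩
  induction n using Nat.strong_induction_on generalizing G with
  | _ n ih =>
    subst hn
    by_contra hG
    have hPN : normalizer ((P : Subgroup G) : Set G) ≤ normalizer ((Z G D : Subgroup G) : Set G) :=
      (stronglyClosed_normalizer hD).trans (K.normalizer_le D)
    have hDP : (P : Subgroup G) ≤ normalizer (D : Set G) :=
      Subgroup.le_normalizer.trans (stronglyClosed_normalizer hD)
    -- a central element of `P` in `D`
    obtain ⟨z, hz, hz1, hzc⟩ : ∃ z, z ∈ D ∧ z ≠ 1 ∧ ∀ y ∈ (P : Subgroup G), y * z = z * y := by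
      haveI := P.2.isNilpotent
      have hDn : (D.subgroupOf (P : Subgroup G)).Normal := (normal_subgroupOf_iff_le_normalizer hD.1).2 hDP
      obtain ⟨z, hz, hz1⟩ := (bot_or_exists_ne_one _).resolve_left
        (PGroupBasic.inf_center_ne_bot (D.subgroupOf (P : Subgroup G)) (fun h => hD1 (by
          have := congrArg (Subgroup.map (P : Subgroup G).subtype) h
          rwa [map_subgroupOf_eq_of_le hD.1, Subgroup.map_bot] at this)))
      exact ⟨z, mem_subgroupOf.mp hz.1, fun h => hz1 (Subtype.ext h),
        fun y hy => congrArg Subtype.val (mem_center_iff.mp hz.2 ⟨y, hy⟩)⟩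
    -- the criterion in a proper subgroup
    have sub : ∀ (M : Subgroup G), M ≠ ⊤ → ∀ (R : Sylow p M),
        (R : Subgroup M).map M.subtype ≤ P → D ⊓ (R : Subgroup M).map M.subtype ≠ ⊥ →
        Cfsg.HasNormalPComplement p
          (normalizer ((Z G (D ⊓ (R : Subgroup M).map M.subtype) : Subgroup G) : Set G)) →
        Cfsg.HasNormalPComplement p M := by
      intro M hM R hRP h1 h
      set T := (R : Subgroup M).map M.subtype with hT
      have hR' : ∀ x : M, x ∈ (R : Subgroup M) ↔ (x : G) ∈ T := fun x =>
        ⟨fun h => mem_map_of_mem _ h, fun ⟨y, hy, hyx⟩ => Subtype.ext hyx ▸ hy⟩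
      have hle : D ⊓ T ≤ M := inf_le_right.trans (map_subtype_le _)
      refine ih _ (Solvable.card_lt_of_ne_top hM) M R ((D ⊓ T).subgroupOf M)
        ⟨fun x hx => (hR' x).mpr (mem_subgroupOf.mp hx).2, fun x hx m hm => ?_⟩ ?_ ?_ rfl
      · have h2 := (hR' _).mp hm
        exact mem_subgroupOf.mpr ⟨hD.2 _ (mem_subgroupOf.mp hx).1 m (hRP h2), h2⟩
      · intro h2
        apply h1
        rw [← map_subgroupOf_eq_of_le hle, h2, Subgroup.map_bot]
      · refine hnpc_subgroupMap _ (hnpc_of_le ?_ h)
        refine (le_normalizer_map M.subtype).trans ?_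
        rw [← K.map M G M.subtype _ M.subtype_injective, map_subgroupOf_eq_of_le hle]
    have hDP' : D ⊓ (P : Subgroup G) = D := inf_eq_left.mpr hD.1
    have supP : ∀ M : Subgroup G, M ≠ ⊤ → (P : Subgroup G) ≤ M →
        Cfsg.HasNormalPComplement p M := by
      intro M hM hPM
      refine sub M hM (P.subtype hPM) ?_ ?_ ?_ <;>
        rw [Sylow.coe_subtype, map_subgroupOf_eq_of_le hPM]
      · rwa [hDP']
      · rwa [hDP']
    -- a normal p-subgroup
    have hex : ∃ Q : Subgroup G, IsPGroup p Q ∧ Q ≠ ⊥ ∧
        ¬ Cfsg.HasNormalPComplement p (normalizer (Q : Set G)) := by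
      by_contra h
      exact hG (Fusion.hasNormalPComplement_iff_locals.mpr fun Q hQ hQ1 => by
        by_contra h'
        exact h ⟨Q, hQ, hQ1, h'⟩)
    obtain ⟨Q, ⟨hQ, hQ1, hQn⟩, hQmax⟩ := Set.exists_max_image
      {Q : Subgroup G | IsPGroup p Q ∧ Q ≠ ⊥ ∧
        ¬ Cfsg.HasNormalPComplement p (normalizer (Q : Set G))}
      (fun Q => (Nat.card (normalizer (Q : Set G))).factorization p) (Set.toFinite _) hex
    -- move the Sylow subgroup of the normalizer into `P`
    obtain ⟨R₀⟩ := (inferInstance : Nonempty (Sylow p (normalizer (Q : Set G))))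
    obtain ⟨S, hS⟩ := (R₀.2.map (normalizer (Q : Set G)).subtype).exists_le_sylow
    obtain ⟨g, hg⟩ := MulAction.exists_smul_eq G S P
    have hgS : g ⋆ (S : Subgroup G) = (P : Subgroup G) := by rw [← hg]; rfl
    set U := g ⋆ Q with hU
    set M := normalizer (U : Set G) with hMdef
    have hMeq : M = g ⋆ normalizer (Q : Set G) := by
      rw [hMdef, hU]
      exact (map_equiv_normalizer_eq Q (MulAut.conj g)).symm
    have hUp : IsPGroup p U := hQ.map _
    have hU1 : U ≠ ⊥ := fun h => hQ1 (by
      have := congrArg (fun X : Subgroup G => Nat.card X) h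
      simp only [hU, card_cj, card_bot] at this
      exact eq_bot_of_card_eq _ this)
    have hMn : ¬ Cfsg.HasNormalPComplement p M := fun h => hQn (PResidual.hasNormalPComplement_of_injective
      (((normalizer (Q : Set G)).equivMapOfInjective _ (MulAut.conj g).injective).toMonoidHom)
      (MulEquiv.injective _) (hMeq ▸ h))
    have hMcard : Nat.card M = Nat.card (normalizer (Q : Set G)) := by rw [hMeq, card_cj]
    set T := g ⋆ (R₀ : Subgroup (normalizer (Q : Set G))).map (normalizer (Q : Set G)).subtype with hTdef
    have hTM : T ≤ M := hMeq ▸ cj_mono g (map_subtype_le _)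
    have hTP : T ≤ P := hgS ▸ cj_mono g hS
    have hTp : IsPGroup p T := P.2.to_le hTP
    have hTcard : Nat.card T = p ^ (Nat.card M).factorization p := by
      rw [hTdef, card_cj, card_map_of_injective (subtype_injective _), R₀.card_eq_multiplicity, hMcard]
    have hTMcard : Nat.card (T.subgroupOf M) = p ^ (Nat.card M).factorization p := by
      rw [Nat.card_congr (subgroupOfEquivOfLe hTM).toEquiv, hTcard]
    let R : Sylow p M := Sylow.ofCard (T.subgroupOf M) hTMcard
    have hR : (R : Subgroup M).map M.subtype = T := by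
      show (T.subgroupOf M).map M.subtype = T
      exact map_subgroupOf_eq_of_le hTM
    have hUT : U ≤ T := by
      have hUM : (U.subgroupOf M).Normal := normal_in_normalizer
      have h2 : U.subgroupOf M ≤ (R : Subgroup M) :=
        (Solvable.le_pCore p hUM (hUp.comap_of_injective M.subtype M.subtype_injective)).trans
          (pCore_le_sylow R)
      rw [← hR, ← map_subgroupOf_eq_of_le (H := U) (K := M) Subgroup.le_normalizer]
      exact map_mono h2
    have hzT : z ∈ T := by
      have hzM : z ∈ M := by
        rw [hMdef, mem_normalizer_iff]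
        intro x
        have hfix : ∀ y ∈ U, z * y * z⁻¹ = y := fun y hy => by
          rw [← hzc y (hTP (hUT hy)), mul_inv_cancel_right]
        refine ⟨fun hx => by rwa [hfix x hx], fun hx => ?_⟩
        have h2 := hfix _ hx
        rwa [show x = z⁻¹ * (z * x * z⁻¹) * z by group, ← h2, show z⁻¹ * (z * (z * x * z⁻¹) * z⁻¹) * z = z * x * z⁻¹ by group]
      have h3 : ∃ w ∈ (R : Subgroup M), (w : G) = z := by
        have hpg : IsPGroup p ((zpowers (⟨z, hzM⟩ : M)) ⊔ (R : Subgroup M) : Subgroup M) := by
          refine IsPGroup.to_le (P.2.comap_of_injective M.subtype M.subtype_injective) (sup_le ?_ ?_)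
          · exact zpowers_le.mpr (hD.1 hz)
          · rw [← map_le_iff_le_comap, hR]
            exact hTP
        exact ⟨⟨z, hzM⟩, (R.3 hpg le_sup_right).le (le_sup_left (b := (R : Subgroup M)) (mem_zpowers _)), rfl⟩
      obtain ⟨w, hw, rfl⟩ := h3
      exact hR ▸ mem_map_of_mem _ hw
    have hDT : D ⊓ T ≠ ⊥ := fun h => hz1 (mem_bot.mp (h ▸ ⟨hz, hzT⟩))
    have hTS' : T = P := by
      by_contra hne
      have hlt : T.subgroupOf (P : Subgroup G) < ⊤ := by
        refine lt_top_iff_ne_top.mpr fun h => hne ?_
        exact le_antisymm hTP (subgroupOf_eq_top.mp h)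
      haveI := P.2.isNilpotent
      have hlt' := Group.normalizerCondition_of_isNilpotent (T.subgroupOf (P : Subgroup G)) hlt
      set V := (normalizer ((T.subgroupOf (P : Subgroup G) : Subgroup _) : Set (P : Subgroup G))).map
          (P : Subgroup G).subtype with hV
      have hVT : V ≤ normalizer (T : Set G) := by
        rw [hV]
        simpa [map_subgroupOf_eq_of_le hTP] using
          (le_normalizer_map (P : Subgroup G).subtype (H := T.subgroupOf (P : Subgroup G)))
      have hVD : V ≤ normalizer ((D ⊓ T : Subgroup G) : Set G) := fun v hv => by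
        rw [mem_normalizer_iff]
        intro x
        exact and_congr (mem_normalizer_iff.mp (hDP (map_subtype_le _ hv)) x)
          (mem_normalizer_iff.mp (hVT hv) x)
      obtain ⟨m, hm⟩ := (P.2.to_le (map_subtype_le _) : IsPGroup p V).exists_card_eq
      have hTV : Nat.card T < Nat.card V := by
        have h0 := Solvable.card_lt_of_lt hlt'
        rw [Nat.card_congr (subgroupOfEquivOfLe hTP).toEquiv] at h0
        refine lt_of_lt_of_eq h0 ?_
        exact Nat.card_congr (equivMapOfInjective _ _ (subtype_injective _)).toEquiv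
      rw [hTcard, hm] at hTV
      have h1 : p ^ ((Nat.card M).factorization p + 1) ∣
          Nat.card (normalizer ((Z G (D ⊓ T) : Subgroup G) : Set G)) :=
        (pow_dvd_pow p ((Nat.pow_lt_pow_iff_right (Fact.out : p.Prime).one_lt).mp hTV)).trans
          (hm ▸ card_dvd_of_le (hVD.trans (K.normalizer_le _)))
      have hMtop : M ≠ ⊤ := fun htop => hne (Solvable.eq_of_le_of_card_le hTP (by
        rw [hTcard, P.card_eq_multiplicity, htop, card_top]))
      refine hMn (sub M hMtop R (hR.trans_le hTP) (by rw [hR]; exact hDT) ?_)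
      rw [hR]
      by_contra h
      have hle := hQmax (Z G (D ⊓ T)) ⟨hTp.to_le ((K.le G _).trans inf_le_right),
        K.ne_bot G _ (hTp.to_le inf_le_right) hDT, h⟩
      have := ((Fact.out : p.Prime).pow_dvd_iff_le_factorization Nat.card_pos.ne').mp h1
      rw [hMcard] at this
      omega
    have hUn : U.Normal := by
      by_contra hnn
      exact hMn (supP M (fun h => hnn (normalizer_eq_top_iff.mp h)) (hTS' ▸ hTM))
    set H := Cfsg.pCore p G with hH
    have hH1 : H ≠ ⊥ := fun h => hU1 (le_bot_iff.mp (h ▸ Solvable.le_pCore p hUn hUp))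
    -- no normal p'-subgroup
    have hO : Cfsg.pPrimeCore p G = ⊥ := by
      by_contra hne
      set N := Cfsg.pPrimeCore p G with hNdef
      have hcop : (Nat.card N).Coprime p := Solvable.coprime_card_pPrimeCore p
      set π := QuotientGroup.mk' N with hπ
      have hinj : ∀ x ∈ (P : Subgroup G), π x = 1 → x = 1 := fun x hx h =>
        mem_bot.mp (isPGroup_inf_coprime P.2 hcop ▸
          (⟨hx, (QuotientGroup.eq_one_iff x).mp h⟩ : x ∈ (P : Subgroup G) ⊓ N))
      refine hG (hnpc_of_quotient N hcop (ih _ (Solvable.card_quotient_lt hne) _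
        (P.mapSurjective (QuotientGroup.mk'_surjective N)) (D.map π) (stronglyClosed_map P D hD N) ?_ ?_ rfl))
      · intro h
        obtain ⟨d, hd, hd1⟩ := (bot_or_exists_ne_one _).resolve_left hD1
        exact hd1 (hinj d (hD.1 hd) (mem_bot.mp (h ▸ mem_map_of_mem π hd)))
      · refine hnpc_of_le (K.localSystem.quot () G N hcop _ (P.2.to_le hD.1)) ?_
        exact hnpc_of_surjective (π.subgroupMap _) (π.subgroupMap_surjective _) hN
    -- the quotient by the p-core
    set π := QuotientGroup.mk' H with hπ
    set Pb := P.mapSurjective (f := π) (QuotientGroup.mk'_surjective H) with hPb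
    have hPbc : (Pb : Subgroup (G ⧸ H)).comap π = P := by
      show ((P : Subgroup G).map π).comap π = _
      rw [comap_map_eq, QuotientGroup.ker_mk']
      exact sup_eq_left.mpr (pCore_le_sylow P)
    have hquot : Cfsg.HasNormalPComplement p (G ⧸ H) := by
      by_cases hb : (Pb : Subgroup (G ⧸ H)) = ⊥
      · refine PResidual.hasNormalPComplement_of_normal (N := ⊤) (k := 0) ?_ (by simp)
        rw [card_top]
        exact PResidual.coprime_of_not_dvd Fact.out fun h => Pb.ne_bot_of_dvd_card h hb
      refine K.hasNormalPComplement hp _ Pb ?_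
      set Zb := Z (G ⧸ H) (Pb : Subgroup (G ⧸ H)) with hZb
      set M := (normalizer (Zb : Set (G ⧸ H))).comap π with hM
      have hPM : (P : Subgroup G) ≤ M :=
        hPbc ▸ comap_mono (Subgroup.le_normalizer.trans (K.normalizer_le _))
      have hMne : M ≠ ⊤ := by
        intro htop
        have hn : Zb.Normal := normalizer_eq_top_iff.mp (by
          rw [eq_top_iff]
          intro y _
          obtain ⟨y, rfl⟩ := QuotientGroup.mk'_surjective H y
          exact mem_comap.mp (htop ▸ mem_top y : y ∈ M))
        apply K.ne_bot _ _ Pb.2 hb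
        rw [← hZb, ← map_comap_eq_self_of_surjective (QuotientGroup.mk'_surjective H) Zb,
          Subgroup.map_eq_bot_iff, QuotientGroup.ker_mk']
        exact Solvable.le_pCore p (hn.comap _) (P.2.to_le (hPbc ▸ comap_mono (K.le _ _)))
      exact hnpc_of_surjective (π.subgroupComap _)
        (π.subgroupComap_surjective_of_surjective _ (QuotientGroup.mk'_surjective H))
        (supP M hMne hPM)
    set Lb := Cfsg.pResidual p (G ⧸ H) with hLb
    have hLcop := PResidual.hasNormalPComplement_iff.mp hquot
    set L := Lb.comap π with hL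
    -- the centralizer of the p-core
    have hC : centralizer (H : Set G) ≤ H := by
      set C := centralizer (H : Set G) with hC
      -- first inside `L`
      have h1 : C ⊓ L ≤ H := by
        haveI : (H.subgroupOf (C ⊓ L)).Normal := inferInstance
        obtain ⟨R⟩ := (inferInstance : Nonempty (Sylow p ↥(C ⊓ L)))
        have hRH : ∀ r : (C ⊓ L : Subgroup G), r ∈ (R : Subgroup ↥(C ⊓ L)) → (r : G) ∈ H := by
          intro r hr
          refine (QuotientGroup.eq_one_iff _).mp (mem_bot.mp ?_)
          rw [← isPGroup_inf_coprime ((R.2.map (Subgroup.subtype _)).map π) hLcop]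
          exact ⟨⟨r, ⟨r, hr, rfl⟩, rfl⟩, r.2.2⟩
        have hRc : normalizer ((R : Subgroup ↥(C ⊓ L)) : Set ↥(C ⊓ L)) ≤
            centralizer ((R : Subgroup ↥(C ⊓ L)) : Set ↥(C ⊓ L)) := fun x _ =>
          mem_centralizer_iff.mpr fun r hr => Subtype.ext
            (mem_centralizer_iff.mp x.2.1 r (hRH r hr))
        have hnc := TransferBasic.hasNormalPComplement_of_le_centralizer R hRc
        have hA : (Cfsg.pResidual p ↥(C ⊓ L)).map (C ⊓ L).subtype ≤ Cfsg.pPrimeCore p G := by
          refine Solvable.le_pPrimeCore p ?_ ?_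
          · exact inferInstance
          · rw [card_map_of_injective (subtype_injective _)]
            exact PResidual.hasNormalPComplement_iff.mp hnc
        rw [hO, le_bot_iff, map_eq_bot_iff_of_injective _ (subtype_injective _)] at hA
        intro x hx
        refine hRH ⟨x, hx⟩ ?_
        have : IsPGroup p ↥(C ⊓ L) := by
          intro y
          refine ⟨_, mem_bot.mp (hA ▸ PResidual.pow_mem_pResidual Fact.out y)⟩
        rw [← R.3 (this.to_subgroup ⊤) le_top]
        exact mem_top _
      refine Solvable.le_pCore p inferInstance fun c => ?_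
      obtain ⟨k, hk⟩ := (PResidual.isPGroup_quotient_pResidual (G := G ⧸ H) (p := p))
        (QuotientGroup.mk' Lb (π c))
      have hk' : (c : G) ^ p ^ k ∈ C ⊓ L := ⟨pow_mem c.2 _, mem_comap.mpr (by
        rw [map_pow]
        exact (QuotientGroup.eq_one_iff _).mp ((map_pow (QuotientGroup.mk' Lb) _ _).trans hk))⟩
      obtain ⟨j, hj⟩ := Solvable.isPGroup_pCore p ⟨_, h1 hk'⟩
      exact ⟨k + j, Subtype.ext (by simpa [pow_add, pow_mul] using congrArg Subtype.val hj)⟩
    -- the Sylow subgroup is maximal
    have hPmax : ∀ M : Subgroup G, (P : Subgroup G) ≤ M → M = P ∨ M = ⊤ := by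
      intro M hPM
      by_cases hM : M = ⊤
      · exact Or.inr hM
      refine Or.inl (le_antisymm ?_ hPM)
      have hnc := supP M hM hPM
      have hcop := PResidual.hasNormalPComplement_iff.mp hnc
      set N := (Cfsg.pResidual p M).map M.subtype with hNdef
      have hNcop : (Nat.card N).Coprime p := by
        rwa [hNdef, card_map_of_injective M.subtype_injective]
      have hMN : M ≤ normalizer (N : Set G) := by
        refine le_trans ?_ (le_normalizer_map M.subtype)
        rw [normalizer_eq_top, ← MonoidHom.range_eq_map, range_subtype]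
      have hN1 : N ≤ centralizer (H : Set G) := by
        intro x hx
        refine mem_centralizer_iff.mpr fun h hh => commutatorElement_eq_one_iff_mul_comm.mp ?_
        refine mem_bot.mp (isPGroup_inf_coprime (Solvable.isPGroup_pCore p) hNcop ▸ ⟨?_, ?_⟩)
        · rw [commutatorElement_def, mul_assoc, mul_assoc]
          refine mul_mem hh ?_
          rw [← mul_assoc]
          exact (Solvable.pCore_normal p).conj_mem _ (inv_mem hh) x
        · rw [commutatorElement_def]
          exact mul_mem ((mem_normalizer_iff.mp (hMN (hPM (pCore_le_sylow P hh))) x).mp hx)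
            (N.inv_mem hx)
      have hN2 : N = ⊥ := le_bot_iff.mp (isPGroup_inf_coprime (Solvable.isPGroup_pCore p) hNcop ▸
        le_inf (hN1.trans hC) le_rfl)
      rw [hNdef, map_eq_bot_iff_of_injective _ M.subtype_injective] at hN2
      have hMp : IsPGroup p M := fun y =>
        ⟨_, mem_bot.mp (hN2 ▸ PResidual.pow_mem_pResidual Fact.out y)⟩
      exact (P.3 hMp hPM).le
    have hWn : (Z G D).Normal := by
      have hLp : ∀ x : G, ∃ k, x ^ p ^ k ∈ L := fun x => by
        obtain ⟨k, hk⟩ := (PResidual.isPGroup_quotient_pResidual (G := G ⧸ H) (p := p))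
          (QuotientGroup.mk' Lb (π x))
        refine ⟨k, mem_comap.mpr ?_⟩
        rw [map_pow]
        exact (QuotientGroup.eq_one_iff _).mp ((map_pow (QuotientGroup.mk' Lb) _ _).trans hk)
      have hab : ∀ x ∈ L, ∀ y ∈ L, x * y * x⁻¹ * y⁻¹ ∈ Cfsg.pCore p G := by
        intro x hx y hy
        refine (QuotientGroup.eq_one_iff _).mp ?_
        show π (x * y * x⁻¹ * y⁻¹) = 1
        rw [map_mul, map_mul, map_mul, map_inv, map_inv,
          comm_of_maximal_sylow Pb Lb hLcop (fun M hM => ?_) _ hx _ hy, mul_inv_cancel_right,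
          mul_inv_cancel]
        rcases hPmax (M.comap π) (hPbc ▸ comap_mono hM) with h | h
        · left
          rw [← map_comap_eq_self_of_surjective (QuotientGroup.mk'_surjective H) M, h]
          rfl
        · right
          rw [← map_comap_eq_self_of_surjective (QuotientGroup.mk'_surjective H) M, h]
          exact map_top_of_surjective π (QuotientGroup.mk'_surjective H)
      have hst := stableNormal_of_free hp (free_of_critical hp L hLp hab)
      refine normal_of_coreKer P ((K.le G D).trans hD.1) (Subgroup.le_normalizer.trans hPN) (K.comm G D) hst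
        ?_ (K.inter_normal G P D hD hst _ (Solvable.pCore_normal p) (Solvable.isPGroup_pCore p))
      intro x hx
      obtain ⟨E, hE, hxE, hEp⟩ := mem_coreKer.mp hx.2
      refine Solvable.le_pCore p hE (fun d => ?_) hxE
      obtain ⟨k, hk⟩ := hEp d d.2
      obtain ⟨j, hj⟩ := Solvable.isPGroup_pCore p ⟨_, hC hk⟩
      exact ⟨k + j, Subtype.ext (by simpa [pow_add, pow_mul] using congrArg Subtype.val hj)⟩
    rw [normalizer_eq_top (H := Z G D)] at hN
    exact hG (hnpc_of_surjective (topEquiv : (⊤ : Subgroup G) ≃* G).toMonoidHom (MulEquiv.surjective _) hN)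

end CfsgLib.ClosedComplement
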