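import Cfsg.Agent.ZJ.Involve
import Cfsg.Agent.FGSA.Extraspecial
import Cfsg.Agent.SL2C.Basic

/-!
A Sylow `p`-subgroup of `Qd(p)` is extraspecial of order `p³` and exponent `p`.
-/

set_option autoImplicit false

namespace CfsgLib.LocalB

open CfsgLib.ZJ

/-- A nonabelian group of order `p³` and exponent `p` is extraspecial. -/
theorem isExtraspecial_of_cube {Q : Type*} [Group Q] [Finite Q] {p : ℕ} [hp : Fact p.Prime]
    (hexp : ∀ x : Q, x ^ p = 1) (hcard : Nat.card Q = p ^ 3) (hne : ¬ ∀ a b : Q, a * b = b * a) :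
    Cfsg.IsExtraspecial p Q := by
  have hP : IsPGroup p Q := fun x => ⟨1, by rw [pow_one]; exact hexp x⟩
  haveI : Nontrivial Q := by
    rcases subsingleton_or_nontrivial Q with h | h
    · exact absurd (fun a b => Subsingleton.elim _ _) hne
    · exact h
  -- `|Z| = p`
  have hZ : Nat.card (Subgroup.center Q) = p := by
    obtain ⟨k, hk⟩ := (hP.to_subgroup (Subgroup.center Q)).exists_card_eq
    have hZnt : Nontrivial (Subgroup.center Q) := hP.center_nontrivial
    have h1 : 1 < Nat.card (Subgroup.center Q) := Finite.one_lt_card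
    have hmul := (Subgroup.center Q).index_mul_card
    rw [hcard, hk] at hmul
    have hcyc : ∀ j ≤ 1, (Subgroup.center Q).index ≠ p ^ j := by
      intro j hj hidx
      haveI : IsCyclic (Q ⧸ Subgroup.center Q) := by
        rcases Nat.le_one_iff_eq_zero_or_eq_one.1 hj with rfl | rfl
        · haveI : Subsingleton (Q ⧸ Subgroup.center Q) := by
            rw [pow_zero] at hidx
            exact (Nat.card_eq_one_iff_unique.1 hidx).1
          infer_instance
        · rw [pow_one] at hidx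
          exact isCyclic_of_prime_card hidx
      exact hne (commutative_of_cyclic_center_quotient (QuotientGroup.mk' (Subgroup.center Q)) (by simp))
    have hk3 : k ≤ 3 := (Nat.pow_dvd_pow_iff_le_right hp.out.one_lt).1 (Dvd.intro_left _ hmul)
    have hidx : (Subgroup.center Q).index = p ^ (3 - k) := by
      apply Nat.eq_of_mul_eq_mul_right (pow_pos hp.out.pos k)
      rw [hmul, ← pow_add]; congr 1; omega
    interval_cases k
    · rw [hk, pow_zero] at h1; omega
    · rw [hk, pow_one]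
    · exact absurd hidx (hcyc _ (by norm_num))
    · exact absurd hidx (hcyc _ (by norm_num))
  refine CfsgLib.Extraspecial.of_exponent hexp ?_ hZ
  -- `Q' = Z`
  have hquot : Nat.card (Q ⧸ Subgroup.center Q) = p ^ 2 := by
    apply Nat.eq_of_mul_eq_mul_right hp.out.pos
    have h2 := (Subgroup.center Q).index_mul_card
    rw [hZ, hcard, Subgroup.index_eq_card] at h2
    rw [h2]; ring
  have hle : commutator Q ≤ Subgroup.center Q := by
    rw [commutator_eq_closure, Subgroup.closure_le]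
    rintro _ ⟨a, b, rfl⟩
    rw [SetLike.mem_coe, ← QuotientGroup.eq_one_iff, ← QuotientGroup.mk'_apply, map_commutatorElement,
      commutatorElement_eq_one_iff_mul_comm]
    exact IsPGroup.commutative_of_card_eq_prime_sq hquot _ _
  refine Subgroup.eq_of_le_of_card_ge hle ?_
  rw [hZ]
  rcases (Nat.dvd_prime hp.out).1 (hZ ▸ Subgroup.card_dvd_of_le hle) with h | h
  · exfalso
    refine hne fun a b => ?_
    have hb : commutator Q = ⊥ := Subgroup.card_eq_one.1 h
    rw [← commutatorElement_eq_one_iff_mul_comm, ← Subgroup.mem_bot, ← hb]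
    exact Subgroup.commutator_mem_commutator (Subgroup.mem_top a) (Subgroup.mem_top b)
  · exact h.ge

theorem exponent_eq_prime {Q : Type*} [Group Q] [Finite Q] {p : ℕ} [hp : Fact p.Prime]
    (hexp : ∀ x : Q, x ^ p = 1) (h1 : 1 < Nat.card Q) : Monoid.exponent Q = p := by
  haveI : Nontrivial Q := Finite.one_lt_card_iff_nontrivial.1 h1
  rcases (Nat.dvd_prime hp.out).1 (Monoid.exponent_dvd_of_forall_pow_eq_one hexp) with h | h
  · obtain ⟨a, ha⟩ := exists_ne (1 : Q)
    have := Monoid.pow_exponent_eq_one a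
    rw [h, pow_one] at this
    exact absurd this ha
  · exact h

variable (p : ℕ) [Fact p.Prime]

/-- `qd p` as a product set. -/
theorem card_qd : Nat.card (Cfsg.qd p) = p ^ 3 * (p ^ 2 - 1) := by
  have hinj : ∀ {c d c' d' : ZMod p} {A A' : SL2 (ZMod p)}, affMat c d A = affMat c' d' A' →
      c = c' ∧ d = d' ∧ A = A' := fun h => affMat_inj h
  rw [Nat.card_congr (Equiv.ofBijective (fun z : ZMod p × ZMod p × SL2 (ZMod p) =>
    (⟨affMat z.1 z.2.1 z.2.2, affMat_mem_qd _ _ _⟩ : Cfsg.qd p)) ⟨?_, ?_⟩).symm]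
  · rw [Nat.card_prod, Nat.card_prod, Nat.card_zmod, CfsgLib.SL2C.card_SL2_mul, ZMod.card]
    ring
  · rintro ⟨c, d, A⟩ ⟨c', d', A'⟩ h
    obtain ⟨rfl, rfl, rfl⟩ := hinj (congrArg Subtype.val h)
    rfl
  · intro x
    obtain ⟨c, d, A, h⟩ := exists_affMat_of_mem_qd x.2
    exact ⟨(c, d, A), Subtype.ext h.symm⟩

theorem card_sylow_qd (hp : p ≠ 2) (P : Sylow p ↥(Cfsg.qd p)) :
    Nat.card (P : Subgroup ↥(Cfsg.qd p)) = p ^ 3 := by
  have hpr : p.Prime := Fact.out
  have h1 : ¬ p ∣ p ^ 2 - 1 := by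
    intro h
    have h2 : p ∣ p ^ 2 - (p ^ 2 - 1) := Nat.dvd_sub (dvd_pow_self p two_ne_zero) h
    rw [Nat.sub_sub_self (Nat.one_le_pow _ _ hpr.pos)] at h2
    exact hpr.one_lt.ne' (Nat.dvd_one.1 h2)
  rw [P.card_eq_multiplicity, card_qd, Nat.factorization_mul (pow_ne_zero _ hpr.ne_zero) (by
    have := Nat.one_lt_pow two_ne_zero hpr.one_lt; omega)]
  simp [hpr.factorization_pow, Nat.factorization_eq_zero_of_not_dvd h1]

/-- The upper unitriangular group inside `qd p`. -/
theorem exists_unipotent (hp : p ≠ 2) :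
    ∃ U : Subgroup ↥(Cfsg.qd p), IsPGroup p U ∧ Nat.card U = p ^ 3 ∧
      (¬ ∀ a b : U, a * b = b * a) ∧ ∀ x : U, x ^ p = 1 := by
  have hpr : p.Prime := Fact.out
  let el : ZMod p → ZMod p → SL2 (ZMod p) → Cfsg.qd p := fun c d A =>
    ⟨affMat c d A, affMat_mem_qd c d A⟩
  have hmul : ∀ c d A c' d' A', el c d A * el c' d' A' =
      el (c + (A 0 0 * c' + A 0 1 * d')) (d + (A 1 0 * c' + A 1 1 * d')) (A * A') :=
    fun c d A c' d' A' => Subtype.ext (affMat_mul c d c' d' A A')
  have hel : ∀ {c d A c' d' A'}, el c d A = el c' d' A' → c = c' ∧ d = d' ∧ A = A' :=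
    fun h => affMat_inj (congrArg Subtype.val h)
  have h1 : el 0 0 1 = 1 := Subtype.ext affMat_one
  let U : Subgroup (Cfsg.qd p) :=
    { carrier := {x | ∃ c d a, x = el c d (upper a)}
      one_mem' := ⟨0, 0, 0, by rw [upper_zero, h1]⟩
      mul_mem' := by
        rintro _ _ ⟨c, d, a, rfl⟩ ⟨c', d', a', rfl⟩
        exact ⟨_, _, a + a', by rw [hmul, upper_mul]⟩
      inv_mem' := by
        rintro _ ⟨c, d, a, rfl⟩
        refine ⟨-(c + (-a) * d), -d, -a, inv_eq_of_mul_eq_one_left ?_⟩
        rw [hmul, upper_mul, neg_add_cancel, upper_zero, upper_00, upper_01, upper_10, upper_11,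
          ← h1]
        congr 1 <;> ring }
  have hcard : Nat.card U = p ^ 3 := by
    rw [Nat.card_congr (Equiv.ofBijective (fun z : ZMod p × ZMod p × ZMod p =>
      (⟨el z.1 z.2.1 (upper z.2.2), _, _, _, rfl⟩ : U)) ⟨?_, ?_⟩).symm]
    · simp only [Nat.card_prod, Nat.card_zmod]
      ring
    · rintro ⟨c, d, a⟩ ⟨c', d', a'⟩ h
      obtain ⟨rfl, rfl, hA⟩ := hel (congrArg Subtype.val h)
      have : a = a' := by simpa using congrArg (fun M : SL2 (ZMod p) => M 0 1) hA
      rw [this]
    · rintro ⟨_, c, d, a, rfl⟩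
      exact ⟨(c, d, a), rfl⟩
  refine ⟨U, IsPGroup.of_card hcard, hcard, ?_, ?_⟩
  · intro h
    have h2 := congrArg Subtype.val (h ⟨el 0 0 (upper 1), 0, 0, 1, rfl⟩ ⟨el 0 1 (upper 0), 0, 1, 0, rfl⟩)
    simp only [Subgroup.coe_mul, hmul] at h2
    have h3 := (hel h2).1
    simp at h3
  · rintro ⟨_, c, d, a, rfl⟩
    apply Subtype.ext
    rw [Subgroup.coe_pow, Subgroup.coe_one]
    apply Subtype.ext
    rw [Subgroup.coe_pow, Subgroup.coe_one]
    apply Subtype.ext
    rw [Matrix.SpecialLinearGroup.coe_pow, Matrix.SpecialLinearGroup.coe_one]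
    show (affMat c d (upper a)).1 ^ p = 1
    set M := (affMat c d (upper a)).1 with hM
    have h3 : (M - 1) ^ 3 = 0 := by
      have hN : M - 1 = !![0, a, c; 0, 0, d; 0, 0, 0] := by
        ext i j
        fin_cases i <;> fin_cases j <;> simp [hM, affMat]
      rw [hN, pow_three]
      ext i j
      fin_cases i <;> fin_cases j <;> simp [Matrix.mul_apply, Fin.sum_univ_three]
    have h4 : (M - 1) ^ p = M ^ p - 1 := by
      rw [sub_pow_char_of_commute p (Commute.one_right M), one_pow]
    have h5 : (M - 1) ^ p = 0 := pow_eq_zero_of_le (by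
      have := hpr.two_le; omega) h3
    rw [h5] at h4
    exact sub_eq_zero.1 h4.symm

end CfsgLib.LocalB
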