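import Mathlib
import Cfsg.Prelude.Def_Transfer
import Cfsg.Agent.LocalB.HSubgroup
import Cfsg.Agent.Transfer.PResidual

/-!
Supersolvably embedded normal p-subgroups: when all subgroups of one order `d` are normal, every
chief factor below has order `p`.
-/

set_option autoImplicit false
set_option linter.unusedSectionVars false
set_option linter.unusedVariables false
set_option linter.style.haveILetI false

namespace CfsgLib.LocalB.HSS

open Subgroup
open scoped commutatorElement

variable {G : Type*} [Group G] [Finite G] {p : ℕ} [hp : Fact p.Prime]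

theorem exists_eigvec {M : Type*} [AddCommGroup M] [Module (ZMod p) M] (φ : M →ₗ[ZMod p] M)
    (h : ∀ v, (φ ^ (p - 1)) v = v) {u : M} (hu : u ≠ 0) :
    ∃ w : M, w ≠ 0 ∧ ∃ a : ZMod p, φ w = a • w := by
  classical
  have hp1 : 1 ≤ p - 1 := by have := hp.out.two_le; omega
  let w : (ZMod p)ˣ → M := fun a =>
    ∑ i ∈ Finset.range (p - 1), ((a : ZMod p) ^ i) • ((φ ^ i) u)
  have heig : ∀ a : (ZMod p)ˣ, (a : ZMod p) • φ (w a) = w a := by
    intro a
    have ha : (a : ZMod p) ^ (p - 1) = 1 := ZMod.pow_card_sub_one_eq_one a.ne_zero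
    simp only [w, map_sum, map_smul, Finset.smul_sum, smul_smul]
    have e : ∀ i, ((a : ZMod p) * (a : ZMod p) ^ i) • φ ((φ ^ i) u) =
        ((a : ZMod p) ^ (i + 1)) • ((φ ^ (i + 1)) u) := fun i => by
      rw [pow_succ' φ i, Module.End.mul_apply, ← pow_succ']
    simp only [e]
    have h1 := Finset.sum_range_succ' (fun i => ((a : ZMod p) ^ i) • ((φ ^ i) u)) (p - 1)
    rw [Finset.sum_range_succ, ha, h, one_smul] at h1
    simp only [pow_zero, Module.End.one_apply, one_smul] at h1
    exact (add_right_cancel h1).symm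
  have hsum : ∑ a, w a = -u := by
    simp only [w]
    rw [Finset.sum_comm]
    simp only [← Finset.sum_smul]
    rw [Finset.sum_eq_single 0]
    · have h0 := FiniteField.sum_pow_units (ZMod p) 0
      rw [if_pos (dvd_zero _)] at h0
      rw [h0]
      simp
    · intro i hi h0
      rw [FiniteField.sum_pow_units (ZMod p) i, if_neg, zero_smul]
      rw [ZMod.card]
      intro hd
      have := Nat.le_of_dvd (Nat.pos_of_ne_zero h0) hd
      have := Finset.mem_range.1 hi
      omega
    · intro h0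
      exact absurd (Finset.mem_range.2 hp1) h0
  obtain ⟨a, ha⟩ : ∃ a, w a ≠ 0 := by
    by_contra hne
    push Not at hne
    rw [Finset.sum_eq_zero (fun a _ => hne a)] at hsum
    exact hu (neg_eq_zero.1 hsum.symm)
  refine ⟨w a, ha, ((a⁻¹ : (ZMod p)ˣ) : ZMod p), ?_⟩
  conv_rhs => rw [← heig a, smul_smul, Units.inv_mul, one_smul]

theorem exists_eig_hom {M : Type*} [AddCommGroup M] (hz : ∀ v : M, p • v = 0) (f : M →+ M)
    (hper : ∀ v, f^[p - 1] v = v) {u : M} (hu : u ≠ 0) : ∃ w : M, w ≠ 0 ∧ ∃ a : ℕ, f w = a • w := by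
  haveI : NeZero p := ⟨hp.out.ne_zero⟩
  letI : Module (ZMod p) M := AddCommGroup.zmodModule hz
  obtain ⟨w, hw, a, ha⟩ := exists_eigvec (f.toZModLinearMap p)
    (fun v => by rw [Module.End.coe_pow]; exact hper v) hu
  refine ⟨w, hw, a.val, ?_⟩
  rw [← ZMod.natCast_zmod_val a, Nat.cast_smul_eq_nsmul] at ha
  exact ha

variable (p) in
/-- Commutators and `(p-1)`-th powers. -/
def A (G : Type*) [Group G] : Subgroup G :=
  normalClosure ({x | ∃ g h : G, x = ⁅g, h⁆} ∪ {x | ∃ g : G, x = g ^ (p - 1)})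

instance A_normal : (A p G).Normal := normalClosure_normal

theorem commutator_mem_A (g h : G) : ⁅g, h⁆ ∈ A p G :=
  subset_normalClosure (Or.inl ⟨g, h, rfl⟩)

theorem pow_mem_A (g : G) : g ^ (p - 1) ∈ A p G := subset_normalClosure (Or.inr ⟨g, rfl⟩)

/-- `A` centralises a normal factor of order `p`. -/
theorem A_trivial_factor {U V : Subgroup G} [U.Normal] [V.Normal] (hVU : V ≤ U)
    (hidx : V.relIndex U = p) {a : G} (ha : a ∈ A p G) {u : G} (hu : u ∈ U) :
    u⁻¹ * (a * u * a⁻¹) ∈ V := by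
  set W := U.map (QuotientGroup.mk' V) with hW
  haveI : W.Normal := Normal.map inferInstance _ (QuotientGroup.mk'_surjective V)
  have hcard : Nat.card W = p := by
    rw [hW, ← hidx, ← relIndex_bot_left, ← (Subgroup.map_eq_bot_iff V).2 (QuotientGroup.ker_mk' V).ge,
      relIndex_map_map, QuotientGroup.ker_mk', sup_idem, sup_eq_left.2 hVU]
  haveI : IsCyclic W := isCyclic_of_prime_card hcard
  let f : G →* MulAut W := MulAut.conjNormal.comp (QuotientGroup.mk' V)
  have hle : A p G ≤ f.ker := by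
    refine normalClosure_le_normal ?_
    let e := IsCyclic.mulAutMulEquiv W
    rintro x (⟨g, h, rfl⟩ | ⟨g, rfl⟩)
    · rw [SetLike.mem_coe, MonoidHom.mem_ker, map_commutatorElement]
      apply e.injective
      rw [map_commutatorElement, map_one, commutatorElement_eq_one_iff_mul_comm, mul_comm]
    · rw [SetLike.mem_coe, MonoidHom.mem_ker, map_pow]
      apply e.injective
      rw [map_pow, map_one]
      have hc : Nat.card (ZMod (Nat.card W))ˣ = p - 1 := by
        rw [hcard, Nat.card_eq_fintype_card, ZMod.card_units_eq_totient, Nat.totient_prime hp.out]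
      rw [← hc]
      exact pow_card_eq_one'
  have h1 := congrArg Subtype.val
    (MulEquiv.congr_fun (MonoidHom.mem_ker.1 (hle ha)) ⟨QuotientGroup.mk' V u, mem_map_of_mem _ hu⟩)
  simp only [f, MonoidHom.comp_apply, MulAut.conjNormal_apply, MulAut.one_apply,
    QuotientGroup.mk'_apply] at h1
  rw [← QuotientGroup.mk_inv, ← QuotientGroup.mk_mul, ← QuotientGroup.mk_mul, eq_comm,
    QuotientGroup.eq] at h1
  exact h1

theorem commute_of_series {U V : Subgroup G} (hUp : IsPGroup p U) (hVU : V ≤ U) {x : G}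
    (hx : (orderOf x).Coprime p) (hV : x ∈ centralizer (V : Set G))
    (h : ∀ u ∈ U, u⁻¹ * (x * u * x⁻¹) ∈ V) : x ∈ centralizer (U : Set G) := by
  refine mem_centralizer_iff.2 fun u hu => ?_
  set c := u⁻¹ * (x * u * x⁻¹) with hc
  have hcV : c ∈ V := h u hu
  have hxc : Commute x c := (mem_centralizer_iff.1 hV c hcV).symm
  have hk : ∀ k : ℕ, x ^ k * u * (x ^ k)⁻¹ = u * c ^ k := by
    intro k
    induction k with
    | zero => simp
    | succ k ih =>
      calc x ^ (k + 1) * u * (x ^ (k + 1))⁻¹ = x * (x ^ k * u * (x ^ k)⁻¹) * x⁻¹ := by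
            rw [pow_succ', mul_inv_rev]; simp only [mul_assoc]
        _ = (x * u * x⁻¹) * (x * c ^ k * x⁻¹) := by rw [ih]; group
        _ = (u * c) * c ^ k := by
            rw [(hxc.pow_right k).eq, mul_inv_cancel_right, hc]; group
        _ = u * c ^ (k + 1) := by rw [pow_succ', mul_assoc]
  have h1 : c ^ orderOf x = 1 := by
    have := hk (orderOf x)
    rw [pow_orderOf_eq_one, one_mul, inv_one, mul_one] at this
    exact mul_eq_left.1 this.symm
  obtain ⟨j, hj⟩ := IsPGroup.iff_orderOf.1 hUp ⟨c, hVU hcV⟩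
  rw [Subgroup.orderOf_mk] at hj
  have h2 : orderOf c = 1 := Nat.eq_one_of_dvd_coprimes (hx.pow_right j)
    (orderOf_dvd_of_pow_eq_one h1) (hj ▸ dvd_rfl)
  rw [orderOf_eq_one_iff, hc, inv_mul_eq_one] at h2
  exact (eq_mul_inv_iff_mul_eq.1 h2)

/-- all `p'`-elements of `A` centralise `U` -/
def Emb (p : ℕ) [Fact p.Prime] (U : Subgroup G) : Prop :=
  ∀ a ∈ A p G, (orderOf a).Coprime p → a ∈ centralizer (U : Set G)

theorem emb_bot : Emb p (⊥ : Subgroup G) := fun a _ _ =>
  mem_centralizer_iff.2 fun u hu => by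
    rw [SetLike.mem_coe, mem_bot] at hu
    simp [hu]

theorem emb_sup {U V : Subgroup G} (hU : Emb p U) (hV : Emb p V) : Emb p (U ⊔ V) := by
  intro a ha hc
  have h : U ⊔ V ≤ centralizer ({a} : Set G) := sup_le
    (fun u hu => mem_centralizer_singleton_iff.2 (mem_centralizer_iff.1 (hU a ha hc) u hu))
    (fun u hu => mem_centralizer_singleton_iff.2 (mem_centralizer_iff.1 (hV a ha hc) u hu))
  exact mem_centralizer_iff.2 fun u hu => mem_centralizer_singleton_iff.1 (h hu)

theorem emb_of_hyperplanes {S : Subgroup G} (hS : IsPGroup p S) [S.Normal]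
    (h : ∀ M : Subgroup G, M ≤ S → M.relIndex S = p → M.Normal) : Emb p S := by
  intro a ha hcop
  refine CfsgLib.CoprimeAct.trivial_on_frattini_quotient (A := zpowers a) (K := S)
    ((zpowers_le.2 (Subgroup.normalizer_eq_top (H := S) ▸ mem_top a))) ?_ ?_ (mem_zpowers a)
  · obtain ⟨k, hk⟩ := IsPGroup.iff_card.1 (hS.to_subgroup (frattini S))
    rw [hk, Nat.card_zpowers]
    exact hcop.pow_right k
  · intro b hb s hs
    have hbA : b ∈ A p G := zpowers_le.2 ha hb
    have hmem : b * s * b⁻¹ * s⁻¹ ∈ S :=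
      mul_mem (Normal.conj_mem inferInstance s hs b) (inv_mem hs)
    refine ⟨⟨_, hmem⟩, ?_, rfl⟩
    simp only [SetLike.mem_coe, frattini, Order.radical, mem_iInf]
    intro M hM
    obtain ⟨hn, hi⟩ := CfsgLib.PGroupBasic.coatom_normal_index hS hM
    have hr : (M.map S.subtype).relIndex S = p := by
      rw [relIndex, subgroupOf, comap_map_eq_self_of_injective S.subtype_injective, hi]
    haveI := h _ (map_subtype_le M) hr
    obtain ⟨m, hm, hme⟩ := A_trivial_factor (map_subtype_le M) hr hbA hs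
    have : (⟨_, hmem⟩ : S) = ⟨s, hs⟩ * m * (⟨s, hs⟩ : S)⁻¹ := by
      apply Subtype.ext
      simp only [Subgroup.coe_mul, InvMemClass.coe_inv]
      rw [show (m : G) = s⁻¹ * (b * s * b⁻¹) from hme]
      group
    rw [this]
    exact hn.conj_mem m hm _

variable {d : ℕ}

/-- The main induction: every normal subgroup of `Q` is centralised by the `p'`-elements of `A`. -/
theorem emb (Q : Subgroup G) [Q.Normal] (hQ : IsPGroup p Q) (hd : ∃ j, 0 < j ∧ d = p ^ j)
    (hdQ : d < Nat.card Q)
    (hnorm : ∀ E : Subgroup G, E ≤ Q → CfsgLib.LocalB.HSub.Ord d (Nat.card E) → E.Normal) :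
    ∀ (n : ℕ) (U : Subgroup G), Nat.card U = n → U.Normal → U ≤ Q → Emb p U := by
  obtain ⟨j, hj0, hdj⟩ := hd
  have hd2 : d = 2 → p = 2 := fun h =>
    (Nat.prime_dvd_prime_iff_eq hp.out Nat.prime_two).1 (h ▸ hdj ▸ dvd_pow_self p hj0.ne')
  intro n
  induction n using Nat.strong_induction_on with
  | _ n ih =>
  intro U hcard hUn hUQ
  have hUp : IsPGroup p U := hQ.to_le hUQ
  by_cases hU1 : U = ⊥
  · exact hU1 ▸ emb_bot
  obtain ⟨V, ⟨hVn, hVlt⟩, hVmax⟩ :=
    Set.Finite.exists_maximal (s := {N : Subgroup G | N.Normal ∧ N < U})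
      (Set.toFinite _) ⟨⊥, inferInstance, bot_lt_iff_ne_bot.2 hU1⟩
  haveI := hVn
  haveI := hUn
  have hlt : ∀ W : Subgroup G, W < U → Nat.card W < n := fun W hW =>
    hcard ▸ lt_of_le_of_ne (Nat.le_of_dvd Nat.card_pos (card_dvd_of_le hW.le))
      (fun e => hW.ne (Subgroup.eq_of_le_of_card_ge hW.le e.ge))
  have hVemb : Emb p V := ih _ (hlt V hVlt) V rfl hVn (hVlt.le.trans hUQ)
  by_cases hW : ∃ W : Subgroup G, W.Normal ∧ W < U ∧ ¬ W ≤ V
  · obtain ⟨W, hWn, hWlt, hWV⟩ := hW
    have : U = V ⊔ W := by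
      refine (eq_of_le_of_not_lt (sup_le hVlt.le hWlt.le) fun hl => hWV ?_).symm
      exact le_sup_right.trans (hVmax (y := V ⊔ W) ⟨inferInstance, hl⟩ le_sup_left)
    exact this ▸ emb_sup hVemb (ih _ (hlt W hWlt) W rfl hWn (hWlt.le.trans hUQ))
  push Not at hW
  have hdone : (∀ a ∈ A p G, (orderOf a).Coprime p → ∀ u ∈ U, u⁻¹ * (a * u * a⁻¹) ∈ V) → Emb p U :=
    fun h a ha hc => commute_of_series hUp hVlt.le hc (hVemb a ha hc) (h a ha hc)
  by_cases hidx : V.relIndex U = p
  · exact hdone fun a ha _ u hu => A_trivial_factor hVlt.le hidx ha hu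
  by_contra hnot
  -- `U` is generated by the commutators with `p'`-elements of `A`
  set T : Set G := {t | ∃ a ∈ A p G, (orderOf a).Coprime p ∧ ∃ u ∈ U, t = u⁻¹ * (a * u * a⁻¹)}
  have hTU : closure T ≤ U := by
    rw [closure_le]
    rintro _ ⟨a, -, -, u, hu, rfl⟩
    exact mul_mem (inv_mem hu) (hUn.conj_mem u hu a)
  have hTn : (closure T).Normal := by
    refine normalizer_eq_top_iff.1 (eq_top_iff.2 fun g _ =>
      mem_normalizer_iff_map_conj_eq.2 (Subgroup.eq_of_le_of_card_ge ?_
        (le_of_eq (card_map_of_injective (f := (MulAut.conj g).toMonoidHom) (MulAut.conj g).injective).symm)))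
    rw [MonoidHom.map_closure, closure_le]
    rintro _ ⟨_, ⟨a, ha, hc, u, hu, rfl⟩, rfl⟩
    refine subset_closure ⟨g * a * g⁻¹, A_normal.conj_mem a ha g, ?_, g * u * g⁻¹,
      hUn.conj_mem u hu g, by simp [mul_assoc]⟩
    rw [← MulAut.conj_apply, ← MulEquiv.coe_toMonoidHom,
      orderOf_injective _ (MulEquiv.injective _)]
    exact hc
  have hTeq : closure T = U := by
    refine eq_of_le_of_not_lt hTU fun hl => hnot (hdone fun a ha hc u hu => hW _ hTn hl ?_)
    exact subset_closure ⟨a, ha, hc, u, hu, rfl⟩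
  -- the proper normal subgroups meeting `U ∖ V` do not exist
  have hbig : ∀ u ∈ U, u ∉ V → ∀ E : Subgroup G, E ≤ Q → u ∈ E →
      CfsgLib.LocalB.HSub.Ord d (Nat.card E) → U ≤ E := by
    intro u hu huV E hEQ huE hEo
    haveI := hnorm E hEQ hEo
    by_contra hne
    exact huV (hW (U ⊓ E) inferInstance (lt_of_le_of_ne inf_le_left fun e => hne (e ▸ inf_le_right))
      ⟨hu, huE⟩)
  set F : Subgroup G := (frattini U).map U.subtype with hF
  have hFn : F.Normal := by
    refine normalizer_eq_top_iff.1 (eq_top_iff.2 fun g _ => ?_)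
    exact CfsgLib.LocalB.HSub.mem_normalizer_frattini (Subgroup.normalizer_eq_top (H := U) ▸ mem_top g)
  have hFU : F < U := by
    refine lt_of_le_of_ne (map_subtype_le _) fun e => ?_
    have htop : frattini U = ⊤ := by
      refine map_injective U.subtype_injective ?_
      rw [← hF, e, ← MonoidHom.range_eq_map, Subgroup.range_subtype]
    haveI : Nontrivial U := (nontrivial_iff_ne_bot _).2 hU1
    obtain ⟨M, hM, -⟩ := (eq_top_or_exists_le_coatom (⊥ : Subgroup U)).resolve_left bot_ne_top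
    exact hM.1 (eq_top_iff.2 (htop ▸ frattini_le_coatom hM))
  have hFV : F ≤ V := hW F hFn hFU
  have hVc : ∀ v ∈ V, ∀ u ∈ U, v * u = u * v := by
    intro v hv
    suffices U ≤ centralizer ({v} : Set G) from fun u hu => (mem_centralizer_singleton_iff.1 (this hu)).symm
    rw [← hTeq, closure_le]
    rintro _ ⟨a, ha, hc, u, hu, rfl⟩
    have h1 := mem_centralizer_iff.1 (hVemb a ha hc) v hv
    have h2 := mem_centralizer_iff.1 (hVemb a ha hc) _ (hVn.conj_mem v hv u)
    refine mem_centralizer_singleton_iff.2 (Eq.symm ?_)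
    have h1' : a⁻¹ * v * a = v := by rw [mul_assoc, h1, inv_mul_cancel_left]
    calc v * (u⁻¹ * (a * u * a⁻¹))
        = u⁻¹ * ((u * v * u⁻¹) * a) * u * a⁻¹ := by group
      _ = u⁻¹ * a * u * (a⁻¹ * a) * (v * a⁻¹) := by rw [h2]; group
      _ = u⁻¹ * a * u * a⁻¹ * (a * v) * a⁻¹ := by group
      _ = u⁻¹ * (a * u * a⁻¹) * v := by rw [← h1]; group
  have hpowF : ∀ u ∈ U, u ^ p ∈ F := fun u hu =>
    ⟨(⟨u, hu⟩ : U) ^ p, (CfsgLib.PGroupBasic.commutator_pow_le_frattini hUp).2 _, rfl⟩
  set N : ℕ := if p = 2 then 4 else p with hN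
  have hpN : p ∣ N ∧ p ∣ N.choose 2 := by
    rw [hN]
    split_ifs with h2
    · subst h2; exact ⟨by norm_num, ⟨3, rfl⟩⟩
    · exact ⟨dvd_rfl, hp.out.dvd_choose_self (by norm_num) (lt_of_le_of_ne hp.out.two_le (Ne.symm h2))⟩
  have hcF : ∀ v ∈ U, ∀ w ∈ U, ⁅v, w⁆ ∈ F := fun v hv w hw =>
    ⟨⁅⟨v, hv⟩, ⟨w, hw⟩⁆, (CfsgLib.PGroupBasic.commutator_pow_le_frattini hUp).1
      (commutator_mem_commutator (mem_top _) (mem_top _)), map_commutatorElement U.subtype _ _⟩
  have hkill : ∀ y ∈ closure T, y ^ N = 1 := by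
    intro y hy
    induction hy using closure_induction with
    | mem t ht =>
      obtain ⟨a, ha, hc, u, hu, rfl⟩ := ht
      have hau : a * u * a⁻¹ ∈ U := hUn.conj_mem u hu a
      rw [CfsgLib.LocalB.HSub.mul_pow_of_central (p := p) ⟨hVc _ (hFV (hcF _ (inv_mem hau) _ (by simpa using hu))) _ (inv_mem hu),
        hVc _ (hFV (hcF _ (inv_mem hau) _ (by simpa using hu))) _ hau,
        hVc _ (hFV (hpowF _ hau)) _ (inv_mem hu)⟩ hpN, conj_pow]
      obtain ⟨c, hc'⟩ := hpN.1
      have huN : u ^ N ∈ V := by rw [hc', pow_mul]; exact pow_mem (hFV (hpowF u hu)) c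
      rw [← mem_centralizer_iff.1 (hVemb a ha hc) _ huN, mul_inv_cancel_right, inv_pow, inv_mul_cancel]
    | one => simp
    | mul a b ha hb iha ihb =>
      rw [hTeq] at ha hb
      rw [CfsgLib.LocalB.HSub.mul_pow_of_central (p := p)
        ⟨hVc _ (hFV (hcF _ (inv_mem hb) _ (inv_mem ha))) _ ha,
         hVc _ (hFV (hcF _ (inv_mem hb) _ (inv_mem ha))) _ hb,
         hVc _ (hFV (hpowF _ hb)) _ ha⟩ hpN, iha, ihb, mul_one]
    | inv a _ iha => simp [iha]
  obtain ⟨u, hu, huV⟩ := SetLike.exists_of_lt hVlt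
  have hNpos : 0 < N := by rw [hN]; split_ifs <;> [norm_num; exact hp.out.pos]
  have hu' : orderOf u ≤ N := Nat.le_of_dvd hNpos (orderOf_dvd_of_pow_eq_one (hkill u (hTeq ▸ hu)))
  have hsmall : orderOf u ≤ d ∨ (d = 2 ∧ orderOf u ≤ 4) := by
    rw [hN] at hu'
    split_ifs at hu' with h2
    · by_cases hd1 : d = 2
      · exact Or.inr ⟨hd1, hu'⟩
      · left
        refine hu'.trans ?_
        rw [hdj, h2] at hd1 ⊢
        calc 4 = 2 ^ 2 := rfl
          _ ≤ 2 ^ j := Nat.pow_le_pow_right (by norm_num) (by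
              by_contra hj
              exact hd1 (by rw [show j = 1 by omega, pow_one]))
    · exact Or.inl (hu'.trans (hdj ▸ Nat.le_self_pow hj0.ne' p))
  obtain ⟨s, hs⟩ := IsPGroup.iff_card.1 hUp
  by_cases hdU : d < Nat.card U
  · obtain ⟨E, hEp, hEU, huE, hEo⟩ := CfsgLib.LocalB.HSub.exists_good_subgroup ⟨j, hdj⟩ hd2 hUp hdU.le hu hsmall
    have hUE := hbig u hu huV E (hEU.trans hUQ) huE hEo
    -- `E = U` has order four
    rcases hEo with h | ⟨h2, h4⟩
    · have := Nat.le_of_dvd Nat.card_pos (card_dvd_of_le hUE)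
      omega
    · have hp' := hd2 h2
      have hU4 : Nat.card U = 4 := by rw [← h4, le_antisymm hUE hEU]
      refine hidx ?_
      subst hp'
      -- `V` has index two: it contains `u ^ 2`
      by_cases hVb : V = ⊥
      · exfalso
        have hu2 : u ^ 2 = 1 := by
          have := hFV (hpowF u hu)
          rwa [hVb, mem_bot] at this
        have ho : orderOf u = 2 := by
          refine orderOf_eq_prime hu2 fun e => huV (e ▸ one_mem V)
        have hle := hbig u hu huV (zpowers u) (zpowers_le.2 (hUQ hu)) (mem_zpowers u)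
          (Or.inl (by rw [Nat.card_zpowers, ho, h2]))
        have := Nat.le_of_dvd Nat.card_pos (card_dvd_of_le hle)
        rw [Nat.card_zpowers, ho, hU4] at this
        omega
      · have h1 := relIndex_mul_relIndex ⊥ V U bot_le hVlt.le
        rw [relIndex_bot_left, relIndex_bot_left, hU4] at h1
        have hV2 : 1 < Nat.card V := one_lt_card_iff_ne_bot V |>.2 hVb
        have hVU4 : Nat.card V < 4 := hU4 ▸ hcard ▸ hlt V hVlt
        have : Nat.card V = 2 := by
          have hdvd : Nat.card V ∣ 4 := Dvd.intro _ h1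
          interval_cases (Nat.card V) <;> simp_all <;> omega
        rw [this] at h1
        omega
  -- `|U| ≤ d`: every subgroup `S` of order `p * d` above `U` is centralised
  rw [not_lt] at hdU
  obtain ⟨t, ht⟩ := IsPGroup.iff_card.1 hQ
  have hsj : s ≤ j := (Nat.pow_le_pow_iff_right hp.out.one_lt).1 (hs ▸ hdj ▸ hdU)
  have hjt : j < t := (Nat.pow_lt_pow_iff_right hp.out.one_lt).1 (hdj ▸ ht ▸ hdQ)
  obtain ⟨S0, hS0, hUS0⟩ := Sylow.exists_subgroup_card_pow_prime_le (p := p) (n := s) (m := j + 1)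
    (ht ▸ pow_dvd_pow p hjt : p ^ (j + 1) ∣ Nat.card Q) (U.subgroupOf Q)
    (by rw [Nat.card_congr (subgroupOfEquivOfLe hUQ).toEquiv, hs]) (by omega)
  set S := S0.map Q.subtype with hSdef
  have hSQ : S ≤ Q := map_subtype_le _
  have hUS : U ≤ S := by
    intro y hy
    exact ⟨⟨y, hUQ hy⟩, hUS0 hy, rfl⟩
  have hScard : Nat.card S = p ^ (j + 1) := by
    rw [hSdef, card_map_of_injective Q.subtype_injective, hS0]
  have hSp : IsPGroup p S := hQ.to_le hSQ
  have hmax : ∀ M : Subgroup G, M ≤ S → M.relIndex S = p → M.Normal ∧ U ≤ M := by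
    intro M hMS hMi
    have hMc : Nat.card M = d := by
      have h1 := relIndex_mul_relIndex ⊥ M S bot_le hMS
      rw [relIndex_bot_left, relIndex_bot_left, hMi, hScard, pow_succ] at h1
      rw [hdj]
      exact Nat.eq_of_mul_eq_mul_right hp.out.pos h1
    haveI hMn := hnorm M (hMS.trans hSQ) (Or.inl hMc)
    refine ⟨hMn, ?_⟩
    by_contra hUM
    have hle : U ⊓ M ≤ V := hW _ inferInstance
      (lt_of_le_of_ne inf_le_left fun e => hUM (e ▸ inf_le_right))
    have hi : (U ⊓ M).relIndex U ≤ p := by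
      rw [inf_relIndex_left, ← hMi]
      exact relIndex_le_of_le_right hUS (by rw [hMi]; exact hp.out.ne_zero)
    have h2 : V.relIndex U ≤ p := le_trans
      (Nat.le_of_dvd (Nat.pos_of_ne_zero Subgroup.index_ne_zero_of_finite) (relIndex_dvd_of_le_left U hle)) hi
    obtain ⟨k, hk⟩ := hUp.index (V.subgroupOf U)
    have hk' : V.relIndex U = p ^ k := hk
    have hk1 : k ≤ 1 := by
      rw [hk'] at h2
      exact (Nat.pow_le_pow_iff_right hp.out.one_lt).1 (h2.trans_eq (pow_one p).symm)
    interval_cases k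
    · exact hVlt.not_ge (relIndex_eq_one.1 (by simpa using hk'))
    · exact hidx (by simpa using hk')
  by_cases hSn : S.Normal
  · haveI := hSn
    have hSe := emb_of_hyperplanes hSp fun M h1 h2 => (hmax M h1 h2).1
    exact hnot fun a ha hc => Subgroup.centralizer_le hUS (hSe a ha hc)
  -- otherwise `S` has a single maximal subgroup, so it is cyclic
  haveI hSnt : Nontrivial S := by
    rw [← Finite.one_lt_card_iff_nontrivial, hScard]
    exact Nat.one_lt_pow (by omega) hp.out.one_lt
  obtain ⟨M0, hM0, -⟩ := (eq_top_or_exists_le_coatom (⊥ : Subgroup S)).resolve_left bot_ne_top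
  have hM0i : (M0.map S.subtype).relIndex S = p := by
    rw [relIndex, subgroupOf, comap_map_eq_self_of_injective S.subtype_injective,
      (CfsgLib.PGroupBasic.coatom_normal_index hSp hM0).2]
  by_cases hone : ∀ M : Subgroup S, IsCoatom M → M = M0
  · obtain ⟨y, hy⟩ := SetLike.exists_not_mem_of_ne_top M0 hM0.1
    have htop : zpowers y = ⊤ := by
      refine (eq_top_or_exists_le_coatom (zpowers y)).resolve_right ?_
      rintro ⟨M, hM, hle⟩
      exact hy (hone M hM ▸ hle (mem_zpowers y))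
    haveI : IsCyclic S := ⟨⟨y, fun z => (htop.ge (mem_top z) : z ∈ zpowers y)⟩⟩
    have hcyc : IsCyclic U := isCyclic_of_le hUS
    refine hidx ?_
    -- a cyclic group is trivial or has Frattini subgroup of index `p`
    obtain ⟨k, hk⟩ := hUp.index (V.subgroupOf U)
    have hk' : V.relIndex U = p ^ k := hk
    obtain ⟨⟨c, hc⟩, hgen⟩ := hcyc.exists_generator
    have hdvd : V.relIndex U ∣ p := by
      have hle : zpowers (c ^ p) ≤ V := zpowers_le.2 (hFV (hpowF c hc))
      refine (relIndex_dvd_of_le_left U hle).trans ?_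
      have hUeq : U = zpowers c := by
        refine le_antisymm (fun w hw => ?_) (zpowers_le.2 hc)
        obtain ⟨i, hi⟩ := hgen ⟨w, hw⟩
        exact ⟨i, by simpa using congrArg Subtype.val hi⟩
      have hle2 : zpowers (c ^ p) ≤ zpowers c := zpowers_le.2 (pow_mem (mem_zpowers c) p)
      have h1 := relIndex_mul_relIndex ⊥ _ _ bot_le hle2
      rw [relIndex_bot_left, relIndex_bot_left, Nat.card_zpowers, Nat.card_zpowers,
        orderOf_pow' c hp.out.ne_zero] at h1
      rw [hUeq]
      set o := orderOf c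
      have ho : 0 < o := orderOf_pos c
      have hg : Nat.gcd o p ∣ o := Nat.gcd_dvd_left _ _
      have : (zpowers (c ^ p)).relIndex (zpowers c) = Nat.gcd o p :=
        Nat.eq_of_mul_eq_mul_left (Nat.div_pos (Nat.le_of_dvd ho hg) (Nat.gcd_pos_of_pos_left _ ho))
          (h1.trans (Nat.div_mul_cancel hg).symm)
      rw [this]
      exact Nat.gcd_dvd_right _ _
    exact ((Nat.dvd_prime hp.out).1 hdvd).resolve_left fun e => hVlt.not_ge (relIndex_eq_one.1 e)
  push Not at hone
  obtain ⟨M1, hM1, hne⟩ := hone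
  have hM1i : (M1.map S.subtype).relIndex S = p := by
    rw [relIndex, subgroupOf, comap_map_eq_self_of_injective S.subtype_injective,
      (CfsgLib.PGroupBasic.coatom_normal_index hSp hM1).2]
  refine hSn ?_
  haveI := (hmax _ (map_subtype_le M0) hM0i).1
  haveI := (hmax _ (map_subtype_le M1) hM1i).1
  have : S = M0.map S.subtype ⊔ M1.map S.subtype := by
    have hj : M0 ⊔ M1 = ⊤ := hM0.2 _ (lt_of_le_of_ne le_sup_left fun e =>
      hne ((hM1.le_iff.1 (e ▸ le_sup_right)).resolve_left hM0.1).symm)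
    rw [← Subgroup.map_sup, hj, ← MonoidHom.range_eq_map, Subgroup.range_subtype]
  rw [this]
  infer_instance

/-- In the same situation every minimal normal subgroup of `G` inside `Q` has order `p`. -/
theorem card_minimal (Q : Subgroup G) [Q.Normal] (hQ : IsPGroup p Q) (hemb : Emb p Q)
    (N : Subgroup G) [hNn : N.Normal] (hN1 : N ≠ ⊥) (hNQ : N ≤ Q)
    (hmin : ∀ W : Subgroup G, W.Normal → W ≤ N → W = ⊥ ∨ W = N) : Nat.card N = p := by
  have hNp : IsPGroup p N := hQ.to_le hNQ
  haveI : Nontrivial N := (nontrivial_iff_ne_bot _).2 hN1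
  -- `N` is elementary abelian
  have habel : ∀ v ∈ N, ∀ w ∈ N, v * w = w * v := by
    have hc : (center N).map N.subtype = N := by
      refine (hmin _ inferInstance (map_subtype_le _)).resolve_left ?_
      rw [map_eq_bot_iff_of_injective _ N.subtype_injective]
      exact (hNp.center_nontrivial (G := N) |> fun h => (nontrivial_iff_ne_bot _).1 h)
    intro v hv w hw
    rw [← hc] at hv
    obtain ⟨v', hv', rfl⟩ := hv
    exact (congrArg Subtype.val (mem_center_iff.1 hv' ⟨w, hw⟩)).symm
  have hexp : ∀ v ∈ N, v ^ p = 1 := by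
    let W : Subgroup G :=
      { carrier := {v | v ∈ N ∧ v ^ p = 1}
        one_mem' := ⟨one_mem _, one_pow _⟩
        mul_mem' := fun {a b} ha hb => ⟨mul_mem ha.1 hb.1, by
          rw [(show Commute a b from habel a ha.1 b hb.1).mul_pow, ha.2, hb.2, one_mul]⟩
        inv_mem' := fun {a} ha => ⟨inv_mem ha.1, by rw [inv_pow, ha.2, inv_one]⟩ }
    have hWn : W.Normal := ⟨fun v hv g => ⟨hNn.conj_mem v hv.1 g, by
      rw [conj_pow, hv.2, mul_one, mul_inv_cancel]⟩⟩
    have hW1 : W ≠ ⊥ := by
      have hdvd : p ∣ Nat.card N := by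
        obtain ⟨k, hk, hk'⟩ : ∃ k, 0 < k ∧ Nat.card N = p ^ k := hNp.card_eq_or_dvd.elim
          (fun h => absurd h (Finite.one_lt_card (α := N)).ne')
          (fun h => by
            obtain ⟨k, hk⟩ := IsPGroup.iff_card.1 hNp
            refine ⟨k, Nat.pos_of_ne_zero fun e => ?_, hk⟩
            rw [hk, e, pow_zero] at h
            exact hp.out.not_dvd_one h)
        exact hk' ▸ dvd_pow_self p hk.ne'
      obtain ⟨v, hv⟩ := exists_prime_orderOf_dvd_card' (G := N) p hdvd
      intro e
      have hvW : (v : G) ∈ W := ⟨v.2, orderOf_dvd_iff_pow_eq_one.1 (by rw [Subgroup.orderOf_coe, hv])⟩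
      rw [e, mem_bot] at hvW
      rw [← Subgroup.orderOf_coe, hvW, orderOf_one] at hv
      exact hp.out.ne_one hv.symm
    intro v hv
    exact (((hmin W hWn fun v hv => hv.1).resolve_left hW1).ge hv).2
  -- `A` centralises `N`
  have hA : A p G ≤ centralizer (N : Set G) := by
    obtain ⟨Y⟩ := (inferInstance : Nonempty (Sylow p (A p G)))
    set Y' := (Y : Subgroup (A p G)).map (A p G).subtype
    have hY : IsPGroup p Y' := Y.2.map _
    have hYQ : IsPGroup p (Y' ⊔ Q : Subgroup G) := hY.to_sup_of_normal_right hQ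
    set W := Y' ⊔ Q
    have hNW : N ≤ W := hNQ.trans le_sup_right
    haveI := hYQ.isNilpotent
    have hne : N.subgroupOf W ≠ ⊥ := by
      rw [Ne, subgroupOf_eq_bot]
      exact fun h => hN1 (disjoint_self.1 (h.mono_right hNW))
    obtain ⟨z, hz, hz1⟩ := (bot_or_exists_ne_one _).resolve_left
      (CfsgLib.PGroupBasic.inf_center_ne_bot (N.subgroupOf W) hne)
    -- the elements of `A` fixing `z`
    have hzN : (z : G) ∈ N := hz.1
    have hfix : A p G ≤ centralizer ({(z : G)} : Set G) := by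
      have h1 : (Y : Subgroup (A p G)) ≤ (centralizer ({(z : G)} : Set G)).subgroupOf (A p G) := by
        intro y hy
        rw [mem_subgroupOf, mem_centralizer_singleton_iff]
        exact congrArg Subtype.val (mem_center_iff.1 hz.2 ⟨y, (le_sup_left : Y' ≤ Y' ⊔ Q) ⟨y, hy, rfl⟩⟩)
      have h2 : Cfsg.pResidual p (A p G) ≤ (centralizer ({(z : G)} : Set G)).subgroupOf (A p G) := by
        rw [Cfsg.pResidual, closure_le]
        intro y hy
        rw [SetLike.mem_coe, mem_subgroupOf, mem_centralizer_singleton_iff]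
        exact (mem_centralizer_iff.1 (hemb y y.2 (by rwa [Subgroup.orderOf_coe])) _ (hNQ hzN)).symm
      obtain ⟨k, hk⟩ := CfsgLib.PResidual.exists_index_pResidual (G := A p G) (p := p)
      have d1 : ((centralizer ({(z : G)} : Set G)).subgroupOf (A p G)).index ∣ p ^ k :=
        hk ▸ index_dvd_of_le h2
      have d2 := index_dvd_of_le h1
      have hone : ((centralizer ({(z : G)} : Set G)).subgroupOf (A p G)).index = 1 :=
        Nat.eq_one_of_dvd_coprimes
          ((hp.out.coprime_iff_not_dvd.2 Y.not_dvd_index).symm.pow_right k) d2 d1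
      intro a ha
      have : (⟨a, ha⟩ : A p G) ∈ (centralizer ({(z : G)} : Set G)).subgroupOf (A p G) :=
        index_eq_one.1 hone ▸ mem_top _
      exact this
    have hCn : (N ⊓ centralizer (A p G : Set G)).Normal := inferInstance
    have hC : N ⊓ centralizer (A p G : Set G) = N := by
      refine (hmin _ hCn inf_le_left).resolve_left fun e => hz1 ?_
      have : (z : G) ∈ N ⊓ centralizer (A p G : Set G) := ⟨hzN, mem_centralizer_iff.2 fun a ha =>
        mem_centralizer_singleton_iff.1 (hfix ha)⟩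
      rw [e, mem_bot] at this
      exact Subtype.ext this
    rw [Subgroup.le_centralizer_iff]
    intro v hv
    exact (hC.ge hv).2
  -- `N` as a vector space
  letI : CommGroup N :=
    { N.toGroup with mul_comm := fun a b => Subtype.ext (habel a a.2 b b.2) }
  haveI : NeZero p := ⟨hp.out.ne_zero⟩
  have hz : ∀ v : Additive N, p • v = 0 := fun v => by
    apply Additive.toMul.injective
    rw [toMul_nsmul, toMul_zero]
    exact Subtype.ext (by simpa using hexp _ (Additive.toMul v).2)
  have hscalar : ∀ g : G, ∃ k : ℕ, ∀ v ∈ N, g * v * g⁻¹ = v ^ k := by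
    intro g
    let φ : Additive N →+ Additive N := MonoidHom.toAdditive (MulAut.conjNormal (H := N) g).toMonoidHom
    have happ : ∀ (v : Additive N), ((Additive.toMul (φ v) : N) : G) = g * ((Additive.toMul v : N) : G) * g⁻¹ :=
      fun v => rfl
    have hpow : ∀ (i : ℕ) (v : Additive N),
        ((Additive.toMul (φ^[i] v) : N) : G) = g ^ i * ((Additive.toMul v : N) : G) * (g ^ i)⁻¹ := by
      intro i v
      induction i with
      | zero => simp
      | succ i ih => rw [Function.iterate_succ_apply', happ, ih, pow_succ']; group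
    have hper : ∀ v, φ^[p - 1] v = v := fun v => by
      apply Additive.toMul.injective
      apply Subtype.ext
      rw [hpow, ← mem_centralizer_iff.1 (hA (pow_mem_A g)) _ (Additive.toMul v).2, mul_inv_cancel_right]
    obtain ⟨v0, hv0⟩ := exists_ne (1 : N)
    obtain ⟨w, hw, a, ha⟩ := exists_eig_hom hz φ hper (u := Additive.ofMul v0) (fun e => hv0 (by simpa using e))
    let W : Subgroup G :=
      { carrier := {v | v ∈ N ∧ g * v * g⁻¹ = v ^ a}
        one_mem' := ⟨one_mem _, by simp⟩
        mul_mem' := fun {x y} hx hy => ⟨mul_mem hx.1 hy.1, by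
          rw [(show Commute x y from habel x hx.1 y hy.1).mul_pow, ← hx.2, ← hy.2]; group⟩
        inv_mem' := fun {x} hx => ⟨inv_mem hx.1, by rw [inv_pow, ← hx.2]; group⟩ }
    have hWn : W.Normal := by
      refine ⟨fun v hv h => ⟨hNn.conj_mem v hv.1 h, ?_⟩⟩
      have hc := mem_centralizer_iff.1 (hA (commutator_mem_A g h)) _ (hNn.conj_mem _ (hNn.conj_mem v hv.1 g) h)
      calc g * (h * v * h⁻¹) * g⁻¹ = ⁅g, h⁆ * (h * (g * v * g⁻¹) * h⁻¹) * ⁅g, h⁆⁻¹ := by
            rw [commutatorElement_def]; group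
        _ = h * (g * v * g⁻¹) * h⁻¹ := by rw [← hc, mul_inv_cancel_right]
        _ = (h * v * h⁻¹) ^ a := by rw [hv.2, conj_pow]
    have hWN : W = N := by
      refine (hmin W hWn fun v hv => hv.1).resolve_left fun e => hw ?_
      have hmem : ((Additive.toMul w : N) : G) ∈ W := by
        refine ⟨(Additive.toMul w).2, ?_⟩
        rw [← happ, ha, toMul_nsmul, SubmonoidClass.coe_pow]
      rw [e, mem_bot] at hmem
      exact Additive.toMul.injective (Subtype.ext hmem)
    exact ⟨a, fun v hv => (hWN.ge hv).2⟩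
  obtain ⟨v, hv, hv1⟩ := (bot_or_exists_ne_one N).resolve_left hN1
  have hzn : (zpowers v).Normal := by
    refine normalizer_eq_top_iff.1 (eq_top_iff.2 fun g _ => mem_normalizer_iff_map_conj_eq.2
      (Subgroup.eq_of_le_of_card_ge ?_
        (le_of_eq (card_map_of_injective (f := (MulAut.conj g).toMonoidHom) (MulAut.conj g).injective).symm)))
    rw [MonoidHom.map_zpowers, zpowers_le]
    obtain ⟨k, hk⟩ := hscalar g
    change g * v * g⁻¹ ∈ zpowers v
    rw [hk v hv]
    exact pow_mem (mem_zpowers v) k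
  rcases hmin _ hzn (zpowers_le.2 hv) with e | e
  · exact absurd (zpowers_eq_bot.1 e) hv1
  · rw [← e, Nat.card_zpowers]
    exact orderOf_eq_prime (hexp v hv) hv1

end CfsgLib.LocalB.HSS
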