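import Mathlib
import Cfsg.Prelude.Def_PLocal
import Cfsg.Prelude.Def_BaumannBlocks

/-!
The Chermak–Delgado lattice of a finite group and centrally large subgroups.
-/

set_option autoImplicit false
set_option linter.unusedSectionVars false
set_option linter.unusedVariables false

namespace CfsgLib.LocalB.CD

open Subgroup Pointwise
open scoped commutatorElement

variable {G : Type*} [Group G]

/-- the centralizer as a subgroup -/
abbrev C (H : Subgroup G) : Subgroup G := centralizer (H : Set G)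

theorem le_C_iff {H K : Subgroup G} : H ≤ C K ↔ K ≤ C H := Subgroup.le_centralizer_iff

theorem C_antitone {H K : Subgroup G} (h : H ≤ K) : C K ≤ C H := centralizer_le h

theorem le_CC (H : Subgroup G) : H ≤ C (C H) := le_C_iff.1 le_rfl

theorem C_sup (H K : Subgroup G) : C (H ⊔ K) = C H ⊓ C K :=
  le_antisymm (le_inf (C_antitone le_sup_left) (C_antitone le_sup_right))
    (le_C_iff.1 (sup_le (le_C_iff.1 inf_le_left) (le_C_iff.1 inf_le_right)))

theorem C_sup_le_C_inf (H K : Subgroup G) : C H ⊔ C K ≤ C (H ⊓ K) :=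
  sup_le (C_antitone inf_le_left) (C_antitone inf_le_right)

theorem card_center (R : Subgroup G) : Nat.card (center R) = Nat.card (R ⊓ C R : Subgroup G) := by
  have e : (center R).map R.subtype = R ⊓ C R := by
    ext x
    constructor
    · rintro ⟨y, hy, rfl⟩
      exact ⟨y.2, mem_centralizer_iff.2 fun h hh => congrArg Subtype.val (mem_center_iff.1 hy ⟨h, hh⟩)⟩
    · rintro ⟨hx, hc⟩
      exact ⟨⟨x, hx⟩, mem_center_iff.2 fun h => Subtype.ext (mem_centralizer_iff.1 hc h h.2), rfl⟩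
  rw [← e, card_map_of_injective R.subtype_injective]

variable [Finite G]

theorem ncard_mul (H K : Subgroup G) :
    ((H : Set G) * (K : Set G)).ncard * Nat.card (H ⊓ K : Subgroup G) = Nat.card H * Nat.card K := by
  let φ : H ⧸ K.subgroupOf H → G ⧸ K :=
    Quotient.map' Subtype.val (fun a b hab => by
      rw [QuotientGroup.leftRel_apply] at hab ⊢
      exact hab)
  have hφ : Function.Injective φ := by
    intro x y
    induction x using Quotient.inductionOn'
    induction y using Quotient.inductionOn'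
    intro h
    exact QuotientGroup.eq.2 (QuotientGroup.eq.1 h : _)
  have himg : (QuotientGroup.mk (s := K)) '' (H : Set G) = Set.range φ := by
    ext c
    constructor
    · rintro ⟨h, hh, rfl⟩
      exact ⟨QuotientGroup.mk ⟨h, hh⟩, rfl⟩
    · rintro ⟨x, rfl⟩
      induction x using Quotient.inductionOn' with
      | h h => exact ⟨h, h.2, rfl⟩
  have hr : Nat.card ((QuotientGroup.mk (s := K)) '' (H : Set G)) = K.relIndex H := by
    rw [himg, Nat.card_range_of_injective hφ]
    rfl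
  have h3 : Nat.card (H ⊓ K : Subgroup G) * K.relIndex H = Nat.card H := by
    rw [← relIndex_bot_left, ← relIndex_bot_left, ← inf_relIndex_left H K]
    exact relIndex_mul_relIndex ⊥ (H ⊓ K) H bot_le inf_le_left
  rw [← Nat.card_coe_set_eq, Subgroup.card_mul_eq_card_subgroup_mul_card_quotient, hr, ← h3]
  ring

theorem mul_subset_sup (H K : Subgroup G) : ((H : Set G) * (K : Set G)) ⊆ ((H ⊔ K : Subgroup G) : Set G) := by
  rintro _ ⟨h, hh, k, hk, rfl⟩
  exact mul_mem_sup hh hk

theorem ncard_mul_le (H K : Subgroup G) :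
    ((H : Set G) * (K : Set G)).ncard ≤ Nat.card (H ⊔ K : Subgroup G) := by
  rw [← SetLike.coe_sort_coe, Nat.card_coe_set_eq]
  exact Set.ncard_le_ncard (mul_subset_sup H K) (Set.toFinite _)

theorem ncard_mul_eq_iff (H K : Subgroup G) (h : Nat.card (H ⊔ K : Subgroup G) ≤ ((H : Set G) * (K : Set G)).ncard) :
    ((H ⊔ K : Subgroup G) : Set G) = (H : Set G) * (K : Set G) := by
  refine (Set.eq_of_subset_of_ncard_le (mul_subset_sup H K) ?_ (Set.toFinite _)).symm
  rwa [← Nat.card_coe_set_eq]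

/-- the measure -/
noncomputable def m (H : Subgroup G) : ℕ := Nat.card H * Nat.card (C H)

theorem m_pos (H : Subgroup G) : 0 < m H := Nat.mul_pos Nat.card_pos Nat.card_pos

/-- measure-largest -/
def Large (H : Subgroup G) : Prop := ∀ K : Subgroup G, m K ≤ m H

theorem exists_large : ∃ H : Subgroup G, Large H :=
  let ⟨H, hH⟩ := Finite.exists_max (fun H : Subgroup G => m H)
  ⟨H, hH⟩

theorem isCentralizerLarge_iff {H : Subgroup G} : Cfsg.IsCentralizerLarge H ↔ Large H := by
  obtain ⟨H0, h0⟩ := exists_large (G := G)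
  have hmax : Cfsg.maxCentralizerProduct G = m H0 :=
    IsGreatest.csSup_eq ⟨⟨H0, rfl⟩, by rintro _ ⟨K, rfl⟩; exact h0 K⟩
  rw [Cfsg.IsCentralizerLarge, hmax]
  exact ⟨fun h K => (h0 K).trans_eq h.symm, fun h => le_antisymm (h0 H) (h H0)⟩

theorem Large.congr {H K : Subgroup G} (h : Large H) (hK : m H ≤ m K) : Large K :=
  fun L => (h L).trans hK

/-- The fundamental lemma. -/
theorem large_pair {H K : Subgroup G} (hH : Large H) (hK : Large K) :
    Large (H ⊔ K) ∧ Large (H ⊓ K) ∧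
      ((H ⊔ K : Subgroup G) : Set G) = (H : Set G) * (K : Set G) ∧
      ((C H ⊔ C K : Subgroup G) : Set G) = (C H : Set G) * (C K : Set G) ∧
      C (H ⊓ K) = C H ⊔ C K := by
  set a := ((H : Set G) * (K : Set G)).ncard
  set b := ((C H : Set G) * (C K : Set G)).ncard
  have e1 := ncard_mul H K
  have e2 := ncard_mul (C H) (C K)
  rw [← C_sup] at e2
  have h1 := ncard_mul_le H K
  have h2 := ncard_mul_le (C H) (C K)
  have h3 : Nat.card (C H ⊔ C K : Subgroup G) ≤ Nat.card (C (H ⊓ K)) :=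
    card_le_of_le (C_sup_le_C_inf H K)
  have hs := hH (H ⊔ K)
  have hi := hK (H ⊓ K)
  unfold m at hs hi
  have ha : 0 < a := by
    refine Nat.pos_of_ne_zero fun h0 => ?_
    rw [show ((H : Set G) * (K : Set G)).ncard = 0 from h0, zero_mul] at e1
    exact (Nat.mul_pos Nat.card_pos Nat.card_pos : 0 < Nat.card H * Nat.card K).ne' e1.symm
  set cs := Nat.card (H ⊔ K : Subgroup G)
  set ci := Nat.card (H ⊓ K : Subgroup G)
  set ds := Nat.card (C (H ⊔ K))
  set di := Nat.card (C (H ⊓ K))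
  set ch := Nat.card H
  set ck := Nat.card K
  set dh := Nat.card (C H)
  set dk := Nat.card (C K)
  have hds : 0 < ds := Nat.card_pos
  have hci : 0 < ci := Nat.card_pos
  have hdi : 0 < di := Nat.card_pos
  have hcs : 0 < cs := Nat.card_pos
  have key : (ch * dh) * (ck * dk) = (a * ds) * (ci * b) := by
    calc (ch * dh) * (ck * dk) = (ch * ck) * (dh * dk) := by ring
      _ = (a * ci) * (b * ds) := by rw [e1, e2]
      _ = (a * ds) * (ci * b) := by ring
  have hb : b ≤ di := h2.trans h3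
  have u1 : (a * ds) * (ci * b) ≤ (cs * ds) * (ci * di) :=
    Nat.mul_le_mul (Nat.mul_le_mul_right _ h1) (Nat.mul_le_mul_left _ hb)
  have u2 : (cs * ds) * (ci * di) ≤ (ch * dh) * (ck * dk) := Nat.mul_le_mul hs hi
  have p0 : 0 < cs * ds * (ci * di) := Nat.mul_pos (Nat.mul_pos hcs hds) (Nat.mul_pos hci hdi)
  have q1 : cs ≤ a := by
    by_contra hlt
    rw [not_le] at hlt
    have : (a * ds) * (ci * b) < (cs * ds) * (ci * di) :=
      lt_of_le_of_lt (Nat.mul_le_mul_left _ (Nat.mul_le_mul_left _ hb))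
        (Nat.mul_lt_mul_of_pos_right (Nat.mul_lt_mul_of_pos_right hlt hds) (Nat.mul_pos hci hdi))
    omega
  have q2 : di ≤ b := by
    by_contra hlt
    rw [not_le] at hlt
    have : (a * ds) * (ci * b) < (cs * ds) * (ci * di) :=
      lt_of_le_of_lt (Nat.mul_le_mul_right _ (Nat.mul_le_mul_right _ h1))
        (Nat.mul_lt_mul_of_pos_left (Nat.mul_lt_mul_of_pos_left hlt hci) (Nat.mul_pos hcs hds))
    omega
  have q3 : Nat.card H * Nat.card (C H) ≤ cs * ds := by
    by_contra hlt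
    rw [not_le] at hlt
    have hpos : 0 < ck * dk := Nat.mul_pos Nat.card_pos Nat.card_pos
    have : (cs * ds) * (ci * di) < (ch * dh) * (ck * dk) :=
      lt_of_le_of_lt (Nat.mul_le_mul_left _ hi) (Nat.mul_lt_mul_of_pos_right hlt hpos)
    omega
  have q4 : Nat.card K * Nat.card (C K) ≤ ci * di := by
    by_contra hlt
    rw [not_le] at hlt
    have hpos : 0 < ch * dh := Nat.mul_pos Nat.card_pos Nat.card_pos
    have : (cs * ds) * (ci * di) < (ch * dh) * (ck * dk) :=
      lt_of_le_of_lt (Nat.mul_le_mul_right _ hs) (Nat.mul_lt_mul_of_pos_left hlt hpos)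
    omega
  refine ⟨hH.congr q3, hK.congr q4, ncard_mul_eq_iff H K q1, ncard_mul_eq_iff _ _ (h3.trans q2), ?_⟩
  exact (Subgroup.eq_of_le_of_card_ge (C_sup_le_C_inf H K) (q2.trans h2)).symm

theorem Large.sup {H K : Subgroup G} (hH : Large H) (hK : Large K) : Large (H ⊔ K) := (large_pair hH hK).1

theorem Large.inf {H K : Subgroup G} (hH : Large H) (hK : Large K) : Large (H ⊓ K) := (large_pair hH hK).2.1

theorem Large.C_inf {H K : Subgroup G} (hH : Large H) (hK : Large K) : C (H ⊓ K) = C H ⊔ C K :=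
  (large_pair hH hK).2.2.2.2

theorem Large.centralizer {H : Subgroup G} (hH : Large H) : Large (C H) ∧ C (C H) = H := by
  have h1 : m H ≤ m (C H) := by
    unfold m
    rw [mul_comm]
    exact Nat.mul_le_mul_left _ (card_le_of_le (le_CC H))
  refine ⟨hH.congr h1, (Subgroup.eq_of_le_of_card_ge (le_CC H) ?_).symm⟩
  have h2 := hH (C H)
  unfold m at h2
  rw [mul_comm (Nat.card H)] at h2
  exact Nat.le_of_mul_le_mul_left h2 Nat.card_pos

/-- centrally large, intrinsically -/
def CL (H : Subgroup G) : Prop := Large H ∧ C H ≤ H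

theorem exists_cl : ∃ H : Subgroup G, CL H := by
  obtain ⟨H, hH⟩ := exists_large (G := G)
  refine ⟨H ⊔ C H, hH.sup hH.centralizer.1, ?_⟩
  rw [C_sup]
  exact inf_le_left.trans le_sup_right

theorem isCentrallyLarge_iff {H : Subgroup G} : Cfsg.IsCentrallyLarge H ↔ CL H := by
  obtain ⟨H0, h0, h0'⟩ := exists_cl (G := G)
  have hmeq : ∀ {K : Subgroup G}, C K ≤ K → Nat.card K * Nat.card (center K) = m K := fun {K} h => by
    rw [card_center, inf_eq_right.2 h]; rfl
  have hle : ∀ K : Subgroup G, Nat.card K * Nat.card (center K) ≤ m K := fun K => by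
    rw [card_center]
    exact Nat.mul_le_mul_left _ (card_le_of_le inf_le_right)
  have hmax : Cfsg.maxCentralProduct G = m H0 :=
    IsGreatest.csSup_eq ⟨⟨H0, hmeq h0'⟩, by rintro _ ⟨K, rfl⟩; exact (hle K).trans (h0 K)⟩
  rw [Cfsg.IsCentrallyLarge, hmax]
  constructor
  · intro h
    have h1 : m H0 = m H := le_antisymm (h ▸ hle H) (h0 H)
    refine ⟨h0.congr h1.le, ?_⟩
    rw [h1, card_center] at h
    have h2 := Nat.eq_of_mul_eq_mul_left Nat.card_pos h
    exact inf_eq_right.1 (Subgroup.eq_of_le_of_card_ge inf_le_right h2.ge)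
  · rintro ⟨h, h'⟩
    rw [hmeq h']
    exact le_antisymm (h0 H) (h H0)

theorem CL.sup {H K : Subgroup G} (hH : CL H) (hK : CL K) : CL (H ⊔ K) :=
  ⟨hH.1.sup hK.1, by rw [C_sup]; exact inf_le_left.trans (hH.2.trans le_sup_left)⟩

theorem CL.sup_large {H K : Subgroup G} (hH : CL H) (hK : Large K) : CL (H ⊔ K) :=
  ⟨hH.1.sup hK, by rw [C_sup]; exact inf_le_left.trans (hH.2.trans le_sup_left)⟩

theorem cl_sSup (s : Set (Subgroup G)) (hs : s.Nonempty) (h : ∀ H ∈ s, CL H) : CL (sSup s) := by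
  obtain ⟨H0, hH0⟩ := hs
  obtain ⟨M, ⟨hM, hMs⟩, hmax⟩ := Set.Finite.exists_maximal
    (s := {M : Subgroup G | CL M ∧ M ≤ sSup s}) (Set.toFinite _) ⟨H0, h _ hH0, le_sSup hH0⟩
  have : sSup s = M := le_antisymm
    (sSup_le fun K hK => le_sup_right.trans (hmax (y := M ⊔ K) ⟨hM.sup (h K hK), sup_le hMs (le_sSup hK)⟩ le_sup_left))
    hMs
  exact this ▸ hM

theorem cl_join : CL (Cfsg.centrallyLargeJoin G) := by
  obtain ⟨H, hH⟩ := exists_cl (G := G)
  exact cl_sSup _ ⟨H, isCentrallyLarge_iff.2 hH⟩ fun K hK => isCentrallyLarge_iff.1 hK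

theorem exists_minimal_le {H : Subgroup G} (hH : CL H) :
    ∃ Q ≤ H, Cfsg.IsMinimalCentrallyLarge Q := by
  obtain ⟨Q, ⟨hQ, hQH⟩, hmin⟩ := Set.Finite.exists_minimal
    (s := {Q : Subgroup G | CL Q ∧ Q ≤ H}) (Set.toFinite _) ⟨H, hH, le_rfl⟩
  exact ⟨Q, hQH, isCentrallyLarge_iff.2 hQ, fun R hR hRc =>
    le_antisymm hR (hmin (y := R) ⟨isCentrallyLarge_iff.1 hRc, hR.trans hQH⟩ hR)⟩

theorem cl_minimal_join : CL (Cfsg.minimalCentrallyLargeJoin G) := by
  obtain ⟨H, hH⟩ := exists_cl (G := G)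
  obtain ⟨Q, -, hQ⟩ := exists_minimal_le hH
  exact cl_sSup _ ⟨Q, hQ⟩ fun K hK => isCentrallyLarge_iff.1 hK.1

/-! ### interaction with abelian subgroups of largest order -/

theorem le_C_of_comm {A : Subgroup G} (h : IsMulCommutative A) : A ≤ C A := fun a ha =>
  mem_centralizer_iff.2 fun b hb => congrArg Subtype.val (h.is_comm.comm (⟨b, hb⟩ : A) ⟨a, ha⟩)

theorem comm_of_le_C {A : Subgroup G} (h : A ≤ C A) : IsMulCommutative A :=
  ⟨⟨fun a b => Subtype.ext ((mem_centralizer_iff.1 (h b.2) a a.2))⟩⟩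

/-- An abelian subgroup of largest order is self-centralising. -/
theorem C_eq_self {A : Subgroup G} (hA : A ∈ Cfsg.maxAbelianSubgroups G) : C A = A := by
  refine le_antisymm (fun x hx => ?_) (le_C_of_comm hA.1)
  have hB : IsMulCommutative (A ⊔ zpowers x : Subgroup G) := by
    refine comm_of_le_C ?_
    rw [C_sup]
    exact sup_le (le_inf (le_C_of_comm hA.1) (le_C_iff.1 (zpowers_le.2 hx)))
      (le_inf (zpowers_le.2 hx) (le_C_of_comm inferInstance))
  have := Subgroup.eq_of_le_of_card_ge (H := A) (K := A ⊔ zpowers x) le_sup_left (hA.2 _ hB)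
  exact this ▸ mem_sup_right (mem_zpowers x)

theorem C_eq_self_of_card {A B : Subgroup G} (hA : A ∈ Cfsg.maxAbelianSubgroups G)
    (hB : IsMulCommutative B) (h : Nat.card A ≤ Nat.card B) : B ∈ Cfsg.maxAbelianSubgroups G :=
  ⟨hB, fun D hD => (hA.2 D hD).trans h⟩

/-- `Q A` for `Q` centrally large and `A` abelian of largest order. -/
theorem cl_sup_abelian {Q A : Subgroup G} (hQ : CL Q) (hA : A ∈ Cfsg.maxAbelianSubgroups G) :
    ((Q ⊔ A : Subgroup G) : Set G) = (Q : Set G) * (A : Set G) ∧ CL (Q ⊔ A) ∧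
      (Q ⊓ A) ⊔ C Q ∈ Cfsg.maxAbelianSubgroups G := by
  set Z := C Q
  have hAC : C A = A := C_eq_self hA
  set B := (Q ⊓ A) ⊔ Z with hBdef
  have hBc : IsMulCommutative B := by
    refine comm_of_le_C ?_
    rw [hBdef, C_sup]
    refine sup_le (le_inf ((inf_le_right.trans (le_C_of_comm hA.1)).trans (C_antitone inf_le_right))
      (inf_le_left.trans (le_CC Q))) (le_inf (C_antitone inf_le_left) (hQ.2.trans (le_CC Q)))
  have hBA : Nat.card B ≤ Nat.card A := hA.2 B hBc
  have hinf : (Q ⊓ A) ⊓ Z = Z ⊓ A := by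
    refine le_antisymm (le_inf inf_le_right (inf_le_left.trans inf_le_right)) (le_inf (le_inf ?_ inf_le_right) inf_le_left)
    exact inf_le_left.trans hQ.2
  have e1 := ncard_mul Q A
  have e2 := ncard_mul (Q ⊓ A) Z
  rw [hinf] at e2
  have h1 := ncard_mul_le Q A
  have h2 := ncard_mul_le (Q ⊓ A) Z
  have hs := hQ.1 (Q ⊔ A)
  unfold m at hs
  have hCs : C (Q ⊔ A) = Z ⊓ A := by rw [C_sup, hAC]
  rw [hCs] at hs
  set a := ((Q : Set G) * (A : Set G)).ncard
  set b := (((Q ⊓ A : Subgroup G) : Set G) * (Z : Set G)).ncard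
  set cs := Nat.card (Q ⊔ A : Subgroup G)
  set ci := Nat.card (Q ⊓ A : Subgroup G)
  set cB := Nat.card B
  set cA := Nat.card A
  set cQ := Nat.card Q
  set cZ := Nat.card Z
  set cza := Nat.card (Z ⊓ A : Subgroup G)
  have hci : 0 < ci := Nat.card_pos
  have hza : 0 < cza := Nat.card_pos
  have hcQ : 0 < cQ := Nat.card_pos
  have hcA : 0 < cA := Nat.card_pos
  have hcs : 0 < cs := Nat.card_pos
  -- a * cza * b = cQ * cA * cZ
  have key : (a * cza) * b = (cQ * cZ) * cA := by
    apply Nat.eq_of_mul_eq_mul_right hci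
    calc (a * cza) * b * ci = (a * ci) * (b * cza) := by ring
      _ = (cQ * cA) * (ci * cZ) := by rw [e1, e2]
      _ = cQ * cZ * cA * ci := by ring
  have hb : b ≤ cA := (h2.trans hBA)
  have q1 : cs ≤ a := by
    by_contra hlt
    rw [not_le] at hlt
    have : (a * cza) * b < (cs * cza) * cA :=
      lt_of_le_of_lt (Nat.mul_le_mul_left _ hb)
        (Nat.mul_lt_mul_of_pos_right (Nat.mul_lt_mul_of_pos_right hlt hza) hcA)
    have : (cs * cza) * cA ≤ (cQ * cZ) * cA := Nat.mul_le_mul_right _ hs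
    omega
  have q2 : cQ * cZ ≤ cs * cza := by
    by_contra hlt
    rw [not_le] at hlt
    have : (a * cza) * b < (cQ * cZ) * cA :=
      lt_of_le_of_lt (Nat.mul_le_mul (Nat.mul_le_mul_right _ h1) hb) (Nat.mul_lt_mul_of_pos_right hlt hcA)
    omega
  have q3 : cA ≤ b := by
    by_contra hlt
    rw [not_le] at hlt
    have : (a * cza) * b < (cs * cza) * cA :=
      lt_of_le_of_lt (Nat.mul_le_mul_right _ (Nat.mul_le_mul_right _ h1))
        (Nat.mul_lt_mul_of_pos_left hlt (Nat.mul_pos hcs hza))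
    have : (cs * cza) * cA ≤ (cQ * cZ) * cA := Nat.mul_le_mul_right _ hs
    omega
  refine ⟨ncard_mul_eq_iff Q A q1, ⟨hQ.1.congr ?_, ?_⟩, C_eq_self_of_card hA hBc (q3.trans h2)⟩
  · unfold m
    rw [hCs]
    exact q2
  · rw [hCs]
    exact inf_le_right.trans le_sup_right

theorem C_thompson_le {R : Subgroup G} (hR : CL R) (h : Cfsg.thompsonSubgroupA G ≤ R) :
    C (Cfsg.thompsonSubgroupA G ⊓ C (Cfsg.thompsonSubgroupA G)) ≤ R := by
  set J := Cfsg.thompsonSubgroupA G
  obtain ⟨A, hA, hAmax⟩ := Set.Finite.exists_maximalFor (fun A : Subgroup G => Nat.card A)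
    {A : Subgroup G | IsMulCommutative A} (Set.toFinite _) ⟨⊥, show IsMulCommutative (⊥ : Subgroup G) from inferInstance⟩
  have hAm : A ∈ Cfsg.maxAbelianSubgroups G := ⟨hA, fun B hB => (le_total (Nat.card B) (Nat.card A)).elim id
    (fun h => hAmax hB h)⟩
  have hAJ : A ≤ J := le_sSup hAm
  have h1 : C R ≤ J ⊓ C J := le_inf
    (((C_antitone (hAJ.trans h)).trans (C_eq_self hAm).le).trans hAJ) (C_antitone h)
  exact (C_antitone h1).trans hR.1.centralizer.2.le

/-! ### minimal centrally large subgroups -/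

theorem minimal_eq {Q R : Subgroup G} (hQ : Cfsg.IsMinimalCentrallyLarge Q) (hR : CL R) :
    (Q ⊓ R) ⊔ C Q = Q := by
  have hQc := isCentrallyLarge_iff.1 hQ.1
  have hle : (Q ⊓ R) ⊔ C Q ≤ Q := sup_le inf_le_left hQc.2
  refine hQ.2 _ hle (isCentrallyLarge_iff.2 ⟨(hQc.1.inf hR.1).sup hQc.1.centralizer.1, ?_⟩)
  rw [C_sup, hQc.1.centralizer.2, hQc.1.C_inf hR.1]
  intro x hx
  have hx1 : x ∈ ((C Q : Subgroup G) : Set G) * (C R : Set G) := by
    rw [← (large_pair hQc.1 hR.1).2.2.2.1]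
    exact hx.1
  obtain ⟨a, ha, b, hb, rfl⟩ := hx1
  have hbQ : b ∈ Q := (Subgroup.mul_mem_cancel_left Q (hQc.2 ha)).1 hx.2
  rw [sup_comm]
  exact mul_mem_sup ha ⟨hbQ, hR.2 hb⟩

theorem minimal_invariants {Q R : Subgroup G} (hQ : Cfsg.IsMinimalCentrallyLarge Q)
    (hR : Cfsg.IsMinimalCentrallyLarge R) :
    ⁅Q, Q⁆ = ⁅R, R⁆ ∧ Nat.card Q = Nat.card R ∧ Nat.card (C Q) = Nat.card (C R) := by
  have hQc := isCentrallyLarge_iff.1 hQ.1
  have hRc := isCentrallyLarge_iff.1 hR.1
  have eQ := minimal_eq hQ hRc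
  have eR := minimal_eq hR hQc
  have hcomm : ∀ {Q R : Subgroup G}, (Q ⊓ R) ⊔ C Q = Q → ⁅Q, Q⁆ ≤ ⁅R, R⁆ := by
    intro Q R e
    have hset : (Q : Set G) = ((Q ⊓ R : Subgroup G) : Set G) * (C Q : Set G) := by
      conv_lhs => rw [← e]
      refine Subgroup.coe_mul_of_left_le_normalizer_right _ _ ?_
      intro x hx
      refine mem_normalizer_iff.2 fun y => ?_
      have hy : ∀ z ∈ C Q, x * z * x⁻¹ = z := fun z hz => by
        rw [mem_centralizer_iff.1 hz x hx.1, mul_inv_cancel_right]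
      refine ⟨fun h => (hy y h).symm ▸ h, fun h => ?_⟩
      have h1 := hy _ h
      have : x * y * x⁻¹ = y := by
        have h2 : x⁻¹ * (x * (x * y * x⁻¹) * x⁻¹) * x = x⁻¹ * (x * y * x⁻¹) * x := by rw [h1]
        simpa [mul_assoc] using h2
      rwa [this] at h
    rw [commutator_le]
    intro a ha b hb
    have ha' : a ∈ ((Q ⊓ R : Subgroup G) : Set G) * (C Q : Set G) := hset ▸ ha
    have hb' : b ∈ ((Q ⊓ R : Subgroup G) : Set G) * (C Q : Set G) := hset ▸ hb
    obtain ⟨a1, ha1, a2, ha2, rfl⟩ := ha'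
    obtain ⟨b1, hb1, b2, hb2, rfl⟩ := hb'
    have c1 : Commute a2 (b1 * b2) := (mem_centralizer_iff.1 ha2 _ hb).symm
    have c2 : Commute b2 a1 := (mem_centralizer_iff.1 hb2 _ ha1.1).symm
    have : ⁅a1 * a2, b1 * b2⁆ = ⁅a1, b1⁆ := by
      simp only [commutatorElement_def]
      calc a1 * a2 * (b1 * b2) * (a1 * a2)⁻¹ * (b1 * b2)⁻¹
          = a1 * (a2 * (b1 * b2)) * a2⁻¹ * a1⁻¹ * b2⁻¹ * b1⁻¹ := by group
        _ = a1 * ((b1 * b2) * a2) * a2⁻¹ * a1⁻¹ * b2⁻¹ * b1⁻¹ := by rw [c1.eq]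
        _ = a1 * b1 * (b2 * a1⁻¹) * b2⁻¹ * b1⁻¹ := by group
        _ = a1 * b1 * (a1⁻¹ * b2) * b2⁻¹ * b1⁻¹ := by rw [c2.inv_right.eq]
        _ = a1 * b1 * a1⁻¹ * b1⁻¹ := by group
    rw [this]
    exact commutator_mem_commutator ha1.2 hb1.2
  have hz : ∀ {Q R : Subgroup G}, CL Q → CL R → (Q ⊓ R) ⊔ C Q = Q →
      Nat.card Q * Nat.card ((Q ⊓ R) ⊓ C (Q ⊓ R) : Subgroup G) =
        Nat.card (Q ⊓ R : Subgroup G) * Nat.card (C Q) := by
    intro Q R hQ hR e
    have hint : (Q ⊓ R) ⊓ C (Q ⊓ R) = (Q ⊓ R) ⊓ C Q := by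
      refine le_antisymm ?_ (le_inf inf_le_left (inf_le_right.trans (C_antitone inf_le_left)))
      refine le_inf inf_le_left ?_
      conv_rhs => rw [← e, C_sup]
      exact le_inf inf_le_right (inf_le_left.trans (inf_le_left.trans (le_CC Q)))
    rw [hint]
    have h1 := ncard_mul (Q ⊓ R) (C Q)
    rw [← (large_pair (hQ.1.inf hR.1) hQ.1.centralizer.1).2.2.1, e, ← Nat.card_coe_set_eq] at h1
    exact h1
  have h1 := hz hQc hRc eQ
  have h2 := hz hRc hQc eR
  rw [inf_comm R Q] at h2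
  have hf : Nat.card Q * Nat.card (C Q) = Nat.card R * Nat.card (C R) :=
    le_antisymm (hRc.1 Q) (hQc.1 R)
  set k := Nat.card (Q ⊓ R : Subgroup G)
  set c := Nat.card ((Q ⊓ R) ⊓ C (Q ⊓ R) : Subgroup G)
  have hzz : Nat.card (C Q) * Nat.card (C Q) = Nat.card (C R) * Nat.card (C R) := by
    apply Nat.eq_of_mul_eq_mul_left (Nat.card_pos : 0 < k)
    calc k * (Nat.card (C Q) * Nat.card (C Q)) = (k * Nat.card (C Q)) * Nat.card (C Q) := by ring
      _ = c * (Nat.card Q * Nat.card (C Q)) := by rw [← h1]; ring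
      _ = c * (Nat.card R * Nat.card (C R)) := by rw [hf]
      _ = (k * Nat.card (C R)) * Nat.card (C R) := by rw [← h2]; ring
      _ = k * (Nat.card (C R) * Nat.card (C R)) := by ring
  have hzeq : Nat.card (C Q) = Nat.card (C R) := Nat.mul_self_inj.1 hzz
  exact ⟨le_antisymm (hcomm eQ) (hcomm eR),
    Nat.eq_of_mul_eq_mul_right Nat.card_pos (hf.trans (by rw [hzeq])), hzeq⟩

/-- If some minimal centrally large subgroup is abelian, they are the abelian subgroups of largest order. -/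
theorem minimal_iff_maxAbelian {Q : Subgroup G} (hQ : Cfsg.IsMinimalCentrallyLarge Q)
    (hab : IsMulCommutative Q) (X : Subgroup G) :
    Cfsg.IsMinimalCentrallyLarge X ↔ X ∈ Cfsg.maxAbelianSubgroups G := by
  have hQc := isCentrallyLarge_iff.1 hQ.1
  have hCQ : C Q = Q := le_antisymm hQc.2 (le_C_of_comm hab)
  have hQmax : Q ∈ Cfsg.maxAbelianSubgroups G := ⟨hab, fun B hB => by
    have h := hQc.1 B
    unfold m at h
    rw [hCQ] at h
    refine Nat.mul_self_le_mul_self_iff.1 (le_trans (Nat.mul_le_mul_left _ ?_) h)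
    exact card_le_of_le (le_C_of_comm hB)⟩
  constructor
  · intro hX
    obtain ⟨hd, hc, -⟩ := minimal_invariants hQ hX
    refine C_eq_self_of_card hQmax ?_ hc.le
    refine comm_of_le_C ?_
    rw [← commutator_eq_bot_iff_le_centralizer, ← hd, commutator_eq_bot_iff_le_centralizer]
    exact le_C_of_comm hab
  · intro hX
    have hc : Nat.card X = Nat.card Q := le_antisymm (hQmax.2 _ hX.1) (hX.2 _ hab)
    have hXc : CL X := by
      refine ⟨hQc.1.congr ?_, (C_eq_self hX).le⟩
      unfold m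
      rw [C_eq_self hX, hCQ, hc]
    obtain ⟨Y, hYX, hY⟩ := exists_minimal_le hXc
    obtain ⟨-, hYc, -⟩ := minimal_invariants hQ hY
    have hYX' : Y = X := Subgroup.eq_of_le_of_card_ge hYX (by omega)
    exact hYX' ▸ hY

/-- A proper nontrivial subgroup of a nonabelian simple group has measure less than the order. -/
theorem m_lt_of_simple [IsSimpleGroup G] (hG : ¬ IsMulCommutative G) {A : Subgroup G} (h1 : A ≠ ⊥)
    (h2 : A ≠ ⊤) : m A < Nat.card G := by
  by_contra hge
  rw [not_lt] at hge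
  have hconj : ∀ (H : Subgroup G) (g : G), m (H.map (MulAut.conj g).toMonoidHom) = m H := by
    intro H g
    unfold m
    have e : C (H.map (MulAut.conj g).toMonoidHom) = (C H).map (MulAut.conj g).toMonoidHom := by
      ext x
      rw [mem_map_equiv, MulAut.conj_symm_apply, mem_centralizer_iff, mem_centralizer_iff]
      constructor
      · intro h y hy
        have h3 := h _ ⟨y, hy, rfl⟩
        have h4 : g⁻¹ * (g * y * g⁻¹ * x) * g = g⁻¹ * (x * (g * y * g⁻¹)) * g := by
          simp only [MulEquiv.coe_toMonoidHom, MulAut.conj_apply] at h3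
          rw [h3]
        simpa [mul_assoc] using h4
      · rintro h _ ⟨y, hy, rfl⟩
        have h3 := h y hy
        have h4 : g * (y * (g⁻¹ * x * g)) * g⁻¹ = g * ((g⁻¹ * x * g) * y) * g⁻¹ := by rw [h3]
        simpa [mul_assoc] using h4
    rw [e, card_map_of_injective (f := (MulAut.conj g).toMonoidHom) (MulAut.conj g).injective,
      card_map_of_injective (f := (MulAut.conj g).toMonoidHom) (MulAut.conj g).injective]
  have hCtop : C (⊤ : Subgroup G) = ⊥ := by
    rw [C, coe_top, centralizer_univ]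
    exact (Subgroup.Normal.eq_bot_or_eq_top inferInstance).resolve_right fun e => hG
      ⟨⟨fun a b => mem_center_iff.1 (e ▸ mem_top b) a⟩⟩
  have hmtop : m (⊤ : Subgroup G) = Nat.card G := by
    unfold m
    rw [hCtop, card_top, card_bot, mul_one]
  have hmbot : m (⊥ : Subgroup G) = Nat.card G := by
    unfold m
    rw [show C (⊥ : Subgroup G) = ⊤ by simp [C, eq_top_iff, SetLike.le_def, mem_centralizer_iff], card_top,
      card_bot, one_mul]
  obtain ⟨M, hM, hMax⟩ := Set.Finite.exists_maximal (s := {M : Subgroup G | Large M})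
    (Set.toFinite _) exists_large
  have htop : Large (⊤ : Subgroup G) := by
    have hn : M.Normal := normalizer_eq_top_iff.1 (eq_top_iff.2 fun g _ =>
      mem_normalizer_iff_map_conj_eq.2 (Subgroup.eq_of_le_of_card_ge
        (le_sup_right.trans (hMax (y := M ⊔ M.map (MulAut.conj g).toMonoidHom)
          (hM.sup (hM.congr (hconj M g).ge)) le_sup_left))
        (le_of_eq (card_map_of_injective (f := (MulAut.conj g).toMonoidHom) (MulAut.conj g).injective).symm)))
    rcases hn.eq_bot_or_eq_top with e | e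
    · exact hM.congr (by rw [e, hmbot, hmtop])
    · exact e ▸ hM
  have hA : Large A := htop.congr (by rw [hmtop]; exact hge)
  -- a maximal proper one
  obtain ⟨B, ⟨hB, hBne, hBtop⟩, hBmax⟩ := Set.Finite.exists_maximal
    (s := {B : Subgroup G | Large B ∧ B ≠ ⊥ ∧ B ≠ ⊤}) (Set.toFinite _) ⟨A, hA, h1, h2⟩
  have hBn : B.Normal := by
    refine normalizer_eq_top_iff.1 (eq_top_iff.2 fun g _ => mem_normalizer_iff_map_conj_eq.2 ?_)
    set B' := B.map (MulAut.conj g).toMonoidHom
    have hc : Nat.card B' = Nat.card B :=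
      card_map_of_injective (f := (MulAut.conj g).toMonoidHom) (MulAut.conj g).injective
    by_cases e : B ⊔ B' = ⊤
    · have hset : g⁻¹ ∈ (B : Set G) * (B' : Set G) := by
        rw [← (large_pair hB (hB.congr (hconj B g).ge)).2.2.1, e]
        trivial
      obtain ⟨a, ha, _, ⟨b, hb, rfl⟩, hab⟩ := hset
      simp only [MulEquiv.coe_toMonoidHom, MulAut.conj_apply] at hab
      have hg : a * g * b = 1 := by
        calc a * g * b = a * (g * b * g⁻¹) * g := by group
          _ = 1 := by rw [hab, inv_mul_cancel]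
      have hgB : g ∈ B := by
        have : g = a⁻¹ * b⁻¹ := by
          calc g = a⁻¹ * (a * g * b) * b⁻¹ := by group
            _ = a⁻¹ * b⁻¹ := by rw [hg, mul_one]
        rw [this]
        exact mul_mem (inv_mem ha) (inv_mem hb)
      exact mem_normalizer_iff_map_conj_eq.1 (le_normalizer hgB)
    · exact Subgroup.eq_of_le_of_card_ge (le_sup_right.trans (hBmax (y := B ⊔ B')
        ⟨hB.sup (hB.congr (hconj B g).ge), fun h => hBne (le_bot_iff.1 (h ▸ le_sup_left)), e⟩ le_sup_left))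
        hc.ge
  exact (hBn.eq_bot_or_eq_top).elim hBne hBtop

end CfsgLib.LocalB.CD
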