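import Cfsg.Prelude.Def_IsolatedElements
import Cfsg.Agent.LocalB.Embedded

/-! Elementary properties of isolated p-elements. -/

set_option autoImplicit false

namespace CfsgLib.LocalB

variable {G : Type*} [Group G] [Finite G] {p : ℕ} [hp : Fact p.Prime] {x : G}

/-- An isolated element is central in every `p`-subgroup containing it. -/
theorem isolated_central (hiso : Cfsg.IsIsolated x) {U : Subgroup G} (hU : IsPGroup p U)
    (hxU : x ∈ U) : ∀ u ∈ U, u * x = x * u := by
  set C : Subgroup G := U ⊓ Subgroup.centralizer ({x} : Set G) with hC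
  by_cases hCU : C = U
  · intro u hu
    rw [← hCU] at hu
    exact Subgroup.mem_centralizer_singleton_iff.mp hu.2
  · exfalso
    obtain ⟨y, hyU, hyn, hyC⟩ := exists_mem_normalizer_not_mem hU (inf_le_left : C ≤ U) hCU
    apply hyC
    refine ⟨hyU, Subgroup.mem_centralizer_singleton_iff.mpr ?_⟩
    have hxC : x ∈ C := ⟨hxU, Subgroup.mem_centralizer_singleton_iff.mpr rfl⟩
    have h1 := ((Subgroup.mem_normalizer_iff.mp hyn x).mp hxC).2
    have h2 := hiso y (Subgroup.mem_centralizer_singleton_iff.mp h1).symm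
    exact mul_inv_eq_iff_eq_mul.mp h2

/-- Two p-elements of a subgroup `N` can be brought into one p-subgroup by conjugation in `N`. -/
theorem exists_conj_mem_pgroup {N : Subgroup G} {a b : G} (ha : a ∈ N) (hb : b ∈ N)
    (hpa : ∃ k, orderOf a = p ^ k) (hpb : ∃ k, orderOf b = p ^ k) :
    ∃ n ∈ N, ∃ U : Subgroup G, IsPGroup p U ∧ a ∈ U ∧ n * b * n⁻¹ ∈ U := by
  obtain ⟨P, hP⟩ := (IsPGroup.comap_subtype (K := N) (isPGroup_zpowers hpa)).exists_le_sylow
  obtain ⟨Q, hQ⟩ := (IsPGroup.comap_subtype (K := N) (isPGroup_zpowers hpb)).exists_le_sylow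
  obtain ⟨n, hn⟩ := MulAction.exists_smul_eq N Q P
  refine ⟨n, n.2, (P : Subgroup N).map N.subtype, P.isPGroup'.map _,
    ⟨⟨a, ha⟩, hP (Subgroup.mem_zpowers a), rfl⟩, ⟨n * ⟨b, hb⟩ * n⁻¹, ?_, rfl⟩⟩
  rw [← hn]
  exact ⟨⟨b, hb⟩, hQ (Subgroup.mem_zpowers b), rfl⟩

/-- A conjugate of an isolated p-element lying in a subgroup that also contains it is conjugate
to it by an element of that subgroup. -/
theorem isolated_conj_mem (hiso : Cfsg.IsIsolated x) (hx : ∃ k, orderOf x = p ^ k) {N : Subgroup G}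
    (hxN : x ∈ N) {g : G} (hg : g * x * g⁻¹ ∈ N) :
    ∃ n ∈ N, (n * g) * x * (n * g)⁻¹ = x := by
  have hg' : ∃ k, orderOf (g * x * g⁻¹) = p ^ k := by
    obtain ⟨k, hk⟩ := hx
    refine ⟨k, ?_⟩
    rw [← hk]
    exact orderOf_injective (MulAut.conj g).toMonoidHom (MulAut.conj g).injective x
  obtain ⟨n, hn, U, hU, hxU, hnU⟩ := exists_conj_mem_pgroup hxN hg hx hg'
  refine ⟨n, hn, hiso _ ?_⟩
  have h : n * g * x * (n * g)⁻¹ = n * (g * x * g⁻¹) * n⁻¹ := by simp [mul_assoc]
  rw [h]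
  exact (isolated_central hiso hU hxU _ hnU).symm

/-- A conjugate of a power of an isolated p-element that commutes with it equals that power. -/
theorem isolated_conj_pow (hiso : Cfsg.IsIsolated x) (hx : ∃ k, orderOf x = p ^ k) (m : ℤ) (g : G)
    (hc : (g * x ^ m * g⁻¹) * x = x * (g * x ^ m * g⁻¹)) : g * x ^ m * g⁻¹ = x ^ m := by
  set u := g * x ^ m * g⁻¹ with hu
  have hxC : x ∈ Subgroup.centralizer ({u} : Set G) :=
    Subgroup.mem_centralizer_singleton_iff.mpr hc.symm
  have hgC : g * x * g⁻¹ ∈ Subgroup.centralizer ({u} : Set G) := by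
    refine Subgroup.mem_centralizer_singleton_iff.mpr ?_
    exact ((show Commute x (x ^ m) from (Commute.refl x).zpow_right m).map
      (MulAut.conj g).toMonoidHom).eq
  obtain ⟨n, hn, hnx⟩ := isolated_conj_mem hiso hx hxC hgC
  have h1 : n * u * n⁻¹ = u := mul_inv_eq_iff_eq_mul.mpr (Subgroup.mem_centralizer_singleton_iff.mp hn)
  have h2 : n * u * n⁻¹ = x ^ m := by
    conv_rhs => rw [← hnx]
    rw [conj_zpow, hu]; simp [mul_assoc]
  rw [← h1, h2]

end CfsgLib.LocalB
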