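import Cfsg.Prelude.Def_IsolatedElements
import Cfsg.Agent.LocalB.Isolated
import Cfsg.Agent.Comp.PComponent
import Cfsg.Agent.PLocal.PConstrained
import Cfsg.Agent.Perm.MinimalNormal
import Mathlib.GroupTheory.SchurZassenhaus

/-! Structure of a minimal counterexample to the `Z*_p` statement. -/

set_option autoImplicit false
set_option linter.unusedVariables false

namespace CfsgLib.LocalB

open Subgroup CfsgLib.ExtPrim

variable {G : Type*} [Group G] [Finite G] {p : ℕ} [hp : Fact p.Prime] {x : G}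

theorem zp_pow (hx : orderOf x = p) : ∃ k, orderOf x = p ^ k := ⟨1, by rw [hx, pow_one]⟩

theorem zp_core_eq_bot (hnz : ¬ Cfsg.InZStar p x)
    (hquot : ∀ (N : Subgroup G) [N.Normal], N ≠ ⊥ → Cfsg.InZStar p (QuotientGroup.mk x : G ⧸ N)) :
    Cfsg.pPrimeCore p G = ⊥ := by
  by_contra hne
  refine hnz fun g => ?_
  have h := hquot (Cfsg.pPrimeCore p G) hne (QuotientGroup.mk g)
  rw [Fitting.pPrimeCore_quotient_eq_bot, mem_bot] at h
  exact (QuotientGroup.eq_one_iff _).mp (by simpa using h)

theorem zp_not_central (hnz : ¬ Cfsg.InZStar p x) : x ∉ center G := fun h => hnz fun g => by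
  rw [show g * x * g⁻¹ * x⁻¹ = 1 by rw [mem_center_iff.mp h g]; group]
  exact Subgroup.one_mem _

/-- In a minimal counterexample a normal subgroup not generating `G` with `x` is centralized
by `x`. -/
theorem zp_centralizes (hO : Cfsg.pPrimeCore p G = ⊥)
    (hmin : ∀ (H : Subgroup G) (hxH : x ∈ H), H ≠ ⊤ → Cfsg.InZStar p (⟨x, hxH⟩ : ↥H))
    {N : Subgroup G} [hN : N.Normal] (hne : N ⊔ zpowers x ≠ ⊤) :
    x ∈ centralizer (N : Set G) := by
  set H := N ⊔ zpowers x with hH
  have hxH : x ∈ H := mem_sup_right (mem_zpowers x)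
  have hNH : N ≤ H := le_sup_left
  refine mem_centralizer_iff.mpr fun n hn => ?_
  have hc := hmin H hxH hne ⟨n, hNH hn⟩
  let K : Subgroup G := (Cfsg.pPrimeCore p H).map H.subtype
  have hcK : n * x * n⁻¹ * x⁻¹ ∈ K := ⟨_, hc, rfl⟩
  have hcN : n * x * n⁻¹ * x⁻¹ ∈ N := by
    rw [show n * x * n⁻¹ * x⁻¹ = n * (x * n⁻¹ * x⁻¹) by group]
    exact N.mul_mem hn (hN.conj_mem _ (N.inv_mem hn) x)
  have hKsub : (K ⊓ N).IsSubnormal := by
    refine Subgroup.IsSubnormal.step (K ⊓ N) N inf_le_right hN.isSubnormal ?_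
    refine (normal_subgroupOf_iff_le_normalizer inf_le_right).2 fun g hg => ?_
    have hKn : H ≤ normalizer (K : Set G) :=
      Comp.normal_map_subtype_iff.1 (Solvable.pPrimeCore_normal (G := H) p)
    refine mem_normalizer_iff.2 fun y => ?_
    have h1 := mem_normalizer_iff.1 (hKn (hNH hg)) y
    have h2 := mem_normalizer_iff.1 (le_normalizer (H := N) hg) y
    exact and_congr h1 h2
  have hKc : (Nat.card ↥(K ⊓ N)).Coprime p := by
    refine Nat.Coprime.coprime_dvd_left (card_dvd_of_le inf_le_left) ?_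
    rw [show Nat.card K = Nat.card (Cfsg.pPrimeCore p H) from
      card_map_of_injective H.subtype_injective]
    exact Solvable.coprime_card_pPrimeCore p
  have h1 := PComp.subnormal_le_pPrimeCore hKsub hKc ⟨hcK, hcN⟩
  rw [hO, mem_bot, mul_inv_eq_one, mul_inv_eq_iff_eq_mul] at h1
  exact h1

/-- Every nontrivial minimal normal subgroup generates the group together with `x`. -/
theorem zp_sup_eq_top (hx : orderOf x = p) (hiso : Cfsg.IsIsolated x) (hnz : ¬ Cfsg.InZStar p x)
    (hmin : ∀ (H : Subgroup G) (hxH : x ∈ H), H ≠ ⊤ → Cfsg.InZStar p (⟨x, hxH⟩ : ↥H))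
    (hquot : ∀ (N : Subgroup G) [N.Normal], N ≠ ⊥ → Cfsg.InZStar p (QuotientGroup.mk x : G ⧸ N))
    {N : Subgroup G} [hN : N.Normal] (hne : N ≠ ⊥)
    (hNmin : ∀ K : Subgroup G, K.Normal → K ≤ N → K = ⊥ ∨ K = N) : N ⊔ zpowers x = ⊤ := by
  by_contra htop
  have hO := zp_core_eq_bot hnz hquot
  have hxC := zp_centralizes hO hmin htop
  set C := centralizer (N : Set G) with hC
  set K := (Cfsg.pPrimeCore p (G ⧸ N)).comap (QuotientGroup.mk' N) with hK
  set D := C ⊓ K with hD
  have : D.Normal := inferInstance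
  have hmem : ∀ g : G, g * x * g⁻¹ * x⁻¹ ∈ D := fun g =>
    ⟨C.mul_mem ((inferInstance : C.Normal).conj_mem x hxC g) (C.inv_mem hxC), by
      have := hquot N hne (QuotientGroup.mk g)
      simpa [hK] using this⟩
  have hidx : (N.relIndex D).Coprime p := by
    have h1 : N.relIndex D = Nat.card (D.map (QuotientGroup.mk' N)) := by
      rw [← relIndex_ker, QuotientGroup.ker_mk']
    rw [h1]
    refine (Solvable.coprime_card_pPrimeCore p).coprime_dvd_left (card_dvd_of_le ?_)
    exact map_le_iff_le_comap.mpr inf_le_right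
  have hDN : D ≤ N := by
    rcases hNmin (N ⊓ C) inferInstance inf_le_left with h | h
    · have hbot : N ⊓ D = ⊥ := by
        rw [eq_bot_iff, ← h]; exact inf_le_inf_left _ inf_le_left
      have hcard : N.relIndex D = Nat.card D := by
        rw [← inf_relIndex_right, hbot, relIndex_bot_left]
      have := Solvable.le_pPrimeCore p (N := D) inferInstance (hcard ▸ hidx)
      exact this.trans (hO.le.trans bot_le)
    · have hNC : N ≤ C := h ▸ inf_le_right
      have hND : N ≤ D := le_inf hNC fun n hn => by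
        have h1 : (QuotientGroup.mk' N) n = 1 := (QuotientGroup.eq_one_iff (N := N) n).mpr hn
        rw [hK, mem_comap, h1]
        exact one_mem _
      -- `N` is a `p`-group
      have hNp : IsPGroup p N := by
        have hab : ∀ a b : N, a * b = b * a := fun a b =>
          Subtype.ext (mem_centralizer_iff.mp (hNC b.2) a a.2)
        by_cases hpN : p ∣ Nat.card N
        · obtain ⟨a, ha⟩ := exists_prime_orderOf_dvd_card' p hpN
          have hzn : (zpowers a).Normal := ⟨fun n hn g => by
            rw [hab g n, mul_assoc, mul_inv_cancel, mul_one]; exact hn⟩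
          have hzp : IsPGroup p (zpowers a) := IsPGroup.of_card (n := 1) (by
            rw [Nat.card_zpowers, ha, pow_one])
          have hle := Solvable.le_pCore p hzn hzp
          have hn' := PConstrained.normal_map_pCore (p := p) hN
          rcases hNmin _ hn' (map_subtype_le _) with hb | ht
          · exfalso
            have : (a : G) ∈ (⊥ : Subgroup G) := hb ▸ ⟨a, hle (mem_zpowers a), rfl⟩
            rw [mem_bot] at this
            have h1 : a = 1 := Subtype.ext this
            rw [h1, orderOf_one] at ha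
            exact hp.out.one_lt.ne ha
          · rw [← ht]; exact (Solvable.isPGroup_pCore p).map _
        · exfalso
          apply hne
          rw [eq_bot_iff, ← hO]
          exact Solvable.le_pPrimeCore p hN ((hp.out.coprime_iff_not_dvd.mpr hpN).symm)
      set N' := N.subgroupOf D
      have hN'card : Nat.card N' = Nat.card N := Nat.card_congr (subgroupOfEquivOfLe hND).toEquiv
      have hcop : (Nat.card N').Coprime N'.index := by
        obtain ⟨n, hn⟩ := hNp.exists_card_eq
        rw [hN'card, hn]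
        exact (Nat.Coprime.pow_right n hidx).symm
      obtain ⟨H, hH⟩ := exists_right_complement'_of_coprime hcop
      have hHn : H.Normal := by
        rw [← normalizer_eq_top_iff, eq_top_iff, ← hH.sup_eq_top]
        refine sup_le ((?_ : N' ≤ centralizer (H : Set D)).trans (centralizer_le_normalizer _))
          le_normalizer
        intro n hn
        refine mem_centralizer_iff.mpr fun h hh => Subtype.ext ?_
        exact (mem_centralizer_iff.mp (h.2.1) (n : G) hn).symm
      have hHcard : (Nat.card H).Coprime p := by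
        have : Nat.card H = N'.index := hH.symm.index_eq_card.symm
        rw [this]; exact hidx
      have hHsub : (H.map D.subtype).IsSubnormal := by
        refine Subgroup.IsSubnormal.step _ D (map_subtype_le _) (‹D.Normal›.isSubnormal) ?_
        rwa [subgroupOf, comap_map_eq_self_of_injective D.subtype_injective]
      have hHbot : H = ⊥ := by
        have h1 := PComp.subnormal_le_pPrimeCore hHsub
          (by rwa [card_map_of_injective D.subtype_injective])
        rw [hO, le_bot_iff, map_eq_bot_iff_of_injective _ D.subtype_injective] at h1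
        exact h1
      intro d hd
      have hN'top : N' = ⊤ := by simpa [hHbot] using hH.sup_eq_top
      exact (hN'top ▸ mem_top (⟨d, hd⟩ : D) : (⟨d, hd⟩ : D) ∈ N')
  refine zp_not_central hnz (mem_center_iff.mpr fun g => ?_)
  have hc : g * x * g⁻¹ * x⁻¹ ∈ N := hDN (hmem g)
  have h1 := mem_centralizer_iff.mp hxC _ hc
  have h2 := hiso g ?_
  · exact mul_inv_eq_iff_eq_mul.mp h2
  · have h3 : Commute x (g * x * g⁻¹ * x⁻¹) := h1.symm
    simpa using h3.mul_right (Commute.refl x)

theorem zp_isPGroup_central (hiso : Cfsg.IsIsolated x) (h : IsPGroup p (⊤ : Subgroup G)) :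
    x ∈ center G :=
  mem_center_iff.mpr fun g => isolated_central hiso h (mem_top x) g (mem_top g)

/-- The derived group of a minimal counterexample is non-abelian simple and `G = G'⟨x⟩`. -/
theorem zp_derived_simple (hx : orderOf x = p) (hiso : Cfsg.IsIsolated x)
    (hnz : ¬ Cfsg.InZStar p x)
    (hmin : ∀ (H : Subgroup G) (hxH : x ∈ H), H ≠ ⊤ → Cfsg.InZStar p (⟨x, hxH⟩ : ↥H))
    (hquot : ∀ (N : Subgroup G) [N.Normal], N ≠ ⊥ → Cfsg.InZStar p (QuotientGroup.mk x : G ⧸ N)) :
    IsSimpleGroup ↥(commutator G) ∧ ¬ IsMulCommutative ↥(commutator G) ∧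
      commutator G ⊔ zpowers x = ⊤ := by
  have hO := zp_core_eq_bot hnz hquot
  have htopne : (⊤ : Subgroup G) ≠ ⊥ := fun h => zp_not_central hnz (by
    have : x ∈ (⊥ : Subgroup G) := h ▸ mem_top x
    rw [mem_bot.mp this]; exact one_mem _)
  obtain ⟨N, hNn, hNne, hNmin⟩ : ∃ N : Subgroup G, N.Normal ∧ N ≠ ⊥ ∧
      ∀ K : Subgroup G, K.Normal → K ≤ N → K = ⊥ ∨ K = N := by
    obtain ⟨N, hN⟩ := ((Set.toFinite {N : Subgroup G | N.Normal ∧ N ≠ ⊥})).exists_minimal
      ⟨⊤, inferInstance, htopne⟩
    refine ⟨N, hN.1.1, hN.1.2, fun K hK hle => ?_⟩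
    by_cases h : K = ⊥
    · exact Or.inl h
    · exact Or.inr (le_antisymm hle (hN.2 ⟨hK, h⟩ hle))
  have hsup := zp_sup_eq_top hx hiso hnz hmin hquot hNne hNmin
  have hxp : IsPGroup p (zpowers x) := isPGroup_zpowers (zp_pow hx)
  have hpN : p ∣ Nat.card N := by
    by_contra h
    exact hNne (le_bot_iff.mp ((Solvable.le_pPrimeCore p hNn
      (hp.out.coprime_iff_not_dvd.mpr h).symm).trans hO.le))
  have hna : ¬ IsMulCommutative N := by
    intro hab
    have hn' := PConstrained.normal_map_pCore (p := p) hNn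
    have hNp : IsPGroup p N := by
      obtain ⟨a, ha⟩ := exists_prime_orderOf_dvd_card' p hpN
      have hzn : (zpowers a).Normal := ⟨fun n hn g => by
        rw [hab.1.comm g n, mul_assoc, mul_inv_cancel, mul_one]; exact hn⟩
      have hle := Solvable.le_pCore p hzn (IsPGroup.of_card (n := 1) (by
            rw [Nat.card_zpowers, ha, pow_one]) : IsPGroup p (zpowers a))
      rcases hNmin _ hn' (map_subtype_le _) with hb | ht
      · exfalso
        have : (a : G) ∈ (⊥ : Subgroup G) := hb ▸ ⟨a, hle (mem_zpowers a), rfl⟩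
        rw [mem_bot] at this
        have h1 : a = 1 := Subtype.ext this
        rw [h1, orderOf_one] at ha
        exact hp.out.one_lt.ne ha
      · rw [← ht]; exact (Solvable.isPGroup_pCore p).map _
    exact zp_not_central hnz (zp_isPGroup_central hiso
      (hsup ▸ hNp.to_sup_of_normal_left hxp))
  obtain ⟨T, hT⟩ := exists_isFactor N hNne hNmin hna
  -- the commutator subgroup is `N`
  have hcomm : commutator G = N := by
    refine le_antisymm ?_ ?_
    · rw [commutator_def, commutator_le]
      intro a _ b _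
      rw [← QuotientGroup.eq_one_iff]
      have hz : ∀ g : G, ∃ i : ℤ, (QuotientGroup.mk g : G ⧸ N) = (QuotientGroup.mk x) ^ i := by
        intro g
        obtain ⟨n, hn, z, hz, rfl⟩ := exists_mul_of_le_normalizer
          (H := N) (K := zpowers x) Subgroup.le_normalizer_of_normal (hsup ▸ mem_top g)
        obtain ⟨i, rfl⟩ := mem_zpowers_iff.mp hz
        exact ⟨i, by rw [QuotientGroup.mk_mul, (QuotientGroup.eq_one_iff n).mpr hn, one_mul,
          QuotientGroup.mk_zpow]⟩
      obtain ⟨i, hi⟩ := hz a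
      obtain ⟨j, hj⟩ := hz b
      rw [← QuotientGroup.mk'_apply, map_commutatorElement, QuotientGroup.mk'_apply,
        QuotientGroup.mk'_apply, hi, hj, commutatorElement_eq_one_iff_commute]
      exact Commute.zpow_zpow_self _ i j
    · rcases hNmin (N ⊓ commutator G) inferInstance inf_le_left with h | h
      · exfalso
        apply hna
        refine ⟨⟨fun a b => Subtype.ext (commutatorElement_eq_one_iff_mul_comm.mp ?_)⟩⟩
        rw [← mem_bot, ← h]
        refine ⟨?_, commutator_mem_commutator (mem_top _) (mem_top _)⟩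
        exact N.mul_mem (N.mul_mem (N.mul_mem a.2 b.2) (N.inv_mem a.2)) (N.inv_mem b.2)
      · exact h ▸ inf_le_right
  rw [hcomm]
  refine ⟨?_, hna, hsup⟩
  -- `x` normalizes a factor
  have hpT : p ∣ Nat.card T := by
    by_contra h
    refine hT.ne_bot (le_bot_iff.mp ((PComp.subnormal_le_pPrimeCore ?_
      (hp.out.coprime_iff_not_dvd.mpr h).symm).trans hO.le))
    refine Subgroup.IsSubnormal.step T N hT.le hNn.isSubnormal ?_
    exact ⟨fun t ht n => hT.conj_mem n n.2 t ht⟩
  obtain ⟨t, ht⟩ := exists_prime_orderOf_dvd_card' p hpT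
  obtain ⟨n, -, U, hU, hxU, hnU⟩ := exists_conj_mem_pgroup (p := p) (N := (⊤ : Subgroup G))
    (mem_top x) (mem_top (t : G)) (zp_pow hx) ⟨1, by rw [orderOf_coe, ht, pow_one]⟩
  set t' := n * (t : G) * n⁻¹
  have htc := isolated_central hiso hU hxU t' hnU
  have hT' : IsFactor N (cj n T) := hT.cj n
  have ht'mem : t' ∈ cj n T := conj_mem_cj t.2
  have ht'ne : t' ≠ 1 := by
    simp only [t', Ne, conj_eq_one_iff, OneMemClass.coe_eq_one]
    intro h
    rw [h, orderOf_one] at ht
    exact hp.out.one_lt.ne ht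
  have hfix : cj x (cj n T) = cj n T := by
    by_contra hne'
    have h1 : t' ∈ others (cj n T) := by
      refine cj_le_others hne' ?_
      rw [mem_cj, show x⁻¹ * t' * x = t' by rw [mul_assoc, htc, inv_mul_cancel_left]]
      exact ht'mem
    exact ht'ne (mem_bot.mp (hT'.inf_others ▸ ⟨ht'mem, h1⟩))
  have hnorm : (cj n T).Normal := by
    rw [← normalizer_eq_top_iff, eq_top_iff, ← hsup]
    refine sup_le ?_ ((zpowers_le).mpr ?_)
    · intro m hm
      exact mem_normalizer_of_map_conj_eq (hT'.cj_eq_of_mem hm)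
    · exact mem_normalizer_of_map_conj_eq hfix
  rcases hNmin _ hnorm hT'.le with h | h
  · exact absurd h hT'.ne_bot
  · exact h ▸ hT'.simple

/-- Two `x`-invariant Sylow subgroups are conjugate under the centralizer of an isolated `x`. -/
theorem zp_sylow_transitive (hx : ∃ k, orderOf x = p ^ k) (hiso : Cfsg.IsIsolated x) {q : ℕ}
    [Fact q.Prime] (S₁ S₂ : Sylow q G)
    (h₁ : x ∈ normalizer ((S₁ : Subgroup G) : Set G))
    (h₂ : x ∈ normalizer ((S₂ : Subgroup G) : Set G)) :
    ∃ c ∈ centralizer ({x} : Set G),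
      (S₁ : Subgroup G).map (MulAut.conj c).toMonoidHom = (S₂ : Subgroup G) := by
  obtain ⟨g, hg⟩ := MulAction.exists_smul_eq G S₁ S₂
  have hgS : (S₁ : Subgroup G).map (MulAut.conj g).toMonoidHom = (S₂ : Subgroup G) := by
    rw [← hg]; rfl
  have hmem : g⁻¹ * x * g⁻¹⁻¹ ∈ normalizer ((S₁ : Subgroup G) : Set G) := by
    refine mem_normalizer_of_map_conj_eq ?_
    rw [← map_conj_map_conj, ← map_conj_map_conj, inv_inv, hgS,
      map_conj_eq_of_mem_normalizer h₂, ← hgS, map_conj_map_conj, inv_mul_cancel]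
    ext; simp
  obtain ⟨n, hn, hnx⟩ := isolated_conj_mem hiso hx h₁ hmem
  refine ⟨g * n⁻¹, ?_, ?_⟩
  · refine mem_centralizer_singleton_iff.mpr ?_
    rw [show g * n⁻¹ = (n * g⁻¹)⁻¹ by group]
    exact (Commute.inv_left (mul_inv_eq_iff_eq_mul.mp hnx)).eq
  · rw [← map_conj_map_conj, map_conj_eq_of_mem_normalizer (Subgroup.inv_mem _ hn), hgS]

/-- A maximal `x`-invariant `q`-subgroup of a minimal counterexample is trivial or Sylow. -/
theorem zp_maximal_invariant (hx : orderOf x = p) (hnz : ¬ Cfsg.InZStar p x)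
    (hmin : ∀ (H : Subgroup G) (hxH : x ∈ H), H ≠ ⊤ → Cfsg.InZStar p (⟨x, hxH⟩ : ↥H))
    (hquot : ∀ (N : Subgroup G) [N.Normal], N ≠ ⊥ → Cfsg.InZStar p (QuotientGroup.mk x : G ⧸ N))
    {q : ℕ} [hq : Fact q.Prime] {Q : Subgroup G} (hQ : IsPGroup q Q)
    (hxQ : x ∈ normalizer (Q : Set G))
    (hmax : ∀ R : Subgroup G, IsPGroup q R → x ∈ normalizer (R : Set G) → Q ≤ R → R = Q) :
    Q = ⊥ ∨ ∃ S : Sylow q G, (S : Subgroup G) = Q := by
  by_cases hQ1 : Q = ⊥
  · exact Or.inl hQ1
  right
  obtain ⟨P, hP⟩ := hQ.exists_le_sylow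
  refine ⟨P, ?_⟩
  by_cases hpq : q = p
  · subst hpq
    have hxp : IsPGroup q (zpowers x) := isPGroup_zpowers (zp_pow hx)
    have hxle : zpowers x ≤ normalizer (Q : Set G) := zpowers_le.mpr hxQ
    have h1 : IsPGroup q ↥(Q ⊔ zpowers x) := hQ.to_sup_of_normal_left' hxp hxle
    have h2 := hmax _ h1 (le_normalizer (mem_sup_right (mem_zpowers x))) le_sup_left
    have hxQ' : x ∈ Q := h2 ▸ mem_sup_right (mem_zpowers x)
    exact hmax P P.isPGroup' (le_normalizer (hP hxQ')) hP
  by_contra hne
  obtain ⟨y, hyP, hyn, hyQ⟩ := exists_mem_normalizer_not_mem P.isPGroup' hP (Ne.symm hne)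
  set M := normalizer (Q : Set G) with hM
  have hQM : Q ≤ M := le_normalizer
  have hMtop : M ≠ ⊤ := by
    intro h
    have hQn : Q.Normal := normalizer_eq_top_iff.mp h
    apply hQ1
    rw [eq_bot_iff, ← zp_core_eq_bot hnz hquot]
    refine Solvable.le_pPrimeCore p hQn ?_
    obtain ⟨k, hk⟩ := hQ.exists_card_eq
    rw [hk]
    exact Nat.Coprime.pow_left _ ((Nat.coprime_primes hq.out hp.out).mpr hpq)
  have hz := hmin M hxQ hMtop
  -- the `q`-subgroup of `M` above `Q`
  set K := (Cfsg.pPrimeCore p M).map M.subtype with hK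
  have hKM : K ≤ M := map_subtype_le _
  have hKn : M ≤ normalizer (K : Set G) :=
    Comp.normal_map_subtype_iff.1 (Solvable.pPrimeCore_normal (G := M) p)
  have hQy : IsPGroup q ↥(Q ⊔ zpowers y) :=
    hQ.to_sup_of_normal_left' (P.isPGroup'.to_le (zpowers_le.mpr hyP)) (zpowers_le.mpr hyn)
  obtain ⟨S, hS⟩ := (IsPGroup.comap_subtype (K := M) hQy).exists_le_sylow
  -- `W = K S` is normalized by `x`
  set W := K ⊔ (S : Subgroup M).map M.subtype with hW
  have hWM : W ≤ M := sup_le hKM (map_subtype_le _)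
  have hcom : ∀ m ∈ M, m * x * m⁻¹ * x⁻¹ ∈ K := fun m hm => ⟨_, hz ⟨m, hm⟩, rfl⟩
  have hxW : ∀ w ∈ W, x * w * x⁻¹ ∈ W := fun w hw => by
    have h1 := hcom w⁻¹ (inv_mem (hWM hw))
    have h2 : w * (w⁻¹ * x * w⁻¹⁻¹ * x⁻¹) ∈ W := mul_mem hw ((le_sup_left : K ≤ W) h1)
    simpa [mul_assoc] using h2
  have hWcard : (Nat.card W).Coprime p := by
    rw [hW, sup_comm]
    refine Nat.Coprime.coprime_dvd_left (Solvable.card_sup_dvd
      ((map_subtype_le _).trans hKn)) (Nat.Coprime.mul_left ?_ ?_)
    · obtain ⟨k, hk⟩ := S.isPGroup'.exists_card_eq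
      rw [card_map_of_injective M.subtype_injective, hk]
      exact Nat.Coprime.pow_left _ ((Nat.coprime_primes hq.out hp.out).mpr hpq)
    · rw [hK, card_map_of_injective M.subtype_injective]
      exact Solvable.coprime_card_pPrimeCore p
  have hxN : zpowers x ≤ normalizer (W : Set G) :=
    zpowers_le.mpr (mem_normalizer_of_conj_le hxW)
  let φ : zpowers x →* MulAut W := W.normalizerMonoidHom.comp (Subgroup.inclusion hxN)
  obtain ⟨R, hR⟩ : ∃ R : Sylow q W, ∀ z : zpowers x, φ z • R = R := by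
    letI : MulAction (zpowers x) (Sylow q W) := MulAction.compHom _ φ
    have hnd : ¬ p ∣ Nat.card (Sylow q W) := fun h => by
      have h1 := h.trans (Sylow.card_dvd_index (default : Sylow q W) |>.trans
        (Subgroup.index_dvd_card _))
      exact hp.out.one_lt.ne' (Nat.dvd_one.mp (hWcard ▸ Nat.dvd_gcd h1 dvd_rfl))
    obtain ⟨R, hR⟩ := (isPGroup_zpowers (p := p) (zp_pow hx)).nonempty_fixed_point_of_prime_not_dvd_card
      (Sylow q W) hnd
    exact ⟨R, hR⟩
  set R' := (R : Subgroup W).map W.subtype with hR'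
  have hxR : x ∈ normalizer (R' : Set G) := by
    refine mem_normalizer_of_conj_le fun r hr => ?_
    obtain ⟨r, hr, rfl⟩ := hr
    have h1 : φ ⟨x, mem_zpowers x⟩ r ∈ (R : Subgroup W) := by
      rw [← hR ⟨x, mem_zpowers x⟩]
      exact ⟨r, hr, rfl⟩
    exact ⟨_, h1, rfl⟩
  -- `|R'| ≥ |S|` and `Q ≤ R'`
  have hSR : Nat.card S ≤ Nat.card R := by
    obtain ⟨k, hk⟩ := S.isPGroup'.exists_card_eq
    have h1 : Nat.card S ∣ Nat.card R := by
      rw [hk]
      refine Sylow.pow_dvd_card_of_pow_dvd_card R ?_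
      rw [← hk, ← show Nat.card ↥((S : Subgroup M).map M.subtype) = Nat.card S from card_map_of_injective M.subtype_injective]
      exact card_dvd_of_le le_sup_right
    exact Nat.le_of_dvd Nat.card_pos h1
  have hR'p : IsPGroup q R' := R.isPGroup'.map _
  have hRQ : IsPGroup q ↥(Q ⊔ R') :=
    hQ.to_sup_of_normal_left' hR'p ((map_subtype_le _).trans hWM)
  have h2 := hmax _ hRQ ?_ le_sup_left
  · have hlt : Nat.card R ≤ Nat.card Q := by
      rw [← show Nat.card R' = Nat.card R from card_map_of_injective W.subtype_injective]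
      exact Nat.card_le_card_of_injective _ (Subgroup.inclusion_injective (h2 ▸ le_sup_right : R' ≤ Q))
    have hge : Nat.card ↥(Q ⊔ zpowers y) ≤ Nat.card S := by
      rw [← show Nat.card ↥((S : Subgroup M).map M.subtype) = Nat.card S from card_map_of_injective M.subtype_injective]
      refine Nat.card_le_card_of_injective _ (Subgroup.inclusion_injective (?_ : Q ⊔ zpowers y ≤ _))
      intro z hz
      exact ⟨⟨z, sup_le hQM (zpowers_le.mpr hyn) hz⟩, hS hz, rfl⟩
    have := Subgroup.eq_of_le_of_card_ge (le_sup_left : Q ≤ Q ⊔ zpowers y)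
      (hge.trans (hSR.trans hlt))
    exact hyQ (this ▸ mem_sup_right (mem_zpowers y))
  · refine mem_normalizer_of_map_conj_eq ?_
    rw [Subgroup.map_sup, map_conj_eq_of_mem_normalizer hxQ, map_conj_eq_of_mem_normalizer hxR]

end CfsgLib.LocalB
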