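import Cfsg.Agent.LocalB.BlockModules
import Cfsg.Agent.Functor.Sylow
import Cfsg.Agent.PLocal.Thompson
import Cfsg.Agent.CharP.FrakM
import Cfsg.Agent.Transfer.PResidual
import Cfsg.Agent.Coprime.Generation
import Cfsg.Agent.Solvable.Fitting
import Mathlib.GroupTheory.Nilpotent

/-!
Weak closure of the Baumann subgroup and basic properties of `B(T)`-blocks.
-/

set_option autoImplicit false
set_option linter.style.haveILetI false
set_option linter.unusedSectionVars false

namespace CfsgLib.Baumann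

open Subgroup CfsgLib.Functor CfsgLib.BlockModule
open scoped CfsgLib.Functor commutatorElement

universe u

variable {G : Type u} [Group G] [Finite G] {p : ℕ} [Fact p.Prime]

/-! ### The Baumann subgroup -/

theorem cj_thompson (g : G) (U : Subgroup G) :
    g ⋆ Cfsg.thompsonSubgroupOf p U = Cfsg.thompsonSubgroupOf p (g ⋆ U) :=
  CfsgLib.Thompson.map_thompsonSubgroupOf (MulAut.conj g) U

theorem cj_omegaOne (g : G) (U : Subgroup G) :
    g ⋆ Cfsg.omegaOne p U = Cfsg.omegaOne p (g ⋆ U) :=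
  CfsgLib.Thompson.map_omegaOne _ (MulAut.conj g).injective U

theorem cj_omegaOneCenter (g : G) (U : Subgroup G) :
    g ⋆ Cfsg.omegaOneCenter p U = Cfsg.omegaOneCenter p (g ⋆ U) := by
  rw [Cfsg.omegaOneCenter, Cfsg.omegaOneCenter, cj_omegaOne, cj_inf, cj_centralizer]

theorem cj_baumann (g : G) (U : Subgroup G) :
    g ⋆ Cfsg.baumannSubgroupOf p U = Cfsg.baumannSubgroupOf p (g ⋆ U) := by
  rw [Cfsg.baumannSubgroupOf, Cfsg.baumannSubgroupOf, cj_inf, cj_centralizer, cj_omegaOne,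
    Cfsg.centerThompsonOf, Cfsg.centerThompsonOf, cj_inf, cj_centralizer, cj_thompson]

theorem baumann_le (U : Subgroup G) : Cfsg.baumannSubgroupOf p U ≤ U := inf_le_left

theorem thompson_le_baumann (U : Subgroup G) :
    Cfsg.thompsonSubgroupOf p U ≤ Cfsg.baumannSubgroupOf p U := by
  refine le_inf (CfsgLib.Thompson.thompsonSubgroupOf_le U) fun j hj => mem_centralizer_iff.2
    fun x hx => ?_
  have hx' : x ∈ centralizer (Cfsg.thompsonSubgroupOf p U : Set G) :=
    (CfsgLib.Thompson.omegaOne_le _ hx).2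
  exact (mem_centralizer_iff.1 hx' j hj).symm

theorem exists_cj_sylow (T S : Sylow p G) : ∃ g : G, g ⋆ (T : Subgroup G) = (S : Subgroup G) := by
  obtain ⟨g, -, hg⟩ := (isSylowIn_top S).exists_cj_eq (isSylowIn_top T)
  exact ⟨g, hg⟩

theorem thompson_eq_of_le (T S : Sylow p G)
    (h : Cfsg.thompsonSubgroupOf p (T : Subgroup G) ≤ (S : Subgroup G)) :
    Cfsg.thompsonSubgroupOf p (T : Subgroup G) = Cfsg.thompsonSubgroupOf p (S : Subgroup G) := by
  obtain ⟨g, hg⟩ := exists_cj_sylow T S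
  refine eq_of_le_of_card_le' ?_ ?_
  · rw [CfsgLib.Thompson.thompsonSubgroupOf_eq, CfsgLib.Thompson.thompsonSubgroupOf_eq]
    refine sSup_le fun A hA => ?_
    obtain ⟨B, hB⟩ := CfsgLib.Thompson.exists_maxIn (p := p) (S : Subgroup G)
    have hAS : A ≤ (S : Subgroup G) := by
      refine le_trans ?_ h
      rw [CfsgLib.Thompson.thompsonSubgroupOf_eq]
      exact le_sSup hA
    refine le_sSup ⟨hAS, hA.2.1, fun D hD hD' => ?_⟩
    have h2 := hA.2.2 (g⁻¹ ⋆ D) (by rw [cj_le_iff', inv_inv, hg]; exact hD)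
      (CfsgLib.Thompson.elab_map _ hD')
    rwa [card_cj] at h2
  · rw [← hg, ← cj_thompson, card_cj]

/-- `B(T)` is weakly closed: every `p`-group containing it normalizes it. -/
theorem le_normalizer_baumann (T : Sylow p G) {P : Subgroup G} (hP : IsPGroup p ↥P)
    (h : Cfsg.baumannSubgroupOf p (T : Subgroup G) ≤ P) :
    P ≤ normalizer (Cfsg.baumannSubgroupOf p (T : Subgroup G) : Set G) := by
  obtain ⟨S, hS⟩ := hP.exists_le_sylow
  obtain ⟨g, hg⟩ := exists_cj_sylow T S
  have hJ := thompson_eq_of_le T S ((thompson_le_baumann _).trans (h.trans hS))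
  have hB : Cfsg.baumannSubgroupOf p (T : Subgroup G) =
      Cfsg.baumannSubgroupOf p (S : Subgroup G) := by
    refine eq_of_le_of_card_le' (le_inf (h.trans hS) ?_) ?_
    · unfold Cfsg.baumannSubgroupOf Cfsg.centerThompsonOf
      rw [← hJ]
      exact inf_le_right
    · rw [← hg, ← cj_baumann, card_cj]
  intro x hx
  rw [mem_normalizer_iff_cj, hB, cj_baumann, cj_eq_self_of_mem (hS hx)]

/-! ### Commutator subgroups -/

theorem le_normalizer_commutator_right (H K : Subgroup G) :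
    K ≤ normalizer ((⁅H, K⁆ : Subgroup G) : Set G) := fun b hb => by
  rw [mem_normalizer_iff_cj]
  refine eq_of_le_of_card_le' ?_ (card_cj _ _).ge
  rw [cj_le_iff', Subgroup.commutator_le]
  intro h hh k hk
  rw [mem_cj, inv_inv, show b * ⁅h, k⁆ * b⁻¹ = ⁅h, b⁆⁻¹ * ⁅h, b * k⁆ by
    simp only [commutatorElement_def]; group]
  exact mul_mem (inv_mem (commutator_mem_commutator hh hb))
    (commutator_mem_commutator hh (mul_mem hb hk))

theorem le_normalizer_commutator_left (H K : Subgroup G) :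
    H ≤ normalizer ((⁅H, K⁆ : Subgroup G) : Set G) := by
  rw [commutator_comm]; exact le_normalizer_commutator_right K H

theorem normalizer_le_normalizer_omegaOneCenter (X : Subgroup G) :
    normalizer (X : Set G) ≤ normalizer (Cfsg.omegaOneCenter p X : Set G) := fun g hg => by
  rw [mem_normalizer_iff_cj, cj_omegaOneCenter, mem_normalizer_iff_cj.1 hg]

/-! ### The residual -/

theorem residual_induction {E : Subgroup G} (hres : Cfsg.pResidualOf p E = E) (K : Subgroup G)
    (h : ∀ e ∈ E, (orderOf e).Coprime p → e ∈ K) : E ≤ K := by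
  conv_lhs => rw [← hres]
  rw [Cfsg.pResidualOf, Cfsg.pResidual, MonoidHom.map_closure, closure_le]
  rintro _ ⟨u, hu, rfl⟩
  exact h u u.2 (by rwa [Subgroup.orderOf_coe])

theorem eq_one_of_pow_mem {Q : Subgroup G} (hQ : IsPGroup p ↥Q) {u : G} (hu : u ∈ Q) {m : ℕ}
    (hm : m.Coprime p) {R : Subgroup G} (h : u ^ m ∈ R) : u ∈ R := by
  obtain ⟨k, hk⟩ := IsPGroup.iff_orderOf.1 hQ ⟨u, hu⟩
  rw [Subgroup.orderOf_mk] at hk
  exact CfsgLib.Coprime.mem_of_pow_mem_of_coprime (hk ▸ Nat.Coprime.pow_right k hm) h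

/-! ### Blocks -/

variable {E : Subgroup G}

/-- A `p`-subgroup normalized by `B(T)` and by `E = O^p(E) = [E, B(T)]` normalizes `E`. -/
theorem le_normalizer_of_normalized (T : Sylow p G) (hres : Cfsg.pResidualOf p E = E)
    (hcomm : ⁅E, Cfsg.baumannSubgroupOf p (T : Subgroup G)⁆ = E) {Q : Subgroup G}
    (hQ : IsPGroup p ↥Q)
    (hBQ : Cfsg.baumannSubgroupOf p (T : Subgroup G) ≤ normalizer (Q : Set G))
    (hEQ : E ≤ normalizer (Q : Set G)) : Q ≤ normalizer (E : Set G) := by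
  set B := Cfsg.baumannSubgroupOf p (T : Subgroup G) with hB
  have hBE : B ≤ normalizer (E : Set G) := hcomm ▸ le_normalizer_commutator_right E B
  have hBp : IsPGroup p ↥B := T.2.to_le (baumann_le _)
  have hQB : Q ≤ normalizer (B : Set G) :=
    le_trans le_sup_left (le_normalizer_baumann T (hQ.to_sup_of_normal_left' hBp hBQ) le_sup_right)
  set R := Q ⊓ E with hR
  set D := R ⊔ Q ⊓ B with hD
  have hRB : Q ⊓ B ≤ normalizer (R : Set G) := fun y hy => by
    rw [mem_normalizer_iff_cj, hR, cj_inf, cj_eq_self_of_mem hy.1,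
      mem_normalizer_iff_cj.1 (hBE hy.2)]
  have hDQ : D ≤ Q := sup_le inf_le_left inf_le_left
  have hDE : D ≤ normalizer (E : Set G) :=
    sup_le (inf_le_right.trans le_normalizer) (inf_le_right.trans hBE)
  have hnorm : ∀ g ∈ normalizer (Q : Set G), g ∈ normalizer (E : Set G) →
      (∀ y ∈ Q ⊓ B, g * y * g⁻¹ ∈ D) → g ∈ normalizer (D : Set G) := by
    intro g hgQ hgE hy
    rw [mem_normalizer_iff_cj]
    refine eq_of_le_of_card_le' ?_ (card_cj _ _).ge
    rw [hD, Subgroup.map_sup]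
    refine sup_le ?_ (cj_le_iff.2 hy)
    rw [hR, cj_inf, mem_normalizer_iff_cj.1 hgQ, mem_normalizer_iff_cj.1 hgE]
    exact le_sup_left
  have hBD : B ≤ normalizer (D : Set G) := fun b hb => hnorm b (hBQ hb) (hBE hb) fun y hy =>
    mem_sup_right (Subgroup.mem_inf.2
      ⟨(mem_normalizer_iff.1 (hBQ hb) y).1 hy.1, B.mul_mem (B.mul_mem hb hy.2) (B.inv_mem hb)⟩)
  have hED : E ≤ normalizer (D : Set G) := fun e he => hnorm e (hEQ he) (le_normalizer he)
    fun y hy => by
      have h1 : e * y * e⁻¹ * y⁻¹ ∈ R := Subgroup.mem_inf.2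
        ⟨Q.mul_mem ((mem_normalizer_iff.1 (hEQ he) y).1 hy.1) (Q.inv_mem hy.1), by
        rw [show e * y * e⁻¹ * y⁻¹ = e * (y * e⁻¹ * y⁻¹) by group]
        exact mul_mem he ((mem_normalizer_iff.1 (hBE hy.2) e⁻¹).1 (inv_mem he))⟩
      have := mul_mem (mem_sup_left (T := Q ⊓ B) h1) (mem_sup_right (S := R) hy)
      rwa [inv_mul_cancel_right] at this
  let N : Subgroup G := normalizer (Q : Set G) ⊓ normalizer (D : Set G)
  let K : Subgroup G :=
    { carrier := {g | g ∈ N ∧ ∀ q ∈ Q, q⁻¹ * g * q * g⁻¹ ∈ D}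
      mul_mem' := fun {a c} ha hc => ⟨mul_mem ha.1 hc.1, fun q hq => by
        have h1 := ha.2 q hq
        have h2 := (mem_normalizer_iff.1 ha.1.2 _).1 (hc.2 q hq)
        convert mul_mem h1 h2 using 1
        group⟩
      one_mem' := ⟨one_mem _, fun q _ => by simp⟩
      inv_mem' := fun {a} ha => ⟨inv_mem ha.1, fun q hq => by
        have h2 := (mem_normalizer_iff.1 (inv_mem ha.1.2) _).1 (inv_mem (ha.2 q hq))
        convert h2 using 1
        group⟩ }
  have hBK : B ≤ K := fun b hb => ⟨⟨hBQ hb, hBD hb⟩, fun q hq => mem_sup_right (Subgroup.mem_inf.2 ⟨by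
      rw [show q⁻¹ * b * q * b⁻¹ = q⁻¹ * (b * q * b⁻¹) by group]
      exact mul_mem (inv_mem hq) ((mem_normalizer_iff.1 (hBQ hb) q).1 hq), by
      refine mul_mem ?_ (inv_mem hb)
      have := (mem_normalizer_iff.1 (hQB (inv_mem hq)) b).1 hb
      simpa using this⟩)⟩
  have hEK : E ≤ K := by
    rw [← hcomm, Subgroup.commutator_le]
    intro e he b hb
    have hb' := hBK hb
    have h1 : e * b * e⁻¹ ∈ K := by
      refine ⟨mul_mem (mul_mem ⟨hEQ he, hED he⟩ hb'.1) (inv_mem ⟨hEQ he, hED he⟩), fun q hq => ?_⟩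
      have h2 := hb'.2 (e⁻¹ * q * e) (by
        have := (mem_normalizer_iff.1 (hEQ (inv_mem he)) q).1 hq
        simpa using this)
      convert (mem_normalizer_iff.1 (hED he) _).1 h2 using 1
      group
    rw [commutatorElement_def]
    exact mul_mem h1 (inv_mem hb')
  have hnormR : ∀ e ∈ E, e ∈ normalizer (R : Set G) := fun e he => by
    rw [mem_normalizer_iff_cj, hR, cj_inf, mem_normalizer_iff_cj.1 (hEQ he), cj_eq_self_of_mem he]
  have hE : E ≤ (⨅ q : ↥Q, ((q : G) ⋆ E)) := by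
    refine residual_induction hres _ fun e he hco => mem_iInf.2 fun ⟨q, hq⟩ => ?_
    rw [mem_cj]
    set d := q⁻¹ * e * q * e⁻¹ with hd
    have hdD : d ∈ D := (hEK he).2 q hq
    have hstep : ∀ n : ℕ, ∃ x ∈ R, e ^ n * q * (e ^ n)⁻¹ = q * d ^ n * x := by
      intro n
      induction n with
      | zero => exact ⟨1, one_mem _, by simp⟩
      | succ n ih =>
        obtain ⟨x, hx, hxe⟩ := ih
        have hr : (d ^ n)⁻¹ * e * d ^ n * e⁻¹ ∈ R := by
          have hdn := pow_mem hdD n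
          refine Subgroup.mem_inf.2 ⟨?_, E.mul_mem ?_ (E.inv_mem he)⟩
          · rw [show (d ^ n)⁻¹ * e * d ^ n * e⁻¹ = (d ^ n)⁻¹ * (e * d ^ n * e⁻¹) by group]
            exact mul_mem (inv_mem (hDQ hdn)) ((mem_normalizer_iff.1 (hEQ he) _).1 (hDQ hdn))
          · have := (mem_normalizer_iff.1 (inv_mem (hDE hdn)) e).1 he
            simpa using this
        refine ⟨((d ^ n)⁻¹ * e * d ^ n * e⁻¹) * (e * x * e⁻¹),
          mul_mem hr ((mem_normalizer_iff.1 (hnormR e he) x).1 hx), ?_⟩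
        calc e ^ (n + 1) * q * (e ^ (n + 1))⁻¹ = e * (e ^ n * q * (e ^ n)⁻¹) * e⁻¹ := by
              rw [pow_succ']; group
          _ = e * (q * d ^ n * x) * e⁻¹ := by rw [hxe]
          _ = q * (q⁻¹ * e * q * e⁻¹) * d ^ n *
              (((d ^ n)⁻¹ * e * d ^ n * e⁻¹) * (e * x * e⁻¹)) := by group
          _ = q * d ^ (n + 1) * (((d ^ n)⁻¹ * e * d ^ n * e⁻¹) * (e * x * e⁻¹)) := by
              rw [← hd, pow_succ']; group
    obtain ⟨x, hx, hxe⟩ := hstep (orderOf e)
    rw [pow_orderOf_eq_one, one_mul, inv_one, mul_one, mul_assoc] at hxe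
    have hdx : d ^ orderOf e = x⁻¹ := eq_inv_of_mul_eq_one_left (by
      exact mul_left_cancel (hxe.symm.trans (mul_one q).symm))
    have hdE : d ∈ R := eq_one_of_pow_mem hQ (hDQ hdD) hco (hdx ▸ inv_mem hx)
    have h2 : d * e ∈ E := mul_mem hdE.2 he
    rwa [hd, inv_mul_cancel_right] at h2
  intro q hq
  rw [mem_normalizer_iff_cj]
  exact (eq_of_le_of_card_le' (hE.trans (iInf_le _ (⟨q, hq⟩ : ↥Q))) (card_cj _ _).le).symm

/-- The facts about a block used below. -/
structure Blk (p : ℕ) (T E : Subgroup G) : Prop where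
  res : Cfsg.pResidualOf p E = E
  comm : ⁅E, Cfsg.baumannSubgroupOf p T⁆ = E
  irr : Irred E (Cfsg.omegaOneCenter p (Cfsg.pCoreOf p E))
    (Cfsg.omegaOneCenter p (Cfsg.pCoreOf p E) ⊓ centralizer (E : Set G))
  ne : ¬ Cfsg.omegaOneCenter p (Cfsg.pCoreOf p E) ≤
    Cfsg.omegaOneCenter p (Cfsg.pCoreOf p E) ⊓ centralizer (E : Set G)

theorem blk_of_isBaumannBlock {T : Subgroup G} (h : Cfsg.IsBaumannBlock p T E) : Blk p T E := by
  obtain ⟨hres, hcomm, -, hV, hcase⟩ := h
  rcases hcase with ⟨F, _, _, n, -, -, hW, -⟩ | ⟨-, m, ⟨e⟩, hW, -⟩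
  · exact ⟨hres, hcomm, (irred_of_linear hW).1, (irred_of_linear hW).2⟩
  · rcases Nat.eq_zero_or_pos m with rfl | hm
    · exfalso
      haveI : Subsingleton (alternatingGroup (Fin (2 * 0 + 1))) :=
        ⟨fun a b => Subtype.ext (Equiv.ext fun i => Fin.ext (by omega))⟩
      haveI : Subsingleton (↥E ⧸ Cfsg.pCore p ↥E) := e.injective.subsingleton
      have hE : E ≤ ⊥ := by
        refine residual_induction hres _ fun x hx hco => mem_bot.2 ?_
        have h1 : (⟨x, hx⟩ : ↥E) ∈ Cfsg.pCore p ↥E :=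
          (QuotientGroup.eq_one_iff (N := Cfsg.pCore p ↥E) _).1 (Subsingleton.elim _ _)
        obtain ⟨k, hk⟩ := (CfsgLib.Solvable.isPGroup_pCore (G := ↥E) p) ⟨⟨x, hx⟩, h1⟩
        have h2 : x ^ p ^ k = 1 := congrArg (fun w : ↥(Cfsg.pCore p ↥E) => ((w : ↥E) : G)) hk
        exact orderOf_eq_one_iff.1 (Nat.eq_one_of_dvd_coprimes (hco.pow_right k) dvd_rfl
          (orderOf_dvd_of_pow_eq_one h2))
      refine hV (le_bot_iff.1 (le_trans (commutator_mono hE le_rfl) ?_))
      rw [commutator_bot_left]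
    · exact ⟨hres, hcomm, (irred_of_perm ⟨m, by ring⟩ (by omega) hW).1,
        (irred_of_perm ⟨m, by ring⟩ (by omega) hW).2⟩

theorem pResidualOf_sup (T : Sylow p G) (h : Blk p (T : Subgroup G) E) :
    Cfsg.pResidualOf p (E ⊔ Cfsg.pCore p G) = E := by
  set O := Cfsg.pCore p G with hO
  haveI : O.Normal := CfsgLib.Solvable.pCore_normal p
  have hOp : IsPGroup p ↥O := CfsgLib.Solvable.isPGroup_pCore p
  have hn : O ≤ normalizer (E : Set G) := le_normalizer_of_normalized T h.res h.comm hOp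
    le_normalizer_of_normal le_normalizer_of_normal
  refine le_antisymm ?_ ?_
  · rw [Cfsg.pResidualOf, Cfsg.pResidual, MonoidHom.map_closure, closure_le]
    rintro _ ⟨⟨g, hg⟩, hco, rfl⟩
    show g ∈ E
    have hco' : (orderOf g).Coprime p := by
      rw [Set.mem_setOf_eq, ← Subgroup.orderOf_coe] at hco
      exact hco
    rw [sup_comm, CfsgLib.Solvable.mem_sup_of_le_normalizer hn] at hg
    obtain ⟨o, ho, e, he, rfl⟩ := hg
    obtain ⟨k, hk⟩ := hOp ⟨o, ho⟩
    have hk' : o ^ p ^ k = 1 := congrArg Subtype.val hk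
    have hpow : ∀ n : ℕ, ∃ e' ∈ E, (o * e) ^ n = o ^ n * e' := by
      intro n
      induction n with
      | zero => exact ⟨1, one_mem _, by simp⟩
      | succ n ih =>
        obtain ⟨e', he', hee⟩ := ih
        refine ⟨o⁻¹ * e' * o * e, mul_mem ?_ he, ?_⟩
        · have := (mem_normalizer_iff.1 (inv_mem (hn ho)) e').1 he'
          simpa using this
        · rw [pow_succ, hee, pow_succ]; group
    obtain ⟨e', he', hee⟩ := hpow (p ^ k)
    rw [hk', one_mul] at hee
    exact CfsgLib.Coprime.mem_of_pow_mem_of_coprime (Nat.Coprime.pow_left k hco'.symm)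
      (hee ▸ he')
  · refine residual_induction h.res _ fun e he hco => ?_
    exact ⟨⟨e, mem_sup_left he⟩, CfsgLib.PResidual.mem_pResidual p
      (by rwa [Subgroup.orderOf_mk]), rfl⟩

theorem exponent_omegaOneCenter {X : Subgroup G} :
    Cfsg.IsElementaryAbelian p (Cfsg.omegaOneCenter p X) :=
  CfsgLib.Thompson.elab_omegaOne fun x hx y hy =>
    (mem_centralizer_iff.1 hx.2 y hy.1).symm

theorem commutator_le_self_of_normalizer {W E : Subgroup G} (h : E ≤ normalizer (W : Set G)) :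
    ⁅W, E⁆ ≤ W := by
  rw [Subgroup.commutator_le]
  intro w hw e he
  rw [commutatorElement_def, show w * e * w⁻¹ * e⁻¹ = w * (e * w⁻¹ * e⁻¹) by group]
  exact mul_mem hw ((mem_normalizer_iff.1 (h he) w⁻¹).1 (inv_mem hw))

theorem le_normalizer_W (E : Subgroup G) :
    normalizer (E : Set G) ≤
      normalizer (Cfsg.omegaOneCenter p (Cfsg.pCoreOf p E) : Set G) :=
  (CfsgLib.FrakM.normalizer_le_normalizer_pCoreOf E).trans
    (normalizer_le_normalizer_omegaOneCenter _)

/-- `W_E` lies in `Ω₁(Z(O_p(G)))`. -/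
theorem commutator_W_le (hG : centralizer (Cfsg.pCore p G : Set G) ≤ Cfsg.pCore p G)
    (T : Sylow p G) (h : Blk p (T : Subgroup G) E) :
    ⁅Cfsg.omegaOneCenter p (Cfsg.pCoreOf p E), E⁆ ≤
      Cfsg.omegaOneCenter p (Cfsg.pCore p G) := by
  set O := Cfsg.pCore p G with hO
  haveI : O.Normal := CfsgLib.Solvable.pCore_normal p
  have hOp : IsPGroup p ↥O := CfsgLib.Solvable.isPGroup_pCore p
  have hn : O ≤ normalizer (E : Set G) := le_normalizer_of_normalized T h.res h.comm hOp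
    le_normalizer_of_normal le_normalizer_of_normal
  set W := Cfsg.omegaOneCenter p (Cfsg.pCoreOf p E) with hW
  set Z := W ⊓ centralizer (E : Set G) with hZ
  have hWel : Cfsg.IsElementaryAbelian p W := exponent_omegaOneCenter
  have hWp : IsPGroup p ↥W := CfsgLib.Thompson.elab_isPGroup hWel
  have hWC : ∀ w ∈ W, ∀ r ∈ Cfsg.pCoreOf p E, r * w = w * r := fun w hw r hr =>
    mem_centralizer_iff.1 (CfsgLib.Thompson.omegaOne_le _ hw).2 r hr
  have hEW : E ≤ normalizer (W : Set G) := le_normalizer.trans (le_normalizer_W E)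
  have hOW : O ≤ normalizer (W : Set G) := hn.trans (le_normalizer_W E)
  have hR : O ⊓ E ≤ Cfsg.pCoreOf p E := by
    refine CfsgLib.FrakM.le_pCoreOf inf_le_right (hOp.to_le inf_le_left) fun e he => ?_
    rw [mem_normalizer_iff_cj, cj_inf, cj_eq_self_of_mem he,
      mem_normalizer_iff_cj.1 (le_normalizer_of_normal (H := O) (mem_top e))]
  have hc : ∀ w ∈ W, ∀ o ∈ O, ⁅w, o⁆ ∈ W := fun w hw o ho => by
    rw [commutatorElement_def, show w * o * w⁻¹ * o⁻¹ = w * (o * w⁻¹ * o⁻¹) by group]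
    exact mul_mem hw ((mem_normalizer_iff.1 (hOW ho) w⁻¹).1 (inv_mem hw))
  have heq : ∀ w ∈ W, ∀ o ∈ O, ∀ e ∈ E, ⁅e * w * e⁻¹, o⁆ = e * ⁅w, o⁆ * e⁻¹ := by
    intro w hw o ho e he
    set r := e⁻¹ * o * e * o⁻¹ with hr
    have hrR : r ∈ O ⊓ E := by
      refine Subgroup.mem_inf.2 ⟨?_, ?_⟩
      · exact O.mul_mem (by simpa using Subgroup.Normal.conj_mem (inferInstance : O.Normal) o ho e⁻¹)
          (O.inv_mem ho)
      · rw [hr, show e⁻¹ * o * e * o⁻¹ = e⁻¹ * (o * e * o⁻¹) by group]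
        exact mul_mem (inv_mem he) ((mem_normalizer_iff.1 (hn ho) e).1 he)
    have hwr := hWC w hw r (hR hrR)
    have hcr := hWC _ (hc w hw o ho) r (hR hrR)
    calc ⁅e * w * e⁻¹, o⁆ = e * (w * r * o * w⁻¹ * o⁻¹ * r⁻¹) * e⁻¹ := by
          rw [hr, commutatorElement_def]; group
      _ = e * (r * ⁅w, o⁆ * r⁻¹) * e⁻¹ := by rw [← hwr, commutatorElement_def]; group
      _ = e * ⁅w, o⁆ * e⁻¹ := by rw [hcr]; group
  have hmul : ∀ a ∈ W, ∀ b ∈ W, ∀ o ∈ O, ⁅a * b, o⁆ = ⁅b, o⁆ * ⁅a, o⁆ := by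
    intro a ha b hb o ho
    have hab := CfsgLib.Thompson.elab_commute hWel ha (hc b hb o ho)
    calc ⁅a * b, o⁆ = a * ⁅b, o⁆ * a⁻¹ * ⁅a, o⁆ := by simp only [commutatorElement_def]; group
      _ = ⁅b, o⁆ * ⁅a, o⁆ := by rw [hab]; group
  have hZn : ∀ e ∈ E, ∀ z ∈ Z, e * z * e⁻¹ = z := fun e he z hz => by
    rw [mem_centralizer_iff.1 hz.2 e he, mul_inv_cancel_right]
  have hZo : ∀ o ∈ O, ∀ z ∈ Z, o * z * o⁻¹ ∈ Z := fun o ho z hz => by
    have : o ⋆ Z = Z := by
      rw [hZ, cj_inf, mem_normalizer_iff_cj.1 (hOW ho), cj_centralizer,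
        mem_normalizer_iff_cj.1 (hn ho)]
    exact this.le (conj_mem_cj hz)
  let U : Subgroup G :=
    { carrier := {w | w ∈ W ∧ ∀ o ∈ O, ⁅w, o⁆ ∈ Z}
      mul_mem' := fun {a b} ha hb => ⟨mul_mem ha.1 hb.1, fun o ho => by
        rw [hmul a ha.1 b hb.1 o ho]; exact mul_mem (hb.2 o ho) (ha.2 o ho)⟩
      one_mem' := ⟨one_mem _, fun o _ => by rw [commutatorElement_one_left]; exact one_mem _⟩
      inv_mem' := fun {a} ha => ⟨inv_mem ha.1, fun o ho => by
        have h1 := hmul a ha.1 a⁻¹ (inv_mem ha.1) o ho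
        rw [mul_inv_cancel, commutatorElement_one_left] at h1
        rw [eq_inv_of_mul_eq_one_left h1.symm]
        exact inv_mem (ha.2 o ho)⟩ }
  have hUW : U = W := by
    have hZU : Z ≤ U := fun z hz => ⟨hz.1, fun o ho => by
      rw [commutatorElement_def, show z * o * z⁻¹ * o⁻¹ = z * (o * z⁻¹ * o⁻¹) by group]
      exact mul_mem hz (hZo o ho _ (inv_mem hz))⟩
    have hEU : E ≤ normalizer (U : Set G) := fun e he => by
      rw [mem_normalizer_iff_cj]
      refine eq_of_le_of_card_le' (cj_le_iff.2 fun w hw => ?_) (card_cj _ _).ge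
      refine ⟨(mem_normalizer_iff.1 (hEW he) w).1 hw.1, fun o ho => ?_⟩
      rw [heq w hw.1 o ho e he, hZn e he _ (hw.2 o ho)]
      exact hw.2 o ho
    refine (h.irr U hZU (fun w hw => hw.1) hEU).resolve_left fun hU => ?_
    -- commutators with the `p`-group `O W` would stay outside `Z` for ever
    set P := O ⊔ W
    have hPp : IsPGroup p ↥P := hOp.to_sup_of_normal_left' hWp le_normalizer_of_normal
    haveI : Group.IsNilpotent ↥P := hPp.isNilpotent
    have key : ∀ n : ℕ, ∃ w : ↥P, w ∈ Subgroup.lowerCentralSeries (⊤ : Subgroup ↥P) n ∧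
        (w : G) ∈ W ∧ (w : G) ∉ Z := by
      intro n
      induction n with
      | zero =>
        obtain ⟨w, hw, hwZ⟩ := SetLike.not_le_iff_exists.1 h.ne
        exact ⟨⟨w, mem_sup_right hw⟩, by rw [Subgroup.lowerCentralSeries_zero]; exact mem_top _, hw,
          hwZ⟩
      | succ n ih =>
        obtain ⟨w, hwn, hwW, hwZ⟩ := ih
        obtain ⟨o, ho, hoZ⟩ : ∃ o ∈ O, ⁅(w : G), o⁆ ∉ Z := by
          by_contra hno
          push Not at hno
          exact hwZ (hU.le (⟨hwW, hno⟩ : (w : G) ∈ U))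
        refine ⟨⁅w, ⟨o, mem_sup_left ho⟩⁆, ?_, ?_, ?_⟩
        · exact commutator_mem_commutator hwn (mem_top _)
        · exact hc _ hwW o ho
        · exact hoZ
    obtain ⟨N, hN⟩ := Subgroup.nilpotent_iff_lowerCentralSeries.1 (inferInstance : Group.IsNilpotent ↥P)
    obtain ⟨w, hwN, -, hwZ⟩ := key N
    rw [hN, mem_bot] at hwN
    exact hwZ (by rw [hwN]; exact one_mem _)
  have hcen : ⁅W, E⁆ ≤ centralizer (O : Set G) := by
    rw [Subgroup.commutator_le]
    intro w hw e he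
    refine mem_centralizer_iff.2 fun o ho => ?_
    have hw' : e * w⁻¹ * e⁻¹ ∈ W := (mem_normalizer_iff.1 (hEW he) _).1 (inv_mem hw)
    have h1 : ⁅⁅w, e⁆, o⁆ = 1 := by
      rw [show ⁅w, e⁆ = w * (e * w⁻¹ * e⁻¹) by rw [commutatorElement_def]; group,
        hmul w hw _ hw' o ho, heq _ (inv_mem hw) o ho e he,
        hZn e he _ ((hUW.ge (inv_mem hw)).2 o ho), ← hmul w hw _ (inv_mem hw) o ho, mul_inv_cancel,
        commutatorElement_one_left]
    exact (commutatorElement_eq_one_iff_mul_comm.1 h1).symm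
  intro x hx
  exact CfsgLib.Thompson.mem_omegaOne ⟨hG (hcen hx), hcen hx⟩
    (hWel.2 x (commutator_le_self_of_normalizer hEW hx))

/-- `J(T)` does not centralize `W_E`. -/
theorem commutator_W_thompson_ne (hG : centralizer (Cfsg.pCore p G : Set G) ≤ Cfsg.pCore p G)
    (T : Sylow p G) (h : Blk p (T : Subgroup G) E) :
    ⁅⁅Cfsg.omegaOneCenter p (Cfsg.pCoreOf p E), E⁆,
      Cfsg.thompsonSubgroupOf p (T : Subgroup G)⁆ ≠ ⊥ := by
  intro hbot
  set W := Cfsg.omegaOneCenter p (Cfsg.pCoreOf p E) with hW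
  set WE := ⁅W, E⁆ with hWE
  set J := Cfsg.thompsonSubgroupOf p (T : Subgroup G) with hJ
  set B := Cfsg.baumannSubgroupOf p (T : Subgroup G) with hB
  rw [commutator_eq_bot_iff_le_centralizer] at hbot
  have hWel : Cfsg.IsElementaryAbelian p W := exponent_omegaOneCenter
  have hEW : E ≤ normalizer (W : Set G) := le_normalizer.trans (le_normalizer_W E)
  have hWW : WE ≤ W := commutator_le_self_of_normalizer hEW
  have hBC : B ≤ centralizer (WE : Set G) := by
    refine fun b hb => mem_centralizer_iff.2 fun x hx => ?_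
    have hxT : x ∈ (T : Subgroup G) := CfsgLib.Fitting.pCore_le_sylow T
      ((CfsgLib.Thompson.omegaOne_le _ (commutator_W_le hG T h hx)).1)
    have hxp : x ^ p = 1 := hWel.2 x (hWW hx)
    obtain ⟨A, hA⟩ := CfsgLib.Thompson.exists_maxIn (p := p) (T : Subgroup G)
    have hAJ : A ≤ J := by
      rw [hJ, CfsgLib.Thompson.thompsonSubgroupOf_eq]; exact le_sSup hA
    have hxA : x ∈ A := by
      have hsup : Cfsg.IsElementaryAbelian p (zpowers x ⊔ A) :=
        CfsgLib.Thompson.elab_sup (CfsgLib.Thompson.elab_zpowers hxp) hA.2.1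
          (zpowers_le.2 (mem_centralizer_iff.2 fun a ha => mem_centralizer_iff.1 (hbot hx) a (hAJ ha)))
      have := eq_of_le_of_card_le' (le_sup_right : A ≤ zpowers x ⊔ A)
        (hA.2.2 _ (sup_le (zpowers_le.2 hxT) hA.1) hsup)
      rw [this]
      exact mem_sup_left (mem_zpowers x)
    exact mem_centralizer_iff.1 hb.2 x (CfsgLib.Thompson.mem_omegaOne ⟨hAJ hxA, hbot hx⟩ hxp)
  have hEC : E ≤ centralizer (WE : Set G) := by
    conv_lhs => rw [← h.comm]
    rw [Subgroup.commutator_le]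
    intro e he b hb
    have he' : e ⋆ centralizer (WE : Set G) = centralizer (WE : Set G) := by
      rw [cj_centralizer, mem_normalizer_iff_cj.1 (le_normalizer_commutator_right W E he)]
    rw [commutatorElement_def]
    exact mul_mem (he'.le (conj_mem_cj (hBC hb))) (inv_mem (hBC hb))
  refine h.ne (le_inf le_rfl fun w hw => mem_centralizer_iff.2 fun e he => ?_)
  have hE : E ≤ centralizer {w} := by
    refine residual_induction h.res _ fun e he hco => mem_centralizer_singleton_iff.2 ?_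
    set u := ⁅w, e⁆ with hu
    have huE : u ∈ WE := commutator_mem_commutator hw he
    have hcomm : e * u = u * e := (mem_centralizer_iff.1 (hEC he) u huE).symm
    have hstep : ∀ n : ℕ, e ^ n * w⁻¹ * (e ^ n)⁻¹ = w⁻¹ * u ^ n := by
      intro n
      induction n with
      | zero => simp
      | succ n ih =>
        have hun : e * u ^ n = u ^ n * e := (Commute.pow_right hcomm n).eq
        calc e ^ (n + 1) * w⁻¹ * (e ^ (n + 1))⁻¹ = e * (e ^ n * w⁻¹ * (e ^ n)⁻¹) * e⁻¹ := by
              rw [pow_succ']; group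
          _ = e * w⁻¹ * e⁻¹ * (e * u ^ n * e⁻¹) := by rw [ih]; group
          _ = w⁻¹ * u * u ^ n := by rw [hun, hu, commutatorElement_def]; group
          _ = w⁻¹ * u ^ (n + 1) := by rw [pow_succ', mul_assoc]
    have h1 := hstep (orderOf e)
    rw [pow_orderOf_eq_one, one_mul, inv_one, mul_one] at h1
    have hu1 : u ∈ (⊥ : Subgroup G) := eq_one_of_pow_mem (CfsgLib.Thompson.elab_isPGroup hWel)
      (hWW huE) hco (mem_bot.2 (mul_left_cancel ((mul_one w⁻¹).trans h1)).symm)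
    rw [mem_bot, hu, commutatorElement_eq_one_iff_mul_comm] at hu1
    exact hu1.symm
  exact mem_centralizer_singleton_iff.1 (hE he)

end CfsgLib.Baumann
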