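import Cfsg.Agent.LocalB.BlockSection

/-!
Basic facts on blocks: the centralizer `C` of `W_E`, its `p`-core, stabilizers of sections.
-/

set_option autoImplicit false
set_option linter.style.haveILetI false
set_option linter.unusedSectionVars false

namespace CfsgLib.BlockBasic

open Subgroup CfsgLib.Functor
open scoped CfsgLib.Functor commutatorElement

universe u

variable {G : Type u} [Group G] [Finite G]

/-- The elements normalizing `X` and `Y` and centralizing `X` modulo `Y`. -/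
def stab (X Y : Subgroup G) : Subgroup G where
  carrier := {x | x ∈ normalizer (X : Set G) ∧ x ∈ normalizer (Y : Set G) ∧
    ∀ u ∈ X, x * u * x⁻¹ * u⁻¹ ∈ Y}
  mul_mem' {a b} ha hb := ⟨mul_mem ha.1 hb.1, mul_mem ha.2.1 hb.2.1, fun u hu => by
    rw [show a * b * u * (a * b)⁻¹ * u⁻¹ = a * (b * u * b⁻¹ * u⁻¹) * a⁻¹ * (a * u * a⁻¹ * u⁻¹) by
      group]
    exact mul_mem ((mem_normalizer_iff.1 ha.2.1 _).1 (hb.2.2 u hu)) (ha.2.2 u hu)⟩
  one_mem' := ⟨one_mem _, one_mem _, fun u _ => by simp⟩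
  inv_mem' {a} ha := ⟨inv_mem ha.1, inv_mem ha.2.1, fun u hu => by
    have hu' : a⁻¹ * u * a ∈ X := by
      have := (mem_normalizer_iff.1 (inv_mem ha.1) u).1 hu
      rwa [inv_inv] at this
    have h := inv_mem (ha.2.2 _ hu')
    rw [show (a * (a⁻¹ * u * a) * a⁻¹ * (a⁻¹ * u * a)⁻¹)⁻¹ = a⁻¹ * u * a⁻¹⁻¹ * u⁻¹ by group] at h
    exact h⟩

theorem mem_stab {X Y : Subgroup G} {x : G} :
    x ∈ stab X Y ↔ x ∈ normalizer (X : Set G) ∧ x ∈ normalizer (Y : Set G) ∧
      ∀ u ∈ X, x * u * x⁻¹ * u⁻¹ ∈ Y := Iff.rfl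

theorem conj_mem_stab {X Y : Subgroup G} {g x : G} (hX : g ∈ normalizer (X : Set G))
    (hY : g ∈ normalizer (Y : Set G)) (hx : x ∈ stab X Y) : g * x * g⁻¹ ∈ stab X Y := by
  refine ⟨mul_mem (mul_mem hX hx.1) (inv_mem hX), mul_mem (mul_mem hY hx.2.1) (inv_mem hY),
    fun u hu => ?_⟩
  have hu' : g⁻¹ * u * g ∈ X := by
    have := (mem_normalizer_iff.1 (inv_mem hX) u).1 hu
    rwa [inv_inv] at this
  have h := (mem_normalizer_iff.1 hY _).1 (hx.2.2 _ hu')
  rw [show g * (x * (g⁻¹ * u * g) * x⁻¹ * (g⁻¹ * u * g)⁻¹) * g⁻¹ =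
    g * x * g⁻¹ * u * (g * x * g⁻¹)⁻¹ * u⁻¹ by group] at h
  exact h

/-- A commutator with an element of the stabilizer stays in it. -/
theorem comm_mem_stab {X Y : Subgroup G} {g x : G} (hX : g ∈ normalizer (X : Set G))
    (hY : g ∈ normalizer (Y : Set G)) (hx : x ∈ stab X Y) :
    x * g * x⁻¹ * g⁻¹ ∈ stab X Y := by
  rw [show x * g * x⁻¹ * g⁻¹ = x * (g * x⁻¹ * g⁻¹) by group]
  exact mul_mem hx (conj_mem_stab hX hY (inv_mem hx))

variable {p : ℕ} [Fact p.Prime]

/-- `O^p(E) = E` forces `[P, E, E] = [P, E]` for a `p`-group `P` normalizing `E`. -/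
theorem commutator_commutator_eq {E P : Subgroup G} (hres : Cfsg.pResidualOf p E = E)
    (hP : IsPGroup p ↥P) (hEP : E ≤ normalizer (P : Set G)) (hPE : P ≤ normalizer (E : Set G)) :
    ⁅⁅P, E⁆, E⁆ = ⁅P, E⁆ := by
  set M := ⁅P, E⁆ with hM
  set K := ⁅M, E⁆ with hK
  have hMP : M ≤ P := CfsgLib.Baumann.commutator_le_self_of_normalizer hEP
  have hEM : E ≤ normalizer (M : Set G) := CfsgLib.Baumann.le_normalizer_commutator_right P E
  have hKM : K ≤ M := CfsgLib.Baumann.commutator_le_self_of_normalizer hEM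
  have hEK : E ≤ normalizer (K : Set G) := CfsgLib.Baumann.le_normalizer_commutator_right M E
  have hPM : P ≤ normalizer (M : Set G) := CfsgLib.Baumann.le_normalizer_commutator_left P E
  have hPK : P ≤ normalizer (K : Set G) := fun u hu => by
    rw [mem_normalizer_iff_cj, hK, cj_commutator, mem_normalizer_iff_cj.1 (hPM hu),
      mem_normalizer_iff_cj.1 (hPE hu)]
  refine le_antisymm hKM ?_
  have hE : E ≤ stab P K := CfsgLib.Baumann.residual_induction hres _ fun e he hco => by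
    refine ⟨hEP he, hEK he, fun u hu => ?_⟩
    set c := e * u * e⁻¹ * u⁻¹ with hc
    have hcM : c ∈ M := by
      have := inv_mem (commutator_mem_commutator hu he)
      rwa [show ⁅u, e⁆⁻¹ = c by rw [hc, commutatorElement_def]; group] at this
    have hstep : ∀ n : ℕ, (c ^ n)⁻¹ * (e ^ n * u * (e ^ n)⁻¹ * u⁻¹) ∈ K := by
      intro n
      induction n with
      | zero => simp
      | succ n ih =>
        have h1 : (c ^ n)⁻¹ * (e * c ^ n * e⁻¹) ∈ K := by
          have h := inv_mem (commutator_mem_commutator (inv_mem (pow_mem hcM n)) he)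
          rw [← hK] at h
          have h' := (mem_normalizer_iff.1 (hPK (inv_mem (hMP (pow_mem hcM n)))) _).1 h
          rw [inv_inv] at h'
          have e' : (c ^ n)⁻¹ * (e * c ^ n * e⁻¹) = (c ^ n)⁻¹ * (e * (c ^ n) * e⁻¹ * (c ^ n)⁻¹) * c ^ n := by
            group
          rw [e']
          have e'' : e * (c ^ n) * e⁻¹ * (c ^ n)⁻¹ = ⁅c ^ n, e⁆⁻¹ := by
            rw [commutatorElement_def]; group
          rw [e'']
          have h2 := (mem_normalizer_iff.1 (hPK (inv_mem (hMP (pow_mem hcM n)))) _).1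
            (inv_mem (commutator_mem_commutator (pow_mem hcM n) he))
          rwa [inv_inv] at h2
        have h3 := (mem_normalizer_iff.1 (hEK he) _).1 ih
        have e1 : (c ^ (n + 1))⁻¹ * (e ^ (n + 1) * u * (e ^ (n + 1))⁻¹ * u⁻¹) =
            c⁻¹ * ((c ^ n)⁻¹ * (e * c ^ n * e⁻¹) *
              (e * ((c ^ n)⁻¹ * (e ^ n * u * (e ^ n)⁻¹ * u⁻¹)) * e⁻¹)) * c := by
          rw [pow_succ e, pow_succ c, show e ^ n * e = e * e ^ n from (Commute.pow_self e n).eq,
            _root_.mul_inv_rev (c ^ n) c,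
            show e * ((c ^ n)⁻¹ * (e ^ n * u * (e ^ n)⁻¹ * u⁻¹)) * e⁻¹ =
              (e * c ^ n * e⁻¹)⁻¹ * (e * (e ^ n * u * (e ^ n)⁻¹) * e⁻¹) * (e * u⁻¹ * e⁻¹) by group]
          rw [hc]
          group
        rw [e1]
        have := (mem_normalizer_iff.1 (hPK (inv_mem (hMP hcM))) _).1 (mul_mem h1 h3)
        rwa [inv_inv] at this
    have h := hstep (orderOf e)
    rw [pow_orderOf_eq_one, one_mul, inv_one, mul_one, mul_inv_cancel, mul_one, inv_mem_iff] at h
    exact CfsgLib.Baumann.eq_one_of_pow_mem hP (hMP hcM) hco h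
  rw [hM, commutator_le]
  intro u hu e he
  have := inv_mem ((hE he).2.2 u hu)
  rwa [show (e * u * e⁻¹ * u⁻¹)⁻¹ = ⁅u, e⁆ by rw [commutatorElement_def]; group] at this

/-- A `p'`-element of `P ⊔ E` lies in `E`. -/
theorem mem_of_coprime_sup {E P : Subgroup G} (hP : IsPGroup p ↥P)
    (hPE : P ≤ normalizer (E : Set G)) {g : G} (hg : g ∈ P ⊔ E) (hco : (orderOf g).Coprime p) :
    g ∈ E := by
  rw [CfsgLib.Solvable.mem_sup_of_le_normalizer hPE] at hg
  obtain ⟨o, ho, e, he, rfl⟩ := hg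
  obtain ⟨k, hk⟩ := hP ⟨o, ho⟩
  have hk' : o ^ p ^ k = 1 := congrArg Subtype.val hk
  have hpow : ∀ n : ℕ, ∃ e' ∈ E, (o * e) ^ n = o ^ n * e' := by
    intro n
    induction n with
    | zero => exact ⟨1, one_mem _, by simp⟩
    | succ n ih =>
      obtain ⟨e', he', hee⟩ := ih
      refine ⟨o⁻¹ * e' * o * e, mul_mem ?_ he, ?_⟩
      · have := (mem_normalizer_iff.1 (inv_mem (hPE ho)) e').1 he'
        simpa using this
      · rw [pow_succ, hee, pow_succ]; group
  obtain ⟨e', he', hee⟩ := hpow (p ^ k)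
  rw [hk', one_mul] at hee
  exact CfsgLib.Coprime.mem_of_pow_mem_of_coprime (Nat.Coprime.pow_left k hco.symm) (hee ▸ he')

/-- `W = Ω₁(Z(O_p(E)))` -/
abbrev Wm (p : ℕ) (E : Subgroup G) : Subgroup G := Cfsg.omegaOneCenter p (Cfsg.pCoreOf p E)

/-- `Z = C_W(E)` -/
abbrev Zm (p : ℕ) (E : Subgroup G) : Subgroup G := Wm p E ⊓ centralizer (E : Set G)

/-- `W_E = [W, E]` -/
abbrev WEm (p : ℕ) (E : Subgroup G) : Subgroup G := ⁅Wm p E, E⁆

/-- `C = C_G(W_E)` -/
abbrev Cm (p : ℕ) (E : Subgroup G) : Subgroup G := centralizer (WEm p E : Set G)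

/-- `P = O_p(C_G(W_E))` -/
abbrev Pm (p : ℕ) (E : Subgroup G) : Subgroup G := Cfsg.pCoreOf p (Cm p E)

/-- `K = W_E Φ(P)` -/
abbrev Km (p : ℕ) (E : Subgroup G) : Subgroup G :=
  WEm p E ⊔ (frattini ↥(Pm p E)).map (Pm p E).subtype

theorem cj_frattini {g : G} {P : Subgroup G} (hg : g ∈ normalizer (P : Set G)) :
    g ⋆ ((frattini ↥P).map P.subtype) = (frattini ↥P).map P.subtype := by
  let e : ↥P ≃* ↥P :=
    ⟨{ toFun := fun v => ⟨g * v * g⁻¹, (mem_normalizer_iff.1 hg v).1 v.2⟩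
       invFun := fun v => ⟨g⁻¹ * v * g, by
         have := (mem_normalizer_iff.1 (inv_mem hg) v).1 v.2
         rwa [inv_inv] at this⟩
       left_inv := fun v => Subtype.ext (by simp [mul_assoc])
       right_inv := fun v => Subtype.ext (by simp [mul_assoc]) },
      fun a b => Subtype.ext (by
        show g * ((a : G) * b) * g⁻¹ = g * a * g⁻¹ * (g * b * g⁻¹)
        group)⟩
  have hchar := Subgroup.characteristic_iff_map_eq.1 (frattini_characteristic (G := ↥P)) e
  conv_rhs => rw [← hchar, Subgroup.map_map]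
  rw [Subgroup.map_map]
  rfl

variable {T : Sylow p G} {E : Subgroup G}

section

variable (hG : centralizer (Cfsg.pCore p G : Set G) ≤ Cfsg.pCore p G)
  (h : CfsgLib.Baumann.Blk p (T : Subgroup G) E)

theorem le_normalizer_W (E : Subgroup G) : E ≤ normalizer (Wm p E : Set G) :=
  le_normalizer.trans (CfsgLib.Baumann.le_normalizer_W E)

theorem WE_le_W (E : Subgroup G) : WEm p E ≤ Wm p E :=
  CfsgLib.Baumann.commutator_le_self_of_normalizer (le_normalizer_W E)

theorem W_le_Q (E : Subgroup G) : Wm p E ≤ Cfsg.pCoreOf p E :=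
  fun _ hx => (CfsgLib.Thompson.omegaOne_le _ hx).1

theorem W_comm {E : Subgroup G} {w q : G} (hw : w ∈ Wm p E) (hq : q ∈ Cfsg.pCoreOf p E) :
    q * w = w * q :=
  mem_centralizer_iff.1 (CfsgLib.Thompson.omegaOne_le _ hw).2 q hq

theorem Q_le (E : Subgroup G) : Cfsg.pCoreOf p E ≤ E := map_subtype_le _

theorem cj_WE {g : G} (hg : g ∈ normalizer (E : Set G)) : g ⋆ WEm p E = WEm p E := by
  rw [WEm, cj_commutator, mem_normalizer_iff_cj.1 (CfsgLib.Baumann.le_normalizer_W E hg),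
    mem_normalizer_iff_cj.1 hg]

theorem normalizer_E_le_C (E : Subgroup G) :
    normalizer (E : Set G) ≤ normalizer (Cm p E : Set G) := fun g hg => by
  rw [mem_normalizer_iff_cj, cj_centralizer, cj_WE hg]

theorem normalizer_E_le_P (E : Subgroup G) :
    normalizer (E : Set G) ≤ normalizer (Pm p E : Set G) :=
  (normalizer_E_le_C E).trans (CfsgLib.FrakM.normalizer_le_normalizer_pCoreOf _)

theorem normalizer_E_le_K (E : Subgroup G) :
    normalizer (E : Set G) ≤ normalizer (Km p E : Set G) := fun g hg => by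
  rw [mem_normalizer_iff_cj, Km, Subgroup.map_sup, cj_WE hg,
    cj_frattini (normalizer_E_le_P E hg)]

include h in
theorem B_le_normalizer_E :
    Cfsg.baumannSubgroupOf p (T : Subgroup G) ≤ normalizer (E : Set G) :=
  h.comm ▸ CfsgLib.Baumann.le_normalizer_commutator_right E _

theorem C_le_normalizer_P (E : Subgroup G) : Cm p E ≤ normalizer (Pm p E : Set G) :=
  CfsgLib.FrakM.le_normalizer_pCoreOf _

theorem C_le_normalizer_K (E : Subgroup G) : Cm p E ≤ normalizer (Km p E : Set G) := fun c hc => by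
  have hWE : c ⋆ WEm p E = WEm p E :=
    mem_normalizer_iff_cj.1 (CfsgLib.FrakM.centralizer_le_normalizer _ hc)
  rw [mem_normalizer_iff_cj, Km, Subgroup.map_sup, hWE, cj_frattini (C_le_normalizer_P E hc)]

theorem P_le_C (E : Subgroup G) : Pm p E ≤ Cm p E := map_subtype_le _

theorem isPGroup_P (E : Subgroup G) : IsPGroup p ↥(Pm p E) := CfsgLib.FrakM.isPGroup_pCoreOf _

include hG h

theorem WE_le_O : WEm p E ≤ Cfsg.omegaOneCenter p (Cfsg.pCore p G) :=
  CfsgLib.Baumann.commutator_W_le hG T h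

theorem O_le_P : Cfsg.pCore p G ≤ Pm p E := by
  haveI : (Cfsg.pCore p G).Normal := CfsgLib.Solvable.pCore_normal p
  refine CfsgLib.FrakM.le_pCoreOf (fun o ho => mem_centralizer_iff.2 fun x hx => ?_)
    (CfsgLib.Solvable.isPGroup_pCore p) le_normalizer_of_normal
  exact (mem_centralizer_iff.1 (CfsgLib.Thompson.omegaOne_le _ (WE_le_O hG h hx)).2 o ho).symm

theorem WE_le_P : WEm p E ≤ Pm p E := fun _ hx =>
  O_le_P hG h (CfsgLib.Thompson.omegaOne_le _ (WE_le_O hG h hx)).1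

theorem K_le_P : Km p E ≤ Pm p E := sup_le (WE_le_P hG h) (map_subtype_le _)

theorem centralizer_P_le : centralizer (Pm p E : Set G) ≤ Pm p E :=
  (centralizer_le (O_le_P hG h)).trans (hG.trans (O_le_P hG h))

theorem P_le_normalizer_E : Pm p E ≤ normalizer (E : Set G) :=
  CfsgLib.Baumann.le_normalizer_of_normalized T h.res h.comm (isPGroup_P E)
    ((B_le_normalizer_E h).trans (normalizer_E_le_P E)) (le_normalizer.trans (normalizer_E_le_P E))

theorem comm_P_E_le : ⁅Pm p E, E⁆ ≤ Cfsg.pCoreOf p E := by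
  have hEP : E ≤ normalizer (Pm p E : Set G) := le_normalizer.trans (normalizer_E_le_P E)
  have h1 : ⁅Pm p E, E⁆ ≤ Pm p E := CfsgLib.Baumann.commutator_le_self_of_normalizer hEP
  have h2 : ⁅Pm p E, E⁆ ≤ E := by
    rw [commutator_comm]
    exact CfsgLib.Baumann.commutator_le_self_of_normalizer (P_le_normalizer_E hG h)
  exact CfsgLib.FrakM.le_pCoreOf h2 ((isPGroup_P E).to_le h1)
    (CfsgLib.Baumann.le_normalizer_commutator_right _ _)

theorem comm_mem_Q {u e : G} (hu : u ∈ Pm p E) (he : e ∈ E) :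
    e * u * e⁻¹ * u⁻¹ ∈ Cfsg.pCoreOf p E := by
  have := inv_mem (comm_P_E_le hG h (commutator_mem_commutator hu he))
  rwa [show ⁅u, e⁆⁻¹ = e * u * e⁻¹ * u⁻¹ by rw [commutatorElement_def]; group] at this

/-- Elements of `C` centralizing `P / K` lie in `P`. -/
theorem stab_le_P : Cm p E ⊓ stab (Pm p E) (Km p E) ≤ Pm p E := by
  set S := Cm p E ⊓ stab (Pm p E) (Km p E)
  refine CfsgLib.FrakM.le_pCoreOf inf_le_left (LocalB.isPGroup_of_forall fun w hw hco => ?_)
    fun c hc => ?_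
  · have hcen : ∀ x ∈ Pm p E, Commute w x := by
      refine CfsgLib.BlockSection.commute_of_stab_frattini (isPGroup_P E) hw.2.1 hco (K_le_P hG h)
        hw.2.2.2 fun k hk => ?_
      -- `w` centralizes `W_E` and normalizes `Φ(P)`
      set Φ := (frattini ↥(Pm p E)).map (Pm p E).subtype with hΦ
      have hwΦ : w ⋆ Φ = Φ := cj_frattini hw.2.1
      have hnW : Φ ≤ normalizer (WEm p E : Set G) :=
        ((map_subtype_le _).trans (P_le_C E)).trans (CfsgLib.FrakM.centralizer_le_normalizer _)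
      rw [Km, sup_comm, CfsgLib.Solvable.mem_sup_of_le_normalizer hnW] at hk
      obtain ⟨f, hf, x, hx, rfl⟩ := hk
      have hwx : w * x * w⁻¹ = x := by
        rw [← mem_centralizer_iff.1 hw.1 x hx, mul_inv_cancel_right]
      rw [show w * (f * x) * w⁻¹ * (f * x)⁻¹ = w * f * w⁻¹ * (w * x * w⁻¹ * x⁻¹) * f⁻¹ by group, hwx,
        mul_inv_cancel, mul_one]
      exact mul_mem (hwΦ.le (conj_mem_cj hf)) (inv_mem hf)
    obtain ⟨k, hk⟩ := isPGroup_P (p := p) E ⟨w, centralizer_P_le hG h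
      (mem_centralizer_iff.2 fun x hx => (hcen x hx).eq.symm)⟩
    exact orderOf_eq_one_iff.1 (Nat.eq_one_of_dvd_coprimes (hco.pow_right k) dvd_rfl
      (orderOf_dvd_of_pow_eq_one (congrArg Subtype.val hk)))
  · rw [mem_normalizer_iff_cj]
    refine eq_of_le_of_card_le' ?_ (card_cj _ _).ge
    rintro _ ⟨x, hx, rfl⟩
    exact Subgroup.mem_inf.2 ⟨(Cm p E).mul_mem ((Cm p E).mul_mem hc hx.1) ((Cm p E).inv_mem hc),
      conj_mem_stab (C_le_normalizer_P E hc) (C_le_normalizer_K E hc) hx.2⟩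

/-- The conclusion when `[P, E] ≤ W`. -/
theorem comm_mem_P_of_le (hle : ⁅Pm p E, E⁆ ≤ Wm p E) {e c : G} (he : e ∈ E) (hc : c ∈ Cm p E) :
    e * c * e⁻¹ * c⁻¹ ∈ Pm p E := by
  have hEP : E ≤ normalizer (Pm p E : Set G) := le_normalizer.trans (normalizer_E_le_P E)
  have hPK : ⁅Pm p E, E⁆ ≤ Km p E := by
    rw [← commutator_commutator_eq h.res (isPGroup_P E) hEP (P_le_normalizer_E hG h)]
    exact (commutator_mono hle le_rfl).trans le_sup_left
  have hes : e ∈ stab (Pm p E) (Km p E) := by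
    refine ⟨hEP he, normalizer_E_le_K E (le_normalizer he), fun u hu => ?_⟩
    have := inv_mem (hPK (commutator_mem_commutator hu he))
    rwa [show ⁅u, e⁆⁻¹ = e * u * e⁻¹ * u⁻¹ by rw [commutatorElement_def]; group] at this
  refine stab_le_P hG h ⟨?_, comm_mem_stab (C_le_normalizer_P E hc) (C_le_normalizer_K E hc) hes⟩
  exact (Cm p E).mul_mem ((mem_normalizer_iff.1 (normalizer_E_le_C E (le_normalizer he)) c).1 hc)
    ((Cm p E).inv_mem hc)

/-- If `[E, C] ≤ P` then `C` normalizes `E`. -/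
theorem C_le_normalizer_of_comm
    (hcomm : ∀ e ∈ E, ∀ c ∈ Cm p E, e * c * e⁻¹ * c⁻¹ ∈ Pm p E) :
    Cm p E ≤ normalizer (E : Set G) := by
  intro c hc
  rw [mem_normalizer_iff_cj]
  refine (eq_of_le_of_card_le' ?_ (card_cj _ _).le).symm
  refine CfsgLib.Baumann.residual_induction h.res _ fun e he hco => ?_
  rw [mem_cj]
  refine mem_of_coprime_sup (isPGroup_P E) (P_le_normalizer_E hG h) ?_ ?_
  · have hc' : c⁻¹ ∈ Cm p E := inv_mem hc
    have h1 := inv_mem (hcomm e he c⁻¹ hc')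
    rw [show (e * c⁻¹ * e⁻¹ * c⁻¹⁻¹)⁻¹ = c⁻¹ * e * c * e⁻¹ by group] at h1
    have h2 := mul_mem (mem_sup_left (T := E) h1) (mem_sup_right (S := Pm p E) he)
    rwa [inv_mul_cancel_right] at h2
  · have heq : c⁻¹ * e * c = MulAut.conj c⁻¹ e := by simp [MulAut.conj_apply]
    rw [heq, MulEquiv.orderOf_eq]
    exact hco

end

end CfsgLib.BlockBasic
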