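import Cfsg.Agent.LocalB.BlockCompareA

/-!
A block normalizing a subnormal block and not centralizing its `W_E` lies in it.
-/

set_option autoImplicit false
set_option linter.style.haveILetI false
set_option linter.unusedSectionVars false

namespace CfsgLib.BlockCompare

open Subgroup CfsgLib.Functor CfsgLib.BlockModule CfsgLib.BlockBasic CfsgLib.BlockCore
  CfsgLib.BlockSection CfsgLib.BlockSL2 CfsgLib.BlockLinearSL CfsgLib.BlockLinear
  CfsgLib.BlockTypes CfsgLib.BlockPerm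
open scoped CfsgLib.Functor commutatorElement

universe u

variable {G : Type u} [Group G] [Finite G] {p : ℕ} [hp : Fact p.Prime]

section

variable (hG : centralizer (Cfsg.pCore p G : Set G) ≤ Cfsg.pCore p G) {T T' : Sylow p G}
  {E F : Subgroup G} (hE : Cfsg.IsBaumannBlock p (T : Subgroup G) E)
  (hF : Cfsg.IsBaumannBlock p (T' : Subgroup G) F) (hFN : F ≤ normalizer (E : Set G))
  (hne : ¬ F ≤ Cm p E)

include hG hE hF hFN hne

theorem WF_le : WEm p F ≤ WEm p E := by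
  have hV : WEm p E ≤ Vm p G := WE_le_O hG (CfsgLib.Baumann.blk_of_isBaumannBlock hE)
  have hWEn : F ≤ normalizer (WEm p E : Set G) := fun g hg =>
    mem_normalizer_iff_cj.2 (cj_WE (hFN hg))
  have hWEF : WEm p E ≤ normalizer (F : Set G) := fun w hw =>
    O_le_normalizer hF (CfsgLib.Thompson.omegaOne_le _ (hV hw)).1
  set M := ⁅WEm p E, F⁆ with hM
  have hMne : M ≠ ⊥ := fun h => hne (by
    rw [hM, commutator_comm, commutator_eq_bot_iff_le_centralizer] at h; exact h)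
  have hMWF : M ≤ WEm p F := (commutator_mono hV le_rfl).trans (comm_V_le hF)
  have hMM : ⁅M, F⁆ = M := commutator_commutator_eq (facts_of_block hF).res
    (CfsgLib.Thompson.elab_isPGroup (WE_el (p := p) E)) hWEn hWEF
  have hMn : F ≤ normalizer (M : Set G) := CfsgLib.Baumann.le_normalizer_commutator_right _ _
  have hf := facts_of_block hF
  rcases hf.irr (M ⊔ Zm p F) le_sup_right
    (sup_le (hMWF.trans (WE_le_W F)) inf_le_left) (fun g hg => by
      rw [mem_normalizer_iff_cj, Subgroup.map_sup, mem_normalizer_iff_cj.1 (hMn hg),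
        mem_normalizer_iff_cj.1 (hf.norm_Z (le_normalizer hg))]) with h | h
  · refine absurd ?_ hMne
    rw [← hMM, commutator_eq_bot_iff_le_centralizer]
    exact le_sup_left.trans (h.le.trans inf_le_right)
  · refine le_trans ?_ (CfsgLib.Baumann.commutator_le_self_of_normalizer hWEn : M ≤ WEm p E)
    show ⁅Wm p F, F⁆ ≤ M
    rw [Subgroup.commutator_le]
    intro w hw f hf'
    have hw' : w ∈ M ⊔ Zm p F := h.ge hw
    rw [CfsgLib.Solvable.mem_sup_of_le_normalizer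
      (fun m hm => hf.norm_Z (le_normalizer (hf.W_le_E (WE_le_W F (hMWF hm)))))] at hw'
    obtain ⟨m, hm, c, hc, rfl⟩ := hw'
    rw [commutatorElement_def, show m * c * f * (m * c)⁻¹ * f⁻¹ = m * (c * f * c⁻¹) * m⁻¹ * f⁻¹ by
      group, hf.Z_commute hc hf', mul_inv_cancel_right, ← commutatorElement_def, ← hMM]
    exact commutator_mem_commutator hm hf'

theorem C_le_C : Cm p E ≤ Cm p F := centralizer_le (WF_le hG hE hF hFN hne)

theorem C_le_normalizer_F : Cm p E ≤ normalizer (F : Set G) :=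
  (C_le_C hG hE hF hFN hne).trans (CfsgLib.BlockNorm.C_le_normalizer hG hF)

variable (hB : ∀ (K : Type) [Field K] [Fintype K], LData p E K →
  Cfsg.baumannSubgroupOf p (T' : Subgroup G) ≤ normalizer (E : Set G))

include hB

/-- The `p'`-elements of `F` act as elements of `E`. -/
theorem mem_EC {f : G} (hf : f ∈ F) (hco : (orderOf f).Coprime p) :
    ∃ e ∈ E, e⁻¹ * f ∈ Cm p E := by
  rcases block_cases hE with ⟨rfl, n, ⟨X⟩⟩ | ⟨K, iK, iKt, ⟨X⟩⟩
  · exact X.odd_mem_EC (hFN hf) hco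
  have hBN := hB K X
  have hJN := (CfsgLib.Baumann.thompson_le_baumann (T' : Subgroup G)).trans hBN
  by_cases hbig : ∃ t : K, t ≠ 0 ∧ t * t ≠ 1
  · have hCN := CfsgLib.BlockNorm.C_le_normalizer hG hE
    have hEC : ∀ g ∈ normalizer (E : Set G), g ∈ normalizer ((E ⊔ Cm p E : Subgroup G) : Set G) :=
      fun g hg => by
        rw [mem_normalizer_iff_cj, Subgroup.map_sup, mem_normalizer_iff_cj.1 hg,
          mem_normalizer_iff_cj.1 (normalizer_E_le_C E hg)]
    have hle : F ≤ E ⊔ Cm p E := by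
      rw [← hF.2.1, Subgroup.commutator_le]
      intro a ha b hb
      obtain ⟨e, he, hec⟩ := baumann_EC hG hE T' hJN X hbig hBN b hb
      have hb' : b ∈ E ⊔ Cm p E := by
        rw [show b = e * (e⁻¹ * b) by group]
        exact mul_mem (mem_sup_left he) (mem_sup_right hec)
      rw [commutatorElement_def]
      exact mul_mem ((mem_normalizer_iff.1 (hEC a (hFN ha)) b).1 hb') (inv_mem hb')
    have hf' : f ∈ Cm p E ⊔ E := by rw [sup_comm]; exact hle hf
    rw [CfsgLib.Solvable.mem_sup_of_le_normalizer hCN] at hf'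
    obtain ⟨c, hc, e, he, rfl⟩ := hf'
    refine ⟨c * e * c⁻¹, (mem_normalizer_iff.1 (hCN hc) e).1 he, ?_⟩
    rw [show (c * e * c⁻¹)⁻¹ * (c * e) = c by group]
    exact hc
  · have hlin : ∀ {g : G}, g ∈ normalizer (E : Set G) → Lin (X.S.act g) := fun {_} hg =>
      X.lin_of_small hbig hg
    have hdt : ∀ {g g' : G}, g ∈ normalizer (E : Set G) → g' ∈ normalizer (E : Set G) →
        dt (X.S.act (g * g')) = dt (X.S.act g) * dt (X.S.act g') := fun {_ _} hg hg' =>
      X.dt_mul hg hg' (hlin hg)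
    let L : Subgroup G :=
      { carrier := {g | g ∈ normalizer (E : Set G) ∧ dt (X.S.act g) = 1}
        one_mem' := ⟨one_mem _, X.dt_one⟩
        mul_mem' := fun {a b} ha hb => ⟨mul_mem ha.1 hb.1, by
          rw [hdt ha.1 hb.1, ha.2, hb.2, one_mul]⟩
        inv_mem' := fun {a} ha => ⟨inv_mem ha.1, by
          have := hdt (inv_mem ha.1) ha.1
          rwa [inv_mul_cancel, X.dt_one, ha.2, mul_one, eq_comm] at this⟩ }
    have hle : F ≤ L := by
      rw [← hF.2.1, Subgroup.commutator_le]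
      intro a ha b hb
      have haN := hFN ha
      have hbN := hBN hb
      refine ⟨mul_mem (mul_mem (mul_mem haN hbN) (inv_mem haN)) (inv_mem hbN), ?_⟩
      have e1 := hdt haN (inv_mem haN)
      have e2 := hdt hbN (inv_mem hbN)
      rw [mul_inv_cancel, X.dt_one] at e1 e2
      rw [commutatorElement_def, hdt (mul_mem (mul_mem haN hbN) (inv_mem haN)) (inv_mem hbN),
        hdt (mul_mem haN hbN) (inv_mem haN), hdt haN hbN]
      linear_combination (-(dt (X.S.act a) * dt (X.S.act a⁻¹))) * e2 - e1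
    exact X.coprime_mem_EC (hFN hf) (hlin (hFN hf)) (hle hf).2 hco

theorem F_le_EC : F ≤ E ⊔ Cm p E :=
  CfsgLib.Baumann.residual_induction (facts_of_block hF).res _ fun f hf hco => by
    obtain ⟨e, he, hc⟩ := mem_EC hG hE hF hFN hne hB hf hco
    rw [show f = e * (e⁻¹ * f) by group]
    exact mul_mem (mem_sup_left he) (mem_sup_right hc)

theorem exists_dec {f : G} (hf : f ∈ F) : ∃ e ∈ E, ∃ c ∈ Cm p E, f = e * c := by
  have hCN := CfsgLib.BlockNorm.C_le_normalizer hG hE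
  have hf' : f ∈ Cm p E ⊔ E := by rw [sup_comm]; exact F_le_EC hG hE hF hFN hne hB hf
  rw [CfsgLib.Solvable.mem_sup_of_le_normalizer hCN] at hf'
  obtain ⟨c, hc, e, he, rfl⟩ := hf'
  exact ⟨c * e * c⁻¹, (mem_normalizer_iff.1 (hCN hc) e).1 he, c, hc, by group⟩

variable (hs : E.IsSubnormal)

include hs

/-- `Q = W`. -/
theorem le_of_Q_le (hQ : Cfsg.pCoreOf p E ≤ Wm p E) : F ≤ E := by
  haveI : (Cfsg.pCore p G).Normal := CfsgLib.Solvable.pCore_normal p
  have hEf := facts_of_block hE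
  have hQWE := hEf.Q_eq_WE hQ
  have hCN := CfsgLib.BlockNorm.C_le_normalizer hG hE
  have hnQ : normalizer (E : Set G) ≤ normalizer (Cfsg.pCoreOf p E : Set G) :=
    CfsgLib.FrakM.normalizer_le_normalizer_pCoreOf E
  have hnO : ∀ g : G, g ∈ normalizer (Cfsg.pCore p G : Set G) := fun g =>
    le_normalizer_of_normal (mem_top g)
  by_cases hall : ∀ f ∈ F, ∀ o ∈ Cfsg.pCore p G, f * o * f⁻¹ * o⁻¹ ∈ Cfsg.pCoreOf p E
  · refine CfsgLib.Baumann.residual_induction (facts_of_block hF).res _ fun f hf hco => ?_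
    obtain ⟨e, he, hc⟩ := mem_EC hG hE hF hFN hne hB hf hco
    set S := stab (Cfsg.pCore p G) (Cfsg.pCoreOf p E)
    have hfS : f ∈ S := ⟨hnO f, hnQ (hFN hf), hall f hf⟩
    have heS : e ∈ S := ⟨hnO e, hnQ (le_normalizer he), fun o ho => comm_O_le hE ho he⟩
    have hcS : e⁻¹ * f ∈ S := S.mul_mem (S.inv_mem heS) hfS
    have hcent : ∀ q ∈ Cfsg.pCoreOf p E, e⁻¹ * f * q * (e⁻¹ * f)⁻¹ * q⁻¹ ∈ Wm p E :=
      fun q hq => by
        rw [← mem_centralizer_iff.1 hc q (hQWE.le hq), mul_inv_cancel_right, mul_inv_cancel]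
        exact one_mem _
    have hW : e⁻¹ * f ∈ centralizer (Wm p E : Set G) := centralizer_le
      (fun x hx => hQWE.le (W_le_Q E hx)) hc
    have := mem_of_stab hG hE hs he hc hcS.2.2 hcent hW (by rwa [mul_inv_cancel_left])
    rwa [mul_inv_cancel_left] at this
  exfalso
  push Not at hall
  obtain ⟨f₀, hf₀, o₀, ho₀, hno⟩ := hall
  have hFf := facts_of_block hF
  have hWFQ : WEm p F ≤ Cfsg.pCoreOf p E := (WF_le hG hE hF hFN hne).trans hQWE.ge
  set U := ⁅Cfsg.pCore p G, F⁆ with hU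
  have hUn : F ≤ normalizer (U : Set G) := CfsgLib.Baumann.le_normalizer_commutator_right _ _
  have hUQ : U ≤ Cfsg.pCoreOf p F := by
    rw [hU, Subgroup.commutator_le]
    intro o ho f hf
    have := inv_mem (comm_O_le hF ho hf)
    rwa [show (f * o * f⁻¹ * o⁻¹)⁻¹ = ⁅o, f⁆ by rw [commutatorElement_def]; group] at this
  have hUW : ¬ U ≤ Wm p F := fun h => by
    have h1 : U ≤ WEm p F := by
      rw [hU, ← commutator_commutator_eq hFf.res (CfsgLib.Solvable.isPGroup_pCore p)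
        (fun g _ => hnO g) (O_le_normalizer hF)]
      exact commutator_mono h le_rfl
    have h2 := inv_mem (hWFQ (h1 (commutator_mem_commutator ho₀ hf₀)))
    rw [commutatorElement_def,
      show (o₀ * f₀ * o₀⁻¹ * f₀⁻¹)⁻¹ = f₀ * o₀ * f₀⁻¹ * o₀⁻¹ by group] at h2
    exact hno h2
  obtain ⟨rfl, hex⟩ := CfsgLib.BlockExc.exists_exc hF (fun h => hUW (hUQ.trans h))
  obtain ⟨L, iL, iLt, ⟨Y⟩⟩ := hex T' rfl
  have hnle : ¬ ⁅Pm 3 F, F⁆ ≤ Wm 3 F := fun h =>
    hUW ((commutator_mono (O_le_P hG Y.blk) le_rfl).trans h)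
  have hQO : Cfsg.pCoreOf 3 F ≤ Cfsg.pCore 3 G := by
    have h1 := (Y.irr2 (U ⊔ Wm 3 F) le_sup_right (sup_le hUQ (W_le_Q F)) (fun g hg => by
      rw [mem_normalizer_iff_cj, Subgroup.map_sup, mem_normalizer_iff_cj.1 (hUn hg),
        mem_normalizer_iff_cj.1 (le_normalizer_W F hg)])).resolve_left
      fun h => hUW (le_sup_left.trans h.le)
    refine (Y.le_of_le_sup_Z (M := U ⊔ WEm 3 F)
      (sup_le hUQ ((WE_le_W F).trans (W_le_Q F))) ?_).trans (sup_le
        (commutator_le.2 fun o ho f _ => by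
          rw [commutatorElement_def, show o * f * o⁻¹ * f⁻¹ = o * (f * o⁻¹ * f⁻¹) by group]
          exact mul_mem ho (Subgroup.Normal.conj_mem inferInstance _ (inv_mem ho) f))
        (fun w hw => Q_le_O hE hs (hWFQ hw)))
    calc Cfsg.pCoreOf 3 F = U ⊔ Wm 3 F := h1.symm
      _ = U ⊔ (WEm 3 F ⊔ Zm 3 F) := by rw [← hFf.W_eq]
      _ ≤ _ := le_of_eq (sup_assoc _ _ _).symm
  -- every `p'`-element is a scalar on the top
  have hscal : ∀ f ∈ F, (orderOf f).Coprime 3 → ∃ t : L, ∀ v, Y.S2.act f v = t • v := by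
    intro f hf hco
    obtain ⟨e, he, hc⟩ := mem_EC hG hE hF hFN hne hB hf hco
    set c := e⁻¹ * f with hc'
    have hcF := C_le_normalizer_F hG hE hF hFN hne hc
    have hcQ := CfsgLib.FrakM.normalizer_le_normalizer_pCoreOf (p := 3) F hcF
    have heF : e ∈ normalizer (F : Set G) := by
      rw [show e = f * c⁻¹ by rw [hc']; group]
      exact mul_mem (le_normalizer hf) (inv_mem hcF)
    have heQ := CfsgLib.FrakM.normalizer_le_normalizer_pCoreOf (p := 3) F heF
    obtain ⟨t, ht⟩ := Y.exists_scalar hG hnle hcQ fun g hg v =>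
      Y.act2_P hG hnle (CfsgLib.BlockNorm.comm_mem_P hG hF g hg c
        (C_le_C hG hE hF hFN hne hc)) v
    refine ⟨t, fun v => ?_⟩
    have htop : ∀ v, Y.S2.act e v = v := by
      refine Y.S2.act_eq_id heQ (Y.norm_W heQ) fun a ha => ?_
      set d := e * a * e⁻¹ * a⁻¹
      have hdE : d ∈ WEm 3 E := hQWE.le (comm_O_le hE (hQO ha) he)
      have hdF : d ∈ Cfsg.pCoreOf 3 F := mul_mem ((mem_normalizer_iff.1 heQ a).1 ha) (inv_mem ha)
      -- `W_E ∩ Q_F` is abelian and invariant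
      set M := WEm 3 E ⊓ Cfsg.pCoreOf 3 F
      rcases Y.irr2 (M ⊔ Wm 3 F) le_sup_right (sup_le inf_le_right (W_le_Q F)) (fun g hg => by
        rw [mem_normalizer_iff_cj, Subgroup.map_sup, cj_inf, cj_WE (hFN hg),
          mem_normalizer_iff_cj.1 (CfsgLib.FrakM.le_normalizer_pCoreOf F hg),
          mem_normalizer_iff_cj.1 (le_normalizer_W F hg)]) with h | h
      · exact h.le (mem_sup_left (Subgroup.mem_inf.2 ⟨hdE, hdF⟩))
      exfalso
      have hab : M ⊔ Wm 3 F ≤ centralizer ((M ⊔ Wm 3 F : Subgroup G) : Set G) := by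
        have hMM : ∀ x ∈ M, ∀ y ∈ M, x * y = y * x := fun x hx y hy =>
          CfsgLib.Thompson.elab_commute (WE_el (p := 3) E) hx.1 hy.1
        refine sup_le (fun x hx => mem_centralizer_iff.2 fun y hy => ?_)
          (fun x hx => mem_centralizer_iff.2 fun y hy => W_comm hx (h.le hy))
        have hsup : M ⊔ Wm 3 F ≤ centralizer {x} := sup_le
          (fun y hy => mem_centralizer_singleton_iff.2 (hMM y hy x hx))
          (fun y hy => mem_centralizer_singleton_iff.2 (W_comm hy hx.2).symm)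
        exact mem_centralizer_singleton_iff.1 (hsup hy)
      have hbot : Zm 3 F = ⊥ := by
        rw [← Y.comm_eq, ← h, commutator_eq_bot_iff_le_centralizer]
        exact hab
      have := Y.cardZ
      rw [hbot, Subgroup.card_bot] at this
      exact absurd this Fintype.one_lt_card.ne
    rw [show f = e * c by rw [hc']; group, Y.S2.act_mul heQ (Y.norm_W heQ) hcQ (Y.norm_W hcQ), ht,
      htop]
  -- so the top group is commutative
  have hcomm : ∀ a b : ↥F, Y.S2.ρ a * Y.S2.ρ b = Y.S2.ρ b * Y.S2.ρ a := by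
    let K₀ : Subgroup ↥F := Subgroup.comap Y.S2.ρ (centralizer (Y.S2.ρ.range : Set (SL L)))
    have hle : F ≤ K₀.map F.subtype := by
      refine CfsgLib.Baumann.residual_induction hFf.res _ fun f hf hco => ⟨⟨f, hf⟩, ?_, rfl⟩
      obtain ⟨t, ht⟩ := hscal f hf hco
      refine mem_centralizer_iff.2 fun r _ => ext_mulVec fun v => ?_
      have e1 : ∀ v, (Y.S2.ρ ⟨f, hf⟩ : Matrix (Fin 2) (Fin 2) L).mulVec v = t • v := fun v => by
        rw [← Y.S2.act_of_mem ⟨f, hf⟩ (Y.norm_W (Y.E_norm_Q hf)), ht]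
      rw [mulVec_mul, mulVec_mul, e1, e1, Matrix.mulVec_smul]
    intro a b
    obtain ⟨a', ha', e⟩ := hle a.2
    have : a' = a := Subtype.ext e
    subst this
    exact (mem_centralizer_iff.1 ha' _ ⟨b, rfl⟩).symm
  obtain ⟨a, ha⟩ := Y.S2.exists_pre jj (jj_mem (Or.inr Y.char))
  obtain ⟨b, hb⟩ := Y.S2.exists_pre (xx Y.char) (xx_mem Y.char)
  have := hcomm a b
  rw [ha, hb] at this
  refine neg_one_ne Y.char ?_
  rw [← comm_jj_xx Y.char, commutatorElement_def, this]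
  group

/-- `Q ≠ W`. -/
theorem le_of_exc (hQ : ¬ Cfsg.pCoreOf p E ≤ Wm p E) : F ≤ E := by
  haveI : (Cfsg.pCore p G).Normal := CfsgLib.Solvable.pCore_normal p
  have hFf := facts_of_block hF
  have hCN := CfsgLib.BlockNorm.C_le_normalizer hG hE
  have hnle := hnle_of hG hE hs hQ
  have hWF := WF_le hG hE hF hFN hne
  obtain ⟨rfl, hex⟩ := CfsgLib.BlockExc.exists_exc hE hQ
  obtain ⟨K, iK, iKt, ⟨X⟩⟩ := hex T rfl
  have hnQ : normalizer (E : Set G) ≤ normalizer (Cfsg.pCoreOf 3 E : Set G) :=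
    CfsgLib.FrakM.normalizer_le_normalizer_pCoreOf E
  have h3Q : ∀ {q : G}, q ∈ Cfsg.pCoreOf 3 E → q * q ∈ Wm 3 E → q ∈ Wm 3 E := fun {q} hq h2 => by
    have h3 : q ^ 3 ∈ Wm 3 E := (X.pow_mem q hq).1
    have h := mul_mem (inv_mem h2) h3
    rwa [show (q * q)⁻¹ * q ^ 3 = q by group] at h
  have hcP := CfsgLib.BlockNorm.comm_mem_P hG hE
  have hscal : ∀ c ∈ Cm 3 E, ∃ t : K, ∀ v, X.S2.act c v = t • v := fun c hc =>
    X.exists_scalar hG hnle (hnQ (hCN hc)) fun e he v => X.act2_P hG hnle (hcP e he c hc) v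
  set C1 := Cm 3 E ⊓ stab (Cfsg.pCoreOf 3 E) (Wm 3 E) with hC1
  have htriv : ∀ g, g ∈ normalizer (Cfsg.pCoreOf 3 E : Set G) → (∀ v, X.S2.act g v = v) →
      ∀ q ∈ Cfsg.pCoreOf 3 E, g * q * g⁻¹ * q⁻¹ ∈ Wm 3 E := fun g hg h q hq => by
    have hm := (mem_normalizer_iff.1 hg q).1 hq
    refine (X.S2.zero _ (mul_mem hm (inv_mem hq))).1 ?_
    rw [X.S2.map_mul _ hm _ (inv_mem hq), ← X.S2.act_apply hg (X.norm_W hg) hq, h,
      X.S2.map_inv hq, add_neg_cancel]
  have hEw : ∀ e ∈ E, ∀ w ∈ WEm 3 E, e * w * e⁻¹ ∈ WEm 3 E := fun e he w hw =>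
    (cj_WE (le_normalizer he)).le (conj_mem_cj hw)
  -- `F` moves `Q / W`
  set Y := ⁅Cfsg.pCoreOf 3 E, F⁆ with hY
  have hFQ : F ≤ normalizer (Cfsg.pCoreOf 3 E : Set G) := hFN.trans hnQ
  have hYQ : Y ≤ Cfsg.pCoreOf 3 E := CfsgLib.Baumann.commutator_le_self_of_normalizer hFQ
  have hQO := Q_le_O hE hs
  have hYF : Y ≤ Cfsg.pCoreOf 3 F := by
    rw [hY, Subgroup.commutator_le]
    intro q hq f hf
    have := inv_mem (comm_O_le hF (hQO hq) hf)
    rwa [show (f * q * f⁻¹ * q⁻¹)⁻¹ = ⁅q, f⁆ by rw [commutatorElement_def]; group] at this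
  have hYW : ¬ Y ≤ Wm 3 E := by
    intro h
    -- then every `p'`-element acts as `± 1` on `W_F`
    rcases block_cases hF with ⟨h2, -⟩ | ⟨L, iL, iLt, ⟨D⟩⟩
    · exact absurd h2 (by norm_num)
    let K₀ : Subgroup ↥F := Subgroup.comap D.S.ρ (centralizer (D.S.ρ.range : Set (SL L)))
    have hle : F ≤ K₀.map F.subtype := by
      refine CfsgLib.Baumann.residual_induction hFf.res _ fun f hf hco => ⟨⟨f, hf⟩, ?_, rfl⟩
      obtain ⟨e, he, hc⟩ := mem_EC hG hE hF hFN hne hB hf hco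
      set c := e⁻¹ * f with hc'
      obtain ⟨t, ht⟩ := hscal c hc
      have hcQ := hnQ (hCN hc)
      have heQ := X.E_norm_Q he
      have hfid : ∀ v, X.S2.act f v = v := by
        refine X.S2.act_eq_id (hFQ hf) (X.norm_W (hFQ hf)) fun q hq => ?_
        have := inv_mem (h (commutator_mem_commutator hq hf))
        rwa [commutatorElement_def,
          show (q * f * q⁻¹ * f⁻¹)⁻¹ = f * q * f⁻¹ * q⁻¹ by group] at this
      have he2 : ∀ v, t • (X.S2.ρ ⟨e, he⟩ : Matrix (Fin 2) (Fin 2) K).mulVec v = v := fun v => by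
        rw [← Matrix.mulVec_smul, ← X.S2.act_of_mem ⟨e, he⟩ (X.norm_W heQ), ← ht,
          ← X.S2.act_mul heQ (X.norm_W heQ) hcQ (X.norm_W hcQ), hc', mul_inv_cancel_left, hfid]
      have ht2 : t * t = 1 := by
        have h1 := det2_mulVec (X.S2.ρ ⟨e, he⟩) ![1, 0] ![0, 1]
        have h2 : det2 (t • (X.S2.ρ ⟨e, he⟩ : Matrix (Fin 2) (Fin 2) K).mulVec ![1, 0])
            (t • (X.S2.ρ ⟨e, he⟩ : Matrix (Fin 2) (Fin 2) K).mulVec ![0, 1]) = 1 := by
          rw [he2, he2]; simp [det2]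
        have h3 : det2 (![1, 0] : Fin 2 → K) ![0, 1] = 1 := by simp [det2]
        rw [h3] at h1
        simp only [det2, Pi.smul_apply, smul_eq_mul] at h1 h2
        linear_combination h2 - (t * t) * h1
      have hsign : (∀ w ∈ WEm 3 E, f * w * f⁻¹ = w) ∨ ∀ w ∈ WEm 3 E, f * w * f⁻¹ = w⁻¹ := by
        have hfw : ∀ w ∈ WEm 3 E, f * w * f⁻¹ = e * w * e⁻¹ := fun w hw => by
          rw [show f * w * f⁻¹ = e * (c * w * c⁻¹) * e⁻¹ by rw [hc']; group,
            ← mem_centralizer_iff.1 hc w hw, mul_inv_cancel_right]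
        have hconv : ∀ w ∈ WEm 3 E, ∀ x ∈ WEm 3 E, X.S1.f x = X.S1.f w → x = w :=
          fun w hw x hx hxw => by
            have := X.WE_inf_Z (mul_mem (inv_mem hx) hw)
              ((X.S1.eq_iff (WE_le_W E hx) (WE_le_W E hw)).1 hxw)
            rwa [inv_mul_eq_one] at this
        rcases mul_self_eq_one_iff.1 ht2 with rfl | rfl
        · left
          have h1 : X.S2.ρ ⟨e, he⟩ = 1 := ext_mulVec fun v => by
            have := he2 v
            rw [one_smul] at this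
            rw [this, Matrix.SpecialLinearGroup.coe_one, Matrix.one_mulVec]
          have h2 := (X.ker1 _).2 ((X.ker2 _).1 h1)
          intro w hw
          rw [hfw w hw]
          refine hconv w hw _ (hEw e he w hw) ?_
          rw [X.S1.equiv ⟨e, he⟩ w (WE_le_W E hw), h2, Matrix.SpecialLinearGroup.coe_one,
            Matrix.one_mulVec]
        · right
          have h1 : X.S2.ρ ⟨e, he⟩ = -1 := ext_mulVec fun v => by
            have := he2 v
            rw [neg_one_smul, neg_eq_iff_eq_neg] at this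
            rw [this, neg_one_mulVec]
          have h2 : X.S2.ρ (⟨e, he⟩ * ⟨X.z, X.zE⟩⁻¹) = 1 := by
            rw [map_mul, map_inv, h1, X.z2, mul_inv_cancel]
          have h3 := (X.ker1 _).2 ((X.ker2 _).1 h2)
          rw [map_mul, map_inv, X.z1, mul_inv_eq_one] at h3
          intro w hw
          rw [hfw w hw]
          refine hconv w⁻¹ (inv_mem hw) _ (hEw e he w hw) ?_
          rw [X.S1.equiv ⟨e, he⟩ w (WE_le_W E hw), h3, neg_one_mulVec,
            X.S1.map_inv (WE_le_W E hw)]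
      refine mem_centralizer_iff.2 fun r _ => ?_
      rcases hsign with hs' | hs'
      · have h1 : D.S.ρ ⟨f, hf⟩ = 1 := ext_mulVec fun v => by
          obtain ⟨w, hw, rfl⟩ := D.surj_WE v
          rw [← D.S.equiv ⟨f, hf⟩ w (WE_le_W F hw), hs' w (hWF hw),
            Matrix.SpecialLinearGroup.coe_one, Matrix.one_mulVec]
        rw [h1, mul_one, one_mul]
      · have h1 : D.S.ρ ⟨f, hf⟩ = -1 := ext_mulVec fun v => by
          obtain ⟨w, hw, rfl⟩ := D.surj_WE v
          rw [← D.S.equiv ⟨f, hf⟩ w (WE_le_W F hw), hs' w (hWF hw), neg_one_mulVec,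
            D.S.map_inv (WE_le_W F hw)]
        refine ext_mulVec fun v => ?_
        rw [h1, mulVec_mul, mulVec_mul, neg_one_mulVec, neg_one_mulVec, Matrix.mulVec_neg]
    have h3L : (3 : L) = 0 := by exact_mod_cast D.char
    obtain ⟨a, ha⟩ := D.S.exists_pre jj (jj_mem (Or.inr h3L))
    obtain ⟨b, hb⟩ := D.S.exists_pre (xx h3L) (xx_mem h3L)
    obtain ⟨a', ha', ea⟩ := hle a.2
    have : a' = a := Subtype.ext ea
    subst this
    have h1 : D.S.ρ b * D.S.ρ a' = D.S.ρ a' * D.S.ρ b :=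
      mem_centralizer_iff.1 ha' _ ⟨b, rfl⟩
    rw [ha, hb] at h1
    refine neg_one_ne h3L ?_
    rw [← comm_jj_xx h3L, commutatorElement_def, ← h1]
    group
  have hYY : ⁅Y, F⁆ = Y := commutator_commutator_eq hFf.res
    (CfsgLib.FrakM.isPGroup_pCoreOf E) hFQ (hQO.trans (O_le_normalizer hF))
  have hYWF : ¬ Y ≤ Wm 3 F := fun h => hYW <| by
    rw [← hYY]
    exact (commutator_mono h le_rfl).trans (hWF.trans (WE_le_W E))
  obtain ⟨-, hex'⟩ := CfsgLib.BlockExc.exists_exc hF (fun h => hYWF (hYF.trans h))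
  obtain ⟨L, iL, iLt, ⟨Yx⟩⟩ := hex' T' rfl
  have hQFle : Cfsg.pCoreOf 3 F ≤ Cfsg.pCoreOf 3 E := by
    have h1 := (Yx.irr2 (Y ⊔ Wm 3 F) le_sup_right (sup_le hYF (W_le_Q F)) (fun g hg => by
      rw [mem_normalizer_iff_cj, Subgroup.map_sup,
        mem_normalizer_iff_cj.1 (CfsgLib.Baumann.le_normalizer_commutator_right _ _ hg),
        mem_normalizer_iff_cj.1 (le_normalizer_W F hg)])).resolve_left
      fun h => hYWF (le_sup_left.trans h.le)
    refine (Yx.le_of_le_sup_Z (M := Y ⊔ WEm 3 F)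
      (sup_le hYF ((WE_le_W F).trans (W_le_Q F))) ?_).trans
      (sup_le hYQ (hWF.trans ((WE_le_W E).trans (W_le_Q E))))
    calc Cfsg.pCoreOf 3 F = Y ⊔ Wm 3 F := h1.symm
      _ = Y ⊔ (WEm 3 F ⊔ Zm 3 F) := by rw [← hFf.W_eq]
      _ ≤ _ := le_of_eq (sup_assoc _ _ _).symm
  -- the involution of `F` acts as minus one
  set z := Yx.z with hz
  have hzF : z ∈ F := Yx.zE
  obtain ⟨e, he, c, hc, hzec⟩ := exists_dec hG hE hF hFN hne hB hzF
  have hze : ∀ w ∈ WEm 3 E, z * w * z⁻¹ = e * w * e⁻¹ := fun w hw => by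
    rw [hzec, show e * c * w * (e * c)⁻¹ = e * (c * w * c⁻¹) * e⁻¹ by group,
      ← mem_centralizer_iff.1 hc w hw, mul_inv_cancel_right]
  have hρ1 : X.S1.ρ ⟨e, he⟩ = -1 := by
    set m := X.S1.ρ ⟨e, he⟩ with hm
    have hsurj : ∀ v, ∃ w ∈ WEm 3 E, X.S1.f w = v := fun v => by
      obtain ⟨u, hu, rfl⟩ := X.S1.surj v
      obtain ⟨n, hn, x, hx, rfl⟩ := X.exists_split hu
      exact ⟨n, X.WE_eq.ge hn, (X.S1.map_mul_zero hn.1 hx).symm⟩
    have hmm : m * m = 1 := ext_mulVec fun v => by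
      obtain ⟨w, hw, rfl⟩ := hsurj v
      rw [mulVec_mul, ← X.S1.equiv ⟨e, he⟩ w (WE_le_W E hw),
        ← X.S1.equiv ⟨e, he⟩ _ (WE_le_W E (hEw e he w hw)), ← hze _ (hEw e he w hw), ← hze w hw,
        Yx.zz_conj, Matrix.SpecialLinearGroup.coe_one, Matrix.one_mulVec]
    have hm1 : m ≠ 1 := by
      intro h1
      obtain ⟨w, hw, hwZ⟩ : ∃ w ∈ WEm 3 F, w ∉ Zm 3 F := by
        by_contra hno
        push Not at hno
        exact hFf.ne (hFf.W_eq.le.trans (sup_le hno le_rfl))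
      have hwi : z * w * z⁻¹ = w⁻¹ := (Yx.WE_eq.le hw).2
      have h2 := X.S1.equiv ⟨e, he⟩ w (WE_le_W E (hWF hw))
      rw [← hze w (hWF hw), hwi, ← hm, h1, Matrix.SpecialLinearGroup.coe_one, Matrix.one_mulVec,
        X.S1.map_inv (WE_le_W E (hWF hw))] at h2
      have h3 := X.WE_inf_Z (hWF hw)
        ((X.S1.zero w (WE_le_W E (hWF hw))).1 (X.eq_zero_of_neg h2.symm))
      exact hwZ (by rw [h3]; exact one_mem _)
    exact orderOf_two_eq X.two_ne (orderOf_eq_prime (by rw [pow_two, hmm]) hm1)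
  have hzinv : ∀ w ∈ WEm 3 E, z * w * z⁻¹ = w⁻¹ := fun w hw => by
    rw [hze w hw]
    have h1 := X.S1.equiv ⟨e, he⟩ w (WE_le_W E hw)
    rw [hρ1, neg_one_mulVec, ← X.S1.map_inv (WE_le_W E hw)] at h1
    have := X.WE_inf_Z (mul_mem (inv_mem (hEw e he w hw)) (inv_mem hw))
      ((X.S1.eq_iff (WE_le_W E (hEw e he w hw)) (inv_mem (WE_le_W E hw))).1 h1)
    rwa [inv_mul_eq_one] at this
  have hWEF : WEm 3 E ≤ WEm 3 F := fun w hw => by
    have h1 := (comm_V_le hF) (commutator_mem_commutator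
      (WE_le_O hG X.blk hw) hzF)
    rw [commutatorElement_def,
      show w * z * w⁻¹ * z⁻¹ = w * (z * w * z⁻¹)⁻¹ by group, hzinv w hw, inv_inv] at h1
    have h2 := mul_mem h1 h1
    rwa [show w * w * (w * w) = w * w * w * w by group, X.W_pow (WE_le_W E hw), one_mul] at h2
  have hZle : Zm 3 F ≤ Zm 3 E := by
    rw [← Yx.comm_eq, ← X.comm_eq]
    exact commutator_mono hQFle hQFle
  have hWle : Wm 3 F ≤ Wm 3 E := hFf.W_eq.le.trans
    (sup_le (hWF.trans (WE_le_W E)) (hZle.trans inf_le_left))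
  have heQ := X.E_norm_Q he
  have hcQ := hnQ (hCN hc)
  have hzQ : z ∈ normalizer (Cfsg.pCoreOf 3 E : Set G) := hFQ hzF
  have hρ2 : X.S2.ρ ⟨e, he⟩ = -1 := by
    have h2 : X.S1.ρ (⟨e, he⟩ * ⟨X.z, X.zE⟩⁻¹) = 1 := by
      rw [map_mul, map_inv, hρ1, X.z1, mul_inv_cancel]
    have h3 := (X.ker2 _).2 ((X.ker1 _).1 h2)
    rwa [map_mul, map_inv, X.z2, mul_inv_eq_one] at h3
  obtain ⟨t, ht⟩ := hscal c hc
  have hactz : ∀ v, X.S2.act z v = -(t • v) := fun v => by
    rw [hzec, X.S2.act_mul heQ (X.norm_W heQ) hcQ (X.norm_W hcQ), ht,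
      X.S2.act_of_mem ⟨e, he⟩ (X.norm_W heQ), hρ2, neg_one_mulVec]
  have ht1 : t = 1 := by
    have h1 : X.S2.act z (X.S2.act z ![1, 0]) = ![1, 0] := by
      rw [← X.S2.act_mul hzQ (X.norm_W hzQ) hzQ (X.norm_W hzQ), Yx.hz, X.S2.act_one]
    have h2 := congrFun h1 0
    rw [hactz, hactz] at h2
    simp only [Pi.neg_apply, Pi.smul_apply, smul_eq_mul, Matrix.cons_val_zero] at h2
    rcases mul_self_eq_one_iff.1 (show t * t = 1 by linear_combination h2) with h | h
    · exact h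
    exfalso
    obtain ⟨y, hy, hyW⟩ := SetLike.not_le_iff_exists.1 hYW
    have hyF := hYF hy
    have hm := (mem_normalizer_iff.1 (Yx.E_norm_Q hzF) y).1 hyF
    have e1 : z * y * z⁻¹ * y ∈ Wm 3 F := (Yx.S2.zero _ (mul_mem hm hyF)).1 (by
      rw [Yx.S2.map_mul _ hm _ hyF, Yx.f2_z hyF, neg_add_cancel])
    have e2 := htriv z hzQ (fun v => by rw [hactz, h, neg_one_smul, neg_neg]) y (hYQ hy)
    refine hyW (h3Q (hYQ hy) ?_)
    have := mul_mem (inv_mem e2) (hWle e1)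
    rwa [show (z * y * z⁻¹ * y⁻¹)⁻¹ * (z * y * z⁻¹ * y) = y * y by group] at this
  have hdec : ∀ q ∈ Cfsg.pCoreOf 3 E, ∃ a ∈ Cfsg.pCoreOf 3 F, ∃ w ∈ Wm 3 E, q = a * w := by
    intro q hq
    set a := q * z * q⁻¹ * z⁻¹ with ha
    have haF : a ∈ Cfsg.pCoreOf 3 F := by
      have := inv_mem (comm_O_le hF (hQO hq) hzF)
      rwa [show (z * q * z⁻¹ * q⁻¹)⁻¹ = a by rw [ha]; group] at this
    refine ⟨a⁻¹, inv_mem haF, a * q, ?_, by group⟩
    have hm := (mem_normalizer_iff.1 hzQ q).1 hq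
    refine (X.S2.zero _ (mul_mem (hQFle haF) hq)).1 ?_
    rw [X.S2.map_mul _ (hQFle haF) _ hq, show a = q * (z * q * z⁻¹)⁻¹ by rw [ha]; group,
      X.S2.map_mul _ hq _ (inv_mem hm), X.S2.map_inv hm,
      ← X.S2.act_apply hzQ (X.norm_W hzQ) hq, hactz, ht1, one_smul, neg_neg]
    funext i
    simp only [Pi.add_apply, Pi.zero_apply]
    linear_combination (X.S2.f q i) * X.char
  have hZZ : Zm 3 E ≤ Zm 3 F := by
    rw [← X.comm_eq, ← Yx.comm_eq, Subgroup.commutator_le]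
    intro q hq r hr
    obtain ⟨a, ha, w, hw, rfl⟩ := hdec q hq
    obtain ⟨b, hb, x, hx, rfl⟩ := hdec r hr
    have e1 : w * (b * x) = (b * x) * w := (W_comm hw hr).symm
    have e2 : x * a⁻¹ = a⁻¹ * x := (W_comm hx (inv_mem (hQFle ha))).symm
    have : ⁅a * w, b * x⁆ = ⁅a, b⁆ := by
      rw [commutatorElement_def, commutatorElement_def,
        show a * w * (b * x) * (a * w)⁻¹ * (b * x)⁻¹ =
          a * (w * (b * x) * w⁻¹) * a⁻¹ * (b * x)⁻¹ by group, e1, mul_inv_cancel_right]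
      calc a * (b * x) * a⁻¹ * (b * x)⁻¹ = a * b * (x * a⁻¹) * x⁻¹ * b⁻¹ := by group
        _ = _ := by rw [e2]; group
    rw [this]
    exact commutator_mem_commutator ha hb
  have hWW : Wm 3 E ≤ Wm 3 F := (facts_of_block hE).W_eq.le.trans
    (sup_le (hWEF.trans (WE_le_W F)) (hZZ.trans inf_le_left))
  have hQQ : Cfsg.pCoreOf 3 E ≤ Cfsg.pCoreOf 3 F := fun q hq => by
    obtain ⟨a, ha, w, hw, rfl⟩ := hdec q hq
    exact mul_mem ha (W_le_Q F (hWW hw))
  -- `F ≤ E C₁`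
  have hnC1 : ∀ g ∈ normalizer (E : Set G), ∀ x ∈ C1, g * x * g⁻¹ ∈ C1 := fun g hg x hx =>
    ⟨(mem_normalizer_iff.1 (normalizer_E_le_C E hg) x).1 hx.1,
      conj_mem_stab (hnQ hg) (CfsgLib.Baumann.le_normalizer_W E hg) hx.2⟩
  have hC1N : C1 ≤ normalizer (E : Set G) := inf_le_left.trans hCN
  have hL : ∀ x ∈ E ⊔ C1, ∃ e ∈ E, ∃ c ∈ C1, x = e * c := fun x hx => by
    rw [sup_comm, CfsgLib.Solvable.mem_sup_of_le_normalizer hC1N] at hx
    obtain ⟨c, hc, e, he, rfl⟩ := hx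
    exact ⟨c * e * c⁻¹, (mem_normalizer_iff.1 (hC1N hc) e).1 he, c, hc, by group⟩
  have hcommC1 : ∀ a ∈ Cm 3 E, ∀ b ∈ normalizer (E : Set G),
      (∀ v, X.S2.act a (X.S2.act b v) = X.S2.act b (X.S2.act a v)) →
      a * b * a⁻¹ * b⁻¹ ∈ C1 := by
    intro a ha b hb hab
    have haN := hCN ha
    have hbaQ : b * a ∈ normalizer (Cfsg.pCoreOf 3 E : Set G) := hnQ (mul_mem hb haN)
    have hgN : a * b * a⁻¹ * b⁻¹ ∈ normalizer (E : Set G) :=
      mul_mem (mul_mem (mul_mem haN hb) (inv_mem haN)) (inv_mem hb)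
    have hgC : a * b * a⁻¹ * b⁻¹ ∈ Cm 3 E := by
      rw [show a * b * a⁻¹ * b⁻¹ = a * (b * a⁻¹ * b⁻¹) by group]
      exact mul_mem ha ((mem_normalizer_iff.1 (normalizer_E_le_C E hb) a⁻¹).1 (inv_mem ha))
    refine ⟨hgC, hnQ hgN, X.norm_W (hnQ hgN), htriv _ (hnQ hgN) fun v => ?_⟩
    obtain ⟨u, rfl⟩ := X.S2.act_surjective hbaQ (X.norm_W hbaQ) v
    rw [← X.S2.act_mul (hnQ hgN) (X.norm_W (hnQ hgN)) hbaQ (X.norm_W hbaQ),
      show a * b * a⁻¹ * b⁻¹ * (b * a) = a * b by group,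
      X.S2.act_mul (hnQ haN) (X.norm_W (hnQ haN)) (hnQ hb) (X.norm_W (hnQ hb)), hab,
      ← X.S2.act_mul (hnQ hb) (X.norm_W (hnQ hb)) (hnQ haN) (X.norm_W (hnQ haN))]
  have hFL : F ≤ E ⊔ C1 := by
    by_cases hbig : ∃ t : K, t ≠ 0 ∧ t * t ≠ 1
    · have hcard : Fintype.card L = Fintype.card K := by
        rw [← Yx.cardZ, ← X.cardZ, le_antisymm hZle hZZ]
      have hbigL : ∃ t : L, t ≠ 0 ∧ t * t ≠ 1 := by
        by_contra hno
        classical
        have h3L := card_three Yx.two_ne hno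
        obtain ⟨s, hs0, hs1⟩ := hbig
        have hdist : ({0, 1, -1, s} : Finset K).card = 4 := by
          have h01 : (0 : K) ≠ 1 := zero_ne_one
          have h0m : (0 : K) ≠ -1 := fun h => one_ne_zero (neg_eq_zero.1 h.symm)
          have h1m : (1 : K) ≠ -1 := fun h => X.two_ne (by linear_combination h)
          have hs1' : s ≠ 1 := fun h => hs1 (by rw [h, one_mul])
          have hsm : s ≠ -1 := fun h => hs1 (by rw [h]; ring)
          simp [h01, h0m, h1m, hs0.symm, hs1'.symm, hsm.symm]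
        have := Finset.card_le_univ ({0, 1, -1, s} : Finset K)
        omega
      have hder : ⁅F, F⁆ ≤ E ⊔ C1 := by
        rw [Subgroup.commutator_le]
        intro a ha b hb
        obtain ⟨e₁, he₁, c₁, hc₁, rfl⟩ := exists_dec hG hE hF hFN hne hB ha
        obtain ⟨e₂, he₂, c₂, hc₂, rfl⟩ := exists_dec hG hE hF hFN hne hB hb
        rw [show ⁅e₁ * c₁, e₂ * c₂⁆ = e₁ * (c₁ * e₂ * c₁⁻¹) * (c₁ * c₂ * c₁⁻¹ * c₂⁻¹) *
          (c₂ * e₁⁻¹ * c₂⁻¹) * e₂⁻¹ by rw [commutatorElement_def]; group]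
        refine mul_mem (mul_mem (mul_mem (mul_mem (mem_sup_left he₁) (mem_sup_left ?_))
          (mem_sup_right ?_)) (mem_sup_left ?_)) (mem_sup_left (inv_mem he₂))
        · exact (mem_normalizer_iff.1 (hCN hc₁) e₂).1 he₂
        · refine hcommC1 c₁ hc₁ c₂ (hCN hc₂) fun v => ?_
          obtain ⟨t₁, ht₁⟩ := hscal c₁ hc₁
          obtain ⟨t₂, ht₂⟩ := hscal c₂ hc₂
          rw [ht₁, ht₂, ht₁, ht₂, smul_smul, smul_smul, mul_comm]
        · exact (mem_normalizer_iff.1 (hCN hc₂) e₁⁻¹).1 (inv_mem he₁)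
      intro f hf
      have hR : Yx.S2.ρ.range ≤ (⁅F, F⁆.subgroupOf F).map Yx.S2.ρ := by
        calc Yx.S2.ρ.range = ⁅Yx.S2.ρ.range, Yx.S2.ρ.range⁆ := by
              rw [Yx.S2.range, R_eq_top hbigL, ← _root_.commutator_def]
              exact (R_eq_top hbigL).symm
          _ = ⁅(⊤ : Subgroup ↥F).map Yx.S2.ρ, (⊤ : Subgroup ↥F).map Yx.S2.ρ⁆ := by
              rw [← MonoidHom.range_eq_map]
          _ = (⁅(⊤ : Subgroup ↥F), (⊤ : Subgroup ↥F)⁆ : Subgroup ↥F).map Yx.S2.ρ := (Subgroup.map_commutator _ _ _).symm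
          _ ≤ _ := Subgroup.map_mono (Subgroup.commutator_le.2 fun a _ b _ => by
              rw [Subgroup.mem_subgroupOf]
              simpa [commutatorElement_def] using commutator_mem_commutator a.2 b.2)
      obtain ⟨y, hy, hye⟩ := hR ⟨⟨f, hf⟩, rfl⟩
      have hq : (((y⁻¹ * ⟨f, hf⟩ : ↥F)) : G) ∈ Cfsg.pCoreOf 3 F := (Yx.ker2 _).1 (by
        rw [map_mul, map_inv, hye, inv_mul_cancel])
      rw [show f = (y : G) * ((y : G)⁻¹ * f) by group]
      exact mul_mem (hder (Subgroup.mem_subgroupOf.1 hy))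
        (mem_sup_left (Q_le E (hQFle hq)))
    · rw [← hF.2.1, Subgroup.commutator_le]
      intro a ha b hb
      obtain ⟨e₁, he₁, c₁, hc₁, rfl⟩ := exists_dec hG hE hF hFN hne hB ha
      have hbN : b ∈ normalizer (E : Set G) := by
        rcases block_cases hE with ⟨h2, -⟩ | ⟨K', iK', iKt', ⟨D⟩⟩
        · exact absurd h2 (by norm_num)
        · exact hB K' D hb
      rw [show ⁅e₁ * c₁, b⁆ = e₁ * (c₁ * b * c₁⁻¹ * b⁻¹) * (b * e₁⁻¹ * b⁻¹) by
        rw [commutatorElement_def]; group]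
      refine mul_mem (mul_mem (mem_sup_left he₁) (mem_sup_right ?_))
        (mem_sup_left ((mem_normalizer_iff.1 hbN e₁⁻¹).1 (inv_mem he₁)))
      refine hcommC1 c₁ hc₁ b hbN fun v => ?_
      obtain ⟨s, hs'⟩ := hscal c₁ hc₁
      rw [hs', hs']
      show _ = X.S2.actHom (hnQ hbN) (X.norm_W (hnQ hbN)) (s • v)
      rcases small_cases hbig s with rfl | rfl | rfl
      · rw [zero_smul, zero_smul, _root_.map_zero]
      · rw [one_smul, one_smul]; rfl
      · rw [neg_one_smul, neg_one_smul, _root_.map_neg]; rfl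
  refine CfsgLib.Baumann.residual_induction hFf.res _ fun f hf hco => ?_
  obtain ⟨e', he', c', hc', rfl⟩ := hL f (hFL hf)
  refine mem_of_stab hG hE hs he' hc'.1 (fun o ho => ?_) hc'.2.2.2 ?_ hco
  · set S := stab (Cfsg.pCore 3 G) (Cfsg.pCoreOf 3 E)
    have hnO : ∀ g : G, g ∈ normalizer (Cfsg.pCore 3 G : Set G) := fun g =>
      le_normalizer_of_normal (mem_top g)
    have hfS : e' * c' ∈ S := ⟨hnO _, hFQ hf, fun o ho => hQFle (comm_O_le hF ho hf)⟩
    have heS : e' ∈ S := ⟨hnO _, X.E_norm_Q he', fun o ho => comm_O_le hE ho he'⟩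
    have := S.mul_mem (S.inv_mem heS) hfS
    rw [inv_mul_cancel_left] at this
    exact this.2.2 o ho
  · refine X.centralize_W hc'.1 (mem_centralizer_iff.2 fun x hx => ?_)
    have h1 : e' * c' * x * (e' * c')⁻¹ = x := hFf.Z_fix (hZZ hx) hf
    have h2 : c' * x * c'⁻¹ = e'⁻¹ * x * e'⁻¹⁻¹ := by
      conv_rhs => rw [← h1]
      group
    rw [(facts_of_block hE).Z_fix hx (inv_mem he'), mul_inv_eq_iff_eq_mul] at h2
    exact h2.symm

/-- A block normalizing a subnormal block and not centralizing its `W_E` lies in it. -/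
theorem le_of_not_centralizes : F ≤ E := by
  by_cases hQ : Cfsg.pCoreOf p E ≤ Wm p E
  · exact le_of_Q_le hG hE hF hFN hne hB hs hQ
  · exact le_of_exc hG hE hF hFN hne hB hs hQ

end

/-- The comparison of a subnormal block with a block normalizing it. -/
theorem le_or_commute (hG : centralizer (Cfsg.pCore p G : Set G) ≤ Cfsg.pCore p G)
    {T T' : Sylow p G} {E F : Subgroup G} (hE : Cfsg.IsBaumannBlock p (T : Subgroup G) E)
    (hs : E.IsSubnormal) (hF : Cfsg.IsBaumannBlock p (T' : Subgroup G) F)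
    (hFN : F ≤ normalizer (E : Set G))
    (hBN : Cfsg.baumannSubgroupOf p (T' : Subgroup G) ≤ normalizer (E : Set G)) :
    F ≤ E ∨ ⁅F, E⁆ = ⊥ := by
  by_cases hne : F ≤ Cm p E
  · right
    rw [commutator_comm]
    exact commutator_eq_bot_of_centralizes hG hE hs hF hne
  · exact Or.inl (le_of_not_centralizes hG hE hF hFN hne (fun _ _ _ _ => hBN) hs)

end CfsgLib.BlockCompare
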