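import Cfsg.Agent.LocalB.BlockSL2
import Cfsg.Agent.KGroup.Invariant
import Cfsg.Agent.Functor.Sylow
import Cfsg.Agent.Solvable.Fitting
import Mathlib.GroupTheory.GroupAction.Quotient

/-!
A linear group `L` of odd order with trivial `3`-core, normalized by `E ≅ SL₂(F)'` (`F` of
characteristic three) whose central involution `z` has a natural module as its `-1`-space and fixes a
complement that `E` centralizes: if `E` centralizes `C_L(z)` then `z` centralizes `L`.
-/

set_option autoImplicit false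
set_option linter.style.haveILetI false
set_option linter.unusedSectionVars false

namespace CfsgLib.BlockOddLinear

open CfsgLib.Functor CfsgLib.BlockSL2 CfsgLib.BlockModule
open scoped CfsgLib.Functor commutatorElement

section general

variable {Γ : Type*} [Group Γ] [Finite Γ] {V : Type*} [AddCommGroup V] [Finite V]
  [DistribMulAction Γ V]

theorem semidirect_fixed {K : Subgroup Γ} :
    ∃ φ : ↥K →* MulAut (Multiplicative V),
      ∀ (k : ↥K) (v : V), φ k (Multiplicative.ofAdd v) = Multiplicative.ofAdd ((k : Γ) • v) :=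
  ⟨{ toFun := fun k => (DistribMulAction.toAddEquiv V (k : Γ)).toMultiplicative
     map_one' := by
      refine MulEquiv.ext fun v => ?_
      show Multiplicative.ofAdd (((1 : ↥K) : Γ) • Multiplicative.toAdd v) = v
      rw [Subgroup.coe_one, one_smul, ofAdd_toAdd]
     map_mul' := fun a b => by
      refine MulEquiv.ext fun v => ?_
      show Multiplicative.ofAdd (((a * b : ↥K) : Γ) • Multiplicative.toAdd v) =
        Multiplicative.ofAdd ((a : Γ) • ((b : Γ) • Multiplicative.toAdd v))
      rw [Subgroup.coe_mul, mul_smul] }, fun _ _ => rfl⟩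

/-- In a group of odd order, an element acting quadratically lies in a normal `p`-subgroup. -/
theorem exists_normal_pGroup [FaithfulSMul Γ V] {p : ℕ} [Fact p.Prime] (hp2 : p ≠ 2)
    (hV : IsPGroup p (Multiplicative V)) (hVodd : Odd (Nat.card V)) (K : Subgroup Γ)
    (hK : Odd (Nat.card K)) (a : Γ) (ha : a ∈ K)
    (hq : ∀ v : V, a • (a • v - v) = a • v - v) :
    ∃ D : Subgroup ↥K, D.Normal ∧ IsPGroup p ↥D ∧ (⟨a, ha⟩ : ↥K) ∈ D := by
  obtain ⟨φ, hφ⟩ := semidirect_fixed (Γ := Γ) (V := V) (K := K)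
  haveI : Finite (Multiplicative V ⋊[φ] ↥K) := Finite.of_equiv _ SemidirectProduct.equivProd.symm
  have hodd : Odd (Nat.card (Multiplicative V ⋊[φ] ↥K)) := by
    rw [SemidirectProduct.card, Nat.card_congr Multiplicative.toAdd]
    exact hVodd.mul hK
  set P : Subgroup (Multiplicative V ⋊[φ] ↥K) := (SemidirectProduct.inl : Multiplicative V →* (Multiplicative V ⋊[φ] ↥K)).range with hP
  haveI : P.Normal := by
    rw [hP, SemidirectProduct.range_inl_eq_ker_rightHom]; infer_instance
  have hPp : IsPGroup p P :=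
    hV.of_surjective _ (SemidirectProduct.inl : Multiplicative V →* (Multiplicative V ⋊[φ] ↥K)).rangeRestrict_surjective
  set α : ↥K := ⟨a, ha⟩
  have hconj : ∀ (k : ↥K) (v : V), (SemidirectProduct.inr k : (Multiplicative V ⋊[φ] ↥K)) *
      SemidirectProduct.inl (Multiplicative.ofAdd v) * (SemidirectProduct.inr k)⁻¹ =
      SemidirectProduct.inl (Multiplicative.ofAdd ((k : Γ) • v)) := fun k v => by
    rw [← hφ, ← map_inv, ← SemidirectProduct.inl_aut]
  have hcomm : ∀ u ∈ P, Commute (u * (SemidirectProduct.inr α : (Multiplicative V ⋊[φ] ↥K)) * u⁻¹ *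
      (SemidirectProduct.inr α)⁻¹) (SemidirectProduct.inr α) := by
    rintro _ ⟨v, rfl⟩
    obtain ⟨v, rfl⟩ := Multiplicative.ofAdd.surjective v
    set A : (Multiplicative V ⋊[φ] ↥K) := SemidirectProduct.inr α
    set u : (Multiplicative V ⋊[φ] ↥K) := SemidirectProduct.inl (Multiplicative.ofAdd v)
    have e : u * A * u⁻¹ * A⁻¹ = SemidirectProduct.inl (Multiplicative.ofAdd (-(a • v - v))) := by
      rw [show u * A * u⁻¹ * A⁻¹ = u * (A * u * A⁻¹)⁻¹ by group, hconj, ← map_inv, ← map_mul]
      congr 1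
      rw [← ofAdd_neg, ← ofAdd_add, neg_sub]
      rw [sub_eq_add_neg]
    rw [e, commute_iff_eq]
    have h := hconj α (-(a • v - v))
    rw [show (α : Γ) • (-(a • v - v)) = -(a • v - v) by
      show a • _ = _; rw [smul_neg, hq]] at h
    exact (mul_inv_eq_iff_eq_mul.1 h).symm
  have hquad : ⁅⁅P, Subgroup.zpowers (SemidirectProduct.inr α : (Multiplicative V ⋊[φ] ↥K))⁆,
      Subgroup.zpowers (SemidirectProduct.inr α : (Multiplicative V ⋊[φ] ↥K))⁆ = ⊥ := by
    rw [Subgroup.commutator_eq_bot_iff_le_centralizer, Subgroup.commutator_le]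
    rintro u hu _ ⟨k, rfl⟩
    set A : (Multiplicative V ⋊[φ] ↥K) := SemidirectProduct.inr α
    have hc := hcomm u hu
    have e : ⁅u, A ^ k⁆ = (u * A * u⁻¹ * A⁻¹) ^ k := by
      rw [commutatorElement_def, ← conj_zpow,
        show u * A * u⁻¹ = (u * A * u⁻¹ * A⁻¹) * A by rw [inv_mul_cancel_right], hc.mul_zpow]
      simp only [mul_inv_cancel_right, inv_mul_cancel_right]
    rw [e]
    refine zpow_mem (Subgroup.mem_centralizer_iff.2 ?_) k
    rintro _ ⟨l, rfl⟩
    exact ((hc.zpow_right l).eq).symm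
  obtain ⟨D, hD, haD, hDp⟩ := CfsgLib.ZJ.pcoreMod_of_quadratic hp2
    (CfsgLib.Invariant.not_involves_qd_of_odd hodd hp2) P hPp (SemidirectProduct.inr α) hquad
  refine ⟨D.map SemidirectProduct.rightHom,
    hD.map _ SemidirectProduct.rightHom_surjective, ?_, ⟨_, haD, SemidirectProduct.rightHom_inr _⟩⟩
  rintro ⟨_, x, hx, rfl⟩
  obtain ⟨k, hk⟩ := hDp x hx
  refine ⟨k, Subtype.ext ?_⟩
  rw [Subgroup.coe_pow, Subgroup.coe_one, ← map_pow]
  set y := x ^ p ^ k with hy
  have hfix : ∀ v : V, (y.right : Γ) • v = v := by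
    intro v
    have h := Subgroup.mem_centralizer_iff.1 hk (SemidirectProduct.inl (Multiplicative.ofAdd v))
      ⟨_, rfl⟩
    have h2 := congrArg SemidirectProduct.left h
    simp only [SemidirectProduct.mul_left, SemidirectProduct.left_inl, SemidirectProduct.right_inl,
      map_one, MulAut.one_apply, hφ] at h2
    rw [mul_comm] at h2
    exact (Multiplicative.ofAdd.injective (mul_left_cancel h2)).symm
  show y.right = 1
  exact Subtype.ext (eq_of_smul_eq_smul fun v : V => by rw [hfix v, Subgroup.coe_one, one_smul])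

/-- A Sylow subgroup invariant under an involution, in a normalized subgroup of odd order. -/
theorem exists_invariant_sylow (r : ℕ) [Fact r.Prime] (L : Subgroup Γ) (hodd : Odd (Nat.card L))
    (z : Γ) (hz : z * z = 1) (hzL : z ∈ Subgroup.normalizer (L : Set Γ)) :
    ∃ T, IsSylowIn r T L ∧ z ⋆ T = T := by
  classical
  let X := {T : Subgroup Γ // IsSylowIn r T L}
  let e : Sylow r ↥L ≃ X := Equiv.ofBijective
    (fun P => ⟨(P : Subgroup ↥L).map L.subtype, isSylowIn_map_subtype P⟩)
    ⟨fun P P' h => Sylow.ext (Subgroup.map_injective L.subtype_injective (congrArg Subtype.val h)),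
      fun T => by
        obtain ⟨P, hP⟩ := T.2.exists_sylow
        exact ⟨P, Subtype.ext hP⟩⟩
  haveI : Fintype X := Fintype.ofFinite X
  have hX : ¬ 2 ∣ Fintype.card X := by
    rw [← Nat.card_eq_fintype_card, ← Nat.card_congr e]
    intro h
    exact Nat.not_even_iff_odd.2 hodd (even_iff_two_dvd.2 (h.trans
      (((Classical.arbitrary (Sylow r ↥L)).card_dvd_index).trans (Subgroup.index_dvd_card _))))
  let f : X → X := fun T => ⟨z ⋆ T.1, T.2.cj_of_mem hzL⟩
  have hf : Function.Involutive f := fun T => Subtype.ext (by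
    show z ⋆ (z ⋆ T.1) = T.1
    rw [cj_cj, hz, cj_one])
  obtain ⟨T, hT⟩ := Equiv.Perm.exists_fixed_point_of_prime (p := 2) (n := 1) hX
    (σ := hf.toPerm f) (by
      refine Equiv.ext fun T => ?_
      rw [pow_one, pow_two]
      exact hf T)
  exact ⟨T.1, T.2, congrArg Subtype.val hT⟩

/-- An element of odd order lies in the group generated by its `2 ^ k`-th power. -/
theorem mem_of_pow_two_pow_mem {H : Subgroup Γ} {x : Γ} (hx : Odd (orderOf x)) {k : ℕ}
    (h : x ^ 2 ^ k ∈ H) : x ∈ H := by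
  obtain ⟨m, hm⟩ := exists_pow_eq_self_of_coprime (x := x) (n := 2 ^ k)
    ((Nat.Coprime.pow_left k (Nat.coprime_two_left.2 hx)))
  rw [← hm]
  exact pow_mem h m

theorem odd_orderOf {H : Subgroup Γ} (hodd : Odd (Nat.card H)) {x : Γ} (hx : x ∈ H) :
    Odd (orderOf x) :=
  hodd.of_dvd_nat (Subgroup.orderOf_dvd_natCard H hx)

/-- An element inverted and centralized by an involution. -/
theorem eq_one_of_sq_eq {H : Subgroup Γ} (hodd : Odd (Nat.card H)) {x : Γ} (hx : x ∈ H)
    (h : x * x = 1) : x = 1 := by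
  have := mem_of_pow_two_pow_mem (H := ⊥) (k := 1) (odd_orderOf hodd hx)
    (by rw [pow_one, pow_two, h]; exact one_mem _)
  exact Subgroup.mem_bot.1 this

end general

variable {Γ : Type*} [Group Γ] [Finite Γ] {V : Type*} [AddCommGroup V] [Finite V]
  [DistribMulAction Γ V] [FaithfulSMul Γ V]

/-- The hypotheses of the main theorem of this file. -/
structure Setup (L E : Subgroup Γ) (z : Γ) (F : Type*) [Field F] where
  h3 : ∀ v : V, v + v + v = 0
  normalL : L.Normal
  odd : Odd (Nat.card L)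
  core : ∀ D : Subgroup ↥L, D.Normal → IsPGroup 3 ↥D → D = ⊥
  zE : z ∈ E
  hz : z * z = 1
  cent : ∀ l ∈ L, z * l = l * z → ∀ e ∈ E, e * l = l * e
  char : (3 : F) = 0
  ρ : ↥E →* Matrix.SpecialLinearGroup (Fin 2) F
  range : ρ.range = R F
  rho_z : ρ ⟨z, zE⟩ = -1
  φ : V →+ (Fin 2 → F)
  surj : ∀ u, ∃ n : V, z • n = -n ∧ φ n = u
  inj : ∀ n : V, z • n = -n → φ n = 0 → n = 0
  stable : ∀ e ∈ E, ∀ n : V, z • n = -n → z • (e • n) = -(e • n)
  equiv : ∀ (e : ↥E) (n : V), z • n = -n →
    φ ((e : Γ) • n) = ((ρ e : Matrix.SpecialLinearGroup (Fin 2) F) : Matrix (Fin 2) (Fin 2) F).mulVec (φ n)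
  fix : ∀ e ∈ E, ∀ v : V, z • v = v → e • v = v

namespace Setup

variable {L E : Subgroup Γ} {z : Γ} {F : Type*} [Field F] [Fintype F]
  (S : Setup (V := V) L E z F)

include S

theorem two_ne : (2 : F) ≠ 0 := fun h => one_ne_zero (show (1 : F) = 0 by linear_combination S.char - h)

theorem good : Good F := Or.inr S.char

theorem isPGroup : IsPGroup 3 (Multiplicative V) := fun v => ⟨1, by
  obtain ⟨v, rfl⟩ := Multiplicative.ofAdd.surjective v
  rw [pow_one, pow_succ, pow_succ, pow_one, ← ofAdd_add, ← ofAdd_add, S.h3, ofAdd_zero]⟩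

theorem vodd : Odd (Nat.card V) := by
  haveI : Fact (Nat.Prime 3) := ⟨Nat.prime_three⟩
  obtain ⟨k, hk⟩ := IsPGroup.iff_card.1 S.isPGroup
  rw [Nat.card_congr Multiplicative.toAdd] at hk
  rw [hk]
  exact Odd.pow ⟨1, rfl⟩

theorem zz_smul (v : V) : z • (z • v) = v := by rw [← mul_smul, S.hz, one_smul]

/-- The projection on the `-1`-space. -/
theorem pr_mem (v : V) : z • (z • v - v) = -(z • v - v) := by
  rw [smul_sub, S.zz_smul, neg_sub]

theorem plus_mem (v : V) : z • (v - (z • v - v)) = v - (z • v - v) := by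
  rw [smul_sub, smul_sub, S.zz_smul]
  have := S.h3 v
  have h2 := S.h3 (z • v)
  rw [sub_eq_iff_eq_add]
  rw [← sub_eq_zero]
  have e : z • v - (v - (z • v - v) + (v - z • v)) = (z • v + z • v + z • v) - (v + v + v) := by abel
  rw [e, this, h2, sub_zero]

theorem pr_eq_self {n : V} (hn : z • n = -n) : z • n - n = n := by
  rw [hn]
  have := S.h3 n
  rw [← sub_eq_zero, show -n - n - n = -(n + n + n) by abel, this, neg_zero]

theorem both {v : V} (h1 : z • v = v) (h2 : z • v = -v) : v = 0 := by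
  have h := h1.symm.trans h2
  have h3 := S.h3 v
  rw [← sub_eq_zero, sub_neg_eq_add] at h
  rwa [h, zero_add] at h3

theorem commutes {e : Γ} (he : e ∈ E) : z * e = e * z := by
  refine eq_of_smul_eq_smul fun v : V => ?_
  rw [mul_smul, mul_smul]
  have h1 : v = (v - (z • v - v)) + (z • v - v) := by abel
  rw [h1]
  generalize hf : v - (z • v - v) = f
  generalize hn : z • v - v = n
  have hf' : z • f = f := hf ▸ S.plus_mem v
  have hn' : z • n = -n := hn ▸ S.pr_mem v
  rw [smul_add, smul_add, smul_add, smul_add, S.fix e he f hf', hf', S.stable e he n hn', hn',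
    smul_neg, S.fix e he f hf']

theorem rho_injective : Function.Injective S.ρ := by
  refine (injective_iff_map_eq_one S.ρ).2 fun e he => ?_
  refine Subtype.ext (eq_of_smul_eq_smul fun v : V => ?_)
  rw [Subgroup.coe_one, one_smul]
  have h1 : v = (v - (z • v - v)) + (z • v - v) := by abel
  rw [h1]
  generalize hf : v - (z • v - v) = f
  generalize hn : z • v - v = n
  have hf' : z • f = f := hf ▸ S.plus_mem v
  have hn' : z • n = -n := hn ▸ S.pr_mem v
  rw [smul_add, S.fix _ e.2 f hf']
  have h2 : (e : Γ) • n - n = 0 := by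
    refine S.inj _ (by rw [smul_sub, S.stable _ e.2 n hn', hn', neg_sub_neg, neg_sub]) ?_
    rw [map_sub, S.equiv e n hn', he, Matrix.SpecialLinearGroup.coe_one, Matrix.one_mulVec, sub_self]
  rw [sub_eq_zero.1 h2]

theorem exists_pre (r : SL F) (hr : r ∈ R F) : ∃ e : ↥E, S.ρ e = r := S.range.ge hr

/-- `E` normalizes an invariant Sylow subgroup of `L`. -/
theorem exists_sylow (r : ℕ) [Fact r.Prime] :
    ∃ T, IsSylowIn r T L ∧ ∀ e ∈ E, e ⋆ T = T := by
  haveI := S.normalL
  have hnorm : ∀ g : Γ, g ∈ Subgroup.normalizer (L : Set Γ) := fun g => by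
    rw [Subgroup.normalizer_eq_top]; trivial
  obtain ⟨T, hT, hzT⟩ := exists_invariant_sylow r L S.odd z S.hz (hnorm z)
  refine ⟨T, hT, fun e he => ?_⟩
  let H : Subgroup (SL F) := ((Subgroup.normalizer (T : Set Γ)).subgroupOf E).map S.ρ
  have hH : R F ≤ H := R_le_of_two S.two_ne H fun s hs hk => by
    obtain ⟨k, hk⟩ := hk
    obtain ⟨i, rfl⟩ := S.exists_pre s hs
    refine Subgroup.mem_map_of_mem _ (Subgroup.mem_subgroupOf.2 ?_)
    have hik : (i : Γ) ^ 2 ^ k = 1 := by
      have : i ^ 2 ^ k = 1 := S.rho_injective (by rw [map_pow, hk, map_one])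
      exact congrArg Subtype.val this
    obtain ⟨o, hoL, ho⟩ := (hT.cj_of_mem (hnorm i)).exists_cj_eq hT
    -- replace `o` by an element commuting with `z`
    set n := o⁻¹ * (z * o * z) with hn
    have hnL : n ∈ L := mul_mem (inv_mem hoL) (by
      have := S.normalL.conj_mem o hoL z
      rwa [inv_eq_of_mul_eq_one_right S.hz] at this)
    have hziT : z ⋆ ((i : Γ) ⋆ T) = (i : Γ) ⋆ T := by
      rw [cj_cj, S.commutes i.2, ← cj_cj, hzT]
    have hnT : n ∈ Subgroup.normalizer (T : Set Γ) := by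
      rw [mem_normalizer_iff_cj, hn]
      have h1 : (z * o * z) ⋆ T = (i : Γ) ⋆ T := by
        rw [← cj_cj, ← cj_cj, hzT, ho, hziT]
      rw [← cj_cj, h1, ← ho, cj_cj, inv_mul_cancel, cj_one]
    have hninv : z * n * z = n⁻¹ := by
      rw [hn, _root_.mul_inv_rev, inv_inv]
      simp only [mul_inv_rev, inv_eq_of_mul_eq_one_right S.hz, mul_assoc]
      simp only [← mul_assoc, S.hz, one_mul, mul_one]
    obtain ⟨m, hm⟩ := exists_pow_eq_self_of_coprime (x := n) (n := 2)
      (Nat.coprime_two_left.2 (odd_orderOf S.odd hnL))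
    set w := n ^ m
    have hw2 : w * w = n := by rw [← hm, ← pow_two, ← pow_mul, mul_comm, pow_mul]
    have hwinv : z * w * z = w⁻¹ := by
      have : z * w * z⁻¹ = (z * n * z⁻¹) ^ m := (conj_pow).symm
      rwa [inv_eq_of_mul_eq_one_right S.hz, hninv, inv_pow] at this
    set o' := o * w
    have ho'z : z * o' = o' * z := by
      have e1 : z * o * z = o * n := by rw [hn, mul_inv_cancel_left]
      calc z * o' = (z * o * z) * (z * w * z) * z := by
            show z * (o * w) = _
            simp only [mul_assoc, S.hz, mul_one]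
            simp only [← mul_assoc, S.hz, one_mul, mul_one]
        _ = o' * z := by
            rw [e1, hwinv, ← hw2]
            show o * (w * w) * w⁻¹ * z = o * w * z
            rw [← mul_assoc, mul_inv_cancel_right]
    have hwT : w ∈ Subgroup.normalizer (T : Set Γ) := pow_mem hnT m
    have ho' : o' ⋆ T = (i : Γ) ⋆ T := by
      rw [← cj_cj, mem_normalizer_iff_cj.1 hwT, ho]
    have ho'L : o' ∈ L := mul_mem hoL (pow_mem hnL m)
    have hcom : (i : Γ) * o' = o' * i := S.cent o' ho'L ho'z i i.2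
    have hj : o'⁻¹ * i ∈ Subgroup.normalizer (T : Set Γ) := by
      rw [mem_normalizer_iff_cj, ← cj_cj, ← ho', cj_cj, inv_mul_cancel, cj_one]
    have hpow : (o'⁻¹ * (i : Γ)) ^ 2 ^ k = (o' ^ 2 ^ k)⁻¹ := by
      rw [(Commute.inv_left (Commute.symm hcom)).mul_pow, hik, mul_one, inv_pow]
    have hmem : o' ∈ Subgroup.normalizer (T : Set Γ) :=
      mem_of_pow_two_pow_mem (k := k) (odd_orderOf S.odd ho'L) (by
        rw [← inv_mem_iff, ← hpow]; exact pow_mem hj _)
    have := mul_mem hmem hj
    rwa [mul_inv_cancel_left] at this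
  obtain ⟨e', he', hee⟩ := hH (S.range.le ⟨⟨e, he⟩, rfl⟩)
  rw [S.rho_injective hee] at he'
  exact mem_normalizer_iff_cj.1 (Subgroup.mem_subgroupOf.1 he')

/-- A subgroup of odd order normalized by `z` is generated by `z`-commutators, if it is minimal. -/
theorem gen_eq {T : Subgroup Γ} (hTL : T ≤ L) (hTE : ∀ e ∈ E, e ⋆ T = T)
    (hnc : ∃ t ∈ T, z * t ≠ t * z)
    (hmin : ∀ U : Subgroup Γ, U ≤ T → (∀ e ∈ E, e ⋆ U = U) → U ≠ T → ∀ u ∈ U, z * u = u * z) :
    Subgroup.closure {x | ∃ t ∈ T, x = t⁻¹ * (z * t * z)} = T := by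
  set X := {x | ∃ t ∈ T, x = t⁻¹ * (z * t * z)}
  have hzi : z⁻¹ = z := inv_eq_of_mul_eq_one_right S.hz
  have hz' : ∀ t ∈ T, z * t * z ∈ T := fun t ht => by
    have := (hTE z S.zE).le (conj_mem_cj ht)
    rwa [hzi] at this
  have hle : Subgroup.closure X ≤ T := (Subgroup.closure_le _).2 (by
    rintro _ ⟨t, ht, rfl⟩; exact mul_mem (inv_mem ht) (hz' t ht))
  by_contra hne
  have hE : ∀ e ∈ E, e ⋆ Subgroup.closure X = Subgroup.closure X := fun e he => by
    refine eq_of_le_of_card_le' ?_ (card_cj _ _).ge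
    rw [MonoidHom.map_closure, Subgroup.closure_le]
    rintro _ ⟨_, ⟨t, ht, rfl⟩, rfl⟩
    refine Subgroup.subset_closure ⟨e * t * e⁻¹, (hTE e he).le (conj_mem_cj ht), ?_⟩
    simp only [MulEquiv.coe_toMonoidHom, MulAut.conj_apply]
    have h1 := S.commutes he
    have h2 : e⁻¹ * z = z * e⁻¹ := by
      rw [inv_mul_eq_iff_eq_mul, ← mul_assoc, ← h1, mul_inv_cancel_right]
    calc e * (t⁻¹ * (z * t * z)) * e⁻¹ = (e * t * e⁻¹)⁻¹ * ((e * z) * t * (z * e⁻¹)) := by group
      _ = (e * t * e⁻¹)⁻¹ * (z * (e * t * e⁻¹) * z) := by rw [← h1, ← h2]; group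
  obtain ⟨t, ht, htz⟩ := hnc
  set c := t⁻¹ * (z * t * z) with hc
  have hcX : c ∈ Subgroup.closure X := Subgroup.subset_closure ⟨t, ht, rfl⟩
  have h1 := hmin _ hle hE hne c hcX
  have h2 : z * c * z = c⁻¹ := by
    rw [hc, _root_.mul_inv_rev, inv_inv]
    simp only [mul_inv_rev, hzi, mul_assoc]
    simp only [S.hz, mul_one]
  have h3 : c * c = 1 := by
    rw [h1, mul_assoc, S.hz, mul_one] at h2
    rw [mul_eq_one_iff_eq_inv]; exact h2
  have hc1 := eq_one_of_sq_eq S.odd (hTL (hle hcX)) h3
  rw [hc, inv_mul_eq_one] at hc1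
  exact htz (by
    conv_lhs => rw [hc1]
    rw [show z * (z * t * z) = (z * z) * t * z by group, S.hz, one_mul])

theorem exists_minimal {T : Subgroup Γ} (hTE : ∀ e ∈ E, e ⋆ T = T) (hnc : ∃ t ∈ T, z * t ≠ t * z) :
    ∃ T0 ≤ T, (∀ e ∈ E, e ⋆ T0 = T0) ∧ (∃ t ∈ T0, z * t ≠ t * z) ∧
      ∀ U : Subgroup Γ, U ≤ T0 → (∀ e ∈ E, e ⋆ U = U) → U ≠ T0 → ∀ u ∈ U, z * u = u * z := by
  classical
  obtain ⟨T0, hT0, hmin⟩ := (Set.toFinite
    {U : Subgroup Γ | U ≤ T ∧ (∀ e ∈ E, e ⋆ U = U) ∧ ∃ t ∈ U, z * t ≠ t * z}).exists_minimal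
    ⟨T, le_rfl, hTE, hnc⟩
  refine ⟨T0, hT0.1, hT0.2.1, hT0.2.2, fun U hU hUE hne u hu => ?_⟩
  by_contra hcon
  exact hne (le_antisymm hU (hmin ⟨hU.trans hT0.1, hUE, u, hu, hcon⟩ hU))

/-- The `3`-part. -/
theorem sylow_three (T : Subgroup Γ) (hTL : T ≤ L) (hTp : IsPGroup 3 ↥T)
    (hTE : ∀ e ∈ E, e ⋆ T = T) : ∀ t ∈ T, z * t = t * z := by
  by_contra hnc
  push Not at hnc
  obtain ⟨T0, hle, hE, hnc0, hmin⟩ := S.exists_minimal hTE hnc
  have hgen := S.gen_eq (hle.trans hTL) hE hnc0 hmin
  have hzi : z⁻¹ = z := inv_eq_of_mul_eq_one_right S.hz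
  suffices hquad : ∀ y ∈ T0, ∀ v : V, y • (y • v - v) = y • v - v by
    obtain ⟨t, ht, htz⟩ := hnc0
    obtain ⟨D, hD, hDp, htD⟩ := exists_normal_pGroup (p := 3) (by norm_num) S.isPGroup S.vodd L
      S.odd t (hTL (hle ht)) (hquad t ht)
    rw [S.core D hD hDp, Subgroup.mem_bot] at htD
    have : t = 1 := congrArg Subtype.val htD
    exact htz (by rw [this, one_mul, mul_one])
  -- the fixed points
  let F1 : AddSubgroup V :=
    { carrier := {v | ∀ y ∈ T0, y • v = v}
      add_mem' := fun {a b} ha hb y hy => by rw [smul_add, ha y hy, hb y hy]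
      zero_mem' := fun y _ => smul_zero y
      neg_mem' := fun {a} ha y hy => by rw [smul_neg, ha y hy] }
  have hE1 : ∀ e ∈ E, ∀ v ∈ F1, e • v ∈ F1 := fun e he v hv y hy => by
    have hy' : e⁻¹ * y * e ∈ T0 := by
      have := (hE e⁻¹ (inv_mem he)).le (conj_mem_cj hy)
      rwa [inv_inv] at this
    rw [← mul_smul, show y * e = e * (e⁻¹ * y * e) by group, mul_smul, hv _ hy']
  -- an invariant subgroup containing part of the natural module contains all of it
  have hirr : ∀ A : AddSubgroup V, (∀ e ∈ E, ∀ v ∈ A, e • v ∈ A) →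
      (∃ n ∈ A, z • n = -n ∧ n ≠ 0) → ∀ n : V, z • n = -n → n ∈ A := by
    intro A hA ⟨n0, hn0A, hn0, hne⟩ n hn
    let B : AddSubgroup (Fin 2 → F) :=
      { carrier := {u | ∃ a ∈ A, z • a = -a ∧ S.φ a = u}
        add_mem' := by
          rintro _ _ ⟨a, ha, ha', rfl⟩ ⟨b, hb, hb', rfl⟩
          exact ⟨a + b, A.add_mem ha hb, by rw [smul_add, ha', hb', neg_add], map_add _ _ _⟩
        zero_mem' := ⟨0, A.zero_mem, by rw [smul_zero, neg_zero], map_zero _⟩
        neg_mem' := by
          rintro _ ⟨a, ha, ha', rfl⟩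
          exact ⟨-a, A.neg_mem ha, by rw [smul_neg, ha'], map_neg _ _⟩ }
    have htop : B = ⊤ := CfsgLib.BlockModule.eq_top_of_invariant B (fun r hr v hv => by
      obtain ⟨a, ha, ha', rfl⟩ := hv
      obtain ⟨e, rfl⟩ := S.exists_pre r hr
      exact ⟨(e : Γ) • a, hA e e.2 a ha, S.stable _ e.2 a ha', S.equiv e a ha'⟩) fun hbot => by
        refine hne (S.inj n0 hn0 ?_)
        have : S.φ n0 ∈ B := ⟨n0, hn0A, hn0, rfl⟩
        rwa [hbot, AddSubgroup.mem_bot] at this
    obtain ⟨a, ha, ha', hφ⟩ : S.φ n ∈ B := htop ▸ AddSubgroup.mem_top _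
    have : a - n = 0 := S.inj _ (by rw [smul_sub, ha', hn, neg_sub_neg, neg_sub])
      (by rw [map_sub, hφ, sub_self])
    rwa [← sub_eq_zero.1 this]
  -- `T0` acts trivially where `z` does
  have htriv : ∀ A : AddSubgroup V, (∀ y ∈ T0, ∀ v ∈ A, y • v ∈ A) →
      (∀ v, z • v - v ∈ A) → ∀ y ∈ T0, ∀ v, y • v - v ∈ A := by
    intro A hA hzA y hy
    rw [← hgen] at hy
    have hy' : y ∈ T0 ∧ ∀ v, y • v - v ∈ A := by
      induction hy using Subgroup.closure_induction with
      | mem x hx =>
        obtain ⟨t, ht, rfl⟩ := hx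
        have htz : z * t * z ∈ T0 := by
          have := (hE z S.zE).le (conj_mem_cj ht)
          rwa [hzi] at this
        refine ⟨mul_mem (inv_mem ht) htz, fun v => ?_⟩
        have h1 : (t⁻¹ * (z * t * z)) • v - v =
            t⁻¹ • ((z • (t • (z • v)) - t • (z • v)) + t • (z • v - v)) := by
          simp only [mul_smul, smul_sub, smul_add, inv_smul_smul]
          abel
        rw [h1]
        refine hA _ (inv_mem ht) _ (A.add_mem (hzA _) (hA t ht _ (hzA v)))
      | one => exact ⟨one_mem _, fun v => by rw [one_smul, sub_self]; exact A.zero_mem⟩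
      | mul a b _ _ ha hb =>
        refine ⟨mul_mem ha.1 hb.1, fun v => ?_⟩
        rw [mul_smul, show a • b • v - v = (a • (b • v) - b • v) + (b • v - v) by abel]
        exact A.add_mem (ha.2 _) (hb.2 v)
      | inv a _ ha =>
        refine ⟨inv_mem ha.1, fun v => ?_⟩
        have := A.neg_mem (ha.2 (a⁻¹ • v))
        rwa [smul_inv_smul, neg_sub] at this
    exact hy'.2
  by_cases hN1 : ∃ n ∈ F1, z • n = -n ∧ n ≠ 0
  · have hN := hirr F1 hE1 hN1
    intro y hy v
    refine (htriv F1 (fun y hy v hv => ?_) (fun v => hN _ (S.pr_mem v)) y hy v) y hy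
    rw [hv y hy]; exact hv
  push Not at hN1
  have hF1 : ∀ f ∈ F1, z • f = f := fun f hf => by
    have h1 : z • f - f ∈ F1 := F1.sub_mem (hE1 z S.zE f hf) hf
    exact sub_eq_zero.1 (hN1 _ h1 (S.pr_mem f))
  let F2 : AddSubgroup V :=
    { carrier := {v | ∀ y ∈ T0, y • v - v ∈ F1}
      add_mem' := fun {a b} ha hb y hy => by
        rw [smul_add, add_sub_add_comm]; exact F1.add_mem (ha y hy) (hb y hy)
      zero_mem' := fun y _ => by rw [smul_zero, sub_self]; exact F1.zero_mem
      neg_mem' := fun {a} ha y hy => by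
        rw [smul_neg, ← neg_sub', ← neg_neg (y • a - a)]
        simpa using F1.neg_mem (ha y hy) }
  have hE2 : ∀ e ∈ E, ∀ v ∈ F2, e • v ∈ F2 := fun e he v hv y hy => by
    have hy' : e⁻¹ * y * e ∈ T0 := by
      have := (hE e⁻¹ (inv_mem he)).le (conj_mem_cj hy)
      rwa [inv_inv] at this
    rw [← mul_smul, show y * e = e * (e⁻¹ * y * e) by group, mul_smul, ← smul_sub]
    exact hE1 e he _ (hv _ hy')
  have hF21 : ∀ x ∈ F2, z • x = x → x ∈ F1 := by
    intro x hx hzx y hy
    rw [← hgen] at hy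
    induction hy using Subgroup.closure_induction with
    | mem w hw =>
      obtain ⟨t, ht, rfl⟩ := hw
      have hf : t • x - x ∈ F1 := hx t ht
      rw [mul_smul, mul_smul, mul_smul, hzx]
      have : z • (t • x) = t • x := by
        conv_lhs => rw [show t • x = (t • x - x) + x by abel, smul_add, hF1 _ hf, hzx, sub_add_cancel]
      rw [this, inv_smul_smul]
    | one => exact one_smul _ x
    | mul a b _ _ ha hb => rw [mul_smul, hb, ha]
    | inv a _ ha => conv_lhs => rw [← ha, inv_smul_smul]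
  have hN2 : ∀ n : V, z • n = -n → n ∈ F2 := by
    by_cases hV1 : ∀ v, v ∈ F1
    · exact fun n _ y hy => by rw [hV1 n y hy, sub_self]; exact F1.zero_mem
    refine hirr F2 hE2 ?_
    -- a fixed point of `T0` on `V / F1`
    letI : MulAction ↥T0 (V ⧸ F1) :=
      { smul := fun y => Quotient.map' (fun v => (y : Γ) • v) fun a b hab => by
          rw [QuotientAddGroup.leftRel_apply] at hab ⊢
          rw [show -((y : Γ) • a) + (y : Γ) • b = (y : Γ) • (-a + b) by rw [smul_add, smul_neg],
            hab y y.2]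
          exact hab
        one_smul := fun q => Quotient.inductionOn' q fun v =>
          congrArg Quotient.mk'' (one_smul Γ v)
        mul_smul := fun a b q => Quotient.inductionOn' q fun v =>
          congrArg Quotient.mk'' (mul_smul (a : Γ) (b : Γ) v) }
    haveI : Fact (Nat.Prime 3) := ⟨Nat.prime_three⟩
    have hdvd : 3 ∣ Nat.card (V ⧸ F1) := by
      obtain ⟨k, hk⟩ := IsPGroup.iff_card.1 S.isPGroup
      rw [Nat.card_congr Multiplicative.toAdd, F1.card_eq_card_quotient_mul_card_addSubgroup] at hk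
      obtain ⟨j, -, hj⟩ := (Nat.dvd_prime_pow Nat.prime_three).1 (Dvd.intro _ hk)
      rcases Nat.eq_zero_or_pos j with rfl | hjp
      · exfalso
        push Not at hV1
        obtain ⟨v, hv⟩ := hV1
        rw [pow_zero, Nat.card_eq_one_iff_unique] at hj
        haveI := hj.1
        exact hv ((QuotientAddGroup.eq_zero_iff v).1 (Subsingleton.elim _ _))
      · exact hj ▸ dvd_pow_self 3 hjp.ne'
    obtain ⟨q, hq, hq0⟩ := (hTp.to_le hle).exists_fixed_point_of_prime_dvd_card_of_fixed_point
      (V ⧸ F1) hdvd (a := ((0 : V) : V ⧸ F1)) fun y => congrArg Quotient.mk'' (smul_zero (y : Γ))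
    obtain ⟨x, rfl⟩ := QuotientAddGroup.mk_surjective q
    have hx : x ∈ F2 := fun y hy => (QuotientAddGroup.eq_iff_sub_mem).1 (hq ⟨y, hy⟩)
    have hx1 : x ∉ F1 := fun h => hq0 ((QuotientAddGroup.eq_zero_iff x).2 h).symm
    refine ⟨z • x - x, F2.sub_mem (hE2 z S.zE x hx) hx, S.pr_mem x, fun h0 => ?_⟩
    exact hx1 (hF21 x hx (sub_eq_zero.1 h0))
  let G1 : AddSubgroup V :=
    { carrier := {v | z • v - v ∈ F2 ∧ v - (z • v - v) ∈ F1}
      add_mem' := fun {a b} ha hb => ⟨by
        rw [smul_add, add_sub_add_comm]; exact F2.add_mem ha.1 hb.1, by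
        rw [smul_add, add_sub_add_comm, add_sub_add_comm]; exact F1.add_mem ha.2 hb.2⟩
      zero_mem' := ⟨by rw [smul_zero, sub_self]; exact F2.zero_mem, by
        rw [smul_zero, sub_self, sub_self]; exact F1.zero_mem⟩
      neg_mem' := fun {a} ha => ⟨by
        rw [smul_neg, ← neg_sub']; exact F2.neg_mem ha.1, by
        rw [smul_neg, ← neg_sub', ← neg_sub']; exact F1.neg_mem ha.2⟩ }
  have hNG : ∀ n : V, z • n = -n → n ∈ G1 := fun n hn => by
    refine ⟨hN2 _ (S.pr_mem n), ?_⟩
    rw [S.pr_eq_self hn, sub_self]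
    exact F1.zero_mem
  have hFG : ∀ f ∈ F1, f ∈ G1 := fun f hf => by
    refine ⟨?_, ?_⟩
    · rw [hF1 f hf, sub_self]; exact F2.zero_mem
    · rw [hF1 f hf, sub_self, sub_zero]; exact hf
  have hstab : ∀ y ∈ T0, ∀ v ∈ G1, y • v - v ∈ F1 := fun y hy v hv => by
    rw [show v = (v - (z • v - v)) + (z • v - v) by abel, smul_add, add_sub_add_comm, hv.2 y hy,
      sub_self, zero_add]
    exact hv.1 y hy
  have hdelta : ∀ y ∈ T0, ∀ v, y • v - v ∈ G1 :=
    htriv G1 (fun y hy v hv => by
      have := G1.add_mem (hFG _ (hstab y hy v hv)) hv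
      rwa [sub_add_cancel] at this) fun v => hNG _ (S.pr_mem v)
  -- the two halves of the action
  have hpr_hom : ∀ (a b : Γ), a ∈ T0 → b ∈ T0 → ∀ x : V,
      z • ((a * b) • x - x) - ((a * b) • x - x) =
        (z • (a • x - x) - (a • x - x)) + (z • (b • x - x) - (b • x - x)) := fun a b ha hb x => by
    rw [show (a * b) • x - x = (a • (b • x - x) - (b • x - x)) + ((a • x - x) + (b • x - x)) by
      rw [mul_smul, smul_sub]; abel]
    generalize hg : a • (b • x - x) - (b • x - x) = g
    have : z • g = g := hF1 g (hg ▸ hstab a ha _ (hdelta b hb x))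
    rw [smul_add, this, smul_add]
    abel
  let α : V → ↥T0 →* Multiplicative (Fin 2 → F) := fun x =>
    MonoidHom.mk' (fun y => Multiplicative.ofAdd (S.φ (z • ((y : Γ) • x - x) - ((y : Γ) • x - x))))
      fun a b => by
        rw [← ofAdd_add, ← map_add, Subgroup.coe_mul, hpr_hom _ _ a.2 b.2]
  have hαe : ∀ x, z • x = x → ∀ (e : ↥E) (y : ↥T0)
      (hy : (e : Γ) * y * (e : Γ)⁻¹ ∈ T0),
      Multiplicative.toAdd (α x ⟨_, hy⟩) =
        ((S.ρ e : SL F) : Matrix (Fin 2) (Fin 2) F).mulVec (Multiplicative.toAdd (α x y)) := by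
    intro x hx e y hy
    have he : (e : Γ)⁻¹ • x = x := S.fix _ (inv_mem e.2) x hx
    show S.φ _ = _
    rw [mul_smul, mul_smul, he]
    conv_lhs => rw [show (x : V) = (e : Γ) • x from (S.fix _ e.2 x hx).symm]
    rw [S.fix _ e.2 x hx]
    rw [show (e : Γ) • (y : Γ) • x - x = (e : Γ) • ((y : Γ) • x - x) by
      rw [smul_sub, S.fix _ e.2 x hx]]
    rw [← mul_smul, S.commutes e.2, mul_smul, ← smul_sub,
      S.equiv e _ (S.pr_mem _)]
    rfl
  have hαc : ∀ (x : V), z • x = x → ∀ y : ↥T0, z * (y : Γ) = y * z → α x y = 1 := by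
    intro x hx y hy
    show Multiplicative.ofAdd (S.φ _) = 1
    rw [smul_sub, ← mul_smul, hy, mul_smul, hx, sub_self, map_zero, ofAdd_zero]
  have hker : ∀ x, z • x = x → (∃ y, α x y ≠ 1) → ∀ y : ↥T0, α x y = 1 → z * (y : Γ) = y * z := by
    intro x hx hne y hy
    refine hmin ((α x).ker.map T0.subtype) (Subgroup.map_subtype_le _) (fun e he => ?_) ?_ _
      ⟨y, hy, rfl⟩
    · refine eq_of_le_of_card_le' ?_ (card_cj _ _).ge
      rintro _ ⟨_, ⟨u, hu, rfl⟩, rfl⟩
      simp only [Subgroup.coe_subtype, MulEquiv.coe_toMonoidHom, MulAut.conj_apply]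
      have hmem : e * (u : Γ) * e⁻¹ ∈ T0 := (hE e he).le (conj_mem_cj u.2)
      refine ⟨⟨_, hmem⟩, ?_, rfl⟩
      refine Multiplicative.toAdd.injective ?_
      rw [hαe x hx ⟨e, he⟩ u hmem, show α x u = 1 from hu, toAdd_one, Matrix.mulVec_zero]
    · intro heq
      obtain ⟨w, hw⟩ := hne
      obtain ⟨u, hu, huw⟩ := heq.ge w.2
      exact hw (Subtype.ext huw ▸ hu : w ∈ (α x).ker)
  have hβ : ∀ y ∈ T0, ∀ n : V, z • n = -n → y • n - n ∈ F1 := fun y hy n hn => hN2 n hn y hy
  -- the composite of the two halves vanishes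
  suffices hkey : ∀ y ∈ T0, ∀ x, z • x = x →
      y • (z • (y • x - x) - (y • x - x)) = z • (y • x - x) - (y • x - x) by
    intro y hy v
    rw [show v = (v - (z • v - v)) + (z • v - v) by abel]
    generalize hx : v - (z • v - v) = x
    generalize hn : z • v - v = n
    have hx' : z • x = x := hx ▸ S.plus_mem v
    have hn' : z • n = -n := hn ▸ S.pr_mem v
    rw [smul_add, add_sub_add_comm, smul_add, hβ y hy n hn' y hy]
    congr 1
    set w := y • x - x
    rw [show w = (w - (z • w - w)) + (z • w - w) by abel, smul_add, (hdelta y hy x).2 y hy,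
      hkey y hy x hx']
  by_cases hall : ∀ x, z • x = x → ∀ y : ↥T0, α x y = 1
  · intro y hy x hx
    have h0 : z • (y • x - x) - (y • x - x) = 0 :=
      S.inj _ (S.pr_mem _) (congrArg Multiplicative.toAdd (hall x hx ⟨y, hy⟩))
    rw [h0, smul_zero]
  push Not at hall
  obtain ⟨x0, hx0, y0, hy0⟩ := hall
  -- `α x0` is onto
  let B : AddSubgroup (Fin 2 → F) :=
    { carrier := {u | ∃ y, α x0 y = Multiplicative.ofAdd u}
      add_mem' := by
        rintro a b ⟨y, hy⟩ ⟨w, hw⟩
        exact ⟨y * w, by rw [map_mul, hy, hw, ofAdd_add]⟩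
      zero_mem' := ⟨1, by rw [map_one, ofAdd_zero]⟩
      neg_mem' := by
        rintro a ⟨y, hy⟩
        exact ⟨y⁻¹, by rw [map_inv, hy, ofAdd_neg]⟩ }
  have htop : B = ⊤ := CfsgLib.BlockModule.eq_top_of_invariant B (fun r hr v hv => by
    obtain ⟨y, hy⟩ := hv
    obtain ⟨e, rfl⟩ := S.exists_pre r hr
    refine ⟨⟨(e : Γ) * y * (e : Γ)⁻¹, (hE e e.2).le (conj_mem_cj y.2)⟩,
      Multiplicative.toAdd.injective ?_⟩
    rw [hαe x0 hx0 e y, hy, toAdd_ofAdd, toAdd_ofAdd]) fun hbot => hy0 (by
      have : Multiplicative.toAdd (α x0 y0) ∈ B := ⟨y0, rfl⟩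
      rw [hbot, AddSubgroup.mem_bot] at this
      exact Multiplicative.toAdd.injective this)
  choose s hs using fun u : Fin 2 → F => (htop ▸ AddSubgroup.mem_top u : u ∈ B)
  have hdiff : ∀ (a b : ↥T0), α x0 a = α x0 b → z * ((a * b⁻¹ : ↥T0) : Γ) = ((a * b⁻¹ : ↥T0) : Γ) * z :=
    fun a b hab => hker x0 hx0 ⟨y0, hy0⟩ _ (by rw [map_mul, map_inv, hab, mul_inv_cancel])
  have hsec : ∀ x, z • x = x → ∀ a b : ↥T0, α x0 a = α x0 b → α x a = α x b := fun x hx a b hab => by
    have := hαc x hx _ (hdiff a b hab)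
    rwa [map_mul, map_inv, mul_inv_eq_one] at this
  have hβc : ∀ (a b : ↥T0), α x0 a = α x0 b → ∀ n : V, z • n = -n →
      (a : Γ) • n - n = (b : Γ) • n - n := by
    intro a b hab n hn
    set k : Γ := ((a * b⁻¹ : ↥T0) : Γ) with hk
    have hkT : k ∈ T0 := (a * b⁻¹).2
    have h0 : k • n - n = 0 := by
      refine S.both (hF1 _ (hβ k hkT n hn)) ?_
      rw [smul_sub, ← mul_smul, hdiff a b hab, mul_smul, hn, smul_neg, neg_sub_neg, neg_sub]
    have hak : (a : Γ) = k * b := by rw [hk, Subgroup.coe_mul, Subgroup.coe_inv, inv_mul_cancel_right]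
    rw [hak, mul_smul, show (b : Γ) • n = ((b : Γ) • n - n) + n by abel, smul_add,
      hβ b b.2 n hn k hkT, sub_eq_zero.1 h0]
  -- the invariant form
  choose nu hnu1 hnu2 using S.surj
  have hnu_add : ∀ a b, nu (a + b) = nu a + nu b := fun a b => by
    have : nu (a + b) - (nu a + nu b) = 0 := S.inj _
      (by rw [smul_sub, smul_add, hnu1, hnu1, hnu1]; abel)
      (by rw [map_sub, map_add, hnu2, hnu2, hnu2, sub_self])
    exact sub_eq_zero.1 this
  let Bf : (Fin 2 → F) →+ (Fin 2 → F) →+ V :=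
    AddMonoidHom.mk' (fun u => AddMonoidHom.mk' (fun v => (s u : Γ) • nu v - nu v) fun a b => by
      rw [hnu_add, smul_add, add_sub_add_comm]) fun a b => by
      refine AddMonoidHom.ext fun v => ?_
      show (s (a + b) : Γ) • nu v - nu v = ((s a : Γ) • nu v - nu v) + ((s b : Γ) • nu v - nu v)
      rw [hβc (s (a + b)) (s a * s b) (by rw [map_mul, hs, hs, hs, ofAdd_add]) _ (hnu1 v),
        Subgroup.coe_mul, mul_smul]
      generalize hw : (s b : Γ) • nu v = w
      rw [show w = (w - nu v) + nu v by abel, smul_add,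
        (hw ▸ hβ _ (s b).2 _ (hnu1 v) : w - nu v ∈ F1) _ (s a).2]
      abel
  obtain ⟨h, hh⟩ := invariant_form S.good Bf fun r hr u v => by
    obtain ⟨e, rfl⟩ := S.exists_pre r hr
    show (s _ : Γ) • nu _ - nu _ = (s u : Γ) • nu v - nu v
    have hmem : (e : Γ) * (s u : Γ) * (e : Γ)⁻¹ ∈ T0 := (hE e e.2).le (conj_mem_cj (s u).2)
    rw [hβc _ ⟨_, hmem⟩ (Multiplicative.toAdd.injective (by
      rw [hαe x0 hx0 e (s u) hmem, hs, hs, toAdd_ofAdd, toAdd_ofAdd])) _ (hnu1 _)]
    have hne : nu (((S.ρ e : SL F) : Matrix (Fin 2) (Fin 2) F).mulVec v) = (e : Γ) • nu v := by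
      refine sub_eq_zero.1 (S.inj _ ?_ ?_)
      · rw [smul_sub, hnu1, S.stable _ e.2 _ (hnu1 v), neg_sub_neg, neg_sub]
      · rw [map_sub, hnu2, S.equiv e _ (hnu1 v), hnu2, sub_self]
    rw [hne]
    show ((e : Γ) * (s u : Γ) * (e : Γ)⁻¹) • (e : Γ) • nu v - (e : Γ) • nu v = _
    rw [mul_smul, inv_smul_smul, mul_smul, ← smul_sub]
    exact S.fix _ e.2 _ (hF1 _ (hβ _ (s u).2 _ (hnu1 v)))
  intro y hy x hx
  set n := z • (y • x - x) - (y • x - x) with hn
  have hn' : z • n = -n := S.pr_mem _
  -- `α x` is a scalar multiple of `α x0`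
  let f : (Fin 2 → F) →+ (Fin 2 → F) :=
    AddMonoidHom.mk' (fun u => Multiplicative.toAdd (α x (s u))) fun a b => by
      rw [← toAdd_mul, ← map_mul]
      exact congrArg _ (hsec x hx _ _ (by rw [map_mul, hs, hs, hs, ofAdd_add]))
  obtain ⟨c, hc⟩ := commutant S.good f fun r hr u => by
    obtain ⟨e, rfl⟩ := S.exists_pre r hr
    have hmem : (e : Γ) * (s u : Γ) * (e : Γ)⁻¹ ∈ T0 := (hE e e.2).le (conj_mem_cj (s u).2)
    show Multiplicative.toAdd (α x (s _)) = _
    rw [hsec x hx _ ⟨_, hmem⟩ (Multiplicative.toAdd.injective (by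
      rw [hαe x0 hx0 e (s u) hmem, hs, hs, toAdd_ofAdd, toAdd_ofAdd])), hαe x hx e (s u) hmem]
    rfl
  set u := Multiplicative.toAdd (α x0 ⟨y, hy⟩)
  have hsu : α x0 (⟨y, hy⟩ : ↥T0) = α x0 (s u) := by rw [hs]; rfl
  have hφn : S.φ n = c • u := by
    rw [← hc u]
    show Multiplicative.toAdd (α x ⟨y, hy⟩) = Multiplicative.toAdd (α x (s u))
    rw [hsec x hx _ _ hsu]
  have hnn : n = nu (c • u) := sub_eq_zero.1 (S.inj _
    (by rw [smul_sub, hn', hnu1, neg_sub_neg, neg_sub]) (by rw [map_sub, hφn, hnu2, sub_self]))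
  refine sub_eq_zero.1 ?_
  rw [hnn]
  calc y • nu (c • u) - nu (c • u) = Bf u (c • u) :=
        hβc ⟨y, hy⟩ (s u) hsu _ (hnu1 _)
    _ = 0 := by rw [hh, show det2 u (c • u) = 0 by simp [det2]; ring, map_zero]

/-- The part prime to three. -/
theorem sylow_other (r : ℕ) [hr : Fact r.Prime] (hr3 : r ≠ 3) (T : Subgroup Γ) (hTL : T ≤ L)
    (hTp : IsPGroup r ↥T) (hTE : ∀ e ∈ E, e ⋆ T = T) : ∀ t ∈ T, z * t = t * z := by
  haveI : Fact (Nat.Prime 3) := ⟨Nat.prime_three⟩
  by_cases hbig : ∃ t : F, t ≠ 0 ∧ t * t ≠ 1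
  · -- unipotent elements act quadratically, so centralize `T`
    let Cc : Subgroup (SL F) := ((Subgroup.centralizer (T : Set Γ)).subgroupOf E).map S.ρ
    have hmem : ∀ g : SL F, g ^ 3 = 1 → (∀ v : Fin 2 → F,
        (g : Matrix (Fin 2) (Fin 2) F).mulVec ((g : Matrix (Fin 2) (Fin 2) F).mulVec v - v) =
          (g : Matrix (Fin 2) (Fin 2) F).mulVec v - v) → g ∈ Cc := by
      intro g hg hq
      obtain ⟨e, rfl⟩ := S.exists_pre g (by rw [R_eq_top hbig]; trivial)
      refine Subgroup.mem_map_of_mem _ (Subgroup.mem_subgroupOf.2 ?_)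
      have he3 : (e : Γ) ^ 3 = 1 :=
        congrArg Subtype.val (S.rho_injective (show S.ρ (e ^ 3) = S.ρ 1 by rw [map_pow, hg, map_one]))
      set K := T ⊔ Subgroup.zpowers (e : Γ) with hK
      have hnorm : Subgroup.zpowers (e : Γ) ≤ Subgroup.normalizer (T : Set Γ) :=
        Subgroup.zpowers_le.2 (mem_normalizer_iff_cj.2 (hTE e e.2))
      have hKodd : Odd (Nat.card K) := by
        have h1 : Odd (Nat.card T) := S.odd.of_dvd_nat (Subgroup.card_dvd_of_le hTL)
        have h2 : Odd (Nat.card (Subgroup.zpowers (e : Γ))) := by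
          rw [Nat.card_zpowers]
          exact Odd.of_dvd_nat ⟨1, rfl⟩ (orderOf_dvd_of_pow_eq_one he3)
        have hd := CfsgLib.Solvable.card_sup_dvd hnorm
        rw [sup_comm] at hd
        exact (h2.mul h1).of_dvd_nat hd
      have hq' : ∀ v : V, (e : Γ) • ((e : Γ) • v - v) = (e : Γ) • v - v := by
        intro v
        rw [show v = (v - (z • v - v)) + (z • v - v) by abel]
        generalize hx : v - (z • v - v) = x
        generalize hn : z • v - v = n
        have hx' : z • x = x := hx ▸ S.plus_mem v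
        have hn' : z • n = -n := hn ▸ S.pr_mem v
        rw [smul_add, S.fix _ e.2 x hx', add_sub_add_left_eq_sub]
        have hs' : z • ((e : Γ) • n - n) = -((e : Γ) • n - n) := by
          rw [smul_sub, S.stable _ e.2 n hn', hn', neg_sub_neg, neg_sub]
        refine sub_eq_zero.1 (S.inj _ ?_ ?_)
        · rw [smul_sub, S.stable _ e.2 _ hs', hs', neg_sub_neg, neg_sub]
        · rw [map_sub, S.equiv e _ hs', map_sub, S.equiv e n hn', hq, sub_self]
      obtain ⟨D, hD, hDp, heD⟩ := exists_normal_pGroup (p := 3) (by norm_num) S.isPGroup S.vodd K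
        hKodd (e : Γ) (Subgroup.mem_sup_right (Subgroup.mem_zpowers _)) hq'
      refine Subgroup.mem_centralizer_iff.2 fun t ht => ?_
      set τ : ↥K := ⟨t, Subgroup.mem_sup_left ht⟩
      set ε : ↥K := ⟨(e : Γ), Subgroup.mem_sup_right (Subgroup.mem_zpowers _)⟩
      have hc1 : τ * ε * τ⁻¹ * ε⁻¹ ∈ D := mul_mem (hD.conj_mem ε heD τ) (inv_mem heD)
      have hc2 : ((τ * ε * τ⁻¹ * ε⁻¹ : ↥K) : Γ) ∈ T := by
        show t * e * t⁻¹ * (e : Γ)⁻¹ ∈ T
        rw [show t * e * t⁻¹ * (e : Γ)⁻¹ = t * ((e : Γ) * t⁻¹ * (e : Γ)⁻¹) by group]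
        exact mul_mem ht ((hTE e e.2).le (conj_mem_cj (inv_mem ht)))
      obtain ⟨i, hi⟩ := hDp ⟨_, hc1⟩
      obtain ⟨j, hj⟩ := hTp ⟨_, hc2⟩
      have hi' : (t * e * t⁻¹ * (e : Γ)⁻¹) ^ 3 ^ i = 1 :=
        congrArg (fun w : ↥D => ((w : ↥K) : Γ)) hi
      have hj' : (t * e * t⁻¹ * (e : Γ)⁻¹) ^ r ^ j = 1 := congrArg Subtype.val hj
      have h1 : orderOf (t * e * t⁻¹ * (e : Γ)⁻¹) = 1 :=
        Nat.eq_one_of_dvd_coprimes
          (Nat.Coprime.pow _ _ ((Nat.coprime_primes Nat.prime_three hr.out).2 (Ne.symm hr3)))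
          (orderOf_dvd_of_pow_eq_one hi') (orderOf_dvd_of_pow_eq_one hj')
      rw [orderOf_eq_one_iff, mul_inv_eq_one, mul_inv_eq_iff_eq_mul] at h1
      exact h1
    have hup : ∀ x : F, BlockModule.up x ∈ Cc := fun x => hmem _ (by
      refine Subtype.ext ?_
      rw [pow_succ, pow_two]
      ext i j
      fin_cases i <;> fin_cases j <;>
        simp [Matrix.SpecialLinearGroup.coe_mul, BlockModule.coe_up, Matrix.mul_apply,
          Fin.sum_univ_two]
      linear_combination x * S.char) fun v => by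
        simp only [up_mulVec]; funext i; fin_cases i <;> simp
    have hlo : ∀ x : F, BlockModule.lo x ∈ Cc := fun x => hmem _ (by
      refine Subtype.ext ?_
      rw [pow_succ, pow_two]
      ext i j
      fin_cases i <;> fin_cases j <;>
        simp [Matrix.SpecialLinearGroup.coe_mul, BlockModule.coe_lo, Matrix.mul_apply,
          Fin.sum_univ_two]
      linear_combination x * S.char) fun v => by
        simp only [lo_mulVec]; funext i; fin_cases i <;> simp
    intro t ht
    have hall : S.ρ ⟨z, S.zE⟩ ∈ Cc :=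
      CfsgLib.Linear.transvection_induction (· ∈ Cc) (fun i j hij c => by
        fin_cases i <;> fin_cases j
        · exact absurd rfl hij
        · convert hup c using 1
          refine Subtype.ext ?_
          rw [CfsgLib.Linear.transvec_coe, BlockModule.coe_up]
          ext a b
          fin_cases a <;> fin_cases b <;> simp [Matrix.transvection, Matrix.single_apply]
        · convert hlo c using 1
          refine Subtype.ext ?_
          rw [CfsgLib.Linear.transvec_coe, BlockModule.coe_lo]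
          ext a b
          fin_cases a <;> fin_cases b <;> simp [Matrix.transvection, Matrix.single_apply]
        · exact absurd rfl hij) (fun _ _ => mul_mem) _
    obtain ⟨e, he, hez⟩ := hall
    rw [S.rho_injective hez] at he
    exact (Subgroup.mem_centralizer_iff.1 (Subgroup.mem_subgroupOf.1 he) t ht).symm
  · -- `E` is quaternion
    by_contra hnc
    push Not at hnc
    obtain ⟨T0, hle, hE, hnc0, hmin⟩ := S.exists_minimal hTE hnc
    have hgen := S.gen_eq (hle.trans hTL) hE hnc0 hmin
    have hzi : z⁻¹ = z := inv_eq_of_mul_eq_one_right S.hz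
    have hp0 : IsPGroup r ↥T0 := hTp.to_le hle
    have hz0 : ∀ y ∈ T0, z * y * z ∈ T0 := fun y hy => by
      have := (hE z S.zE).le (conj_mem_cj hy)
      rwa [hzi] at this
    -- multiples by numbers prime to three
    have hkill : ∀ (w : V) (m : ℕ), m.Coprime 3 → m • w = 0 → w = 0 := by
      intro w m hm h0
      have h3 : (3 : ℕ) • w = 0 := by rw [show (3 : ℕ) = 2 + 1 from rfl, succ_nsmul, two_nsmul, S.h3]
      
      exact AddMonoid.addOrderOf_eq_one_iff.1 (Nat.eq_one_of_dvd_coprimes hm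
        (addOrderOf_dvd_of_nsmul_eq_zero h0) (addOrderOf_dvd_of_nsmul_eq_zero h3))
    have hord : ∀ y ∈ T0, (orderOf y).Coprime 3 := fun y hy => by
      obtain ⟨k, hk⟩ := hp0 ⟨y, hy⟩
      exact Nat.Coprime.coprime_dvd_left
        (orderOf_dvd_of_pow_eq_one (by simpa using congrArg Subtype.val hk))
        (Nat.Coprime.pow_left k ((Nat.coprime_primes hr.out Nat.prime_three).2 hr3))
    have hfree : ∀ y ∈ T0, ∀ v : V, y • (y • v - v) = y • v - v → y • v = v := by
      intro y hy v hw
      have hm : ∀ m : ℕ, y ^ m • v = v + m • (y • v - v) := by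
        intro m
        induction m with
        | zero => simp
        | succ m ih =>
          rw [pow_succ', mul_smul, ih, smul_add, smul_comm, hw, succ_nsmul]
          abel
      have := hm (orderOf y)
      rw [pow_orderOf_eq_one, one_smul, left_eq_add] at this
      exact sub_eq_zero.1 (hkill _ _ (hord y hy) this)
    -- `T0` is abelian
    have hab : ∀ a ∈ T0, ∀ b ∈ T0, a * b = b * a := by
      set D := ⁅T0, T0⁆ with hD
      have hDle : D ≤ T0 := by
        rw [hD, Subgroup.commutator_le]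
        exact fun a ha b hb => mul_mem (mul_mem (mul_mem ha hb) (inv_mem ha)) (inv_mem hb)
      have hDE : ∀ e ∈ E, e ⋆ D = D := fun e he => by rw [hD, cj_commutator, hE e he]
      have hDne : D ≠ T0 := by
        intro h
        haveI : Group.IsNilpotent ↥T0 := hp0.isNilpotent
        obtain ⟨n, hn⟩ := Subgroup.nilpotent_iff_lowerCentralSeries.1
          (inferInstance : Group.IsNilpotent ↥T0)
        have hall : ∀ n, (Subgroup.lowerCentralSeries (⊤ : Subgroup ↥T0) n).map T0.subtype = T0 := by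
          intro n
          induction n with
          | zero => rw [Subgroup.lowerCentralSeries_zero, ← MonoidHom.range_eq_map,
              Subgroup.range_subtype]
          | succ n ih =>
            rw [Subgroup.lowerCentralSeries_succ, Subgroup.map_commutator, ih,
              ← MonoidHom.range_eq_map, Subgroup.range_subtype, ← hD, h]
        have := hall n
        rw [hn, Subgroup.map_bot] at this
        obtain ⟨t, ht, htz⟩ := hnc0
        rw [← this, Subgroup.mem_bot] at ht
        exact htz (by rw [ht, one_mul, mul_one])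
      have hDz : ∀ d ∈ D, z * d = d * z := hmin D hDle hDE hDne
      have hcen : ∀ d ∈ D, ∀ y ∈ T0, y * d = d * y := by
        intro d hd y hy
        rw [← hgen] at hy
        induction hy using Subgroup.closure_induction with
        | mem w hw =>
          obtain ⟨t, ht, rfl⟩ := hw
          have hd' : t * d * t⁻¹ ∈ D :=
            (show t ⋆ D = D by rw [hD, cj_commutator, cj_eq_self_of_mem ht]).le (conj_mem_cj hd)
          have h1 := hDz _ hd'
          have h2 := hDz d hd
          calc t⁻¹ * (z * t * z) * d = t⁻¹ * (z * (t * d * t⁻¹)) * t * z := by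
                rw [mul_assoc (t⁻¹) (z * t * z) d, mul_assoc (z * t) z d, h2]; group
            _ = d * (t⁻¹ * (z * t * z)) := by rw [h1]; group
        | one => rw [one_mul, mul_one]
        | mul a b _ _ ha hb => rw [mul_assoc, hb, ← mul_assoc, ha, mul_assoc]
        | inv a _ ha => exact (Commute.inv_left ha).eq
      have hDN : ∀ d ∈ D, ∀ n : V, z • n = -n → d • n = n := by
        intro d hd
        choose nu hnu1 hnu2 using S.surj
        have hdE : ∀ e ∈ E, e * d = d * e := fun e he => S.cent d (hTL (hle (hDle hd))) (hDz d hd) e he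
        have hst : ∀ n : V, z • n = -n → z • (d • n) = -(d • n) := fun n hn => by
          rw [← mul_smul, hDz d hd, mul_smul, hn, smul_neg]
        have hnu : ∀ n : V, z • n = -n → nu (S.φ n) = n := fun n hn => sub_eq_zero.1 (S.inj _
          (by rw [smul_sub, hnu1, hn, neg_sub_neg, neg_sub]) (by rw [map_sub, hnu2, sub_self]))
        let f : (Fin 2 → F) →+ (Fin 2 → F) :=
          AddMonoidHom.mk' (fun u => S.φ (d • nu u)) fun a b => by
            rw [← map_add, ← smul_add]
            congr 2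
            refine sub_eq_zero.1 (S.inj _ ?_ ?_)
            · rw [smul_sub, smul_add, hnu1, hnu1, hnu1]; abel
            · rw [map_sub, map_add, hnu2, hnu2, hnu2, sub_self]
        obtain ⟨c, hc⟩ := commutant S.good f fun g hg u => by
          obtain ⟨e, rfl⟩ := S.exists_pre g hg
          show S.φ (d • nu _) = _
          rw [show nu (((S.ρ e : SL F) : Matrix (Fin 2) (Fin 2) F).mulVec u) = (e : Γ) • nu u by
            rw [← hnu ((e : Γ) • nu u) (S.stable _ e.2 _ (hnu1 u)), S.equiv e _ (hnu1 u), hnu2],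
            ← mul_smul, ← hdE e e.2, mul_smul, S.equiv e _ (hst _ (hnu1 u))]
          rfl
        intro n hn
        have hdn : d • n - n = 0 ∨ d • n = -n := by
          have e := hc (S.φ n)
          change S.φ (d • nu (S.φ n)) = c • S.φ n at e
          rw [hnu n hn] at e
          rcases small_cases hbig c with rfl | rfl | rfl
          · rw [zero_smul] at e
            have h0 := S.inj _ (hst n hn) e
            rw [smul_eq_zero_iff_eq] at h0
            left; rw [h0, smul_zero, sub_zero]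
          · rw [one_smul] at e
            left
            exact S.inj _ (by rw [smul_sub, hst n hn, hn, neg_sub_neg, neg_sub])
              (by rw [map_sub, e, sub_self])
          · right
            rw [neg_one_smul, ← map_neg] at e
            refine sub_eq_zero.1 (S.inj _ ?_ ?_)
            · rw [smul_sub, hst n hn, smul_neg, hn]; abel
            · rw [map_sub, e, sub_self]
        rcases hdn with h | h
        · exact sub_eq_zero.1 h
        · have h2 : d ^ 2 ∈ MulAction.stabilizer Γ n := by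
            rw [MulAction.mem_stabilizer_iff, pow_two, mul_smul, h, smul_neg, h, neg_neg]
          exact MulAction.mem_stabilizer_iff.1 (mem_of_pow_two_pow_mem (k := 1)
            (odd_orderOf S.odd (hTL (hle (hDle hd)))) (by rwa [pow_one]))
      -- so commutators act trivially
      have hD1 : ∀ d ∈ D, d = 1 := by
        intro d hd
        refine eq_of_smul_eq_smul fun v : V => ?_
        rw [one_smul]
        let W : AddSubgroup V :=
          { carrier := {v | d • v = v}
            add_mem' := fun {a b} ha hb => by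
              show d • (a + b) = a + b
              rw [smul_add, ha, hb]
            zero_mem' := smul_zero d
            neg_mem' := fun {a} ha => by show d • -a = -a; rw [smul_neg, ha] }
        have hWT : ∀ y ∈ T0, ∀ w ∈ W, y • w ∈ W := fun y hy w hw => by
          show d • y • w = y • w
          rw [← mul_smul, ← hcen d hd y hy, mul_smul, hw]
        have hWN : ∀ n : V, z • n = -n → n ∈ W := hDN d hd
        have htr : ∀ y ∈ T0, ∀ v, y • v - v ∈ W := by
          intro y hy
          rw [← hgen] at hy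
          have hy' : y ∈ T0 ∧ ∀ v, y • v - v ∈ W := by
            induction hy using Subgroup.closure_induction with
            | mem x hx =>
              obtain ⟨t, ht, rfl⟩ := hx
              refine ⟨mul_mem (inv_mem ht) (hz0 t ht), fun v => ?_⟩
              have h1 : (t⁻¹ * (z * t * z)) • v - v =
                  t⁻¹ • ((z • (t • (z • v)) - t • (z • v)) + t • (z • v - v)) := by
                simp only [mul_smul, smul_sub, smul_add, inv_smul_smul]
                abel
              rw [h1]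
              exact hWT _ (inv_mem ht) _
                (W.add_mem (hWN _ (S.pr_mem _)) (hWT t ht _ (hWN _ (S.pr_mem v))))
            | one => exact ⟨one_mem _, fun v => by rw [one_smul, sub_self]; exact W.zero_mem⟩
            | mul a b _ _ ha hb =>
              refine ⟨mul_mem ha.1 hb.1, fun v => ?_⟩
              rw [mul_smul, show a • b • v - v = (a • (b • v) - b • v) + (b • v - v) by abel]
              exact W.add_mem (ha.2 _) (hb.2 v)
            | inv a _ ha =>
              refine ⟨inv_mem ha.1, fun v => ?_⟩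
              have := W.neg_mem (ha.2 (a⁻¹ • v))
              rwa [smul_inv_smul, neg_sub] at this
          exact hy'.2
        exact hfree d (hDle hd) v (htr d (hDle hd) v)
      intro a ha b hb
      exact commutatorElement_eq_one_iff_mul_comm.1 (hD1 _ (Subgroup.commutator_mem_commutator ha hb))
    have hinv : ∀ y ∈ T0, z * y * z = y⁻¹ := by
      intro y hy
      rw [← hgen] at hy
      have hy' : y ∈ T0 ∧ z * y * z = y⁻¹ := by
        induction hy using Subgroup.closure_induction with
        | mem x hx =>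
          obtain ⟨t, ht, rfl⟩ := hx
          refine ⟨mul_mem (inv_mem ht) (hz0 t ht), ?_⟩
          simp only [mul_inv_rev, hzi, inv_inv, mul_assoc]
          simp only [S.hz, mul_one]
        | one => exact ⟨one_mem _, by rw [mul_one, S.hz, inv_one]⟩
        | mul a b _ _ ha hb =>
          refine ⟨mul_mem ha.1 hb.1, ?_⟩
          calc z * (a * b) * z = z * a * (z * z) * b * z := by rw [S.hz]; group
            _ = (z * a * z) * (z * b * z) := by group
            _ = a⁻¹ * b⁻¹ := by rw [ha.2, hb.2]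
            _ = (a * b)⁻¹ := by rw [hab a ha.1 b hb.1, _root_.mul_inv_rev]
        | inv a _ ha =>
          refine ⟨inv_mem ha.1, ?_⟩
          rw [inv_inv, ← ha.2, show z * (z * a * z) * z = (z * z) * a * (z * z) by group, S.hz, one_mul,
            mul_one]
      exact hy'.2
    -- the commutator spaces
    let Wy : Γ → AddSubgroup V := fun y =>
      (AddMonoidHom.mk' (fun v : V => y • v - v) fun a b => by
        rw [smul_add, add_sub_add_comm]).range
    have hWz : ∀ y ∈ T0, ∀ w ∈ Wy y, z • w ∈ Wy y := by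
      rintro y hy _ ⟨v, rfl⟩
      refine ⟨-(y⁻¹ • z • v), ?_⟩
      show y • -(y⁻¹ • z • v) - -(y⁻¹ • z • v) = z • (y • v - v)
      have : z • y • v = y⁻¹ • z • v := by
        rw [← mul_smul, ← hinv y hy, ← mul_smul, mul_assoc (z * y) z z, S.hz, mul_one]
      rw [smul_sub, this, smul_neg, smul_inv_smul]
      abel
    have hWT : ∀ y ∈ T0, ∀ x ∈ T0, ∀ w ∈ Wy y, x • w ∈ Wy y := by
      rintro y hy x hx _ ⟨v, rfl⟩
      refine ⟨x • v, ?_⟩
      show y • x • v - x • v = x • (y • v - v)
      rw [smul_sub, ← mul_smul, hab y hy x hx, mul_smul]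
    have hfpf : ∀ y ∈ T0, ∀ w ∈ Wy y, y • w = w → w = 0 := by
      rintro y hy _ ⟨v, rfl⟩ hw
      exact sub_eq_zero.2 (hfree y hy v hw)
    have hsq : ∀ y ∈ T0, ∀ w ∈ Wy y, y • y • w = w → w = 0 := by
      intro y hy w hw h
      refine hfpf y hy w hw ?_
      have h2 : y ^ 2 ∈ MulAction.stabilizer Γ w := by
        rw [MulAction.mem_stabilizer_iff, pow_two, mul_smul, h]
      exact MulAction.mem_stabilizer_iff.1
        (mem_of_pow_two_pow_mem (k := 1) (odd_orderOf S.odd (hTL (hle hy))) (by rwa [pow_one]))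
    -- both eigenspaces have the same size, hence the whole natural module occurs
    let Np : AddSubgroup V :=
      { carrier := {v | z • v = -v}
        add_mem' := fun {a b} ha hb => by show z • (a + b) = -(a + b); rw [smul_add, ha, hb, neg_add]
        zero_mem' := by show z • (0 : V) = -0; rw [smul_zero, neg_zero]
        neg_mem' := fun {a} ha => by show z • -a = - -a; rw [smul_neg, ha] }
    let Pp : AddSubgroup V :=
      { carrier := {v | z • v = v}
        add_mem' := fun {a b} ha hb => by show z • (a + b) = a + b; rw [smul_add, ha, hb]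
        zero_mem' := smul_zero z
        neg_mem' := fun {a} ha => by show z • -a = -a; rw [smul_neg, ha] }
    have hNcard : Nat.card Np = 9 := by
      have hb : Function.Bijective (fun n : Np => S.φ (n : V)) := by
        refine ⟨fun a b hab => ?_, fun u => ?_⟩
        · refine Subtype.ext (sub_eq_zero.1 (S.inj _ ?_ ?_))
          · rw [smul_sub, a.2, b.2, neg_sub_neg, neg_sub]
          · rw [map_sub]; exact sub_eq_zero.2 hab
        · obtain ⟨n, hn, hnu⟩ := S.surj u
          exact ⟨⟨n, hn⟩, hnu⟩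
      rw [Nat.card_eq_of_bijective _ hb, Nat.card_eq_fintype_card, Fintype.card_fun,
        card_three S.two_ne hbig, Fintype.card_fin]
      norm_num
    have hWhalf : ∀ y ∈ T0, Nat.card ↥(Wy y ⊓ Pp) = Nat.card ↥(Wy y ⊓ Np) ∧
        Nat.card ↥(Wy y) = Nat.card ↥(Wy y ⊓ Np) * Nat.card ↥(Wy y ⊓ Np) := by
      intro y hy
      have hyi : ∀ w ∈ Wy y, y⁻¹ • w ∈ Wy y := fun w hw => hWT y hy _ (inv_mem hy) w hw
      have hzy : ∀ w : V, z • y • w = y⁻¹ • z • w := fun w => by
        rw [← mul_smul, ← hinv y hy, ← mul_smul, mul_assoc (z * y) z z, S.hz, mul_one]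
      have hzy' : ∀ w : V, z • y⁻¹ • w = y • z • w := fun w => by
        conv_rhs => rw [← S.zz_smul (y • z • w), hzy, S.zz_smul]
      have heq : Nat.card ↥(Wy y ⊓ Pp) = Nat.card ↥(Wy y ⊓ Np) := by
        have hinj : ∀ a ∈ Wy y, ∀ b ∈ Wy y, y • a - y⁻¹ • a = y • b - y⁻¹ • b → a = b := by
          intro a ha b hb h
          refine sub_eq_zero.1 (hsq y hy _ ((Wy y).sub_mem ha hb) ?_)
          have h' : y • (a - b) = y⁻¹ • (a - b) := by
            rw [smul_sub, smul_sub, sub_eq_sub_iff_sub_eq_sub]; exact h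
          rw [h', smul_inv_smul]
        refine le_antisymm ?_ ?_
        · refine Nat.card_le_card_of_injective (fun w : ↥(Wy y ⊓ Pp) =>
            (⟨y • (w : V) - y⁻¹ • (w : V), (Wy y).sub_mem (hWT y hy y hy _ w.2.1) (hyi _ w.2.1), by
              show z • _ = -_
              rw [smul_sub, hzy, hzy', w.2.2, neg_sub]⟩ : ↥(Wy y ⊓ Np))) fun a b h =>
            Subtype.ext (hinj _ a.2.1 _ b.2.1 (congrArg Subtype.val h))
        · refine Nat.card_le_card_of_injective (fun w : ↥(Wy y ⊓ Np) =>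
            (⟨y • (w : V) - y⁻¹ • (w : V), (Wy y).sub_mem (hWT y hy y hy _ w.2.1) (hyi _ w.2.1), by
              show z • _ = _
              rw [smul_sub, hzy, hzy', w.2.2, smul_neg, smul_neg, neg_sub_neg]⟩ : ↥(Wy y ⊓ Pp)))
            fun a b h => Subtype.ext (hinj _ a.2.1 _ b.2.1 (congrArg Subtype.val h))
      refine ⟨heq, ?_⟩
      let sp : ↥(Wy y ⊓ Pp) × ↥(Wy y ⊓ Np) → ↥(Wy y) := fun a =>
        ⟨(a.1 : V) + (a.2 : V), (Wy y).add_mem a.1.2.1 a.2.2.1⟩
      have hsp : Function.Bijective sp := by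
        constructor
        · rintro ⟨a, b⟩ ⟨a', b'⟩ h
          have h' : (a : V) + b = a' + b' := congrArg Subtype.val h
          have e1 : (a : V) - a' = b' - b := by rw [sub_eq_sub_iff_add_eq_add, h', add_comm]
          have e2 : (a : V) - a' = 0 := S.both (by rw [smul_sub, a.2.2, a'.2.2])
            (by rw [e1, smul_sub, b.2.2, b'.2.2, neg_sub_neg, neg_sub])
          rw [e2] at e1
          exact Prod.ext (Subtype.ext (sub_eq_zero.1 e2)) (Subtype.ext (sub_eq_zero.1 e1.symm).symm)
        · rintro ⟨w, hw⟩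
          refine ⟨(⟨w - (z • w - w), (Wy y).sub_mem hw ((Wy y).sub_mem (hWz y hy w hw) hw),
            S.plus_mem w⟩, ⟨z • w - w, (Wy y).sub_mem (hWz y hy w hw) hw, S.pr_mem w⟩),
            Subtype.ext ?_⟩
          show w - (z • w - w) + (z • w - w) = w
          abel
      rw [← Nat.card_eq_of_bijective sp hsp, Nat.card_prod, heq]
    have hNle : ∀ y ∈ T0, y ≠ 1 → Np ≤ Wy y ∧ Nat.card ↥(Wy y) = 81 := by
      intro y hy hy1
      obtain ⟨hhalf, hfull⟩ := hWhalf y hy
      set c := Nat.card ↥(Wy y ⊓ Np) with hcdef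
      obtain ⟨i, hi, hci⟩ : ∃ i ≤ 2, c = 3 ^ i := (Nat.dvd_prime_pow Nat.prime_three).1 (by
        rw [show 3 ^ 2 = Nat.card Np from hNcard.symm]
        exact AddSubgroup.card_dvd_of_le inf_le_right)
      interval_cases i
      · exfalso
        refine hy1 (eq_of_smul_eq_smul fun v : V => ?_)
        rw [one_smul]
        rw [hci, pow_zero, mul_one] at hfull
        have hb : Wy y = ⊥ := AddSubgroup.eq_bot_of_card_eq _ hfull
        exact sub_eq_zero.1 (AddSubgroup.mem_bot.1 (hb.le ⟨v, rfl⟩))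
      · exfalso
        -- an element of order `r` acts freely on a module with nine elements
        obtain ⟨y', hy', hy'r, hy'le⟩ : ∃ y' ∈ T0, orderOf y' = r ∧ ∃ j : ℕ, y' = y ^ j := by
          obtain ⟨k, hk⟩ := hp0 ⟨y, hy⟩
          obtain ⟨m, -, hm⟩ := (Nat.dvd_prime_pow hr.out).1
            (orderOf_dvd_of_pow_eq_one (congrArg Subtype.val hk : y ^ r ^ k = 1))
          have hm0 : m ≠ 0 := by
            rintro rfl
            exact hy1 (orderOf_eq_one_iff.1 (by rw [hm, pow_zero]))
          refine ⟨y ^ r ^ (m - 1), pow_mem hy _, ?_, _, rfl⟩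
          rw [orderOf_pow_of_dvd (pow_ne_zero _ hr.out.ne_zero)
            (hm ▸ pow_dvd_pow r (Nat.sub_le m 1)), hm, Nat.pow_div (Nat.sub_le m 1) hr.out.pos,
            show m - (m - 1) = 1 by omega, pow_one]
        obtain ⟨j, hj⟩ := hy'le
        have hsub : Wy y' ≤ Wy y := by
          rintro _ ⟨v, rfl⟩
          show y' • v - v ∈ Wy y
          rw [hj]
          clear hj
          induction j with
          | zero => rw [pow_zero, one_smul, sub_self]; exact (Wy y).zero_mem
          | succ j ih =>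
            rw [pow_succ', mul_smul, show y • y ^ j • v - v =
              (y • y ^ j • v - y ^ j • v) + (y ^ j • v - v) by abel]
            exact (Wy y).add_mem ⟨y ^ j • v, rfl⟩ ih
        obtain ⟨hhalf', hfull'⟩ := hWhalf y' hy'
        obtain ⟨i', hi', hci'⟩ : ∃ i' ≤ 1, Nat.card ↥(Wy y' ⊓ Np) = 3 ^ i' :=
          (Nat.dvd_prime_pow Nat.prime_three).1 (by
            rw [← hci]; exact AddSubgroup.card_dvd_of_le (inf_le_inf_right _ hsub))
        rcases Nat.le_one_iff_eq_zero_or_eq_one.1 hi' with rfl | rfl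
        · rw [hci', pow_zero, mul_one] at hfull'
          have hb : Wy y' = ⊥ := AddSubgroup.eq_bot_of_card_eq _ hfull'
          have : y' = 1 := eq_of_smul_eq_smul fun v : V => by
            rw [one_smul]
            exact sub_eq_zero.1 (AddSubgroup.mem_bot.1 (hb.le ⟨v, rfl⟩))
          rw [this, orderOf_one] at hy'r
          exact hr.out.one_lt.ne hy'r
        · letI : MulAction ↥(Subgroup.zpowers y') ↥(Wy y') :=
            { smul := fun g w => ⟨(g : Γ) • (w : V), hWT y' hy' _
                (Subgroup.zpowers_le.2 hy' g.2) _ w.2⟩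
              one_smul := fun w => Subtype.ext (one_smul Γ (w : V))
              mul_smul := fun a b w => Subtype.ext (mul_smul (a : Γ) (b : Γ) (w : V)) }
          have hP : IsPGroup r ↥(Subgroup.zpowers y') :=
            IsPGroup.of_card (n := 1) (by rw [Nat.card_zpowers, hy'r, pow_one])
          have hmod := hP.card_modEq_card_fixedPoints ↥(Wy y')
          have hfx : Nat.card (MulAction.fixedPoints ↥(Subgroup.zpowers y') ↥(Wy y')) = 1 := by
            rw [Nat.card_eq_one_iff_unique]
            refine ⟨⟨fun a b => Subtype.ext (Subtype.ext ?_)⟩, ⟨⟨0, fun g => Subtype.ext (smul_zero _)⟩⟩⟩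
            have ha := congrArg Subtype.val (a.2 ⟨y', Subgroup.mem_zpowers _⟩)
            have hb := congrArg Subtype.val (b.2 ⟨y', Subgroup.mem_zpowers _⟩)
            exact (hfpf y' hy' _ a.1.2 ha).trans (hfpf y' hy' _ b.1.2 hb).symm
          rw [hfx, hfull', hci'] at hmod
          have h8 : r ∣ 8 := by simpa using (Nat.modEq_iff_dvd' (by norm_num)).1 hmod.symm
          have h2 : r ∣ 2 := hr.out.dvd_of_dvd_pow (n := 3) (by simpa using h8)
          have hr2 : r = 2 := (Nat.prime_dvd_prime_iff_eq hr.out Nat.prime_two).1 h2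
          exact Nat.not_even_iff_odd.2 (odd_orderOf S.odd (hTL (hle hy'))) (by
            rw [hy'r, hr2]; exact even_two)
      · refine ⟨?_, by rw [hfull, hci]; norm_num⟩
        have e : Wy y ⊓ Np = Np := SetLike.coe_injective (Set.eq_of_subset_of_ncard_le
          (inf_le_right : Wy y ⊓ Np ≤ Np) (by
            rw [← Nat.card_coe_set_eq, ← Nat.card_coe_set_eq]
            exact (hNcard.trans (show 9 = c by rw [hci]; norm_num)).le))
        exact e.ge.trans inf_le_left
    obtain ⟨x, hx, hxz⟩ := hnc0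
    have hx1 : x ≠ 1 := fun h => hxz (by rw [h, one_mul, mul_one])
    -- the action on the commutator space of `x` is free
    have hfree81 : ∀ y ∈ T0, y ≠ 1 → ∀ w ∈ Wy x, y • w = w → w = 0 := by
      intro y hy hy1 w hw hyw
      have hX : ∀ u ∈ Wy x, y • u = u → z • u = u := by
        intro u hu hyu
        have hn : z • u - u ∈ Wy x := (Wy x).sub_mem (hWz x hx u hu) hu
        have hfixn : y • (z • u - u) = z • u - u := by
          rw [smul_sub, hyu, show y • z • u = z • u by
            rw [← mul_smul, show y * z = z * y⁻¹ by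
              rw [← hinv y hy, ← mul_assoc, ← mul_assoc, S.hz, one_mul], mul_smul]
            conv_lhs => rw [← hyu, inv_smul_smul]]
        exact sub_eq_zero.1 (hfpf y hy _ ((hNle y hy hy1).1 (S.pr_mem u)) hfixn)
      have hzw := hX w hw hyw
      have hxw : x • w ∈ Wy x := hWT x hx x hx w hw
      have hzxw := hX (x • w) hxw (by rw [← mul_smul, hab y hy x hx, mul_smul, hyw])
      refine hsq x hx w hw ?_
      have : x⁻¹ • w = x • w := by
        rw [← hinv x hx, mul_smul, mul_smul, hzw, hzxw]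
      rw [← this, smul_inv_smul]
    -- so `T0` has order five
    have h5 : Nat.card T0 = 5 := by
      classical
      letI : MulAction ↥T0 ↥(Wy x) :=
        { smul := fun g w => ⟨(g : Γ) • (w : V), hWT x hx _ g.2 _ w.2⟩
          one_smul := fun w => Subtype.ext (one_smul Γ (w : V))
          mul_smul := fun a b w => Subtype.ext (mul_smul (a : Γ) (b : Γ) (w : V)) }
      letI : Fintype ↥T0 := Fintype.ofFinite _
      letI : ∀ a : ↥T0, Fintype (MulAction.fixedBy ↥(Wy x) a) := fun a => Fintype.ofFinite _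
      letI : Fintype (Quotient (MulAction.orbitRel ↥T0 ↥(Wy x))) := Fintype.ofFinite _
      have hb := MulAction.sum_card_fixedBy_eq_card_orbits_mul_card_group ↥T0 ↥(Wy x)
      rw [Finset.sum_eq_add_sum_sdiff_singleton_of_mem (Finset.mem_univ (1 : ↥T0))] at hb
      have h1 : Fintype.card (MulAction.fixedBy ↥(Wy x) (1 : ↥T0)) = 81 := by
        rw [← (hNle x hx hx1).2, ← Nat.card_eq_fintype_card]
        exact Nat.card_congr (Equiv.subtypeUnivEquiv fun w => one_smul _ w)
      have h2 : ∀ g ∈ (Finset.univ : Finset ↥T0) \ {1},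
          Fintype.card (MulAction.fixedBy ↥(Wy x) g) = 1 := fun g hg => by
        rw [Finset.mem_sdiff, Finset.mem_singleton] at hg
        rw [Fintype.card_eq_one_iff]
        refine ⟨⟨0, Subtype.ext (smul_zero _)⟩, fun w => Subtype.ext (Subtype.ext ?_)⟩
        exact hfree81 g g.2 (fun e => hg.2 (Subtype.ext e)) _ w.1.2 (congrArg Subtype.val w.2)
      rw [h1, Finset.sum_congr rfl h2, Finset.sum_const, smul_eq_mul, mul_one,
        Finset.card_sdiff_of_subset (Finset.subset_univ _), Finset.card_univ,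
        Finset.card_singleton, ← Nat.card_eq_fintype_card] at hb
      have hd : Nat.card T0 ∣ 80 := by
        have hpos : 0 < Nat.card T0 := Nat.card_pos
        have h' : 80 + Nat.card T0 = Fintype.card (Quotient (MulAction.orbitRel ↥T0 ↥(Wy x))) *
            Nat.card T0 := by omega
        exact (Nat.dvd_add_self_right).1 (h' ▸ dvd_mul_left _ _)
      obtain ⟨k, hk⟩ := IsPGroup.iff_card.1 hp0
      have hk0 : k ≠ 0 := by
        rintro rfl
        rw [pow_zero, Subgroup.card_eq_one] at hk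
        rw [hk, Subgroup.mem_bot] at hx
        exact hx1 hx
      have hodd : Odd r := by
        have := S.odd.of_dvd_nat (Subgroup.card_dvd_of_le (hle.trans hTL))
        rw [hk] at this
        exact (Nat.odd_pow_iff hk0).1 this
      have hr80 : r ∣ 80 := (dvd_pow_self r hk0).trans (hk ▸ hd)
      have hr5 : r = 5 := by
        rcases (Nat.Prime.dvd_mul hr.out).1 (show r ∣ 2 ^ 4 * 5 by norm_num; exact hr80) with h | h
        · have := (Nat.prime_dvd_prime_iff_eq hr.out Nat.prime_two).1 (hr.out.dvd_of_dvd_pow h)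
          rw [this] at hodd
          exact absurd even_two (Nat.not_even_iff_odd.2 hodd)
        · exact (Nat.prime_dvd_prime_iff_eq hr.out (by norm_num)).1 h
      rw [hk, hr5] at hd ⊢
      have : k ≤ 1 := by
        by_contra hk1
        have h25 : 5 ^ 2 ∣ 80 := (pow_dvd_pow 5 (by omega : 2 ≤ k)).trans hd
        norm_num at h25
      rw [show k = 1 by omega, pow_one]
    -- a cyclic group has abelian automorphisms
    haveI : Fact (Nat.Prime 5) := ⟨by norm_num⟩
    haveI : IsCyclic ↥T0 := isCyclic_of_prime_card (p := 5) h5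
    have hhom : ∀ e ∈ E, ∃ m : ℤ, ∀ y ∈ T0, e * y * e⁻¹ = y ^ m := by
      intro e he
      have hm : ∀ y : ↥T0, e * (y : Γ) * e⁻¹ ∈ T0 := fun y => (hE e he).le (conj_mem_cj y.2)
      let f : ↥T0 →* ↥T0 := MonoidHom.mk' (fun y => ⟨_, hm y⟩) fun a b => Subtype.ext (by
        show e * ((a : Γ) * b) * e⁻¹ = e * a * e⁻¹ * (e * b * e⁻¹)
        group)
      obtain ⟨m, hm'⟩ := MonoidHom.map_cyclic f
      exact ⟨m, fun y hy => congrArg Subtype.val (hm' ⟨y, hy⟩)⟩
    obtain ⟨i, hi⟩ := S.exists_pre jj (jj_mem S.good)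
    obtain ⟨k, hk⟩ := S.exists_pre (xx S.char) (xx_mem S.char)
    have hzc : z = (i : Γ) * k * (i : Γ)⁻¹ * (k : Γ)⁻¹ := by
      have : S.ρ ⟨z, S.zE⟩ = S.ρ (i * k * i⁻¹ * k⁻¹) := by
        rw [map_mul, map_mul, map_mul, map_inv, map_inv, hi, hk, S.rho_z, eq_comm,
          mul_inv_eq_iff_eq_mul, mul_inv_eq_iff_eq_mul]
        refine Subtype.ext ?_
        ext a b
        fin_cases a <;> fin_cases b <;>
          simp [coe_jj, coe_xx, Matrix.SpecialLinearGroup.coe_mul, Matrix.mul_apply,
            Fin.sum_univ_two]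
      exact congrArg Subtype.val (S.rho_injective this)
    obtain ⟨a, ha⟩ := hhom i i.2
    obtain ⟨b, hb⟩ := hhom k k.2
    have hik : ∀ y ∈ T0, (i : Γ) * ((k : Γ) * y * (k : Γ)⁻¹) * (i : Γ)⁻¹ =
        (k : Γ) * ((i : Γ) * y * (i : Γ)⁻¹) * (k : Γ)⁻¹ := fun y hy => by
      rw [hb y hy, ha y hy, ha _ (zpow_mem hy b), hb _ (zpow_mem hy a), ← zpow_mul, ← zpow_mul,
        mul_comm]
    refine hxz ?_
    set y := (i : Γ)⁻¹ * ((k : Γ)⁻¹ * x * k) * i with hy
    have hyT : y ∈ T0 := by
      have h1 : (k : Γ)⁻¹ * x * k ∈ T0 := by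
        have := (hE _ (inv_mem k.2)).le (conj_mem_cj hx)
        rwa [inv_inv] at this
      have := (hE _ (inv_mem i.2)).le (conj_mem_cj h1)
      rwa [inv_inv] at this
    have h := hik y hyT
    have e2 : (k : Γ) * ((i : Γ) * y * (i : Γ)⁻¹) * (k : Γ)⁻¹ = x := by rw [hy]; group
    rw [e2] at h
    have : z * x * z⁻¹ = x := by
      conv_rhs => rw [← h]
      rw [hzc, hy]
      group
    exact mul_inv_eq_iff_eq_mul.1 this

/-- `z` centralizes `L`. -/
theorem centralizes (l : Γ) (hl : l ∈ L) : z * l = l * z := by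
  have hmem : ∀ l ∈ L, (z * l = l * z ↔ l ∈ L ⊓ Subgroup.centralizer {z}) := fun l hl =>
    ⟨fun h => ⟨hl, Subgroup.mem_centralizer_singleton_iff.2 h.symm⟩,
      fun h => (Subgroup.mem_centralizer_singleton_iff.1 h.2).symm⟩
  suffices h : L ⊓ Subgroup.centralizer {z} = L from (hmem l hl).2 (by rw [h]; exact hl)
  refine eq_of_le_of_card_le' inf_le_left (Nat.le_of_dvd Nat.card_pos ?_)
  refine (Nat.dvd_iff_prime_pow_dvd_dvd _ _).2 fun r k hr hrk => ?_
  haveI : Fact r.Prime := ⟨hr⟩
  obtain ⟨T, hT, hTE⟩ := S.exists_sylow r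
  have hTc : T ≤ L ⊓ Subgroup.centralizer {z} := fun t ht => (hmem t (hT.le ht)).1 (by
    by_cases h3 : r = 3
    · subst h3; exact S.sylow_three T hT.le hT.isPGroup hTE t ht
    · exact S.sylow_other r h3 T hT.le hT.isPGroup hTE t ht)
  refine dvd_trans ?_ (Subgroup.card_dvd_of_le hTc)
  have hprod : Nat.card T * T.relIndex L = Nat.card L := by
    rw [← Nat.card_congr (Subgroup.subgroupOfEquivOfLe hT.le).toEquiv]
    exact Subgroup.card_mul_index (T.subgroupOf L)
  have hcop : (r ^ k).Coprime (T.relIndex L) :=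
    Nat.Coprime.pow_left k ((Nat.Prime.coprime_iff_not_dvd hr).2 hT.2.2)
  exact hcop.dvd_of_dvd_mul_right (hprod ▸ hrk)

end Setup

end CfsgLib.BlockOddLinear
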