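import Cfsg.Agent.LocalB.BlockExcIsolated
import Cfsg.Agent.LocalB.BlockOddLinear
import Cfsg.Agent.ZStar.Final

/-!
For an exceptional block, `[E, C_G(W_E)] ≤ P`.
-/

set_option autoImplicit false
set_option linter.style.haveILetI false
set_option linter.unusedSectionVars false

namespace CfsgLib.BlockExc

open Subgroup CfsgLib.Functor CfsgLib.BlockSL2 CfsgLib.BlockModule CfsgLib.BlockSection
  CfsgLib.BlockBasic
open scoped CfsgLib.Functor commutatorElement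

universe u

variable {G : Type u} [Group G] [Finite G]

/-- The module `P / K` of a group normalizing `Φ(P) ≤ K ≤ P`. -/
theorem exists_module {p : ℕ} [Fact p.Prime] (P K H : Subgroup G) (hP : IsPGroup p ↥P)
    (hK : K ≤ P) (hΦ : (frattini ↥P).map P.subtype ≤ K)
    (hHP : H ≤ normalizer (P : Set G)) (hHK : H ≤ normalizer (K : Set G)) :
    ∃ (V : Type u) (_ : AddCommGroup V) (_ : Finite V) (χ : ↥H →* (AddMonoid.End V)ˣ)
      (cls : G → V), (∀ v : V, p • v = 0) ∧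
      (∀ a ∈ P, ∀ b ∈ P, cls (a * b) = cls a + cls b) ∧
      (∀ v, ∃ a ∈ P, cls a = v) ∧ (∀ a ∈ P, (cls a = 0 ↔ a ∈ K)) ∧
      ∀ (h : ↥H), ∀ a ∈ P, (χ h : AddMonoid.End V) (cls a) = cls ((h : G) * a * (h : G)⁻¹) := by
  classical
  set N := K.subgroupOf P with hN
  have hmem : ∀ v : ↥P, v ∈ frattini ↥P → v ∈ N := fun v hv => hΦ ⟨v, hv, rfl⟩
  have hcom : _root_.commutator ↥P ≤ N := fun v hv =>
    hmem v ((CfsgLib.PGroupBasic.commutator_pow_le_frattini hP).1 hv)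
  have hcomm : ∀ a b : ↥P, ⁅a, b⁆ ∈ N := fun a b => hcom (by
    rw [_root_.commutator_def]; exact commutator_mem_commutator (mem_top _) (mem_top _))
  haveI hn : N.Normal := ⟨fun n hn g => by
    have := mul_mem (hcomm g n) hn
    rwa [commutatorElement_def, inv_mul_cancel_right] at this⟩
  letI : CommGroup (↥P ⧸ N) :=
    { (inferInstance : Group (↥P ⧸ N)) with
      mul_comm := by
        intro x y
        obtain ⟨a, rfl⟩ := QuotientGroup.mk'_surjective N x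
        obtain ⟨b, rfl⟩ := QuotientGroup.mk'_surjective N y
        rw [← map_mul, ← map_mul, QuotientGroup.mk'_apply, QuotientGroup.mk'_apply,
          QuotientGroup.eq]
        rw [show (a * b)⁻¹ * (b * a) = ⁅b⁻¹, a⁻¹⁆ by rw [commutatorElement_def]; group]
        exact hcomm _ _ }
  let cls : G → Additive (↥P ⧸ N) := fun a =>
    if h : a ∈ P then Additive.ofMul (QuotientGroup.mk' N ⟨a, h⟩) else 0
  have hcls : ∀ a (h : a ∈ P), cls a = Additive.ofMul (QuotientGroup.mk' N ⟨a, h⟩) := fun a h => dif_pos h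
  have hsurj : ∀ v, ∃ a ∈ P, cls a = v := fun v => by
    obtain ⟨a, ha⟩ := QuotientGroup.mk'_surjective N (Additive.toMul v)
    exact ⟨a, a.2, by rw [hcls _ a.2]; exact congrArg Additive.ofMul ha⟩
  have hadd : ∀ a ∈ P, ∀ b ∈ P, cls (a * b) = cls a + cls b := fun a ha b hb => by
    rw [hcls a ha, hcls b hb, hcls _ (mul_mem ha hb), ← ofMul_mul, ← map_mul]
    rfl
  have hzero : ∀ a ∈ P, (cls a = 0 ↔ a ∈ K) := fun a ha => by
    rw [hcls a ha, ofMul_eq_zero, QuotientGroup.mk'_apply, QuotientGroup.eq_one_iff]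
    rfl
  have hdep : ∀ (h : ↥H), ∀ a ∈ P, ∀ b ∈ P, cls a = cls b →
      cls ((h : G) * a * (h : G)⁻¹) = cls ((h : G) * b * (h : G)⁻¹) := by
    intro h a ha b hb hab
    have hb' : a⁻¹ * b ∈ K := (hzero _ (mul_mem (inv_mem ha) hb)).1 (by
      have h1 := hadd a ha _ (mul_mem (inv_mem ha) hb)
      rw [mul_inv_cancel_left, hab] at h1
      exact left_eq_add.1 h1)
    have hm := (mem_normalizer_iff.1 (hHP h.2) a).1 ha
    rw [show (h : G) * b * (h : G)⁻¹ =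
      (h : G) * a * (h : G)⁻¹ * ((h : G) * (a⁻¹ * b) * (h : G)⁻¹) by group,
      hadd _ hm _ ((mem_normalizer_iff.1 (hHP h.2) _).1 (hK hb')),
      (hzero _ ((mem_normalizer_iff.1 (hHP h.2) _).1 (hK hb'))).2
        ((mem_normalizer_iff.1 (hHK h.2) _).1 hb'), add_zero]
  choose lift hliftP hlift using hsurj
  let g : ↥H →* AddMonoid.End (Additive (↥P ⧸ N)) :=
    { toFun := fun h => AddMonoidHom.mk' (fun v => cls ((h : G) * lift v * (h : G)⁻¹)) fun v w => by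
        have hv := (mem_normalizer_iff.1 (hHP h.2) _).1 (hliftP v)
        have hw := (mem_normalizer_iff.1 (hHP h.2) _).1 (hliftP w)
        rw [hdep h _ (hliftP (v + w)) _ (mul_mem (hliftP v) (hliftP w))
          (by rw [hlift, hadd _ (hliftP v) _ (hliftP w), hlift, hlift]), ← hadd _ hv _ hw]
        congr 1; group
      map_one' := AddMonoidHom.ext fun v => by
        show cls (((1 : ↥H) : G) * lift v * ((1 : ↥H) : G)⁻¹) = v
        simp [hlift]
      map_mul' := fun a b => AddMonoidHom.ext fun v => by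
        show cls (((a * b : ↥H) : G) * lift v * ((a * b : ↥H) : G)⁻¹) =
          cls ((a : G) * lift (cls ((b : G) * lift v * (b : G)⁻¹)) * (a : G)⁻¹)
        have hb := (mem_normalizer_iff.1 (hHP b.2) _).1 (hliftP v)
        rw [hdep a _ (hliftP _) _ hb (hlift _), Subgroup.coe_mul]
        congr 1; group }
  refine ⟨Additive (↥P ⧸ N), inferInstance, inferInstance, g.toHomUnits, cls, fun v => ?_, hadd,
    fun v => ⟨lift v, hliftP v, hlift v⟩, hzero, fun h a ha => ?_⟩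
  · obtain ⟨a, ha⟩ := QuotientGroup.mk'_surjective N (Additive.toMul v)
    rw [← ofMul_toMul v, ← ha, ← ofMul_pow, ← map_pow, ofMul_eq_zero, QuotientGroup.mk'_apply,
      QuotientGroup.eq_one_iff]
    exact hmem _ ((CfsgLib.PGroupBasic.commutator_pow_le_frattini hP).2 a)
  · show cls ((h : G) * lift (cls a) * (h : G)⁻¹) = _
    exact hdep h _ (hliftP _) a ha (hlift _)

namespace Exc

variable {T : Sylow 3 G} {E : Subgroup G} {F : Type} [Field F] [Fintype F] (X : Exc T E F)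

include X

/-- The group generated by `[z, C]` and `P`. -/
def Ls : Subgroup G :=
  Subgroup.closure {x | ∃ c ∈ Cm 3 E, x = X.z * c * X.z⁻¹ * c⁻¹} ⊔ Pm 3 E

theorem z_comm_mem {c : G} (hc : c ∈ Cm 3 E) : X.z * c * X.z⁻¹ * c⁻¹ ∈ X.Ls :=
  mem_sup_left (subset_closure ⟨c, hc, rfl⟩)

theorem zC {c : G} (hc : c ∈ Cm 3 E) : X.z * c * X.z⁻¹ ∈ Cm 3 E :=
  (mem_normalizer_iff.1 (normalizer_E_le_C E (le_normalizer X.zE)) c).1 hc

theorem Ls_le : X.Ls ≤ Cm 3 E :=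
  sup_le ((closure_le _).2 (by
    rintro _ ⟨c, hc, rfl⟩
    exact (Cm 3 E).mul_mem (X.zC hc) ((Cm 3 E).inv_mem hc))) (P_le_C E)

theorem C_norm_Ls : Cm 3 E ≤ normalizer (X.Ls : Set G) := fun a ha => by
  rw [mem_normalizer_iff_cj]
  refine eq_of_le_of_card_le' ?_ (card_cj _ _).ge
  rw [Ls, Subgroup.map_sup, sup_le_iff]
  refine ⟨?_, (mem_normalizer_iff_cj.1 (C_le_normalizer_P E ha)).le.trans le_sup_right⟩
  rw [MonoidHom.map_closure, closure_le]
  rintro _ ⟨_, ⟨c, hc, rfl⟩, rfl⟩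
  show a * (X.z * c * X.z⁻¹ * c⁻¹) * a⁻¹ ∈ X.Ls
  rw [show a * (X.z * c * X.z⁻¹ * c⁻¹) * a⁻¹ =
    (X.z * a * X.z⁻¹ * a⁻¹)⁻¹ * (X.z * (a * c) * X.z⁻¹ * (a * c)⁻¹) by group]
  exact mul_mem (inv_mem (X.z_comm_mem ha)) (X.z_comm_mem ((Cm 3 E).mul_mem ha hc))

section

variable (hG : centralizer (Cfsg.pCore 3 G : Set G) ≤ Cfsg.pCore 3 G)
  (hnle : ¬ ⁅Pm 3 E, E⁆ ≤ Wm 3 E)

include hG hnle

theorem E_norm_Ls : E ≤ normalizer (X.Ls : Set G) := fun e he => by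
  rw [mem_normalizer_iff_cj]
  refine eq_of_le_of_card_le' ?_ (card_cj _ _).ge
  rw [Ls, Subgroup.map_sup, sup_le_iff]
  refine ⟨?_, (mem_normalizer_iff_cj.1 (normalizer_E_le_P E (le_normalizer he))).le.trans le_sup_right⟩
  rw [MonoidHom.map_closure, closure_le]
  rintro _ ⟨_, ⟨c, hc, rfl⟩, rfl⟩
  show e * (X.z * c * X.z⁻¹ * c⁻¹) * e⁻¹ ∈ X.Ls
  set c' := e * c * e⁻¹ with hc'
  have hc'C : c' ∈ Cm 3 E :=
    (mem_normalizer_iff.1 (normalizer_E_le_C E (le_normalizer he)) c).1 hc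
  set r := (X.z * e * X.z⁻¹ * e⁻¹)⁻¹ with hr
  have hrP : r ∈ Pm 3 E := inv_mem (X.Q_le_P hG hnle (X.conj_zQ he))
  rw [show e * (X.z * c * X.z⁻¹ * c⁻¹) * e⁻¹ =
    r * (X.z * c' * X.z⁻¹ * c'⁻¹) * (c' * r⁻¹ * c'⁻¹) by rw [hr, hc']; group]
  exact mul_mem (mul_mem (mem_sup_right hrP) (X.z_comm_mem hc'C))
    (mem_sup_right ((mem_normalizer_iff.1 (C_le_normalizer_P E hc'C) _).1 (inv_mem hrP)))

theorem odd_Ls : Odd (Nat.card ↥X.Ls) := by
  set M := Cm 3 E ⊔ zpowers X.z with hM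
  have hzM : X.z ∈ M := mem_sup_right (mem_zpowers _)
  haveI : ((Pm 3 E).subgroupOf M).Normal := Subgroup.normal_subgroupOf_iff_le_normalizer
    ((P_le_C E).trans le_sup_left) |>.2 (sup_le (C_le_normalizer_P E) (zpowers_le.2 X.z_norm_P))
  let π : ↥M →* ↥M ⧸ (Pm 3 E).subgroupOf M := QuotientGroup.mk' _
  have hπ : ∀ m : ↥M, π m = 1 ↔ (m : G) ∈ Pm 3 E := fun m => QuotientGroup.eq_one_iff m
  set a := π ⟨X.z, hzM⟩
  have ha2 : a * a = 1 := by
    rw [← map_mul, show (⟨X.z, hzM⟩ : ↥M) * ⟨X.z, hzM⟩ = 1 from Subtype.ext X.hz, map_one]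
  have ha1 : a ≠ 1 := fun h => by
    obtain ⟨k, hk⟩ := isPGroup_P (p := 3) E ⟨X.z, (hπ _).1 h⟩
    have hk' : X.z ^ 3 ^ k = 1 := congrArg Subtype.val hk
    have hz1 : X.z = 1 := by
      obtain ⟨j, hj⟩ := Odd.pow (n := k) (show Odd 3 from ⟨1, rfl⟩)
      rwa [hj, pow_succ, pow_mul, pow_two, X.hz, one_pow, one_mul] at hk'
    exact X.z_ne (hz1 ▸ one_mem _)
  have hiso : Cfsg.IsIsolatedInvolution a := by
    refine ⟨orderOf_eq_prime (by rw [pow_two, ha2]) ha1, fun g hg => ?_⟩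
    obtain ⟨⟨m, hm⟩, rfl⟩ := QuotientGroup.mk'_surjective _ g
    have hn : zpowers X.z ≤ normalizer (Cm 3 E : Set G) :=
      zpowers_le.2 (normalizer_E_le_C E (le_normalizer X.zE))
    have hm' := hm
    rw [hM, sup_comm, CfsgLib.Solvable.mem_sup_of_le_normalizer hn] at hm'
    obtain ⟨_, ⟨i, rfl⟩, c, hc, rfl⟩ := hm'
    set c' := X.z ^ i * c * (X.z ^ i)⁻¹ with hc'
    have hc'C : c' ∈ Cm 3 E := (mem_normalizer_iff.1 (hn ⟨i, rfl⟩) c).1 hc
    set cM : ↥M := ⟨c', mem_sup_left hc'C⟩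
    have hconj : π ⟨X.z ^ i * c, hm⟩ * a * (π ⟨X.z ^ i * c, hm⟩)⁻¹ =
        π (cM * ⟨X.z, hzM⟩ * cM⁻¹) := by
      rw [← map_inv, ← map_mul, ← map_mul]
      congr 1
      refine Subtype.ext ?_
      show X.z ^ i * c * X.z * (X.z ^ i * c)⁻¹ = c' * X.z * c'⁻¹
      rw [hc']
      have : Commute X.z (X.z ^ i) := Commute.self_zpow X.z i
      calc X.z ^ i * c * X.z * (X.z ^ i * c)⁻¹ = X.z ^ i * c * X.z * c⁻¹ * (X.z ^ i)⁻¹ := by group
        _ = _ := by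
          rw [show X.z ^ i * c * (X.z ^ i)⁻¹ * X.z * (X.z ^ i * c * (X.z ^ i)⁻¹)⁻¹ =
            X.z ^ i * c * ((X.z ^ i)⁻¹ * X.z * (X.z ^ i)) * c⁻¹ * (X.z ^ i)⁻¹ by group,
            show (X.z ^ i)⁻¹ * X.z * X.z ^ i = X.z by rw [mul_assoc, this.eq, inv_mul_cancel_left]]
    rw [hconj] at hg ⊢
    have hy : c' * X.z * c'⁻¹ * X.z ∈ X.Cz := by
      refine ⟨?_, ?_⟩
      · have := (Cm 3 E).mul_mem hc'C (X.zC ((Cm 3 E).inv_mem hc'C))
        rwa [X.z_inv, ← mul_assoc, ← mul_assoc] at this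
      · have h1 : π (⟨X.z, hzM⟩ * (cM * ⟨X.z, hzM⟩ * cM⁻¹) * (⟨X.z, hzM⟩)⁻¹ *
            (cM * ⟨X.z, hzM⟩ * cM⁻¹)⁻¹) = 1 := by
          rw [map_mul, map_mul, map_inv, map_inv, map_mul π ⟨X.z, hzM⟩]
          rw [hg.eq, mul_inv_cancel_right, mul_inv_cancel]
        have h2 := (hπ _).1 h1
        convert h2 using 1
        show X.z * (c' * X.z * c'⁻¹ * X.z) * X.z⁻¹ * (c' * X.z * c'⁻¹ * X.z)⁻¹ =
          X.z * (c' * X.z * c'⁻¹) * X.z⁻¹ * (c' * X.z * c'⁻¹)⁻¹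
        simp [mul_assoc, X.z_inv]
        rw [← mul_assoc, X.hz, one_mul]
    have h3 : π (cM * ⟨X.z, hzM⟩ * cM⁻¹ * ⟨X.z, hzM⟩) = 1 :=
      (hπ _).2 (X.isolated hG hnle hc'C hy)
    rw [map_mul _ _ (⟨X.z, hzM⟩ : ↥M)] at h3
    exact (mul_eq_one_iff_eq_inv.1 h3).trans (inv_eq_of_mul_eq_one_right ha2)
  obtain ⟨N, hN, hNodd, hNc⟩ := CfsgLib.ZStar.zstar hiso
  set N' := (N.comap π).map M.subtype
  have hodd : Odd (Nat.card ↥N') := by
    rw [← Nat.card_congr ((N.comap π).equivMapOfInjective M.subtype M.subtype_injective).toEquiv,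
      show Nat.card ↥(N.comap π) = Nat.card ↥((Pm 3 E).subgroupOf M) * Nat.card ↥N from
        QuotientGroup.card_preimage_mk ((Pm 3 E).subgroupOf M)
          (N : Set (↥M ⧸ (Pm 3 E).subgroupOf M))]
    refine Odd.mul ?_ hNodd
    rw [Nat.card_congr (subgroupOfEquivOfLe ((P_le_C E).trans le_sup_left)).toEquiv]
    obtain ⟨k, hk⟩ := IsPGroup.iff_card.1 (isPGroup_P (p := 3) E)
    rw [hk]; exact Odd.pow ⟨1, rfl⟩
  refine hodd.of_dvd_nat (Subgroup.card_dvd_of_le (sup_le ((closure_le _).2 ?_) fun u hu => ?_))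
  · rintro _ ⟨c, hc, rfl⟩
    refine ⟨⟨X.z, hzM⟩ * ⟨c, mem_sup_left hc⟩ * (⟨X.z, hzM⟩ : ↥M)⁻¹ *
      (⟨c, mem_sup_left hc⟩ : ↥M)⁻¹, ?_, rfl⟩
    show π _ ∈ N
    rw [map_mul, map_mul, map_mul, map_inv, map_inv]
    exact hNc _
  · refine ⟨⟨u, mem_sup_left (P_le_C E hu)⟩, ?_, rfl⟩
    show π _ ∈ N
    rw [(hπ _).2 hu]
    exact one_mem _

/-- `[E, C] ≤ P` for an exceptional block. -/
theorem comm_mem_P {e c : G} (he : e ∈ E) (hc : c ∈ Cm 3 E) :
    e * c * e⁻¹ * c⁻¹ ∈ Pm 3 E := by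
  set H := normalizer (Pm 3 E : Set G) ⊓ normalizer (Km 3 E : Set G) ⊓ normalizer (X.Ls : Set G)
  have hCH : Cm 3 E ≤ H := le_inf (le_inf (C_le_normalizer_P E) (C_le_normalizer_K E)) X.C_norm_Ls
  have hEH : E ≤ H := le_inf (le_inf (le_normalizer.trans (normalizer_E_le_P E))
    (le_normalizer.trans (normalizer_E_le_K E))) (X.E_norm_Ls hG hnle)
  have hPH : Pm 3 E ≤ H := (P_le_C E).trans hCH
  have hLH : X.Ls ≤ H := X.Ls_le.trans hCH
  have hΦK : (frattini ↥(Pm 3 E)).map (Pm 3 E).subtype ≤ Km 3 E := le_sup_right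
  obtain ⟨V, iV, iVf, χ, cls, hp, hadd, hsurj, hzero, hχ⟩ :=
    exists_module (p := 3) (Pm 3 E) (Km 3 E) H (isPGroup_P E) (K_le_P hG X.blk) hΦK
      (inf_le_left.trans inf_le_left) (inf_le_left.trans inf_le_right)
  letI := iV
  haveI := iVf
  haveI : Finite (AddMonoid.End V) := Finite.of_injective (fun f => (f : V → V)) DFunLike.coe_injective
  haveI : FaithfulSMul ↥χ.range V :=
    ⟨fun h => Subtype.ext (Units.ext (AddMonoidHom.ext h))⟩
  let r : ↥H →* ↥χ.range := χ.rangeRestrict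
  have hr : ∀ (h : ↥H) a, a ∈ Pm 3 E → r h • cls a = cls ((h : G) * a * (h : G)⁻¹) :=
    fun h a ha => hχ h a ha
  have hPn : ∀ h : ↥H, ∀ a ∈ Pm 3 E, (h : G) * a * (h : G)⁻¹ ∈ Pm 3 E := fun h a ha =>
    (mem_normalizer_iff.1 (h.2.1.1 : (h : G) ∈ normalizer (Pm 3 E : Set G)) a).1 ha
  have hinv : ∀ a ∈ Pm 3 E, cls a⁻¹ = - cls a := fun a ha => by
    have h1 := hadd a ha _ (inv_mem ha)
    rw [mul_inv_cancel, (hzero 1 (one_mem _)).2 (one_mem _)] at h1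
    exact (neg_eq_of_add_eq_zero_right h1.symm).symm
  have hdiff : ∀ (h : ↥H) a, a ∈ Pm 3 E →
      r h • cls a - cls a = cls ((h : G) * a * (h : G)⁻¹ * a⁻¹) := fun h a ha => by
    rw [hr h a ha, hadd _ (hPn h a ha) _ (inv_mem ha), hinv a ha, sub_eq_add_neg]
  have hker : ∀ h : ↥H, r h = 1 ↔ (h : G) ∈ stab (Pm 3 E) (Km 3 E) := by
    refine fun h => ⟨fun h1 => ⟨h.2.1.1, h.2.1.2, fun u hu => ?_⟩, fun hs => ?_⟩
    · refine (hzero _ (mul_mem (hPn h u hu) (inv_mem hu))).1 ?_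
      rw [← hdiff h u hu, h1, one_smul, sub_self]
    · refine eq_of_smul_eq_smul fun v : V => ?_
      obtain ⟨a, ha, rfl⟩ := hsurj v
      rw [one_smul, ← sub_eq_zero, hdiff h a ha,
        (hzero _ (mul_mem (hPn h a ha) (inv_mem ha))).2 (hs.2.2 a ha)]
  have hPtriv : ∀ h : ↥H, (h : G) ∈ Pm 3 E → r h = 1 := fun h hh => by
    refine (hker h).2 ⟨h.2.1.1, h.2.1.2, fun u hu => hΦK ?_⟩
    refine ⟨⁅(⟨(h : G), hh⟩ : ↥(Pm 3 E)), ⟨u, hu⟩⁆, ?_, by
      rw [commutatorElement_def]; rfl⟩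
    refine (CfsgLib.PGroupBasic.commutator_pow_le_frattini (isPGroup_P E)).1 ?_
    rw [_root_.commutator_def]
    exact commutator_mem_commutator (mem_top _) (mem_top _)
  have hrcomm : ∀ a b : ↥H, (a : G) * b * (a : G)⁻¹ * (b : G)⁻¹ ∈ Pm 3 E →
      r a * r b = r b * r a := fun a b h => by
    have := hPtriv (a * b * a⁻¹ * b⁻¹) h
    rw [map_mul, map_mul, map_mul, map_inv, map_inv] at this
    rwa [mul_inv_eq_one, mul_inv_eq_iff_eq_mul] at this
  set z₀ : ↥H := ⟨X.z, hEH X.zE⟩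
  have hCz : ∀ x (hx : x ∈ Cm 3 E), r z₀ * r ⟨x, hCH hx⟩ = r ⟨x, hCH hx⟩ * r z₀ → x ∈ X.Cz := by
    intro x hx h
    refine ⟨hx, stab_le_P hG X.blk ⟨(Cm 3 E).mul_mem (X.zC hx) ((Cm 3 E).inv_mem hx), ?_⟩⟩
    refine (hker (z₀ * ⟨x, hCH hx⟩ * z₀⁻¹ * (⟨x, hCH hx⟩ : ↥H)⁻¹)).1 ?_
    rw [map_mul, map_mul, map_mul, map_inv, map_inv, h, mul_inv_cancel_right, mul_inv_cancel]
  set L := (X.Ls.subgroupOf H).map r with hL
  set E' := (E.subgroupOf H).map r with hE'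
  have hzE' : r z₀ ∈ E' := ⟨z₀, X.zE, rfl⟩
  -- the representation of the image of `E`
  let f : ↥E →* ↥E' := (r.comp (inclusion hEH)).codRestrict E' fun e => ⟨_, e.2, rfl⟩
  have hf : Function.Surjective f := fun x => by
    obtain ⟨h, hh, he⟩ := x.2
    exact ⟨⟨h, hh⟩, Subtype.ext he⟩
  have hfk : f.ker ≤ X.S2.ρ.ker := fun e he => by
    have h1 : r (inclusion hEH e) = 1 := congrArg Subtype.val (MonoidHom.mem_ker.1 he)
    have h2 := (hker _).1 h1
    exact X.S2.rho_eq_one e fun a ha => X.Q_inf_K hG hnle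
      (mul_mem (X.S2.conj_mem e.2 ha) (inv_mem ha)) (h2.2.2 a (X.Q_le_P hG hnle ha))
  let ρ : ↥E' →* SL F := f.liftOfSurjective hf ⟨X.S2.ρ, hfk⟩
  have hρ : ∀ e, ρ (f e) = X.S2.ρ e := fun e => f.liftOfRightInverse_comp_apply _ _ _ e
  have hrange : ρ.range = R F := by
    refine le_antisymm ?_ fun s hs => ?_
    · rintro _ ⟨x, rfl⟩
      obtain ⟨e, rfl⟩ := hf x
      rw [hρ]; exact X.S2.range.le ⟨e, rfl⟩
    · obtain ⟨e, rfl⟩ := X.S2.exists_pre s hs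
      exact ⟨f e, hρ e⟩
  -- the projection on the `-1`-space
  let ψ : G → (Fin 2 → F) := fun u => X.S2.f (X.z * u * X.z⁻¹ * u⁻¹)
  have hψQ : ∀ u ∈ Pm 3 E, X.z * u * X.z⁻¹ * u⁻¹ ∈ Cfsg.pCoreOf 3 E := fun u hu =>
    comm_mem_Q hG X.blk hu X.zE
  have hψadd : ∀ a ∈ Pm 3 E, ∀ b ∈ Pm 3 E, ψ (a * b) = ψ a + ψ b := by
    intro a ha b hb
    have hm := (mem_normalizer_iff.1 (X.P_norm_Q hG hnle ha) _).1 (hψQ b hb)
    show X.S2.f _ = _
    rw [show X.z * (a * b) * X.z⁻¹ * (a * b)⁻¹ =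
      (X.z * a * X.z⁻¹ * a⁻¹) * (a * (X.z * b * X.z⁻¹ * b⁻¹) * a⁻¹) by group,
      X.S2.map_mul _ (hψQ a ha) _ hm,
      ← X.S2.act_apply (X.P_norm_Q hG hnle ha) (X.norm_W (X.P_norm_Q hG hnle ha)) (hψQ b hb),
      X.act2_P hG hnle ha]
  have hψK : ∀ k ∈ Km 3 E, ψ k = 0 := fun k hk => by
    have hkP := K_le_P hG X.blk hk
    refine (X.S2.zero _ (hψQ k hkP)).2 (X.Q_inf_K hG hnle (hψQ k hkP) (mul_mem ?_ (inv_mem hk)))
    exact (mem_normalizer_iff.1 (normalizer_E_le_K E (le_normalizer X.zE)) k).1 hk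
  have hψdep : ∀ a ∈ Pm 3 E, ∀ b ∈ Pm 3 E, cls a = cls b → ψ a = ψ b := by
    intro a ha b hb hab
    have hm := mul_mem (inv_mem ha) hb
    have hk : a⁻¹ * b ∈ Km 3 E := (hzero _ hm).1 (by
      have h1 := hadd a ha _ hm
      rw [mul_inv_cancel_left, hab] at h1
      exact left_eq_add.1 h1)
    conv_rhs => rw [show b = a * (a⁻¹ * b) from (mul_inv_cancel_left a b).symm]
    rw [hψadd a ha _ hm, hψK _ hk, add_zero]
  have hψQf : ∀ q ∈ Cfsg.pCoreOf 3 E, ψ q = X.S2.f q := fun q hq => by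
    show X.S2.f _ = _
    rw [X.S2.map_mul _ (X.S2.conj_mem X.zE hq) _ (inv_mem hq), X.f2_z hq, X.S2.map_inv hq]
    funext i
    simp only [Pi.add_apply, Pi.neg_apply]
    linear_combination -(X.S2.f q i) * X.char
  choose lift hliftP hlift using hsurj
  let φ : V →+ (Fin 2 → F) := AddMonoidHom.mk' (fun v => ψ (lift v)) fun v w => by
    rw [← hψadd _ (hliftP v) _ (hliftP w)]
    refine hψdep _ (hliftP _) _ (mul_mem (hliftP v) (hliftP w)) ?_
    rw [hlift, hadd _ (hliftP v) _ (hliftP w), hlift, hlift]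
  have hφ : ∀ a ∈ Pm 3 E, φ (cls a) = ψ a := fun a ha => hψdep _ (hliftP _) a ha (hlift _)
  have h3 : ∀ v : V, v + v + v = 0 := fun v => by
    have := hp v
    rwa [succ_nsmul, two_nsmul] at this
  have hneg : ∀ q ∈ Cfsg.pCoreOf 3 E, r z₀ • cls q = - cls q := fun q hq => by
    have hzq := X.S2.conj_mem X.zE hq
    rw [hr z₀ q (X.Q_le_P hG hnle hq), eq_neg_iff_add_eq_zero,
      ← hadd _ (X.Q_le_P hG hnle hzq) _ (X.Q_le_P hG hnle hq)]
    refine (hzero _ (X.Q_le_P hG hnle (mul_mem hzq hq))).2 (X.W_le_K hG hnle ?_)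
    refine (X.S2.zero _ (mul_mem hzq hq)).1 ?_
    rw [X.S2.map_mul _ hzq _ hq, X.f2_z hq, neg_add_cancel]
  have hinjφ : ∀ n : V, r z₀ • n = -n → φ n = 0 → n = 0 := by
    intro n hn h0
    obtain ⟨a, ha, rfl⟩ : ∃ a ∈ Pm 3 E, cls a = n := ⟨lift n, hliftP n, hlift n⟩
    rw [hφ a ha] at h0
    have hk := X.W_le_K hG hnle ((X.S2.zero _ (hψQ a ha)).1 h0)
    have h1 : cls (X.z * a * X.z⁻¹ * a⁻¹) = 0 :=
      (hzero _ (X.Q_le_P hG hnle (hψQ a ha))).2 hk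
    rw [← hdiff z₀ a ha, hn] at h1
    have h2 := h3 (cls a)
    have : cls a + cls a = 0 := by rw [← neg_eq_zero, neg_add, ← sub_eq_add_neg]; exact h1
    rwa [this, zero_add] at h2
  have hzcomm : ∀ x ∈ E', r z₀ * x = x * r z₀ := by
    rintro _ ⟨h, hh, rfl⟩
    exact hrcomm z₀ h (X.Q_le_P hG hnle (X.conj_zQ hh))
  have S : CfsgLib.BlockOddLinear.Setup (V := V) L E' (r z₀) F :=
    { h3 := h3
      normalL := by
        haveI : (X.Ls.subgroupOf H).Normal :=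
          (Subgroup.normal_subgroupOf_iff_le_normalizer hLH).2 inf_le_right
        exact Subgroup.Normal.map inferInstance r χ.rangeRestrict_surjective
      odd := (X.odd_Ls hG hnle).of_dvd_nat ((Subgroup.card_map_dvd _ _).trans
        (dvd_of_eq (Nat.card_congr (subgroupOfEquivOfLe hLH).toEquiv)))
      core := by
        intro D hD hDp
        let q : ↥X.Ls →* ↥L := (r.comp (inclusion hLH)).codRestrict L fun x => ⟨_, x.2, rfl⟩
        have hqs : Function.Surjective q := fun x => by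
          obtain ⟨h, hh, he⟩ := x.2
          exact ⟨⟨h, hh⟩, Subtype.ext he⟩
        have hqk : IsPGroup 3 ↥q.ker := by
          refine IsPGroup.of_injective (H := ↥q.ker) (isPGroup_P (p := 3) E) (MonoidHom.mk'
            (fun x => (⟨((x : ↥X.Ls) : G), stab_le_P hG X.blk ⟨X.Ls_le (x : ↥X.Ls).2,
              (hker (inclusion hLH (x : ↥X.Ls))).1
                (congrArg Subtype.val (MonoidHom.mem_ker.1 x.2))⟩⟩ : ↥(Pm 3 E)))
            fun a b => rfl) fun a b h =>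
              Subtype.ext (Subtype.ext (congrArg (fun x : ↥(Pm 3 E) => (x : G)) h))
        set Dp := (D.comap q).map X.Ls.subtype with hDpdef
        have h1 : IsPGroup 3 ↥Dp := (hDp.comap_of_ker_isPGroup q hqk).map _
        have h2 : X.Ls ≤ normalizer (Dp : Set G) := fun x hx => by
          rw [mem_normalizer_iff_cj]
          refine eq_of_le_of_card_le' ?_ (card_cj _ _).ge
          rintro _ ⟨_, ⟨a, ha, rfl⟩, rfl⟩
          exact ⟨⟨x, hx⟩ * a * ⟨x, hx⟩⁻¹, (hD.comap q).conj_mem a ha _, rfl⟩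
        have h3' : Dp ≤ Pm 3 E := (CfsgLib.FrakM.le_pCoreOf (map_subtype_le _) h1 h2).trans
          (CfsgLib.FrakM.le_pCoreOf ((map_subtype_le _).trans X.Ls_le)
            (CfsgLib.FrakM.isPGroup_pCoreOf _)
            (X.C_norm_Ls.trans (CfsgLib.FrakM.normalizer_le_normalizer_pCoreOf _)))
        refine (Subgroup.eq_bot_iff_forall _).2 fun d hd => ?_
        obtain ⟨x, rfl⟩ := hqs d
        exact Subtype.ext (hPtriv (inclusion hLH x) (h3' ⟨x, hd, rfl⟩))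
      zE := hzE'
      hz := by rw [← map_mul, show z₀ * z₀ = 1 from Subtype.ext X.hz, map_one]
      cent := by
        rintro _ ⟨⟨x, hxH⟩, hx, rfl⟩ hzl _ ⟨h, hh, rfl⟩
        exact hrcomm h _ (X.comm_Cz hG hnle hh (hCz x (X.Ls_le hx) hzl))
      char := X.char
      ρ := ρ
      range := hrange
      rho_z := by rw [← X.z2, ← hρ ⟨X.z, X.zE⟩]; rfl
      φ := φ
      surj := fun u => by
        obtain ⟨q, hq, rfl⟩ := X.S2.surj u
        exact ⟨cls q, hneg q hq, by rw [hφ q (X.Q_le_P hG hnle hq), hψQf q hq]⟩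
      inj := hinjφ
      stable := fun x hx n hn => by
        rw [← mul_smul, hzcomm x hx, mul_smul, hn, smul_neg]
      equiv := by
        intro x n hn
        obtain ⟨e', rfl⟩ := hf x
        obtain ⟨q, hq, hfq⟩ := X.S2.surj (φ n)
        have hqP := X.Q_le_P hG hnle hq
        have hnq : n = cls q := by
          refine sub_eq_zero.1 (hinjφ _ ?_ ?_)
          · rw [smul_sub, hn, hneg q hq, neg_sub_neg, neg_sub]
          · rw [map_sub, hφ q hqP, hψQf q hq, hfq, sub_self]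
        have he' : ((f e' : ↥E') : ↥χ.range) • cls q = cls ((e' : G) * q * (e' : G)⁻¹) :=
          hr (inclusion hEH e') q hqP
        have hm := X.S2.conj_mem e'.2 hq
        rw [hnq, he', hφ _ (X.Q_le_P hG hnle hm), hψQf _ hm, hφ q hqP, hψQf q hq, hρ]
        exact X.S2.equiv e' q hq
      fix := by
        rintro _ ⟨h, hh, rfl⟩ v hv
        obtain ⟨a, ha, rfl⟩ : ∃ a ∈ Pm 3 E, cls a = v := ⟨lift v, hliftP v, hlift v⟩
        have hd := hdiff h a ha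
        have hq : (h : G) * a * (h : G)⁻¹ * a⁻¹ ∈ Cfsg.pCoreOf 3 E := comm_mem_Q hG X.blk ha hh
        have hfix : r z₀ • (r h • cls a - cls a) = r h • cls a - cls a := by
          rw [smul_sub, hv, ← mul_smul, hzcomm _ ⟨h, hh, rfl⟩, mul_smul, hv]
        rw [hd, hneg _ hq] at hfix
        have h2 := h3 (cls ((h : G) * a * (h : G)⁻¹ * a⁻¹))
        rw [neg_eq_iff_add_eq_zero] at hfix
        rw [hfix, zero_add] at h2
        rw [h2] at hd
        exact sub_eq_zero.1 hd }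
  refine X.comm_Cz hG hnle he ⟨hc, ?_⟩
  have hl := X.z_comm_mem hc
  have hlC := X.Ls_le hl
  have hcl := hCz _ hlC (S.centralizes _ ⟨⟨_, hCH hlC⟩, hl, rfl⟩)
  have hrev : (X.z * c * X.z⁻¹ * c⁻¹)⁻¹ = c * X.z * c⁻¹ * X.z := by
    simp only [_root_.mul_inv_rev, inv_inv, X.z_inv, mul_assoc]
  have := X.isolated hG hnle hc (hrev ▸ inv_mem hcl)
  rw [← hrev, inv_mem_iff] at this
  exact this

end

end Exc

end CfsgLib.BlockExc
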