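import Cfsg.Agent.LocalB.BlockTypes
import Cfsg.Agent.LocalB.BlockExcLinear

/-!
A subnormal block and a block centralizing its `W_E` commute.
-/

set_option autoImplicit false
set_option linter.style.haveILetI false
set_option linter.unusedSectionVars false

namespace CfsgLib.BlockCompare

open Subgroup CfsgLib.Functor CfsgLib.BlockModule CfsgLib.BlockBasic CfsgLib.BlockCore
  CfsgLib.BlockSection CfsgLib.BlockSL2 CfsgLib.BlockLinearSL CfsgLib.BlockLinear
  CfsgLib.BlockTypes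
open scoped CfsgLib.Functor commutatorElement

universe u

variable {G : Type u} [Group G] [Finite G] {p : ℕ} [hp : Fact p.Prime]

theorem comm_jj_xx {K : Type*} [Field K] (h3 : (3 : K) = 0) :
    ⁅(jj : SL K), xx h3⁆ = -1 := by
  have e : (jj : SL K) * xx h3 = -1 * (xx h3 * jj) := by
    refine Subtype.ext ?_
    simp [Matrix.SpecialLinearGroup.coe_mul, coe_jj, coe_xx]
  rw [commutatorElement_def, e]
  group

theorem exists_comm_neg_one {E U U₀ : Subgroup G} {K : Type} [Field K] (S : Sec E U U₀ K)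
    (h3 : (3 : K) = 0) :
    ∃ z : ↥E, (z : G) ∈ ⁅E, E⁆ ∧ S.ρ z = -1 := by
  obtain ⟨a, ha⟩ := S.exists_pre jj (jj_mem (Or.inr h3))
  obtain ⟨b, hb⟩ := S.exists_pre (xx h3) (xx_mem h3)
  refine ⟨⁅a, b⁆, ?_, by rw [map_commutatorElement, ha, hb, comm_jj_xx]⟩
  have := commutator_mem_commutator a.2 b.2
  simpa [commutatorElement_def] using this

theorem neg_one_ne {K : Type} [Field K] (h3 : (3 : K) = 0) : (-1 : SL K) ≠ 1 :=
  CfsgLib.SL2Factors.neg_one_ne_one (CfsgLib.BlockExc.two_ne_of_char h3)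

/-- The odd power of an element with a prime-to-`p` order. -/
theorem exists_pow_coprime {x : G} : ∃ k : ℕ, (orderOf (x ^ p ^ k)).Coprime p := by
  refine ⟨(orderOf x).factorization p, ?_⟩
  rw [orderOf_pow' _ (pow_ne_zero _ hp.out.ne_zero),
    Nat.gcd_eq_right (Nat.ordProj_dvd _ _)]
  exact (Nat.coprime_ordCompl hp.out (orderOf_pos x).ne').symm

/-- A central involution of a block modulo its core, inside the derived group. -/
theorem exists_fpf {T : Sylow 3 G} {F : Subgroup G}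
    (hF : Cfsg.IsBaumannBlock 3 (T : Subgroup G) F) :
    ∃ z ∈ ⁅F, F⁆, (orderOf z).Coprime 3 ∧
      ∀ y ∈ Cfsg.pCoreOf 3 F, z * y * z⁻¹ = y → y ∈ Zm 3 F := by
  have hpow : ∀ {K : Type} [Field K] {U U₀ : Subgroup G} (S : Sec F U U₀ K), (3 : K) = 0 →
      ∀ z : ↥F, S.ρ z = -1 → ∀ k : ℕ, S.ρ (z ^ 3 ^ k) = -1 := by
    intro K _ U U₀ S h3 z hz k
    rw [map_pow, hz, Odd.neg_one_pow (show Odd (3 ^ k) from Odd.pow ⟨1, rfl⟩)]
  by_cases hle : Cfsg.pCoreOf 3 F ≤ Wm 3 F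
  · rcases block_cases hF with ⟨h2, -⟩ | ⟨K, iK, iKt, ⟨X⟩⟩
    · exact absurd h2 (by norm_num)
    have h3 : (3 : K) = 0 := by exact_mod_cast X.char
    obtain ⟨z, hzc, hz⟩ := exists_comm_neg_one X.S h3
    obtain ⟨k, hk⟩ := exists_pow_coprime (p := 3) (x := (z : G))
    refine ⟨_, pow_mem hzc _, hk, fun y hy h => ?_⟩
    have hyW := hle hy
    have h1 := X.S.equiv (z ^ 3 ^ k) y hyW
    rw [Subgroup.coe_pow, h, hpow X.S h3 z hz k, neg_one_mulVec] at h1
    refine (X.S.zero y hyW).1 (funext fun i => ?_)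
    have h2 := congrFun h1 i
    rw [Pi.neg_apply] at h2
    exact (mul_eq_zero.1 (show (2 : K) * X.S.f y i = 0 by linear_combination h2)).resolve_left
      (CfsgLib.BlockExc.two_ne_of_char h3)
  · obtain ⟨-, hex⟩ := CfsgLib.BlockExc.exists_exc hF hle
    obtain ⟨K, iK, iKt, ⟨X⟩⟩ := hex T rfl
    obtain ⟨z, hzc, hz⟩ := exists_comm_neg_one X.S1 X.char
    obtain ⟨k, hk⟩ := exists_pow_coprime (p := 3) (x := (z : G))
    refine ⟨_, pow_mem hzc _, hk, fun y hy h => ?_⟩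
    have h1 : X.S1.ρ (z ^ 3 ^ k) = -1 := hpow X.S1 X.char z hz k
    have h2 : X.S2.ρ (z ^ 3 ^ k) = -1 := by
      have hu : X.S1.ρ (z ^ 3 ^ k * ⟨X.z, X.zE⟩⁻¹) = 1 := by
        rw [map_mul, map_inv, h1, X.z1, mul_inv_cancel]
      have := (X.ker2 _).2 ((X.ker1 _).1 hu)
      rw [map_mul, map_inv, X.z2, mul_inv_eq_one] at this
      exact this
    have hyW : y ∈ Wm 3 F := (X.S2.zero y hy).1 (X.eq_zero_of_neg (by
      have := X.S2.equiv (z ^ 3 ^ k) y hy
      rwa [Subgroup.coe_pow, h, h2, neg_one_mulVec] at this))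
    refine (X.S1.zero y hyW).1 (X.eq_zero_of_neg ?_)
    have := X.S1.equiv (z ^ 3 ^ k) y hyW
    rwa [Subgroup.coe_pow, h, h1, neg_one_mulVec] at this

theorem hnle_of (hG : centralizer (Cfsg.pCore p G : Set G) ≤ Cfsg.pCore p G) {T : Sylow p G}
    {E : Subgroup G} (hE : Cfsg.IsBaumannBlock p (T : Subgroup G) E) (hs : E.IsSubnormal)
    (hQ : ¬ Cfsg.pCoreOf p E ≤ Wm p E) : ¬ ⁅Pm p E, E⁆ ≤ Wm p E := fun h => hQ <| by
  refine (facts_of_block hE).commQ.ge.trans (le_trans (commutator_mono ?_ le_rfl) h)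
  exact (Q_le_O hE hs).trans (O_le_P hG (CfsgLib.Baumann.blk_of_isBaumannBlock hE))

theorem P_inf_E_le (E : Subgroup G) :
    Pm p E ⊓ E ≤ Cfsg.pCoreOf p E := by
  refine CfsgLib.FrakM.le_pCoreOf inf_le_right ((isPGroup_P E).to_le inf_le_left) fun e he => ?_
  rw [mem_normalizer_iff_cj, cj_inf, cj_eq_self_of_mem he,
    mem_normalizer_iff_cj.1 (normalizer_E_le_P E (le_normalizer he))]

/-- If `F` centralizes `W_E`, then `F` centralizes `E`. -/
theorem commutator_eq_bot_of_centralizes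
    (hG : centralizer (Cfsg.pCore p G : Set G) ≤ Cfsg.pCore p G) {T T' : Sylow p G}
    {E F : Subgroup G} (hE : Cfsg.IsBaumannBlock p (T : Subgroup G) E) (hs : E.IsSubnormal)
    (hF : Cfsg.IsBaumannBlock p (T' : Subgroup G) F) (hFC : F ≤ Cm p E) : ⁅E, F⁆ = ⊥ := by
  have hCN := CfsgLib.BlockNorm.C_le_normalizer hG hE
  have hQp := CfsgLib.FrakM.isPGroup_pCoreOf (p := p) E
  have hcomm := CfsgLib.BlockNorm.comm_mem_P hG hE
  have hQfix : ∀ f ∈ F, (orderOf f).Coprime p → ∀ q ∈ Cfsg.pCoreOf p E,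
      f * q * f⁻¹ * q⁻¹ = 1 := by
    by_cases hle : Cfsg.pCoreOf p E ≤ Wm p E
    · intro f hf _ q hq
      rw [(facts_of_block hE).Q_eq_WE hle] at hq
      rw [← mem_centralizer_iff.1 (hFC hf) q hq, mul_inv_cancel_right, mul_inv_cancel]
    have hnle := hnle_of hG hE hs hle
    obtain ⟨rfl, hex⟩ := CfsgLib.BlockExc.exists_exc hE hle
    obtain ⟨K, iK, iKt, ⟨X⟩⟩ := hex T rfl
    have hFQ : ∀ f ∈ F, f ∈ normalizer (Cfsg.pCoreOf 3 E : Set G) := fun f hf =>
      CfsgLib.FrakM.normalizer_le_normalizer_pCoreOf E (hCN (hFC hf))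
    have hscal : ∀ f ∈ F, ∃ t : K, ∀ v, X.S2.act f v = t • v := fun f hf =>
      X.exists_scalar hG hnle (hFQ f hf) fun e he v =>
        X.act2_P hG hnle (hcomm e he f (hFC hf)) v
    -- commutators in `F` are trivial on `Q / W` and on `W`
    have hder : ⁅F, F⁆ ≤ stab (Cfsg.pCoreOf 3 E) (Wm 3 E) ⊓
        centralizer (Zm 3 E : Set G) := by
      rw [Subgroup.commutator_le]
      intro a ha b hb
      have habQ : ⁅a, b⁆ ∈ normalizer (Cfsg.pCoreOf 3 E : Set G) :=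
        mul_mem (mul_mem (mul_mem (hFQ a ha) (hFQ b hb)) (inv_mem (hFQ a ha))) (inv_mem (hFQ b hb))
      obtain ⟨s, hs'⟩ := hscal a ha
      obtain ⟨t, ht⟩ := hscal b hb
      have htop : ∀ v, X.S2.act ⁅a, b⁆ v = v := by
        intro v
        have h1 : ∀ v, X.S2.act (a * b) v = X.S2.act (b * a) v := fun v => by
          rw [X.S2.act_mul (hFQ a ha) (X.norm_W (hFQ a ha)) (hFQ b hb) (X.norm_W (hFQ b hb)),
            X.S2.act_mul (hFQ b hb) (X.norm_W (hFQ b hb)) (hFQ a ha) (X.norm_W (hFQ a ha)),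
            ht, hs', hs', ht, smul_smul, smul_smul, mul_comm]
        have hba := mul_mem (hFQ b hb) (hFQ a ha)
        obtain ⟨w, rfl⟩ := X.S2.act_surjective hba (X.norm_W hba) v
        rw [← X.S2.act_mul habQ (X.norm_W habQ) hba (X.norm_W hba),
          show ⁅a, b⁆ * (b * a) = a * b by rw [commutatorElement_def]; group, h1]
      have hstab : ⁅a, b⁆ ∈ stab (Cfsg.pCoreOf 3 E) (Wm 3 E) := by
        refine ⟨habQ, X.norm_W habQ, fun q hq => ?_⟩
        have hm := (mem_normalizer_iff.1 habQ q).1 hq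
        refine (X.S2.zero _ (mul_mem hm (inv_mem hq))).1 ?_
        rw [X.S2.map_mul _ hm _ (inv_mem hq), ← X.S2.act_apply habQ (X.norm_W habQ) hq, htop,
          X.S2.map_inv hq, add_neg_cancel]
      refine Subgroup.mem_inf.2 ⟨hstab, ?_⟩
      -- hence it centralizes `Z = [Q, Q]`
      have hle' : Zm 3 E ≤ centralizer {⁅a, b⁆} := by
        rw [← X.comm_eq, Subgroup.commutator_le]
        intro q hq r hr
        set g := ⁅a, b⁆
        refine mem_centralizer_singleton_iff.2 ?_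
        have hgq := hstab.2.2 q hq
        have hgr := hstab.2.2 r hr
        set w₁ := g * q * g⁻¹ * q⁻¹
        set w₂ := g * r * g⁻¹ * r⁻¹
        have e : g * ⁅q, r⁆ * g⁻¹ = ⁅q, r⁆ := by
          have c1 : ∀ x ∈ Cfsg.pCoreOf 3 E, x * w₁ = w₁ * x := fun x hx => W_comm hgq hx
          have c2 : ∀ x ∈ Cfsg.pCoreOf 3 E, x * w₂ = w₂ * x := fun x hx => W_comm hgr hx
          have hqr : ⁅q, r⁆ ∈ Cfsg.pCoreOf 3 E := by
            rw [commutatorElement_def]
            exact mul_mem (mul_mem (mul_mem hq hr) (inv_mem hq)) (inv_mem hr)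
          calc g * ⁅q, r⁆ * g⁻¹ = w₁ * q * (w₂ * r) * (w₁ * q)⁻¹ * (w₂ * r)⁻¹ := by
                simp only [w₁, w₂, commutatorElement_def]; group
            _ = w₁ * (q * w₂) * (r * q⁻¹) * w₁⁻¹ * r⁻¹ * w₂⁻¹ := by group
            _ = w₁ * w₂ * q * ((r * q⁻¹) * w₁⁻¹) * r⁻¹ * w₂⁻¹ := by rw [c2 q hq]; group
            _ = w₁ * w₂ * q * (w₁⁻¹ * (r * q⁻¹)) * r⁻¹ * w₂⁻¹ := by
                rw [W_comm (inv_mem hgq) (mul_mem hr (inv_mem hq))]
            _ = w₁ * w₂ * (q * w₁⁻¹) * r * q⁻¹ * r⁻¹ * w₂⁻¹ := by group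
            _ = w₁ * w₂ * w₁⁻¹ * (⁅q, r⁆ * w₂⁻¹) := by
                rw [W_comm (inv_mem hgq) hq, commutatorElement_def]; group
            _ = w₁ * w₂ * w₁⁻¹ * (w₂⁻¹ * ⁅q, r⁆) := by
                rw [W_comm (inv_mem hgr) hqr]
            _ = ⁅q, r⁆ := by
                rw [(facts_of_block hE).W_commute hgq hgr]; group
        exact (mul_inv_eq_iff_eq_mul.1 e).symm
      exact mem_centralizer_iff.2 fun x hx => mem_centralizer_singleton_iff.1 (hle' hx)
    obtain ⟨z, hz, hzco, hzfix⟩ := exists_fpf hF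
    have hzF : z ∈ F := (commutator_le.2 fun a ha b hb => mul_mem (mul_mem (mul_mem ha hb)
      (inv_mem ha)) (inv_mem hb) : ⁅F, F⁆ ≤ F) hz
    have hzW : z ∈ centralizer (Wm 3 E : Set G) := X.centralize_W (hFC hzF) (hder hz).2
    have hzQ : ∀ q ∈ Cfsg.pCoreOf 3 E, Commute z q := fun q hq => by
      have hm := (hder hz).1.2.2 q hq
      exact LocalB.commute_of_stab hQp hzco (W_le_Q E hm) (mem_centralizer_iff.1 hzW _ hm).symm
    intro f hf hco q hq
    set y := f * q * f⁻¹ * q⁻¹ with hy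
    have hyQ : y ∈ Cfsg.pCoreOf 3 E :=
      mul_mem ((mem_normalizer_iff.1 (hFQ f hf) q).1 hq) (inv_mem hq)
    have hyF : y ∈ Cfsg.pCoreOf 3 F := comm_O_le hF (Q_le_O hE hs hq) hf
    have hyZ := hzfix y hyF (by rw [(hzQ y hyQ).eq, mul_inv_cancel_right])
    exact comm_eq_one hQp hco hyQ ((facts_of_block hF).Z_commute hyZ hf).symm
  rw [commutator_comm, commutator_eq_bot_iff_le_centralizer]
  refine CfsgLib.Baumann.residual_induction (facts_of_block hF).res _ fun f hf hco =>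
    mem_centralizer_iff.2 fun e he => ?_
  have hd : e * f * e⁻¹ * f⁻¹ ∈ Cfsg.pCoreOf p E := P_inf_E_le E (Subgroup.mem_inf.2
    ⟨hcomm e he f (hFC hf), by
      rw [show e * f * e⁻¹ * f⁻¹ = e * (f * e⁻¹ * f⁻¹) by group]
      exact mul_mem he ((mem_normalizer_iff.1 (hCN (hFC hf)) e⁻¹).1 (inv_mem he))⟩)
  set d := f * e * f⁻¹ * e⁻¹ with hd'
  have hdQ : d ∈ Cfsg.pCoreOf p E := by
    have := inv_mem hd
    rwa [show (e * f * e⁻¹ * f⁻¹)⁻¹ = d by rw [hd']; group] at this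
  have h1 : d = 1 := comm_eq_one hQp hco hdQ
    (mul_inv_eq_iff_eq_mul.1 (mul_inv_eq_one.1 (hQfix f hf hco d hdQ)))
  exact (mul_inv_eq_iff_eq_mul.1 (mul_inv_eq_one.1 h1)).symm

end CfsgLib.BlockCompare
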