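import Cfsg.Agent.LocalB.BaumannBlock
import Cfsg.Agent.CharP.WeakFactor
import Cfsg.Agent.Fusion.InnerFrattini

/-!
Conjugates of blocks are blocks.
-/

set_option autoImplicit false
set_option linter.style.haveILetI false
set_option linter.unusedSectionVars false

namespace CfsgLib.BlockTransport

open Subgroup CfsgLib.Functor CfsgLib.BlockModule
open scoped CfsgLib.Functor commutatorElement

universe u

variable {G : Type u} [Group G] [Finite G] {p : ℕ} [Fact p.Prime]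

theorem cj_pCoreOf (g : G) (E : Subgroup G) :
    g ⋆ Cfsg.pCoreOf p E = Cfsg.pCoreOf p (g ⋆ E) := by
  have key : ∀ (g : G) (E : Subgroup G), g ⋆ Cfsg.pCoreOf p E ≤ Cfsg.pCoreOf p (g ⋆ E) :=
    fun g E => CfsgLib.FrakM.le_pCoreOf (cj_mono g (map_subtype_le _))
      ((CfsgLib.FrakM.isPGroup_pCoreOf E).map _)
      (by rw [← cj_normalizer]; exact cj_mono g (CfsgLib.FrakM.le_normalizer_pCoreOf E))
  refine le_antisymm (key g E) ?_
  have := cj_mono g (key g⁻¹ (g ⋆ E))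
  rwa [cj_cj_inv, cj_inv_cj] at this

theorem cj_pResidualOf (g : G) (E : Subgroup G) :
    g ⋆ Cfsg.pResidualOf p E = Cfsg.pResidualOf p (g ⋆ E) := by
  have key : ∀ (g : G) (E : Subgroup G), Cfsg.pResidualOf p (g ⋆ E) ≤ g ⋆ Cfsg.pResidualOf p E :=
    fun g E => CfsgLib.WeakFactor.pResidualOf_le fun x hx hco => by
      rw [mem_cj] at hx ⊢
      refine CfsgLib.WeakFactor.mem_pResidualOf hx ?_
      rwa [show g⁻¹ * x * g = MulAut.conj g⁻¹ x by simp, MulEquiv.orderOf_eq]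
  refine le_antisymm ?_ (key g E)
  have := cj_mono g (key g⁻¹ (g ⋆ E))
  rwa [cj_inv_cj, cj_cj_inv] at this

/-- Conjugation, as an isomorphism from the conjugate subgroup back. -/
def back (g : G) (U : Subgroup G) : ↥(g ⋆ U) ≃* ↥U where
  toFun x := ⟨g⁻¹ * x * g, mem_cj.1 x.2⟩
  invFun x := ⟨g * x * g⁻¹, conj_mem_cj x.2⟩
  left_inv x := Subtype.ext (by simp [mul_assoc])
  right_inv x := Subtype.ext (by simp [mul_assoc])
  map_mul' a b := Subtype.ext (by
    show g⁻¹ * ((a : G) * b) * g = g⁻¹ * a * g * (g⁻¹ * b * g)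
    group)

theorem back_coe (g : G) (U : Subgroup G) (x : ↥(g ⋆ U)) :
    ((back g U x : ↥U) : G) = g⁻¹ * x * g := rfl

theorem cj_frattini (g : G) (P : Subgroup G) :
    g ⋆ ((frattini ↥P).map P.subtype) = (frattini ↥(g ⋆ P)).map (g ⋆ P).subtype := by
  have hmap : (frattini ↥P).map (back g P).symm.toMonoidHom = frattini ↥(g ⋆ P) := by
    refine le_antisymm (CfsgLib.Fusion.map_frattini_le_of_equiv _) fun x hx => ?_
    exact ⟨back g P x, CfsgLib.Fusion.map_frattini_le_of_equiv (back g P) ⟨x, hx, rfl⟩,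
      (back g P).symm_apply_apply x⟩
  rw [← hmap, Subgroup.map_map, Subgroup.map_map]
  rfl

theorem acts_linear (g : G) {F : Type*} [Field F] {R : Subgroup (Matrix.SpecialLinearGroup (Fin 2) F)}
    {E U U₀ : Subgroup G} (h : Cfsg.ActsAsSL2OnSection F R E U U₀) :
    Cfsg.ActsAsSL2OnSection F R (g ⋆ E) (g ⋆ U) (g ⋆ U₀) := by
  obtain ⟨hEU, hle, ρ, ψ, hR, hψ, hker, hact⟩ := h
  refine ⟨by rw [← cj_normalizer]; exact cj_mono g hEU, cj_mono g hle,
    ρ.comp (back g E).toMonoidHom, ψ.comp (back g U).toMonoidHom, ?_,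
    hψ.comp (back g U).surjective, fun u => ?_, fun e u => ?_⟩
  · rw [MonoidHom.range_comp, MonoidHom.range_eq_top_of_surjective _ (back g E).surjective,
      ← MonoidHom.range_eq_map, hR]
  · rw [mem_cj]; exact hker (back g U u)
  · obtain ⟨w, hw, hwv⟩ := hact (back g E e) (back g U u)
    refine ⟨(back g U).symm w, ?_, ?_⟩
    · show g * (w : G) * g⁻¹ = _
      rw [hw, back_coe, back_coe]; group
    · show Multiplicative.toAdd (ψ ((back g U) ((back g U).symm w))) = _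
      rw [MulEquiv.apply_symm_apply]; exact hwv

theorem acts_perm (g : G) {n : ℕ} {R : Subgroup (Equiv.Perm (Fin n))} {E U U₀ : Subgroup G}
    (h : Cfsg.ActsAsOddPermModuleOnSection n R E U U₀) :
    Cfsg.ActsAsOddPermModuleOnSection n R (g ⋆ E) (g ⋆ U) (g ⋆ U₀) := by
  obtain ⟨hEU, hle, ρ, ψ, hR, heven, hψ, hker, hact⟩ := h
  refine ⟨by rw [← cj_normalizer]; exact cj_mono g hEU, cj_mono g hle,
    ρ.comp (back g E).toMonoidHom, ψ.comp (back g U).toMonoidHom, ?_, fun u => heven _,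
    fun v hv => ?_, fun u => ?_, fun e u => ?_⟩
  · rw [MonoidHom.range_comp, MonoidHom.range_eq_top_of_surjective _ (back g E).surjective,
      ← MonoidHom.range_eq_map, hR]
  · obtain ⟨u, hu⟩ := hψ v hv
    exact ⟨(back g U).symm u, by
      show Multiplicative.toAdd (ψ ((back g U) ((back g U).symm u))) = v
      rw [MulEquiv.apply_symm_apply]; exact hu⟩
  · rw [mem_cj]; exact hker (back g U u)
  · obtain ⟨w, hw, hwv⟩ := hact (back g E e) (back g U u)
    refine ⟨(back g U).symm w, ?_, fun i => ?_⟩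
    · show g * (w : G) * g⁻¹ = _
      rw [hw, back_coe, back_coe]; group
    · show Multiplicative.toAdd (ψ ((back g U) ((back g U).symm w))) i = _
      rw [MulEquiv.apply_symm_apply]; exact hwv i

/-- A conjugate of a block is a block. -/
theorem isBaumannBlock_cj (g : G) {T E : Subgroup G} (h : Cfsg.IsBaumannBlock p T E) :
    Cfsg.IsBaumannBlock p (g ⋆ T) (g ⋆ E) := by
  obtain ⟨hres, hcomm, hQ, hV, hcase⟩ := h
  have eW : g ⋆ Cfsg.omegaOneCenter p (Cfsg.pCoreOf p E) =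
      Cfsg.omegaOneCenter p (Cfsg.pCoreOf p (g ⋆ E)) := by
    rw [CfsgLib.Baumann.cj_omegaOneCenter, cj_pCoreOf]
  have eC : ∀ X : Subgroup G, g ⋆ (X ⊓ centralizer (E : Set G)) =
      (g ⋆ X) ⊓ centralizer ((g ⋆ E : Subgroup G) : Set G) := fun X => by
    rw [cj_inf, cj_centralizer]
  let iso : ↥(g ⋆ E) ⧸ Cfsg.pCore p ↥(g ⋆ E) ≃* ↥E ⧸ Cfsg.pCore p ↥E :=
    QuotientGroup.congr _ _ (back g E) (by
      refine Subgroup.map_injective E.subtype_injective ?_
      rw [Subgroup.map_map]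
      have e1 : (E.subtype.comp (↑(back g E) : ↥(g ⋆ E) →* ↥E)) =
          (MulAut.conj g⁻¹).toMonoidHom.comp (g ⋆ E).subtype := MonoidHom.ext fun x => by
        show g⁻¹ * (x : G) * g = g⁻¹ * x * g⁻¹⁻¹
        rw [inv_inv]
      rw [e1, ← Subgroup.map_map]
      show g⁻¹ ⋆ Cfsg.pCoreOf p (g ⋆ E) = Cfsg.pCoreOf p E
      rw [← cj_pCoreOf, cj_inv_cj])
  refine ⟨by rw [← cj_pResidualOf, hres], ?_, by rw [← cj_pCoreOf, ← cj_commutator, hQ], ?_, ?_⟩
  · rw [← CfsgLib.Baumann.cj_baumann, ← cj_commutator, hcomm]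
  · rw [← CfsgLib.Baumann.cj_omegaOneCenter, ← cj_commutator, Ne, cj_eq_bot_iff]
    exact hV
  rcases hcase with ⟨F, iF, iFt, n, hcard, ⟨i⟩, hW, hrest⟩ | ⟨hp, m, ⟨i⟩, hW, hQW⟩
  · refine Or.inl ⟨F, iF, iFt, n, hcard, ⟨iso.trans i⟩, ?_, ?_⟩
    · have := acts_linear g hW
      rwa [eC, eW] at this
    rcases hrest with hQW | ⟨hp, hQW, hQQ, hΦ, hEE, hZc, hnq⟩
    · exact Or.inl (by rw [← eW, ← hQW, cj_pCoreOf])
    refine Or.inr ⟨hp, ?_, ?_, ?_, ?_, ?_, fun b hb hbW => ?_⟩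
    · have := acts_linear g hQW
      rwa [cj_pCoreOf, eW] at this
    · rw [← cj_pCoreOf, ← cj_commutator, hQQ, eC, eW, cj_pCoreOf]
    · rw [← eW, ← eC, ← hΦ, cj_frattini, cj_pCoreOf]
    · rw [← eW, ← eC, ← eC, hEE]
    · rw [← eC, card_cj]; exact hZc
    · rw [← CfsgLib.Baumann.cj_baumann, mem_cj] at hb
      have hb' : g⁻¹ * b * g ∉ centralizer
          (Cfsg.omegaOneCenter p (Cfsg.pCoreOf p E) : Set G) := fun hc => hbW (by
        rw [← eW, ← cj_centralizer, mem_cj]; exact hc)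
      intro hle
      refine hnq _ hb hb' ?_
      have := cj_mono g⁻¹ hle
      rw [cj_commutator, cj_commutator, ← cj_pCoreOf, cj_inv_cj, MonoidHom.map_zpowers,
        ← eC, cj_inv_cj] at this
      simpa [MulAut.conj_apply, mul_assoc] using this
  · refine Or.inr ⟨hp, m, ⟨iso.trans i⟩, ?_, ?_⟩
    · have := acts_perm g hW
      rwa [eC, eW] at this
    · rw [← eW, ← hQW, cj_pCoreOf]

end CfsgLib.BlockTransport
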