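import Cfsg.Agent.LocalB.BlockCompare
import Cfsg.Agent.LocalB.BlockTransport

/-!
A conjugate of a subnormal block normalizing it equals it or commutes with it.
-/

set_option autoImplicit false
set_option linter.style.haveILetI false
set_option linter.unusedSectionVars false

namespace CfsgLib.BlockConj

open Subgroup CfsgLib.Functor CfsgLib.BlockModule CfsgLib.BlockBasic CfsgLib.BlockCore
  CfsgLib.BlockSection CfsgLib.BlockSL2 CfsgLib.BlockLinearSL CfsgLib.BlockLinear
  CfsgLib.BlockTypes CfsgLib.BlockCompare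
open scoped CfsgLib.Functor commutatorElement

universe u

variable {G : Type u} [Group G] [Finite G] {p : ℕ} [hp : Fact p.Prime]

theorem exists_cj_block (g : G) {T : Sylow p G} {E : Subgroup G}
    (hE : Cfsg.IsBaumannBlock p (T : Subgroup G) E) :
    ∃ T' : Sylow p G, (T' : Subgroup G) = g ⋆ (T : Subgroup G) ∧
      Cfsg.IsBaumannBlock p (T' : Subgroup G) (g ⋆ E) :=
  ⟨g • T, rfl, CfsgLib.BlockTransport.isBaumannBlock_cj g hE⟩

theorem isSubnormal_cj (g : G) {E : Subgroup G} (hs : E.IsSubnormal) : (g ⋆ E).IsSubnormal :=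
  hs.map (f := (MulAut.conj g).toMonoidHom) (MulAut.conj g).surjective

theorem cj_WEm (g : G) (E : Subgroup G) : g ⋆ WEm p E = WEm p (g ⋆ E) := by
  rw [WEm, WEm, cj_commutator, Wm, Wm, CfsgLib.Baumann.cj_omegaOneCenter,
    CfsgLib.BlockTransport.cj_pCoreOf]

theorem cj_Cm (g : G) (E : Subgroup G) : g ⋆ Cm p E = Cm p (g ⋆ E) := by
  rw [Cm, Cm, cj_centralizer, cj_WEm]

section

variable {K : Type} [Field K] [Fintype K]

theorem pElement_R_small (hsmall : ¬ ∃ t : K, t ≠ 0 ∧ t * t ≠ 1) (hpK : (p : K) = 0) {r : SL K}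
    (hr : r ∈ R K) {k : ℕ} (hk : r ^ p ^ k = 1) : r = 1 := by
  by_cases hp2 : p = 2
  · subst hp2
    haveI : CharP K 2 := (CharP.charP_iff_prime_eq_zero Nat.prime_two).2 hpK
    obtain ⟨m, -, -, hcomm, hfix⟩ := exists_central_two (by exact_mod_cast hpK) hsmall
    have hM : (r : Matrix (Fin 2) (Fin 2) K) ^ 2 ^ k = 1 := by
      rw [← Matrix.SpecialLinearGroup.coe_pow, hk, Matrix.SpecialLinearGroup.coe_one]
    have hsq := quadratic_of_pow hM
    refine ext_mulVec fun v => ?_
    rw [Matrix.SpecialLinearGroup.coe_one, Matrix.one_mulVec]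
    by_contra hv
    have hrd : ∀ v, (r : Matrix (Fin 2) (Fin 2) K).mulVec
        ((r : Matrix (Fin 2) (Fin 2) K).mulVec v - v) =
          (r : Matrix (Fin 2) (Fin 2) K).mulVec v - v := fun v => by
      have h := congrArg (fun M : Matrix (Fin 2) (Fin 2) K => M.mulVec v) hsq
      simp only [← Matrix.mulVec_mulVec, Matrix.sub_mulVec, Matrix.one_mulVec,
        Matrix.zero_mulVec] at h
      exact sub_eq_zero.1 h
    set u := (r : Matrix (Fin 2) (Fin 2) K).mulVec v - v with hu
    have hu0 : u ≠ 0 := sub_ne_zero.2 hv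
    have hru := hrd v
    rw [← hu] at hru
    -- the fixed line is invariant under `m`, hence pointwise fixed
    set w := (m : Matrix (Fin 2) (Fin 2) K).mulVec u with hw
    have hrw : (r : Matrix (Fin 2) (Fin 2) K).mulVec w = w := by
      rw [hw, ← mulVec_mul, hcomm r hr, mulVec_mul, hru]
    have hdet : det2 u w = 0 := by
      by_contra hd
      -- otherwise `r` is the identity
      refine hv (sub_eq_zero.1 ?_)
      show (r : Matrix (Fin 2) (Fin 2) K).mulVec v - v = 0
      rw [sub_eq_zero]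
      have e : det2 u w • v = det2 v w • u + det2 u v • w := by
        funext i
        fin_cases i <;> simp [det2] <;> ring
      have h2 := congrArg ((r : Matrix (Fin 2) (Fin 2) K).mulVec) e
      rw [Matrix.mulVec_smul, Matrix.mulVec_add, Matrix.mulVec_smul, Matrix.mulVec_smul, hru, hrw,
        ← e] at h2
      exact smul_right_injective _ hd h2
    obtain ⟨c, hc⟩ : ∃ c : K, w = c • u := by
      by_cases h0 : u 0 = 0
      · have h1 : u 1 ≠ 0 := fun h1 => hu0 (funext fun i => by fin_cases i <;> assumption)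
        refine ⟨w 1 / u 1, funext fun i => ?_⟩
        simp only [det2, h0, zero_mul, zero_sub, neg_eq_zero, mul_eq_zero, h1, false_or] at hdet
        fin_cases i <;> simp [h0, h1, hdet]
      · refine ⟨w 0 / u 0, funext fun i => ?_⟩
        simp only [det2, sub_eq_zero] at hdet
        fin_cases i
        · simp [h0]
        · simp [Pi.smul_apply]
          field_simp
          linear_combination hdet
    rcases small_cases hsmall c with rfl | rfl | rfl
    · rw [zero_smul] at hc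
      refine hu0 ?_
      rw [show u = ((m⁻¹ * m : SL K) : Matrix (Fin 2) (Fin 2) K).mulVec u by
        rw [inv_mul_cancel, Matrix.SpecialLinearGroup.coe_one, Matrix.one_mulVec], mulVec_mul,
        ← hw, hc, Matrix.mulVec_zero]
    · exact hu0 (hfix u (by rw [← hw, hc, one_smul]))
    · refine hu0 (hfix u ?_)
      rw [← hw, hc, neg_one_smul]
      funext i
      exact CharTwo.neg_eq _
  · have h2 : (2 : K) ≠ 0 := fun h2 => hp2 (by
      haveI : CharP K p := (CharP.charP_iff_prime_eq_zero hp.out).2 hpK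
      exact (Nat.prime_dvd_prime_iff_eq hp.out Nat.prime_two).1
        ((CharP.cast_eq_zero_iff K p 2).1 (by exact_mod_cast h2)))
    obtain ⟨j, hj⟩ := isPGroup_R_of_small h2 hsmall ⟨r, hr⟩
    have hj' : r ^ 2 ^ j = 1 := congrArg Subtype.val hj
    have := pow_gcd_eq_one.2 ⟨hk, hj'⟩
    rwa [Nat.Coprime.pow k j ((Nat.coprime_primes hp.out Nat.prime_two).2 hp2), pow_one] at this

theorem sup_zpowers_eq_top (hsmall : ¬ ∃ t : K, t ≠ 0 ∧ t * t ≠ 1) (hpK : (p : K) = 0) {m : SL K}
    (hm : m ∉ R K) : R K ⊔ zpowers m = ⊤ := by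
  haveI : (R K).Normal := normal_R
  have hall : ∀ x : SL K, x ∈ R K ⊔ zpowers (up (1 : K)) := by
    have hup : ∀ x : K, up x ∈ R K ⊔ zpowers (up (1 : K)) := by
      intro x
      rcases small_cases hsmall x with rfl | rfl | rfl
      · rw [(show up (0 : K) = 1 from Subtype.ext (by simp [coe_up, Matrix.one_fin_two]))]; exact one_mem _
      · exact mem_sup_right (mem_zpowers _)
      · rw [← up_inv]; exact inv_mem (mem_sup_right (mem_zpowers _))
    refine mem_of_transvections _ hup fun x => ?_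
    have e : lo x = (jj : SL K) * up (-x) * jj⁻¹ := by
      rw [eq_mul_inv_iff_mul_eq]
      refine Subtype.ext ?_
      simp [Matrix.SpecialLinearGroup.coe_mul, coe_jj, coe_up,
        coe_lo]
    rw [e, show (jj : SL K) * up (-x) * jj⁻¹ =
      ⁅(jj : SL K), up (-x)⁆ * up (-x) by
        rw [commutatorElement_def]; group]
    exact mul_mem (mem_sup_left (commutator_mem_commutator (mem_top _) (mem_top _))) (hup _)
  obtain ⟨r, hr, _, ⟨i, rfl⟩, hri⟩ :=
    Subgroup.mem_sup_of_normal_left.1 (hall m)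
  set a := up (1 : K)
  simp only [] at hri
  have hap : a ^ (p : ℤ) ∈ R K := by
    rw [zpow_natCast]; exact pow_mem_R hpK a
  have hi : IsCoprime (i : ℤ) p := by
    refine ((Nat.prime_iff_prime_int.1 hp.out).coprime_iff_not_dvd.2 fun ⟨d, hd⟩ => hm ?_).symm
    rw [← hri, hd, zpow_mul]
    exact mul_mem hr (Subgroup.zpow_mem _ hap d)
  obtain ⟨x, y, hxy⟩ := hi
  have ha : a ∈ R K ⊔ zpowers m := by
    have h1 : a ^ i ∈ R K ⊔ zpowers m := by
      rw [show a ^ i = r⁻¹ * m by rw [← hri, inv_mul_cancel_left]]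
      exact mul_mem (mem_sup_left (inv_mem hr)) (mem_sup_right (mem_zpowers _))
    rw [← zpow_one a, ← hxy, zpow_add, mul_comm x i, mul_comm y (p : ℤ), zpow_mul, zpow_mul]
    exact mul_mem (Subgroup.zpow_mem _ h1 x) (mem_sup_left (Subgroup.zpow_mem _ hap y))
  exact eq_top_iff.2 fun x _ => (sup_le le_sup_left (zpowers_le.2 ha) :
    R K ⊔ zpowers a ≤ _) (hall x)

end

section

variable (hG : centralizer (Cfsg.pCore p G : Set G) ≤ Cfsg.pCore p G) {T : Sylow p G}
  {E : Subgroup G} (hE : Cfsg.IsBaumannBlock p (T : Subgroup G) E)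

include hG hE

/-- A `p`-element normalizing `W_E` normalizes a tiny linear block. -/
theorem mem_normalizer_of_small {K : Type} [Field K] [Fintype K] (X : LData p E K)
    (hsmall : ¬ ∃ t : K, t ≠ 0 ∧ t * t ≠ 1) {b : G} {k : ℕ} (hk : b ^ p ^ k = 1)
    (hb : b ∈ normalizer (WEm p E : Set G)) : b ∈ normalizer (E : Set G) := by
  classical
  have hB := CfsgLib.Baumann.blk_of_isBaumannBlock hE
  have hCN := CfsgLib.BlockNorm.C_le_normalizer hG hE
  have hWZ := X.WE_inf_Z (Or.inr hsmall)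
  choose s hs hfs using X.surj_WE
  have hinj : ∀ {x y : G}, x ∈ WEm p E → y ∈ WEm p E → X.S.f x = X.S.f y → x = y := by
    intro x y hx hy hxy
    have h1 := (X.S.eq_iff (WE_le_W E hx) (WE_le_W E hy)).1 hxy
    have h2 : x⁻¹ * y ∈ WEm p E ⊓ Zm p E := Subgroup.mem_inf.2 ⟨mul_mem (inv_mem hx) hy, h1⟩
    rwa [hWZ, mem_bot, inv_mul_eq_one] at h2
  have hcW : ∀ {g : G}, g ∈ normalizer (WEm p E : Set G) → ∀ {w : G}, w ∈ WEm p E →
      g * w * g⁻¹ ∈ WEm p E := fun {g} hg {w} hw => (mem_normalizer_iff.1 hg w).1 hw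
  let N := normalizer (WEm p E : Set G)
  let A : ↥N → (Fin 2 → K) →+ (Fin 2 → K) := fun g =>
    AddMonoidHom.mk' (fun v => X.S.f ((g : G) * s v * (g : G)⁻¹)) fun v w => by
      have e : s (v + w) = s v * s w := hinj (hs _) (mul_mem (hs v) (hs w)) (by
        rw [X.S.map_mul _ (WE_le_W E (hs v)) _ (WE_le_W E (hs w)), hfs, hfs, hfs])
      rw [e, show (g : G) * (s v * s w) * (g : G)⁻¹ =
        ((g : G) * s v * (g : G)⁻¹) * ((g : G) * s w * (g : G)⁻¹) by group,
        X.S.map_mul _ (WE_le_W E (hcW g.2 (hs v))) _ (WE_le_W E (hcW g.2 (hs w)))]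
  have hA : ∀ (g : ↥N) {w : G}, w ∈ WEm p E →
      A g (X.S.f w) = X.S.f ((g : G) * w * (g : G)⁻¹) := fun g {w} hw => by
    show X.S.f _ = _
    rw [hinj (hs _) hw (hfs _)]
  have hmul : ∀ (g h : ↥N) v, A (g * h) v = A g (A h v) := fun g h v => by
    obtain ⟨w, hw, rfl⟩ := X.surj_WE v
    rw [hA _ hw, hA _ hw, hA _ (hcW h.2 hw), Subgroup.coe_mul]
    congr 1; group
  have hone : ∀ v, A 1 v = v := fun v => by
    obtain ⟨w, hw, rfl⟩ := X.surj_WE v
    rw [hA _ hw]; simp
  have hC : ∀ g : ↥N, (∀ v, A g v = v) → (g : G) ∈ Cm p E := fun g hg =>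
    mem_centralizer_iff.2 fun w hw => by
      have h1 := hg (X.S.f w)
      rw [hA _ hw] at h1
      exact ((mul_inv_eq_iff_eq_mul.1 (hinj (hcW g.2 hw) hw h1))).symm
  have hEN : E ≤ N := fun e he => mem_normalizer_iff_cj.2 (cj_WE (le_normalizer he))
  have hNE : normalizer (E : Set G) ≤ N := fun g hg => mem_normalizer_iff_cj.2 (cj_WE hg)
  have hAe : ∀ (e : ↥E) v, A ⟨e, hEN e.2⟩ v =
      (X.S.ρ e : Matrix (Fin 2) (Fin 2) K).mulVec v := fun e v => by
    obtain ⟨w, hw, rfl⟩ := X.surj_WE v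
    rw [hA _ hw, X.S.equiv e w (WE_le_W E hw)]
  -- every `p`-element acts as an element of `SL`
  have hmat : ∀ (g : ↥N) {j : ℕ}, g ^ p ^ j = 1 →
      ∃ m : SL K, m ^ p ^ j = 1 ∧ ∀ v, A g v = (m : Matrix (Fin 2) (Fin 2) K).mulVec v := by
    intro g j hj
    have hlin : Lin (A g) := fun c v => by
      rcases small_cases hsmall c with rfl | rfl | rfl
      · rw [zero_smul, zero_smul, map_zero]
      · rw [one_smul, one_smul]
      · rw [neg_one_smul, neg_one_smul, map_neg]
    have hit : ∀ (n : ℕ) v, (A g)^[n] v = A (g ^ n) v := by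
      intro n
      induction n with
      | zero => intro v; rw [pow_zero, hone]; rfl
      | succ n ih => intro v; rw [Function.iterate_succ_apply', ih, pow_succ', hmul]
    have hq := quadratic_of_iterate X.char (A g) hlin (k := j) fun v => by rw [hit, hj, hone]
    have hsurj : Function.Surjective (A g) := fun v => ⟨A g⁻¹ v, by
      rw [← hmul, mul_inv_cancel, hone]⟩
    obtain ⟨m, hm⟩ := exists_of_isometry (A g) hsurj
      (CfsgLib.BlockExc.det2_of_quadratic (A g) hlin hq)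
    refine ⟨m, ext_mulVec fun v => ?_, hm⟩
    have hp' : ∀ (n : ℕ) v, A (g ^ n) v =
        ((m ^ n : SL K) : Matrix (Fin 2) (Fin 2) K).mulVec v := by
      intro n
      induction n with
      | zero =>
        intro v; rw [pow_zero, pow_zero, hone, Matrix.SpecialLinearGroup.coe_one, Matrix.one_mulVec]
      | succ n ih => intro v; rw [pow_succ', hmul, ih, hm, pow_succ', mulVec_mul]
    rw [← hp', hj, hone, Matrix.SpecialLinearGroup.coe_one, Matrix.one_mulVec]
  obtain ⟨b₀, hb₀, hb₀C⟩ : ∃ b₀ ∈ Cfsg.baumannSubgroupOf p (T : Subgroup G), b₀ ∉ Cm p E := by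
    by_contra hno
    push Not at hno
    refine CfsgLib.Baumann.commutator_W_thompson_ne hG T hB ?_
    rw [commutator_comm, commutator_eq_bot_iff_le_centralizer]
    exact (CfsgLib.Baumann.thompson_le_baumann _).trans hno
  obtain ⟨k₀, hk₀⟩ := T.2 ⟨b₀, CfsgLib.Baumann.baumann_le _ hb₀⟩
  have hk₀' : b₀ ^ p ^ k₀ = 1 := congrArg Subtype.val hk₀
  have hb₀E := B_le_normalizer_E hB hb₀
  obtain ⟨m₀, hm₀k, hm₀⟩ := hmat ⟨b₀, hNE hb₀E⟩ (Subtype.ext hk₀')
  have hm₀R : m₀ ∉ R K := fun hR => hb₀C (hC ⟨b₀, hNE hb₀E⟩ fun v => by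
    rw [hm₀, pElement_R_small hsmall X.char hR hm₀k, Matrix.SpecialLinearGroup.coe_one,
      Matrix.one_mulVec])
  obtain ⟨m, -, hm⟩ := hmat ⟨b, hb⟩ (j := k) (Subtype.ext hk)
  haveI : (R K).Normal := normal_R
  obtain ⟨r, hr, x, hx, hrx⟩ := Subgroup.mem_sup_of_normal_left.1
    (show m ∈ R K ⊔ zpowers m₀ by rw [sup_zpowers_eq_top hsmall X.char hm₀R]; trivial)
  obtain ⟨n, rfl⟩ := mem_powers_iff_mem_zpowers.2 hx
  obtain ⟨e, he⟩ := X.S.exists_pre r hr
  set h : ↥N := ⟨e, hEN e.2⟩ * ⟨b₀, hNE hb₀E⟩ ^ n with hh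
  have hsame : ∀ v, A h v = A ⟨b, hb⟩ v := by
    intro v
    have hp' : ∀ (n : ℕ) v, A (⟨b₀, hNE hb₀E⟩ ^ n) v =
        ((m₀ ^ n : SL K) : Matrix (Fin 2) (Fin 2) K).mulVec v := by
      intro n
      induction n with
      | zero =>
        intro v; rw [pow_zero, pow_zero, hone, Matrix.SpecialLinearGroup.coe_one, Matrix.one_mulVec]
      | succ n ih => intro v; rw [pow_succ', hmul, ih, hm₀, pow_succ', mulVec_mul]
    rw [hh, hmul, hp', hAe, he, ← mulVec_mul, hrx, hm]
  have hc := hC (h⁻¹ * ⟨b, hb⟩) fun v => by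
    rw [hmul, ← hsame, ← hmul, inv_mul_cancel, hone]
  have hhE : (h : G) ∈ normalizer (E : Set G) := by
    rw [hh, Subgroup.coe_mul, Subgroup.coe_pow]
    exact mul_mem (le_normalizer e.2) (pow_mem hb₀E n)
  rw [show b = (h : G) * ((h : G)⁻¹ * b) by group]
  exact mul_mem hhE (hCN hc)

variable (hs : E.IsSubnormal)

include hs

/-- A conjugate normalizing `E` equals `E` or commutes with it. -/
theorem conj_eq_or_commute (g : G) (hFN : g ⋆ E ≤ normalizer (E : Set G)) :
    g ⋆ E = E ∨ ⁅g ⋆ E, E⁆ = ⊥ := by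
  obtain ⟨T', hT', hF⟩ := exists_cj_block g hE
  by_cases hne : g ⋆ E ≤ Cm p E
  · right
    rw [commutator_comm]
    exact commutator_eq_bot_of_centralizes hG hE hs hF hne
  left
  have hWW : WEm p (g ⋆ E) = WEm p E := eq_of_le_of_card_le' (WF_le hG hE hF hFN hne) (by
    rw [← cj_WEm, card_cj])
  have hBN : ∀ (K : Type) [Field K] [Fintype K], LData p E K →
      Cfsg.baumannSubgroupOf p (T' : Subgroup G) ≤ normalizer (E : Set G) := by
    intro K _ _ X b hb
    by_cases hbig : ∃ t : K, t ≠ 0 ∧ t * t ≠ 1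
    · rw [hT', ← CfsgLib.Baumann.cj_baumann, mem_cj] at hb
      have hBE := B_le_normalizer_E (CfsgLib.Baumann.blk_of_isBaumannBlock hE)
      obtain ⟨e, he, hc⟩ := baumann_EC hG hE T
        ((CfsgLib.Baumann.thompson_le_baumann _).trans hBE) X hbig hBE _ hb
      have h1 : g * e * g⁻¹ ∈ normalizer (E : Set G) := hFN (conj_mem_cj he)
      have h2 : g * (e⁻¹ * (g⁻¹ * b * g)) * g⁻¹ ∈ Cm p E := by
        have := conj_mem_cj (g := g) hc
        rwa [cj_Cm, Cm, hWW] at this
      rw [show b = g * e * g⁻¹ * (g * (e⁻¹ * (g⁻¹ * b * g)) * g⁻¹) by group]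
      exact mul_mem h1 (CfsgLib.BlockNorm.C_le_normalizer hG hE h2)
    · obtain ⟨k, hk⟩ := T'.2 ⟨b, CfsgLib.Baumann.baumann_le _ hb⟩
      refine mem_normalizer_of_small hG hE X hbig (congrArg Subtype.val hk) ?_
      rw [← hWW]
      exact mem_normalizer_iff_cj.2
        (cj_WE (B_le_normalizer_E (CfsgLib.Baumann.blk_of_isBaumannBlock hF) hb))
  exact eq_of_le_of_card_le' (le_of_not_centralizes hG hE hF hFN hne hBN hs) (by rw [card_cj])

end

end CfsgLib.BlockConj
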