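import Cfsg.Agent.LocalB.BlockNorm
import Cfsg.Agent.LocalB.BlockTransport
import Cfsg.Agent.CharP.Subnormal

/-!
Facts on blocks that do not depend on their type.
-/

set_option autoImplicit false
set_option linter.style.haveILetI false
set_option linter.unusedSectionVars false

namespace CfsgLib.BlockCore

open Subgroup CfsgLib.Functor CfsgLib.BlockModule CfsgLib.BlockBasic
open scoped CfsgLib.Functor commutatorElement

universe u

variable {G : Type u} [Group G] [Finite G] {p : ℕ} [hp : Fact p.Prime]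

/-- `Ω₁(Z(O_p(G)))` -/
abbrev Vm (p : ℕ) (G : Type u) [Group G] : Subgroup G :=
  Cfsg.omegaOneCenter p (Cfsg.pCore p G)

/-! ### General lemmas -/

/-- A `p`-group acting on a nontrivial `p`-quotient fixes a nontrivial element. -/
theorem exists_fixed_mod {S M N : Subgroup G} (hS : IsPGroup p ↥S) (hM : IsPGroup p ↥M)
    (hne : ¬ M ≤ N) (hSM : S ≤ normalizer (M : Set G))
    (hSN : S ≤ normalizer (N : Set G)) (hMN : M ≤ normalizer (N : Set G)) :
    ∃ w ∈ M, w ∉ N ∧ ∀ s ∈ S, s * w * s⁻¹ * w⁻¹ ∈ N := by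
  set R := N.subgroupOf M
  let act : ↥S → ↥M ⧸ R → ↥M ⧸ R := fun s =>
    Quotient.map' (fun m => ⟨(s : G) * m * (s : G)⁻¹, (mem_normalizer_iff.1 (hSM s.2) m).1 m.2⟩)
      fun a b h => by
        rw [QuotientGroup.leftRel_apply] at h ⊢
        show ((s : G) * a * (s : G)⁻¹)⁻¹ * ((s : G) * b * (s : G)⁻¹) ∈ N
        rw [show ((s : G) * a * (s : G)⁻¹)⁻¹ * ((s : G) * b * (s : G)⁻¹) =
          (s : G) * ((a : G)⁻¹ * b) * (s : G)⁻¹ by group]
        exact (mem_normalizer_iff.1 (hSN s.2) _).1 h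
  letI : MulAction ↥S (↥M ⧸ R) :=
    { smul := act
      one_smul := fun x => Quotient.inductionOn' x fun m => by
        show Quotient.mk'' _ = Quotient.mk'' m
        congr 1
        exact Subtype.ext (by simp)
      mul_smul := fun a b x => Quotient.inductionOn' x fun m => by
        show Quotient.mk'' _ = Quotient.mk'' _
        congr 1
        exact Subtype.ext (by simp [mul_assoc]) }
  have hdvd : p ∣ Nat.card (↥M ⧸ R) := by
    obtain ⟨k, hk⟩ := hM.index R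
    change p ∣ R.index
    rw [hk]
    refine dvd_pow_self p fun h0 => hne ?_
    rw [h0, pow_zero, Subgroup.index_eq_one] at hk
    exact subgroupOf_eq_top.1 hk
  obtain ⟨x, hx, hx1⟩ := hS.exists_fixed_point_of_prime_dvd_card_of_fixed_point _ hdvd
    (a := ((1 : ↥M) : ↥M ⧸ R)) (fun s => by
      show Quotient.mk'' _ = Quotient.mk'' (1 : ↥M)
      congr 1
      exact Subtype.ext (by simp))
  obtain ⟨m, rfl⟩ := QuotientGroup.mk_surjective x
  refine ⟨m, m.2, fun hN => hx1 ((QuotientGroup.eq.2 (show (1 : ↥M)⁻¹ * m ∈ R by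
    rw [inv_one, one_mul]; exact hN))), fun s hs => ?_⟩
  have h1 : (m : ↥M ⧸ R) =
      ((⟨s * m * s⁻¹, (mem_normalizer_iff.1 (hSM hs) m).1 m.2⟩ : ↥M) : ↥M ⧸ R) :=
    (hx ⟨s, hs⟩).symm
  have h2 : (m : G)⁻¹ * (s * m * s⁻¹) ∈ N :=
    (QuotientGroup.eq.1 h1 : m⁻¹ * _ ∈ R)
  have h3 := (mem_normalizer_iff.1 (hMN m.2) _).1 h2
  rwa [mul_inv_cancel_left] at h3

/-- An element of coprime order stabilizing the chain `U ≥ 1` centralizes what it moves into `U`. -/
theorem comm_eq_one {U : Subgroup G} (hU : IsPGroup p ↥U) {f x : G} (hf : (orderOf f).Coprime p)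
    (hc : f * x * f⁻¹ * x⁻¹ ∈ U) (hcw : Commute f (f * x * f⁻¹ * x⁻¹)) :
    f * x * f⁻¹ * x⁻¹ = 1 := by
  rw [(LocalB.commute_of_stab hU hf hc hcw).eq, mul_inv_cancel_right, mul_inv_cancel]

/-! ### Facts -/

/-- The facts on a block used below. -/
structure Facts (p : ℕ) (E : Subgroup G) : Prop where
  res : Cfsg.pResidualOf p E = E
  commQ : ⁅Cfsg.pCoreOf p E, E⁆ = Cfsg.pCoreOf p E
  irr : Irred E (Wm p E) (Zm p E)
  ne : ¬ Wm p E ≤ Zm p E
  ker : ∀ e ∈ E, (∀ w ∈ Wm p E, e * w * e⁻¹ * w⁻¹ ∈ Zm p E) → e ∈ Cfsg.pCoreOf p E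

theorem perm_ker {E : Subgroup G} {n : ℕ} (hn3 : 3 ≤ n)
    (hiso : Nonempty (↥E ⧸ Cfsg.pCore p ↥E ≃* ↥(alternatingGroup (Fin n))))
    (hW : Cfsg.ActsAsOddPermModuleOnSection n (alternatingGroup (Fin n)) E (Wm p E) (Zm p E))
    {e : G} (he : e ∈ E) (htriv : ∀ w ∈ Wm p E, e * w * e⁻¹ * w⁻¹ ∈ Zm p E) :
    e ∈ Cfsg.pCoreOf p E := by
  classical
  obtain ⟨hEW, hle, ρ, ψ, hR, heven, hψ, hker, hact⟩ := hW
  have hone : ∀ u : ↥E, (∀ w ∈ Wm p E, (u : G) * w * (u : G)⁻¹ * w⁻¹ ∈ Zm p E) → ρ u = 1 := by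
    intro u hu
    by_contra hne
    obtain ⟨i, hi⟩ : ∃ i, (ρ u)⁻¹ i ≠ i := by
      by_contra hno
      push Not at hno
      exact hne (inv_eq_one.1 (Equiv.ext hno))
    obtain ⟨j, hji, hjr⟩ : ∃ j : Fin n, j ≠ i ∧ j ≠ (ρ u)⁻¹ i := by
      by_contra hno
      push Not at hno
      have hsub : (Finset.univ : Finset (Fin n)) ⊆ {i, (ρ u)⁻¹ i} := fun k _ => by
        rcases eq_or_ne k i with hk | hk <;> simp [hk]
        exact hno k hk
      have h := Finset.card_le_card hsub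
      rw [Finset.card_univ, Fintype.card_fin] at h
      have := Finset.card_le_two (a := i) (b := (ρ u)⁻¹ i)
      omega
    obtain ⟨v, hv⟩ := hψ (Pi.single i 1 + Pi.single j 1) (by
      simp only [Pi.add_apply, Finset.sum_add_distrib, Finset.sum_pi_single', Finset.mem_univ,
        if_true]
      decide)
    obtain ⟨w, hw, hwv⟩ := hact u v
    have h1 : ψ (w * v⁻¹) = 1 := (hker _).2 (by
      show (w : G) * (v : G)⁻¹ ∈ Zm p E
      rw [hw]; exact hu v v.2)
    rw [map_mul, map_inv, mul_inv_eq_one] at h1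
    have h2 := hwv i
    rw [h1, hv] at h2
    change _ = (Pi.single i (1 : ZMod 2) + Pi.single j 1 : Fin n → ZMod 2) ((ρ u)⁻¹ i) at h2
    rw [Pi.add_apply, Pi.add_apply, Pi.single_eq_same, Pi.single_eq_of_ne hji.symm,
      Pi.single_eq_of_ne hi, Pi.single_eq_of_ne hjr.symm, add_zero, add_zero] at h2
    exact one_ne_zero h2
  have hW' : ∀ q ∈ Cfsg.pCoreOf p E, ∀ w ∈ Wm p E, q * w * q⁻¹ * w⁻¹ ∈ Zm p E := fun q hq w hw => by
    rw [W_comm hw hq, mul_inv_cancel_right, mul_inv_cancel]; exact one_mem _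
  have hle' : Cfsg.pCore p ↥E ≤ ρ.ker := fun u hu => hone u (hW' _ ⟨u, hu, rfl⟩)
  obtain ⟨i⟩ := hiso
  have heq : Cfsg.pCore p ↥E = ρ.ker := by
    refine eq_of_le_of_card_le' hle' ?_
    have h1 : Nat.card (↥E ⧸ Cfsg.pCore p ↥E) = Nat.card (↥E ⧸ ρ.ker) := by
      rw [Nat.card_congr i.toEquiv,
        Nat.card_congr (QuotientGroup.quotientKerEquivRange ρ).toEquiv, hR]
    have h2 := (Cfsg.pCore p ↥E).card_eq_card_quotient_mul_card_subgroup
    rw [ρ.ker.card_eq_card_quotient_mul_card_subgroup, ← h1] at h2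
    exact (Nat.eq_of_mul_eq_mul_left Nat.card_pos h2).le
  exact ⟨⟨e, he⟩, heq.ge (hone ⟨e, he⟩ htriv), rfl⟩

theorem facts_of_block {T E : Subgroup G} (hE : Cfsg.IsBaumannBlock p T E) : Facts p E := by
  have hB := CfsgLib.Baumann.blk_of_isBaumannBlock hE
  obtain ⟨hres, hcomm, hQ, hV, hcase⟩ := hE
  refine ⟨hres, hQ, hB.irr, hB.ne, fun e he htriv => ?_⟩
  rcases hcase with ⟨F, iF, iFt, n, -, hiso, hW, -⟩ | ⟨-, m, hiso, hW, -⟩
  · obtain ⟨S⟩ := CfsgLib.BlockSection.exists_sec hW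
    exact (S.rho_eq_one_iff hiso (fun q hq a ha => by
      rw [W_comm ha hq, mul_inv_cancel_right, mul_inv_cancel]; exact one_mem _) ⟨e, he⟩).1
      (S.rho_eq_one ⟨e, he⟩ htriv)
  · rcases Nat.eq_zero_or_pos m with rfl | hm
    · exfalso
      obtain ⟨-, -, ρ, ψ, -, heven, -, hker, -⟩ := hW
      refine hB.ne fun w hw => (hker ⟨w, hw⟩).1 (Multiplicative.toAdd.injective (funext fun i => ?_))
      have := heven ⟨w, hw⟩
      rw [Fin.sum_univ_one] at this
      rw [show i = 0 from Fin.ext (by omega)]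
      exact this
    · exact perm_ker (by omega) hiso hW he htriv

namespace Facts

variable {E : Subgroup G} (h : Facts p E)

include h

theorem W_le_E : Wm p E ≤ E := (W_le_Q E).trans (Q_le E)

theorem W_commute {a b : G} (ha : a ∈ Wm p E) (hb : b ∈ Wm p E) : a * b = b * a :=
  CfsgLib.Thompson.elab_commute CfsgLib.Baumann.exponent_omegaOneCenter ha hb

theorem Z_fix {x e : G} (hx : x ∈ Zm p E) (he : e ∈ E) : e * x * e⁻¹ = x := by
  rw [mem_centralizer_iff.1 hx.2 e he, mul_inv_cancel_right]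

theorem Z_commute {x e : G} (hx : x ∈ Zm p E) (he : e ∈ E) : x * e = e * x :=
  (mem_centralizer_iff.1 hx.2 e he).symm

theorem W_isPGroup : IsPGroup p ↥(Wm p E) :=
  CfsgLib.Thompson.elab_isPGroup CfsgLib.Baumann.exponent_omegaOneCenter

theorem W_eq : Wm p E = WEm p E ⊔ Zm p E := by
  have hW : E ≤ normalizer (Wm p E : Set G) := le_normalizer_W E
  refine ((h.irr (WEm p E ⊔ Zm p E) le_sup_right (sup_le (WE_le_W E) inf_le_left) fun e he => ?_
    ).resolve_left fun hZ => h.ne (le_inf le_rfl fun w hw => ?_)).symm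
  · rw [mem_normalizer_iff_cj, Subgroup.map_sup, cj_inf,
      mem_normalizer_iff_cj.1 (hW he), cj_centralizer, cj_eq_self_of_mem he,
      cj_WE (le_normalizer he)]
  · have hWE : WEm p E ≤ centralizer (E : Set G) :=
      le_sup_left.trans (hZ.le.trans inf_le_right)
    have h2 : WEm p E = ⊥ := by
      show ⁅Wm p E, E⁆ = ⊥
      rw [← commutator_commutator_eq h.res h.W_isPGroup hW (h.W_le_E.trans le_normalizer),
        commutator_eq_bot_iff_le_centralizer]
      exact hWE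
    exact (commutator_eq_bot_iff_le_centralizer.1 h2) hw

theorem exists_split {w : G} (hw : w ∈ Wm p E) :
    ∃ n ∈ WEm p E, ∃ c ∈ Zm p E, w = n * c := by
  rw [h.W_eq, CfsgLib.Solvable.mem_sup_of_le_normalizer (fun n hn => mem_normalizer_iff_cj.2 (by
    refine eq_of_le_of_card_le' (cj_le_iff.2 fun x hx => ?_) (card_cj _ _).ge
    rw [h.W_commute (WE_le_W E hn) hx.1, mul_inv_cancel_right]; exact hx))] at hw
  obtain ⟨n, hn, c, hc, e⟩ := hw
  exact ⟨n, hn, c, hc, e.symm⟩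

theorem WE_comm : ⁅WEm p E, E⁆ = WEm p E :=
  commutator_commutator_eq h.res h.W_isPGroup (le_normalizer_W E) (h.W_le_E.trans le_normalizer)

theorem Q_eq_WE (hle : Cfsg.pCoreOf p E ≤ Wm p E) : Cfsg.pCoreOf p E = WEm p E :=
  le_antisymm (h.commQ.ge.trans (commutator_mono hle le_rfl)) ((WE_le_W E).trans (W_le_Q E))

theorem norm_Z {g : G} (hg : g ∈ normalizer (E : Set G)) : g ∈ normalizer (Zm p E : Set G) := by
  rw [mem_normalizer_iff_cj, cj_inf, cj_centralizer, mem_normalizer_iff_cj.1 hg,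
    mem_normalizer_iff_cj.1 (CfsgLib.Baumann.le_normalizer_W E hg)]

/-- An element of `N(E)` trivial on `W_E` modulo `Z` is trivial on `W` modulo `Z`. -/
theorem top_W {g : G} (hg : g ∈ normalizer (E : Set G))
    (htop : ∀ w ∈ WEm p E, g * w * g⁻¹ * w⁻¹ ∈ Zm p E) :
    ∀ w ∈ Wm p E, g * w * g⁻¹ * w⁻¹ ∈ Zm p E := by
  intro w hw
  obtain ⟨n, hn, c, hc, rfl⟩ := h.exists_split hw
  have hgc := (mem_normalizer_iff.1 (h.norm_Z hg) c).1 hc
  have hgn := (mem_normalizer_iff.1 (CfsgLib.Baumann.le_normalizer_W E hg) n).1 (WE_le_W E hn)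
  rw [show g * (n * c) * g⁻¹ * (n * c)⁻¹ = (g * n * g⁻¹) * ((g * c * g⁻¹ * c⁻¹) * n⁻¹) by group,
    ← h.W_commute (inv_mem (WE_le_W E hn)) (mul_mem hgc (inv_mem hc)).1, ← mul_assoc]
  exact mul_mem (htop n hn) (mul_mem hgc (inv_mem hc))

/-- An element of `N(E)` trivial on `W_E` modulo `Z` centralizes `W_E`. -/
theorem mem_C_of_top {g : G} (hg : g ∈ normalizer (E : Set G))
    (htop : ∀ w ∈ WEm p E, g * w * g⁻¹ * w⁻¹ ∈ Zm p E) : g ∈ Cm p E := by
  have htW := h.top_W hg htop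
  have hW := CfsgLib.Baumann.le_normalizer_W (p := p) E hg
  have key : ∀ e ∈ E, ∀ w ∈ WEm p E, g * ⁅w, e⁆ * g⁻¹ = ⁅w, e⁆ := by
    intro e he w hwE
    have hw := WE_le_W E hwE
    set e' := g * e * g⁻¹ with he'
    have he'E : e' ∈ E := (mem_normalizer_iff.1 hg e).1 he
    -- `e'` acts on `W / Z` as `e` does
    have huQ : e⁻¹ * e' ∈ Cfsg.pCoreOf p E := by
      refine h.ker _ (mul_mem (inv_mem he) he'E) fun x hx => ?_
      have hgx : g⁻¹ * x * g ∈ Wm p E := by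
        have := (mem_normalizer_iff.1 (inv_mem hW) x).1 hx
        rwa [inv_inv] at this
      set z₁ := x⁻¹ * (g⁻¹ * x * g) with hz₁
      have hz₁Z : z₁ ∈ Zm p E := by
        have := htW _ hgx
        rw [show g * (g⁻¹ * x * g) * g⁻¹ * (g⁻¹ * x * g)⁻¹ = x * (g⁻¹ * x * g)⁻¹ by group,
          ← h.W_commute (inv_mem hgx) hx] at this
        have := inv_mem this
        rwa [_root_.mul_inv_rev, inv_inv] at this
      have hy : e * x * e⁻¹ ∈ Wm p E := (mem_normalizer_iff.1 (le_normalizer_W E he) x).1 hx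
      set z₂ := g * (e * x * e⁻¹) * g⁻¹ * (e * x * e⁻¹)⁻¹ with hz₂
      have hz₂Z : z₂ ∈ Zm p E := htW _ hy
      have hz3 : g * z₁ * g⁻¹ ∈ Zm p E := (mem_normalizer_iff.1 (h.norm_Z hg) z₁).1 hz₁Z
      have e1 : e' * x * e'⁻¹ = z₂ * (e * x * e⁻¹) * (g * z₁ * g⁻¹) := by
        rw [he', show g * e * g⁻¹ * x * (g * e * g⁻¹)⁻¹ = g * (e * (x * z₁) * e⁻¹) * g⁻¹ by
          rw [hz₁]; group, show e * (x * z₁) * e⁻¹ = e * x * e⁻¹ * (e * z₁ * e⁻¹) by group,
          h.Z_fix hz₁Z he, hz₂]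
        group
      have e2 : e⁻¹ * e' * x * (e⁻¹ * e')⁻¹ * x⁻¹ = z₂ * (g * z₁ * g⁻¹) := by
        rw [show e⁻¹ * e' * x * (e⁻¹ * e')⁻¹ = e⁻¹ * (e' * x * e'⁻¹) * e by group, e1]
        rw [show e⁻¹ * (z₂ * (e * x * e⁻¹) * (g * z₁ * g⁻¹)) * e =
          (e⁻¹ * z₂ * e⁻¹⁻¹) * x * (e⁻¹ * (g * z₁ * g⁻¹) * e⁻¹⁻¹) by group,
          h.Z_fix hz₂Z (inv_mem he), h.Z_fix hz3 (inv_mem he), mul_assoc z₂,
          h.W_commute hx hz3.1, ← mul_assoc, mul_inv_cancel_right]
      rw [e2]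
      exact mul_mem hz₂Z hz3
    set u := e⁻¹ * e' with hu
    set z := w⁻¹ * (g * w * g⁻¹) with hz
    have hzZ : z ∈ Zm p E := by
      rw [hz, h.W_commute (inv_mem hw) ((mem_normalizer_iff.1 hW w).1 hw)]
      exact htop w hwE
    have e3 : g * ⁅w, e⁆ * g⁻¹ = ⁅w * z, e * u⁆ := by
      rw [hz, hu, he']; simp only [commutatorElement_def]; group
    rw [e3, commutatorElement_def, commutatorElement_def,
      show w * z * (e * u) * (w * z)⁻¹ * (e * u)⁻¹ =
        w * (z * (e * u)) * z⁻¹ * w⁻¹ * (e * u)⁻¹ by group,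
      h.Z_commute hzZ (mul_mem he (Q_le E huQ)), ← mul_assoc, mul_inv_cancel_right,
      show w * (e * u) * w⁻¹ * (e * u)⁻¹ = w * e * (u * w⁻¹) * u⁻¹ * e⁻¹ by group,
      W_comm (inv_mem hw) huQ, ← mul_assoc, mul_inv_cancel_right]
  refine mem_centralizer_iff.2 fun x hx => ?_
  have hle : WEm p E ≤ centralizer {g} := by
    conv_lhs => rw [← h.WE_comm]
    rw [Subgroup.commutator_le]
    intro w hw e he
    exact mem_centralizer_singleton_iff.2 (mul_inv_eq_iff_eq_mul.1 (key e he w hw)).symm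
  exact mem_centralizer_singleton_iff.1 (hle hx)

end Facts

/-! ### `V` and blocks -/

section

variable (hG : centralizer (Cfsg.pCore p G : Set G) ≤ Cfsg.pCore p G) {T : Sylow p G}
  {E : Subgroup G} (hE : Cfsg.IsBaumannBlock p (T : Subgroup G) E)

include hE

theorem O_le_normalizer : Cfsg.pCore p G ≤ normalizer (E : Set G) := by
  haveI : (Cfsg.pCore p G).Normal := CfsgLib.Solvable.pCore_normal p
  exact CfsgLib.Baumann.le_normalizer_of_normalized T (facts_of_block hE).res hE.2.1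
    (CfsgLib.Solvable.isPGroup_pCore p) le_normalizer_of_normal le_normalizer_of_normal

/-- `[O_p(G), E] ≤ O_p(E)`. -/
theorem comm_O_le {o e : G} (ho : o ∈ Cfsg.pCore p G) (he : e ∈ E) :
    e * o * e⁻¹ * o⁻¹ ∈ Cfsg.pCoreOf p E := by
  haveI : (Cfsg.pCore p G).Normal := CfsgLib.Solvable.pCore_normal p
  have hOE : Cfsg.pCore p G ⊓ E ≤ Cfsg.pCoreOf p E := by
    refine CfsgLib.FrakM.le_pCoreOf inf_le_right
      ((CfsgLib.Solvable.isPGroup_pCore (G := G) p).to_le inf_le_left) fun x hx => ?_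
    rw [mem_normalizer_iff_cj, cj_inf, cj_eq_self_of_mem hx,
      mem_normalizer_iff_cj.1 (le_normalizer_of_normal (H := Cfsg.pCore p G) (mem_top x))]
  refine hOE ⟨(Cfsg.pCore p G).mul_mem
    ((inferInstance : (Cfsg.pCore p G).Normal).conj_mem o ho e) (inv_mem ho), ?_⟩
  rw [show e * o * e⁻¹ * o⁻¹ = e * (o * e⁻¹ * o⁻¹) by group]
  exact mul_mem he ((mem_normalizer_iff.1 (O_le_normalizer hE ho) e⁻¹).1 (inv_mem he))

/-- `[V, E] ≤ W_E`. -/
theorem comm_V_le : ⁅Vm p G, E⁆ ≤ WEm p E := by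
  haveI : (Cfsg.pCore p G).Normal := CfsgLib.Solvable.pCore_normal p
  set V := Vm p G
  have hVO : V ≤ Cfsg.pCore p G := fun x hx => (CfsgLib.Thompson.omegaOne_le _ hx).1
  have hVel : Cfsg.IsElementaryAbelian p V := CfsgLib.Baumann.exponent_omegaOneCenter
  have hEV : ∀ g : G, g ∈ normalizer (V : Set G) := fun g =>
    CfsgLib.Baumann.normalizer_le_normalizer_omegaOneCenter _
      (le_normalizer_of_normal (H := Cfsg.pCore p G) (mem_top g))
  have hVQ : ⁅V, E⁆ ≤ V ⊓ Cfsg.pCoreOf p E := by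
    refine le_inf (CfsgLib.Baumann.commutator_le_self_of_normalizer fun e _ => hEV e) ?_
    rw [Subgroup.commutator_le]
    intro v hv e he
    have := inv_mem (comm_O_le hE (hVO hv) he)
    rwa [show (e * v * e⁻¹ * v⁻¹)⁻¹ = ⁅v, e⁆ by rw [commutatorElement_def]; group] at this
  have hW : V ⊓ Cfsg.pCoreOf p E ≤ Wm p E := by
    have hcase := hE.2.2.2.2
    rcases hcase with ⟨F, iF, iFt, n, hcard, hiso, hW, hQ | ⟨h3, hQW, hQQ, -, hEE, hZc, -⟩⟩ | ⟨-, m, -, -, hQ⟩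
    · exact inf_le_right.trans hQ.le
    rotate_left
    · exact inf_le_right.trans hQ.le
    -- an abelian subgroup does not cover the top of an exceptional block
    set W := Wm p E
    set Q := Cfsg.pCoreOf p E
    have hVQel : ∀ a ∈ V ⊓ Q, ∀ b ∈ V ⊓ Q, a * b = b * a := fun a ha b hb =>
      CfsgLib.Thompson.elab_commute hVel ha.1 hb.1
    rcases (CfsgLib.BlockModule.irred_of_linear hQW).1 ((V ⊓ Q) ⊔ W) le_sup_right
      (sup_le inf_le_right (W_le_Q E)) (fun e he => by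
        rw [mem_normalizer_iff_cj, Subgroup.map_sup, cj_inf, mem_normalizer_iff_cj.1 (hEV e),
          mem_normalizer_iff_cj.1 (le_normalizer_W E he),
          mem_normalizer_iff_cj.1 (CfsgLib.FrakM.le_normalizer_pCoreOf E he)]) with hc | hc
    · exact le_sup_left.trans hc.le
    exfalso
    have hQab : ∀ a ∈ Q, ∀ b ∈ Q, a * b = b * a := by
      intro a ha b hb
      have hle : (V ⊓ Q) ⊔ W ≤ centralizer (Q : Set G) := by
        refine sup_le (fun v hv => mem_centralizer_iff.2 fun q hq => ?_)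
          fun w hw => (CfsgLib.Thompson.omegaOne_le _ hw).2
        have hq' : q ∈ (V ⊓ Q) ⊔ W := hc.ge hq
        have hsup : (V ⊓ Q) ⊔ W ≤ centralizer {v} := sup_le
          (fun x hx => mem_centralizer_singleton_iff.2 (hVQel x hx v hv))
          (fun w hw => mem_centralizer_singleton_iff.2 (W_comm hw hv.2).symm)
        exact mem_centralizer_singleton_iff.1 (hsup hq')
      exact (mem_centralizer_iff.1 (hle (hc.ge ha)) b hb).symm
    have hQ1 : ⁅Q, Q⁆ = ⊥ := commutator_eq_bot_iff_le_centralizer.2 fun a ha =>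
      mem_centralizer_iff.2 fun b hb => (hQab a ha b hb).symm
    rw [hEE, ← hQQ, hQ1, Subgroup.card_bot] at hZc
    have hn : n = 0 := by
      by_contra hn0
      exact absurd hZc.symm (Nat.one_lt_pow hn0 (by norm_num : 1 < 3)).ne'
    rw [hn, pow_zero] at hcard
    exact Fintype.one_lt_card.ne' hcard
  calc ⁅V, E⁆ = ⁅⁅V, E⁆, E⁆ := (commutator_commutator_eq (facts_of_block hE).res
        (CfsgLib.Thompson.elab_isPGroup hVel) (fun e _ => hEV e)
        (hVO.trans (O_le_normalizer hE))).symm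
    _ ≤ ⁅Wm p E, E⁆ := commutator_mono (hVQ.trans hW) le_rfl

variable (hs : E.IsSubnormal)

include hs

theorem Q_le_O : Cfsg.pCoreOf p E ≤ Cfsg.pCore p G := by
  refine CfsgLib.CharP.subnormal_pGroup_le_pCore ?_ (CfsgLib.FrakM.isPGroup_pCoreOf E)
  refine Subgroup.IsSubnormal.step _ _ (Q_le E) hs ?_
  exact (Subgroup.normal_subgroupOf_iff_le_normalizer (Q_le E)).2
    (CfsgLib.FrakM.le_normalizer_pCoreOf E)

include hG

/-- A `p'`-element `e c` with `c ∈ C` stabilizing `O ≥ Q ≥ W ≥ 1` lies in `E`. -/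
theorem mem_of_stab {e c : G} (he : e ∈ E) (hc : c ∈ Cm p E)
    (hO : ∀ o ∈ Cfsg.pCore p G, c * o * c⁻¹ * o⁻¹ ∈ Cfsg.pCoreOf p E)
    (hQ : ∀ q ∈ Cfsg.pCoreOf p E, c * q * c⁻¹ * q⁻¹ ∈ Wm p E)
    (hW : c ∈ centralizer (Wm p E : Set G)) (hco : (orderOf (e * c)).Coprime p) : e * c ∈ E := by
  haveI : (Cfsg.pCore p G).Normal := CfsgLib.Solvable.pCore_normal p
  have hOn : ∀ g : G, g ∈ normalizer (Cfsg.pCore p G : Set G) := fun g =>
    le_normalizer_of_normal (mem_top g)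
  have hCE := CfsgLib.BlockNorm.C_le_normalizer hG hE
  set S := Cm p E ⊓ centralizer (Wm p E : Set G) ⊓ stab (Cfsg.pCore p G) (Cfsg.pCoreOf p E) ⊓
    stab (Cfsg.pCoreOf p E) (Wm p E)
  have hSn : S ≤ normalizer (E : Set G) := fun x hx => hCE hx.1.1.1
  have hcS : c ∈ S := ⟨⟨⟨hc, hW⟩, hOn c,
    CfsgLib.FrakM.normalizer_le_normalizer_pCoreOf E (hCE hc), hO⟩,
    CfsgLib.FrakM.normalizer_le_normalizer_pCoreOf E (hCE hc),
    CfsgLib.Baumann.le_normalizer_W E (hCE hc), hQ⟩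
  have hSp : IsPGroup p ↥S := LocalB.isPGroup_of_forall fun w hw hwco => by
    have hcQ : ∀ q ∈ Cfsg.pCoreOf p E, Commute w q := fun q hq => by
      have hm := hw.2.2.2 q hq
      exact LocalB.commute_of_stab (CfsgLib.FrakM.isPGroup_pCoreOf (p := p) E) hwco (W_le_Q E hm)
        (mem_centralizer_iff.1 hw.1.1.2 _ hm).symm
    have hcO : w ∈ centralizer (Cfsg.pCore p G : Set G) := mem_centralizer_iff.2 fun o ho => by
      have hm := hw.1.2.2.2 o ho
      exact (LocalB.commute_of_stab (CfsgLib.FrakM.isPGroup_pCoreOf (p := p) E) hwco hm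
        (hcQ _ hm)).eq.symm
    exact LocalB.eq_one_of_orderOf_coprime (CfsgLib.Solvable.isPGroup_pCore p) (hG hcO) hwco
  refine mem_of_coprime_sup hSp hSn ?_ hco
  exact mul_mem (mem_sup_right he) (mem_sup_left hcS)

end

end CfsgLib.BlockCore
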