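import Cfsg.Agent.LocalB.BlockBasic

/-!
Structure of an exceptional block: the central involution `z`, its fixed points and its commutators.
-/

set_option autoImplicit false
set_option linter.style.haveILetI false
set_option linter.unusedSectionVars false

namespace CfsgLib.BlockExc

open Subgroup CfsgLib.Functor CfsgLib.BlockSL2 CfsgLib.BlockModule CfsgLib.BlockSection
  CfsgLib.BlockBasic
open scoped CfsgLib.Functor commutatorElement

universe u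

variable {G : Type u} [Group G] [Finite G]

/-- An exceptional block with a chosen involution `z`. -/
structure Exc (T : Sylow 3 G) (E : Subgroup G) (F : Type) [Field F] [Fintype F] where
  blk : CfsgLib.Baumann.Blk 3 (T : Subgroup G) E
  char : (3 : F) = 0
  S1 : Sec E (Wm 3 E) (Zm 3 E) F
  S2 : Sec E (Cfsg.pCoreOf 3 E) (Wm 3 E) F
  ker1 : ∀ e : ↥E, S1.ρ e = 1 ↔ (e : G) ∈ Cfsg.pCoreOf 3 E
  ker2 : ∀ e : ↥E, S2.ρ e = 1 ↔ (e : G) ∈ Cfsg.pCoreOf 3 E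
  irr2 : Irred E (Cfsg.pCoreOf 3 E) (Wm 3 E)
  comm_eq : ⁅Cfsg.pCoreOf 3 E, Cfsg.pCoreOf 3 E⁆ = Zm 3 E
  pow_mem : ∀ q ∈ Cfsg.pCoreOf 3 E, q ^ 3 ∈ Zm 3 E
  cardZ : Nat.card ↥(Zm 3 E) = Fintype.card F
  nq : ∀ b : G, b ∈ Cfsg.baumannSubgroupOf 3 (T : Subgroup G) →
    b ∉ centralizer (Wm 3 E : Set G) →
      ¬ ⁅⁅Cfsg.pCoreOf 3 E, zpowers b⁆, zpowers b⁆ ≤ Zm 3 E
  z : G
  zE : z ∈ E
  hz : z * z = 1
  z1 : S1.ρ ⟨z, zE⟩ = -1
  z2 : S2.ρ ⟨z, zE⟩ = -1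

theorem two_ne_of_char {F : Type} [Field F] (h : (3 : F) = 0) : (2 : F) ≠ 0 := fun h2 =>
  one_ne_zero (show (1 : F) = 0 by linear_combination h - h2)

/-- An exceptional block is either linear-like or carries the data. -/
theorem exists_exc {p : ℕ} [Fact p.Prime] {T : Sylow p G} {E : Subgroup G}
    (hE : Cfsg.IsBaumannBlock p (T : Subgroup G) E)
    (hne : ¬ Cfsg.pCoreOf p E ≤ Wm p E) :
    p = 3 ∧ ∀ T3 : Sylow 3 G, (T3 : Subgroup G) = (T : Subgroup G) →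
      ∃ (F : Type) (_ : Field F) (_ : Fintype F), Nonempty (Exc T3 E F) := by
  have hB := CfsgLib.Baumann.blk_of_isBaumannBlock hE
  obtain ⟨-, -, -, -, hcase⟩ := hE
  rcases hcase with ⟨F, iF, iFt, n, hcard, ⟨i⟩, hW, hQ⟩ | ⟨-, m, -, -, hQ⟩
  swap
  · exact absurd hQ.le hne
  rcases hQ with hQ | ⟨hp, hQW, hQQ, hΦ, hEE, hcardZ, hnq⟩
  · exact absurd hQ.le hne
  subst hp
  refine ⟨rfl, fun T3 hT3 => ⟨F, iF, iFt, ?_⟩⟩
  letI := iF
  letI := iFt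
  have hchar : (3 : F) = 0 := by
    have h := Nat.cast_card_eq_zero F
    rw [hcard, Nat.cast_pow] at h
    exact_mod_cast IsReduced.eq_zero _ ⟨n, h⟩
  have h2 := two_ne_of_char hchar
  obtain ⟨S1⟩ := exists_sec hW
  obtain ⟨S2⟩ := exists_sec hQW
  set Q := Cfsg.pCoreOf 3 E
  have hQQ' : ⁅Q, Q⁆ ≤ Wm 3 E := hQQ.le.trans inf_le_left
  have ker1 := fun e => S1.rho_eq_one_iff ⟨i⟩ (fun q hq a ha => by
    rw [W_comm ha hq, mul_inv_cancel_right, mul_inv_cancel]; exact one_mem _) e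
  have ker2 := fun e => S2.rho_eq_one_iff ⟨i⟩ (fun q hq a ha => by
    have := hQQ' (commutator_mem_commutator hq ha)
    rwa [commutatorElement_def] at this) e
  have hQp : IsPGroup 3 ↥Q := CfsgLib.FrakM.isPGroup_pCoreOf E
  obtain ⟨e₀, he₀⟩ := S1.exists_pre (-1) (neg_one_mem (good_of_two_ne h2))
  have hsq : ((e₀ * e₀ : ↥E) : G) ∈ Q := (ker1 _).1 (by rw [map_mul, he₀]; simp)
  obtain ⟨k, hk⟩ := hQp ⟨_, hsq⟩
  have hk' : ((e₀ : G) * e₀) ^ 3 ^ k = 1 := congrArg Subtype.val hk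
  set z := (e₀ : G) ^ 3 ^ k with hz
  have hzE : z ∈ E := pow_mem e₀.2 _
  have hzz : z * z = 1 := by
    rw [hz, ← (Commute.refl (e₀ : G)).mul_pow]; exact hk'
  have hm1 : (-1 : SL F) ≠ 1 := CfsgLib.SL2Factors.neg_one_ne_one h2
  have hz1 : S1.ρ ⟨z, hzE⟩ = -1 := by
    rw [show (⟨z, hzE⟩ : ↥E) = e₀ ^ 3 ^ k from Subtype.ext (by simp [hz]), map_pow, he₀]
    exact Odd.neg_one_pow (Odd.pow ⟨1, rfl⟩)
  have hz2 : S2.ρ ⟨z, hzE⟩ = -1 := by
    refine orderOf_two_eq h2 (orderOf_eq_prime ?_ fun h => hm1 ?_)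
    · rw [← map_pow, show (⟨z, hzE⟩ : ↥E) ^ 2 = 1 from Subtype.ext (by simp [pow_two, hzz]), map_one]
    · rw [← hz1]; exact (ker1 _).2 ((ker2 _).1 h)
  have hT3' : (T3 : Subgroup G) = (T : Subgroup G) := hT3
  exact ⟨{
    blk := by rw [hT3']; exact hB
    char := hchar
    S1 := S1
    S2 := S2
    ker1 := ker1
    ker2 := ker2
    irr2 := (irred_of_linear hQW).1
    comm_eq := hQQ
    pow_mem := fun q hq => by
      show q ^ 3 ∈ Wm 3 E ⊓ centralizer (E : Set G)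
      rw [Wm, ← hΦ]
      exact ⟨_, (CfsgLib.PGroupBasic.commutator_pow_le_frattini hQp).2 ⟨q, hq⟩, rfl⟩
    cardZ := by
      show Nat.card ↥(Wm 3 E ⊓ centralizer (E : Set G)) = _
      rw [Wm, ← hEE, hcardZ, hcard]
    nq := fun b hb hbW hle => hnq b (by rw [← hT3']; exact hb) hbW (by rw [hEE]; exact hle)
    z := z, zE := hzE, hz := hzz, z1 := hz1, z2 := hz2 }⟩

namespace Exc

variable {T : Sylow 3 G} {E : Subgroup G} {F : Type} [Field F] [Fintype F] (X : Exc T E F)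

include X

theorem two_ne : (2 : F) ≠ 0 := two_ne_of_char X.char

theorem good : Good F := Or.inr X.char

theorem z_inv : X.z⁻¹ = X.z := inv_eq_of_mul_eq_one_right X.hz

theorem z_ne : X.z ∉ Cfsg.pCoreOf 3 E := fun h => by
  have := (X.ker1 ⟨X.z, X.zE⟩).2 h
  rw [X.z1] at this
  exact CfsgLib.SL2Factors.neg_one_ne_one X.two_ne this

theorem Q_odd : Odd (Nat.card ↥(Cfsg.pCoreOf 3 E)) := by
  obtain ⟨k, hk⟩ := IsPGroup.iff_card.1 (CfsgLib.FrakM.isPGroup_pCoreOf (p := 3) E)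
  rw [hk]; exact Odd.pow ⟨1, rfl⟩

theorem eq_zero_of_neg {v : Fin 2 → F} (h : v = -v) : v = 0 := by
  funext i
  have := congrFun h i
  rw [Pi.neg_apply] at this
  exact (mul_eq_zero.1 (show (2 : F) * v i = 0 by linear_combination this)).resolve_left X.two_ne

theorem W_elab : Cfsg.IsElementaryAbelian 3 (Wm 3 E) := CfsgLib.Baumann.exponent_omegaOneCenter

theorem W_pow {w : G} (hw : w ∈ Wm 3 E) : w * w * w = 1 := by
  have := X.W_elab.2 w hw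
  rwa [pow_succ, pow_two] at this

theorem W_commute {a b : G} (ha : a ∈ Wm 3 E) (hb : b ∈ Wm 3 E) : a * b = b * a :=
  CfsgLib.Thompson.elab_commute X.W_elab ha hb

theorem Z_central {x q : G} (hx : x ∈ Zm 3 E) (hq : q ∈ Cfsg.pCoreOf 3 E) : q * x = x * q :=
  W_comm hx.1 hq

theorem Z_fix {x e : G} (hx : x ∈ Zm 3 E) (he : e ∈ E) : e * x * e⁻¹ = x := by
  rw [mem_centralizer_iff.1 hx.2 e he, mul_inv_cancel_right]

theorem zz_conj (x : G) : X.z * (X.z * x * X.z⁻¹) * X.z⁻¹ = x := by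
  simp only [X.z_inv, mul_assoc, X.hz, mul_one]
  rw [← mul_assoc, X.hz, one_mul]

theorem f1_z {w : G} (hw : w ∈ Wm 3 E) : X.S1.f (X.z * w * X.z⁻¹) = - X.S1.f w := by
  rw [X.S1.equiv ⟨X.z, X.zE⟩ w hw, X.z1, neg_one_mulVec]

theorem f2_z {q : G} (hq : q ∈ Cfsg.pCoreOf 3 E) : X.S2.f (X.z * q * X.z⁻¹) = - X.S2.f q := by
  rw [X.S2.equiv ⟨X.z, X.zE⟩ q hq, X.z2, neg_one_mulVec]

theorem mem_W_of_fixed {q : G} (hq : q ∈ Cfsg.pCoreOf 3 E) (h : X.z * q * X.z⁻¹ = q) :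
    q ∈ Wm 3 E := (X.S2.zero q hq).1 (X.eq_zero_of_neg (by
      have := X.f2_z hq; rwa [h] at this))

theorem mem_Z_of_fixed {w : G} (hw : w ∈ Wm 3 E) (h : X.z * w * X.z⁻¹ = w) : w ∈ Zm 3 E :=
  (X.S1.zero w hw).1 (X.eq_zero_of_neg (by have := X.f1_z hw; rwa [h] at this))

/-- `C_Q(z) = Z`. -/
theorem mem_Z_of_fixed' {q : G} (hq : q ∈ Cfsg.pCoreOf 3 E) (h : X.z * q * X.z⁻¹ = q) :
    q ∈ Zm 3 E := X.mem_Z_of_fixed (X.mem_W_of_fixed hq h) h

/-- The elements of `W` inverted by `z`. -/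
def inverted : Subgroup G where
  carrier := {w | w ∈ Wm 3 E ∧ X.z * w * X.z⁻¹ = w⁻¹}
  mul_mem' {a b} ha hb := ⟨mul_mem ha.1 hb.1, by
    rw [show X.z * (a * b) * X.z⁻¹ = (X.z * a * X.z⁻¹) * (X.z * b * X.z⁻¹) by group, ha.2, hb.2,
      X.W_commute ha.1 hb.1, _root_.mul_inv_rev]⟩
  one_mem' := ⟨one_mem _, by group⟩
  inv_mem' {a} ha := ⟨inv_mem ha.1, by
    rw [show X.z * a⁻¹ * X.z⁻¹ = (X.z * a * X.z⁻¹)⁻¹ by group, ha.2]⟩

theorem mem_inverted {w : G} :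
    w ∈ X.inverted ↔ w ∈ Wm 3 E ∧ X.z * w * X.z⁻¹ = w⁻¹ := Iff.rfl

theorem zW {w : G} (hw : w ∈ Wm 3 E) : X.z * w * X.z⁻¹ ∈ Wm 3 E :=
  X.S1.conj_mem X.zE hw

/-- `W` splits as inverted times fixed elements. -/
theorem exists_split {w : G} (hw : w ∈ Wm 3 E) :
    ∃ n ∈ X.inverted, ∃ c ∈ Zm 3 E, w = n * c := by
  set w' := X.z * w * X.z⁻¹ with hw'
  have hw'W : w' ∈ Wm 3 E := X.zW hw
  have hc := X.W_commute hw hw'W
  refine ⟨w * w * w', ⟨mul_mem (mul_mem hw hw) hw'W, ?_⟩, w'⁻¹ * w⁻¹,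
    X.mem_Z_of_fixed (mul_mem (inv_mem hw'W) (inv_mem hw)) ?_, by group⟩
  · rw [show X.z * (w * w * w') * X.z⁻¹ = w' * w' * (X.z * w' * X.z⁻¹) by rw [hw']; group, hw',
      X.zz_conj, ← hw']
    refine eq_inv_of_mul_eq_one_left ?_
    calc w' * w' * w * (w * w * w') = w' * w' * (w * w * w) * w' := by group
      _ = 1 := by rw [X.W_pow hw, mul_one, X.W_pow hw'W]
  · rw [show X.z * (w'⁻¹ * w⁻¹) * X.z⁻¹ = (X.z * w' * X.z⁻¹)⁻¹ * (X.z * w * X.z⁻¹)⁻¹ by group, hw',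
      X.zz_conj, ← hw', ← _root_.mul_inv_rev, ← _root_.mul_inv_rev, hc]

theorem conj_inverted {e n : G} (he : e ∈ E) (hn : n ∈ X.inverted) :
    e * n * e⁻¹ ∈ X.inverted := by
  refine ⟨X.S1.conj_mem he hn.1, ?_⟩
  -- `z` commutes with `e` modulo `Q`, which centralizes `W`
  set r := e⁻¹ * X.z * e * X.z⁻¹ with hr
  have hrQ : r ∈ Cfsg.pCoreOf 3 E := by
    set u : ↥E := (⟨e, he⟩ : ↥E)⁻¹ * ⟨X.z, X.zE⟩ * ⟨e, he⟩ * (⟨X.z, X.zE⟩ : ↥E)⁻¹
    have hu : X.S1.ρ u = 1 := by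
      rw [map_mul, map_mul, map_mul, map_inv, map_inv, X.z1]
      refine mul_inv_eq_one.2 ?_
      refine Subtype.ext ?_
      simp [Matrix.SpecialLinearGroup.coe_mul]
    exact (X.ker1 u).1 hu
  rw [show X.z * (e * n * e⁻¹) * X.z⁻¹ = e * (r * (X.z * n * X.z⁻¹) * r⁻¹) * e⁻¹ by rw [hr]; group,
    hn.2, W_comm (inv_mem hn.1) hrQ]
  group

theorem WE_eq : WEm 3 E = X.inverted := by
  refine le_antisymm ?_ fun n hn => ?_
  · show ⁅Wm 3 E, E⁆ ≤ X.inverted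
    rw [commutator_le]
    intro w hw e he
    obtain ⟨n, hn, c, hc, rfl⟩ := X.exists_split hw
    rw [commutatorElement_def,
      show n * c * e * (n * c)⁻¹ * e⁻¹ = n * (c * (e * c⁻¹ * e⁻¹)) * (e * n⁻¹ * e⁻¹) by group,
      X.Z_fix (inv_mem hc) he, mul_inv_cancel, mul_one]
    exact mul_mem hn (X.conj_inverted he (inv_mem hn))
  · have h1 : n * n ∈ WEm 3 E := by
      have := commutator_mem_commutator hn.1 X.zE
      rwa [commutatorElement_def, show n * X.z * n⁻¹ * X.z⁻¹ = n * (X.z * n * X.z⁻¹)⁻¹ by group,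
        hn.2, inv_inv] at this
    have h2 := mul_mem h1 h1
    rwa [show n * n * (n * n) = n * n * n * n by group, X.W_pow hn.1, one_mul] at h2

theorem WE_inf_Z {x : G} (h1 : x ∈ WEm 3 E) (h2 : x ∈ Zm 3 E) : x = 1 := by
  rw [X.WE_eq] at h1
  have h := h1.2
  rw [mem_centralizer_iff.1 h2.2 X.z X.zE, mul_inv_cancel_right] at h
  have h3 : x * x = 1 := by nth_rewrite 1 [h]; rw [inv_mul_cancel]
  have := X.W_pow h2.1
  rwa [h3, one_mul] at this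

/-- Elements centralizing `Z` and `W_E` centralize `W`. -/
theorem centralize_W {x : G} (h1 : x ∈ Cm 3 E) (h2 : x ∈ centralizer (Zm 3 E : Set G)) :
    x ∈ centralizer (Wm 3 E : Set G) := mem_centralizer_iff.2 fun w hw => by
  obtain ⟨n, hn, c, hc, rfl⟩ := X.exists_split hw
  rw [← X.WE_eq] at hn
  rw [mul_assoc, mem_centralizer_iff.1 h2 c hc, ← mul_assoc, mem_centralizer_iff.1 h1 n hn,
    mul_assoc]

theorem Q_comm_mem {a b : G} (ha : a ∈ Cfsg.pCoreOf 3 E) (hb : b ∈ Cfsg.pCoreOf 3 E) :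
    a * b * a⁻¹ * b⁻¹ ∈ Zm 3 E := by
  have := X.comm_eq.le (commutator_mem_commutator ha hb)
  rwa [commutatorElement_def] at this

/-- A subgroup covering `Q` modulo `Z` is `Q`. -/
theorem le_of_le_sup_Z {M : Subgroup G} (hM : M ≤ Cfsg.pCoreOf 3 E)
    (h : Cfsg.pCoreOf 3 E ≤ M ⊔ Zm 3 E) : Cfsg.pCoreOf 3 E ≤ M := by
  have hn : M ≤ normalizer (Zm 3 E : Set G) := fun m hm => by
    rw [mem_normalizer_iff_cj]
    refine eq_of_le_of_card_le' (cj_le_iff.2 fun x hx => ?_) (card_cj _ _).ge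
    rw [X.Z_central hx (hM hm), mul_inv_cancel_right]
    exact hx
  have hdec : ∀ q ∈ Cfsg.pCoreOf 3 E, ∃ m ∈ M, ∃ c ∈ Zm 3 E, q = m * c := fun q hq => by
    have := h hq
    rw [CfsgLib.Solvable.mem_sup_of_le_normalizer hn] at this
    obtain ⟨m, hm, c, hc, he⟩ := this
    exact ⟨m, hm, c, hc, he.symm⟩
  have hZM : Zm 3 E ≤ M := by
    rw [← X.comm_eq, commutator_le]
    intro a ha b hb
    obtain ⟨m, hm, c, hc, rfl⟩ := hdec a ha
    obtain ⟨m', hm', c', hc', rfl⟩ := hdec b hb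
    have e : ⁅m * c, m' * c'⁆ = ⁅m, m'⁆ := by
      have k1 : c * (m' * c') * c⁻¹ = m' * c' := by
        rw [← X.Z_central hc hb, mul_inv_cancel_right]
      have k2 : c' * m⁻¹ = m⁻¹ * c' := (X.Z_central hc' (inv_mem (hM hm))).symm
      calc ⁅m * c, m' * c'⁆ = m * (c * (m' * c') * c⁻¹) * m⁻¹ * (m' * c')⁻¹ := by
            rw [commutatorElement_def]; group
        _ = m * m' * (c' * m⁻¹) * c'⁻¹ * m'⁻¹ := by rw [k1]; group
        _ = ⁅m, m'⁆ := by rw [k2, commutatorElement_def]; group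
    rw [e]
    exact mul_mem (mul_mem (mul_mem hm hm') (inv_mem hm)) (inv_mem hm')
  exact h.trans (sup_le le_rfl hZM)

section

variable (hG : centralizer (Cfsg.pCore 3 G : Set G) ≤ Cfsg.pCore 3 G)
  (hnle : ¬ ⁅Pm 3 E, E⁆ ≤ Wm 3 E)

include hG hnle

theorem Q_le_P : Cfsg.pCoreOf 3 E ≤ Pm 3 E := by
  have hEP : E ≤ normalizer (Pm 3 E : Set G) := le_normalizer.trans (normalizer_E_le_P E)
  have h1 : ⁅Pm 3 E, E⁆ ≤ Pm 3 E := CfsgLib.Baumann.commutator_le_self_of_normalizer hEP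
  have hU : ⁅Pm 3 E, E⁆ ⊔ Wm 3 E = Cfsg.pCoreOf 3 E := by
    refine (X.irr2 _ le_sup_right (sup_le (comm_P_E_le hG X.blk) (W_le_Q E)) ?_).resolve_left
      fun h => hnle (le_sup_left.trans h.le)
    intro e he
    rw [mem_normalizer_iff_cj, Subgroup.map_sup,
      mem_normalizer_iff_cj.1 (CfsgLib.Baumann.le_normalizer_commutator_right (Pm 3 E) E he),
      mem_normalizer_iff_cj.1 (le_normalizer_W E he)]
  refine (X.le_of_le_sup_Z (M := ⁅Pm 3 E, E⁆ ⊔ WEm 3 E)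
    (sup_le (comm_P_E_le hG X.blk) ((WE_le_W E).trans (W_le_Q E))) ?_).trans
    (sup_le h1 (WE_le_P hG X.blk))
  refine hU.ge.trans (sup_le (le_sup_left.trans le_sup_left) fun w hw => ?_)
  obtain ⟨n, hn, c, hc, rfl⟩ := X.exists_split hw
  exact mul_mem (mem_sup_left (mem_sup_right (X.WE_eq.ge hn))) (mem_sup_right hc)

theorem Z_le_frattini : Zm 3 E ≤ (frattini ↥(Pm 3 E)).map (Pm 3 E).subtype := by
  rw [← X.comm_eq, commutator_le]
  intro a ha b hb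
  exact ⟨⁅(⟨a, X.Q_le_P hG hnle ha⟩ : ↥(Pm 3 E)), ⟨b, X.Q_le_P hG hnle hb⟩⁆,
    (CfsgLib.PGroupBasic.commutator_pow_le_frattini (isPGroup_P E)).1 (by
      rw [_root_.commutator_def]; exact commutator_mem_commutator (mem_top _) (mem_top _)), rfl⟩

theorem W_le_K : Wm 3 E ≤ Km 3 E := fun w hw => by
  obtain ⟨n, hn, c, hc, rfl⟩ := X.exists_split hw
  exact mul_mem (mem_sup_left (X.WE_eq.ge hn)) (mem_sup_right (X.Z_le_frattini hG hnle hc))

/-- Every element of `P` is a product of a fixed element and an element of `Q`. -/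
theorem exists_fixed_mul {u : G} (hu : u ∈ Pm 3 E) :
    ∃ q ∈ Cfsg.pCoreOf 3 E, u * q ∈ Pm 3 E ∧ X.z * (u * q) = (u * q) * X.z := by
  have hx : u⁻¹ * (X.z * u * X.z) ∈ Cfsg.pCoreOf 3 E := by
    have h := comm_mem_Q hG X.blk hu X.zE
    rw [X.z_inv] at h
    have h2 : u⁻¹ ∈ normalizer (Cfsg.pCoreOf 3 E : Set G) :=
      CfsgLib.FrakM.normalizer_le_normalizer_pCoreOf E (inv_mem (P_le_normalizer_E hG X.blk hu))
    have := (mem_normalizer_iff.1 h2 _).1 h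
    rwa [inv_inv, show u⁻¹ * (X.z * u * X.z * u⁻¹) * u = u⁻¹ * (X.z * u * X.z) by group] at this
  obtain ⟨q, hq, hzq⟩ := exists_fixed_coset X.Q_odd X.hz hx
  exact ⟨q, hq, mul_mem hu (X.Q_le_P hG hnle hq), hzq⟩

/-- `Q ∩ K = W`. -/
theorem Q_inf_K {q : G} (hq : q ∈ Cfsg.pCoreOf 3 E) (hqK : q ∈ Km 3 E) : q ∈ Wm 3 E := by
  rcases X.irr2 (Cfsg.pCoreOf 3 E ⊓ Km 3 E) (le_inf (W_le_Q E) (X.W_le_K hG hnle)) inf_le_left
    (fun e he => by
      rw [mem_normalizer_iff_cj, cj_inf,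
        mem_normalizer_iff_cj.1 (CfsgLib.FrakM.le_normalizer_pCoreOf E he),
        mem_normalizer_iff_cj.1 (normalizer_E_le_K E (le_normalizer he))]) with h | h
  · exact h.le ⟨hq, hqK⟩
  -- otherwise `z` centralizes `P / K`
  exfalso
  set P := Pm 3 E with hP
  set Φ := (frattini ↥P).map P.subtype with hΦ
  let Dz : Subgroup G := (P ⊓ centralizer {X.z}) ⊔ WEm 3 E
  have hDP : Dz ≤ P := sup_le inf_le_left (WE_le_P hG X.blk)
  have hPD : P ≤ Dz ⊔ Φ := fun u hu => by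
    obtain ⟨q', hq', hP', hfix⟩ := X.exists_fixed_mul hG hnle hu
    have hq'K : q' ∈ Km 3 E := (h.ge hq').2
    have hK : Km 3 E ≤ Dz ⊔ Φ := sup_le (le_sup_right.trans le_sup_left) le_sup_right
    have h1 : u * q' ∈ Dz ⊔ Φ :=
      mem_sup_left (mem_sup_left (Subgroup.mem_inf.2 ⟨hP', mem_centralizer_singleton_iff.2 hfix.symm⟩))
    simpa using mul_mem h1 (inv_mem (hK hq'K))
  have htop : Dz.subgroupOf P ⊔ frattini ↥P = ⊤ := by
    refine eq_top_iff.2 fun v _ => ?_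
    obtain ⟨v, hv⟩ := v
    have hn : Dz ≤ normalizer (Φ : Set G) := fun d hd =>
      mem_normalizer_iff_cj.2 (cj_frattini (le_normalizer (hDP hd)))
    have := hPD hv
    rw [CfsgLib.Solvable.mem_sup_of_le_normalizer hn] at this
    obtain ⟨d, hd, φ, hφ, hdv⟩ := this
    obtain ⟨φ', hφ', rfl⟩ := hφ
    rw [show (⟨v, hv⟩ : ↥P) = ⟨d, hDP hd⟩ * φ' from Subtype.ext hdv.symm]
    exact mul_mem (mem_sup_left (show (⟨d, hDP hd⟩ : ↥P) ∈ Dz.subgroupOf P from hd))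
      (mem_sup_right hφ')
  have hPD' : P ≤ Dz := fun u hu => by
    have hm : (⟨u, hu⟩ : ↥P) ∈ Dz.subgroupOf P := by
      rw [frattini_nongenerating htop]; trivial
    exact hm
  have hQW : Cfsg.pCoreOf 3 E ≤ Wm 3 E := fun a ha => by
    have hn : P ⊓ centralizer {X.z} ≤ normalizer (WEm 3 E : Set G) :=
      (inf_le_left.trans (P_le_C E)).trans (CfsgLib.FrakM.centralizer_le_normalizer _)
    have := hPD' (X.Q_le_P hG hnle ha)
    rw [CfsgLib.Solvable.mem_sup_of_le_normalizer hn] at this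
    obtain ⟨c, hc, n, hn', hcn⟩ := this
    have hnW := WE_le_W E hn'
    have hc' : c = a * n⁻¹ := by rw [← hcn, mul_inv_cancel_right]
    have hcQ : c ∈ Cfsg.pCoreOf 3 E := hc' ▸ mul_mem ha (inv_mem (W_le_Q E hnW))
    have hcZ := X.mem_Z_of_fixed' hcQ (by
      rw [← (mem_centralizer_singleton_iff.1 hc.2), mul_inv_cancel_right])
    rw [← hcn]
    exact mul_mem hcZ.1 hnW
  obtain ⟨a, ha, hfa⟩ := X.S2.surj ![1, 0]
  rw [(X.S2.zero a ha).2 (hQW ha)] at hfa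
  exact one_ne_zero (congrFun hfa.symm 0)

end

end Exc

end CfsgLib.BlockExc
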