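import Cfsg.Agent.LocalB.BlockExcTop

/-!
For an exceptional block: `E` centralizes `C_C(z)` modulo `P`, and `z` is isolated in `C⟨z⟩ / P`.
-/

set_option autoImplicit false
set_option linter.style.haveILetI false
set_option linter.unusedSectionVars false

namespace CfsgLib.BlockExc

open Subgroup CfsgLib.Functor CfsgLib.BlockSL2 CfsgLib.BlockModule CfsgLib.BlockSection
  CfsgLib.BlockBasic
open scoped CfsgLib.Functor commutatorElement

universe u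

variable {G : Type u} [Group G] [Finite G]

/-- Commutators are insensitive to changes inside a normalized subgroup. -/
theorem comm_mem_of_congr {P : Subgroup G} {e c a b : G} (he : e ∈ normalizer (P : Set G))
    (hc : c ∈ normalizer (P : Set G)) (ha : a ∈ P) (hb : b ∈ P)
    (h : e * c * e⁻¹ * c⁻¹ ∈ P) : (e * a) * (c * b) * (e * a)⁻¹ * (c * b)⁻¹ ∈ P := by
  rw [show (e * a) * (c * b) * (e * a)⁻¹ * (c * b)⁻¹ =
    (e * a * e⁻¹) * ((e * c) * (b * a⁻¹) * (e * c)⁻¹) * (e * c * e⁻¹ * c⁻¹) * (c * b⁻¹ * c⁻¹) by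
      group]
  exact mul_mem (mul_mem (mul_mem ((mem_normalizer_iff.1 he a).1 ha)
    ((mem_normalizer_iff.1 (mul_mem he hc) _).1 (mul_mem hb (inv_mem ha)))) h)
    ((mem_normalizer_iff.1 hc _).1 (inv_mem hb))

/-- The algebra behind `c_e ∈ C_C(z)`. -/
theorem commute_aux {Γ : Type*} [Group Γ] {z e g y : Γ} (hz : z * z = 1) (hze : Commute z e)
    (hy : y = g * z * g⁻¹ * z) (h1 : Commute e y) (h2 : Commute e (g⁻¹ * y * g)) :
    Commute z (e⁻¹ * g * e * g⁻¹) := by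
  have hzi : z⁻¹ = z := inv_eq_of_mul_eq_one_right hz
  set c := e⁻¹ * g * e * g⁻¹ with hc
  have hcy : Commute c y := by
    show c * y = y * c
    calc c * y = e⁻¹ * g * (e * (g⁻¹ * y * g)) * g⁻¹ := by rw [hc]; group
      _ = e⁻¹ * g * ((g⁻¹ * y * g) * e) * g⁻¹ := by rw [h2.eq]
      _ = e⁻¹ * y * g * e * g⁻¹ := by group
      _ = y * e⁻¹ * g * e * g⁻¹ := by rw [h1.inv_left.eq]
      _ = y * c := by rw [hc]; group
  have hg : z * g * z = y⁻¹ * g := by rw [hy]; simp [mul_assoc, hzi]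
  have he : z * e⁻¹ * z = e⁻¹ := by rw [hze.inv_right.eq, mul_assoc, hz, mul_one]
  have he' : z * e * z = e := by rw [hze.eq, mul_assoc, hz, mul_one]
  have key : z * c * z = c := by
    have e1 : z * c * z = (z * e⁻¹ * z) * (z * g * z) * (z * e * z) * (z * g * z)⁻¹ := by
      rw [hc]
      simp only [_root_.mul_inv_rev, hzi, mul_assoc]
      simp only [← mul_assoc z z, hz, one_mul]
    rw [e1, he, he', hg]
    calc e⁻¹ * (y⁻¹ * g) * e * (y⁻¹ * g)⁻¹ = (e⁻¹ * y⁻¹) * g * e * g⁻¹ * y := by group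
      _ = y⁻¹ * c * y := by rw [(h1.inv_inv).eq, hc]; group
      _ = c := by rw [mul_assoc, hcy.eq, inv_mul_cancel_left]
  show z * c = c * z
  have e2 := congrArg (fun x => x * z) key
  simp only [mul_assoc, hz, mul_one] at e2
  exact e2

namespace Exc

variable {T : Sylow 3 G} {E : Subgroup G} {F : Type} [Field F] [Fintype F] (X : Exc T E F)

include X

theorem conj_zQ {e : G} (he : e ∈ E) : X.z * e * X.z⁻¹ * e⁻¹ ∈ Cfsg.pCoreOf 3 E := by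
  set u : ↥E := ⟨X.z, X.zE⟩ * ⟨e, he⟩ * (⟨X.z, X.zE⟩ : ↥E)⁻¹ * (⟨e, he⟩ : ↥E)⁻¹
  have hu : X.S1.ρ u = 1 := by
    rw [map_mul, map_mul, map_mul, map_inv, map_inv, X.z1]
    refine mul_inv_eq_one.2 ?_
    refine Subtype.ext ?_
    simp
  exact (X.ker1 u).1 hu

theorem z_norm_P : X.z ∈ normalizer (Pm 3 E : Set G) :=
  normalizer_E_le_P E (le_normalizer X.zE)

/-- The elements of `C` centralizing `z` modulo `P`. -/
def Cz : Subgroup G where
  carrier := {x | x ∈ Cm 3 E ∧ X.z * x * X.z⁻¹ * x⁻¹ ∈ Pm 3 E}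
  mul_mem' {a b} ha hb := ⟨(Cm 3 E).mul_mem ha.1 hb.1, by
    rw [show X.z * (a * b) * X.z⁻¹ * (a * b)⁻¹ =
      (X.z * a * X.z⁻¹ * a⁻¹) * (a * (X.z * b * X.z⁻¹ * b⁻¹) * a⁻¹) by group]
    exact mul_mem ha.2 ((mem_normalizer_iff.1 (C_le_normalizer_P E ha.1) _).1 hb.2)⟩
  one_mem' := ⟨one_mem _, by simp⟩
  inv_mem' {a} ha := ⟨(Cm 3 E).inv_mem ha.1, by
    have h := (mem_normalizer_iff.1 (C_le_normalizer_P E ((Cm 3 E).inv_mem ha.1)) _).1 (inv_mem ha.2)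
    rwa [show a⁻¹ * (X.z * a * X.z⁻¹ * a⁻¹)⁻¹ * a⁻¹⁻¹ = X.z * a⁻¹ * X.z⁻¹ * a⁻¹⁻¹ by group] at h⟩

theorem mem_Cz {x : G} : x ∈ X.Cz ↔ x ∈ Cm 3 E ∧ X.z * x * X.z⁻¹ * x⁻¹ ∈ Pm 3 E := Iff.rfl

theorem P_le_Cz : Pm 3 E ≤ X.Cz := fun u hu =>
  ⟨P_le_C E hu, mul_mem ((mem_normalizer_iff.1 X.z_norm_P u).1 hu) (inv_mem hu)⟩

theorem exists_C0_mul {c : G} (hc : c ∈ X.Cz) :
    ∃ u ∈ Pm 3 E, c * u ∈ X.C0 := by
  have hodd : Odd (Nat.card ↥(Pm 3 E)) := by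
    obtain ⟨k, hk⟩ := IsPGroup.iff_card.1 (isPGroup_P (p := 3) E)
    rw [hk]; exact Odd.pow ⟨1, rfl⟩
  have h := (mem_normalizer_iff.1 (C_le_normalizer_P E ((Cm 3 E).inv_mem hc.1)) _).1 hc.2
  rw [show c⁻¹ * (X.z * c * X.z⁻¹ * c⁻¹) * c⁻¹⁻¹ = c⁻¹ * (X.z * c * X.z) by
    rw [X.z_inv]; group] at h
  obtain ⟨u, hu, hfix⟩ := exists_fixed_coset hodd X.hz h
  exact ⟨u, hu, X.mem_C0.2 ⟨(Cm 3 E).mul_mem hc.1 (P_le_C E hu), hfix.symm⟩⟩

section

variable (hG : centralizer (Cfsg.pCore 3 G : Set G) ≤ Cfsg.pCore 3 G)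
  (hnle : ¬ ⁅Pm 3 E, E⁆ ≤ Wm 3 E)

include hG hnle

/-- `[E, C_C(z) P] ≤ P`. -/
theorem comm_Cz {e c : G} (he : e ∈ E) (hc : c ∈ X.Cz) : e * c * e⁻¹ * c⁻¹ ∈ Pm 3 E := by
  obtain ⟨q, hq, heq, hez⟩ := X.exists_E0 he
  obtain ⟨u, hu, hcu⟩ := X.exists_C0_mul hc
  have he0 : e * q ∈ X.E0 := X.mem_E0.2 ⟨heq, hez.symm⟩
  have hd := X.mem_D he0 hcu
  have h := X.D_mem_P hG hnle hd fun v => X.top_trivial hG hnle hd v
  have := comm_mem_of_congr (a := q⁻¹) (b := u⁻¹) (normalizer_E_le_P E (le_normalizer heq))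
    (C_le_normalizer_P E hcu.1) (X.Q_le_P hG hnle (inv_mem hq)) (inv_mem hu) h
  rwa [mul_inv_cancel_right, mul_inv_cancel_right] at this

theorem P_norm_Q {u : G} (hu : u ∈ Pm 3 E) : u ∈ normalizer (Cfsg.pCoreOf 3 E : Set G) :=
  CfsgLib.FrakM.normalizer_le_normalizer_pCoreOf E (P_le_normalizer_E hG X.blk hu)

theorem Cz_norm_Q {c : G} (hc : c ∈ X.Cz) : c ∈ normalizer (Cfsg.pCoreOf 3 E : Set G) := by
  obtain ⟨u, hu, hcu⟩ := X.exists_C0_mul hc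
  have := mul_mem (X.C0_norm_Q hG hnle hcu) (inv_mem (X.P_norm_Q hG hnle hu))
  rwa [mul_inv_cancel_right] at this

/-- An element centralizing `E / Q` modulo elements trivial on `Q / W` acts as a scalar. -/
theorem exists_scalar {c : G} (hcQ : c ∈ normalizer (Cfsg.pCoreOf 3 E : Set G))
    (h : ∀ e ∈ E, ∀ v, X.S2.act (e * c * e⁻¹ * c⁻¹) v = v) :
    ∃ t : F, ∀ v, X.S2.act c v = t • v := by
  refine commutant X.good (X.S2.actHom hcQ (X.norm_W hcQ)) fun r hr v => ?_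
  obtain ⟨e, rfl⟩ := X.S2.exists_pre r hr
  have he := X.E_norm_Q e.2
  have hd : (e : G) * c * (e : G)⁻¹ * c⁻¹ ∈ normalizer (Cfsg.pCoreOf 3 E : Set G) :=
    mul_mem (mul_mem (mul_mem he hcQ) (inv_mem he)) (inv_mem hcQ)
  show X.S2.act c _ = Matrix.mulVec _ (X.S2.act c v)
  rw [← X.S2.act_of_mem e (X.norm_W he), ← X.S2.act_of_mem e (X.norm_W he),
    ← X.S2.act_mul hcQ (X.norm_W hcQ) he (X.norm_W he),
    ← X.S2.act_mul he (X.norm_W he) hcQ (X.norm_W hcQ)]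
  rw [show (e : G) * c = ((e : G) * c * (e : G)⁻¹ * c⁻¹) * (c * e) by group,
    X.S2.act_mul hd (X.norm_W hd) (mul_mem hcQ he) (X.norm_W (mul_mem hcQ he)), h e e.2]

/-- `P` acts trivially on `Q / W`. -/
theorem act2_P {b : G} (hb : b ∈ Pm 3 E) (v : Fin 2 → F) : X.S2.act b v = v := by
  have hbQ := X.P_norm_Q hG hnle hb
  obtain ⟨t, ht⟩ := X.exists_scalar hG hnle hbQ fun e he w => by
    have hd := comm_mem_Q hG X.blk hb he
    refine X.S2.act_eq_id (le_normalizer hd) (X.norm_W (le_normalizer hd)) (fun a ha => ?_) w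
    exact (X.Q_comm_mem hd ha).1
  have hpow : ∀ (n : ℕ) w, X.S2.act (b ^ n) w = t ^ n • w := by
    intro n
    induction n with
    | zero => intro w; rw [pow_zero, pow_zero, X.S2.act_one, one_smul]
    | succ n ih =>
      intro w
      rw [pow_succ', X.S2.act_mul hbQ (X.norm_W hbQ) (_root_.pow_mem hbQ n) (X.norm_W (_root_.pow_mem hbQ n)),
        ih, ht, smul_smul, pow_succ']
  obtain ⟨k, hk⟩ := isPGroup_P (p := 3) E ⟨b, hb⟩
  have hk' : b ^ 3 ^ k = 1 := congrArg Subtype.val hk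
  have h := hpow (3 ^ k) ![1, 0]
  rw [hk', X.S2.act_one] at h
  have ht1 : t ^ 3 ^ k = 1 := by
    have := congrFun h 0
    simpa using this.symm
  haveI : CharP F 3 := (CharP.charP_iff_prime_eq_zero Nat.prime_three).2 (by exact_mod_cast X.char)
  have h0 : (t - 1) ^ 3 ^ k = 0 := by rw [sub_pow_char_pow, ht1, one_pow, sub_self]
  rw [ht, show t = 1 from sub_eq_zero.1 (eq_zero_of_pow_eq_zero h0), one_smul]

theorem scalar_Cz {c : G} (hc : c ∈ X.Cz) : ∃ t : F, ∀ v, X.S2.act c v = t • v :=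
  X.exists_scalar hG hnle (X.Cz_norm_Q hG hnle hc) fun _ he v =>
    X.act2_P hG hnle (X.comm_Cz hG hnle he hc) v

/-- The element `e⁻¹ g e g⁻¹` centralizes `z` modulo `P`. -/
theorem ce_mem_Cz {g : G} (hg : g ∈ Cm 3 E) (hy : g * X.z * g⁻¹ * X.z ∈ X.Cz) {e : G}
    (he : e ∈ E) : e⁻¹ * g * e * g⁻¹ ∈ X.Cz := by
  set P := Pm 3 E
  set N := normalizer (P : Set G)
  have hgN : g ∈ N := C_le_normalizer_P E hg
  have heN : e ∈ N := normalizer_E_le_P E (le_normalizer he)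
  have heC : e ∈ normalizer (Cm 3 E : Set G) := normalizer_E_le_C E (le_normalizer he)
  refine ⟨(Cm 3 E).mul_mem ?_ ((Cm 3 E).inv_mem hg), ?_⟩
  · have := (mem_normalizer_iff.1 (inv_mem heC) g).1 hg
    rwa [inv_inv] at this
  haveI : (P.subgroupOf N).Normal := Subgroup.normal_in_normalizer
  let π : ↥N →* ↥N ⧸ P.subgroupOf N := QuotientGroup.mk' _
  have hπ : ∀ a b : ↥N, (a : G) * b * (a : G)⁻¹ * (b : G)⁻¹ ∈ P → Commute (π a) (π b) := by
    intro a b h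
    have h1 : π (a * b * a⁻¹ * b⁻¹) = 1 := (QuotientGroup.eq_one_iff _).2 h
    rw [map_mul, map_mul, map_mul, map_inv, map_inv] at h1
    show π a * π b = π b * π a
    rwa [mul_inv_eq_one, mul_inv_eq_iff_eq_mul] at h1
  set z' : ↥N := ⟨X.z, X.z_norm_P⟩
  set g' : ↥N := ⟨g, hgN⟩
  set e' : ↥N := ⟨e, heN⟩
  have hyC := hy.1
  have hconj : g⁻¹ * (g * X.z * g⁻¹ * X.z) * g ∈ X.Cz := by
    have e1 : g⁻¹ * (g * X.z * g⁻¹ * X.z) * g = X.z * g⁻¹ * X.z * g := by group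
    refine ⟨(Cm 3 E).mul_mem ((Cm 3 E).mul_mem ((Cm 3 E).inv_mem hg) hyC) hg, ?_⟩
    have h := (mem_normalizer_iff.1 (inv_mem hgN) _).1 hy.2
    rw [X.z_inv, inv_inv] at h
    rw [X.z_inv, e1]
    convert h using 1
    simp only [_root_.mul_inv_rev, X.z_inv, inv_inv, mul_assoc]
    simp only [← mul_assoc X.z X.z, X.hz, one_mul, inv_mul_cancel, mul_one]
  have hc : Commute (π z') (π e'⁻¹ * π g' * π e' * π g'⁻¹) := by
    rw [map_inv, map_inv]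
    refine commute_aux (y := π (g' * z' * g'⁻¹ * z')) ?_ (hπ z' e' ?_) ?_ ?_ ?_
    · rw [← map_mul, show z' * z' = 1 from Subtype.ext X.hz, map_one]
    · refine X.Q_le_P hG hnle ?_
      have hr := X.conj_zQ he
      exact hr
    · rw [map_mul, map_mul, map_mul, map_inv]
    · exact hπ e' (g' * z' * g'⁻¹ * z') (X.comm_Cz hG hnle he hy)
    · rw [← map_inv, ← map_mul, ← map_mul]
      exact hπ e' (g'⁻¹ * (g' * z' * g'⁻¹ * z') * g') (X.comm_Cz hG hnle he hconj)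
  rw [← map_mul, ← map_mul, ← map_mul] at hc
  have h2 : π (z' * (e'⁻¹ * g' * e' * g'⁻¹) * z'⁻¹ * (e'⁻¹ * g' * e' * g'⁻¹)⁻¹) = 1 := by
    rw [map_mul, map_mul, map_mul, map_inv, map_inv, hc.eq, mul_inv_cancel_right, mul_inv_cancel]
  have h3 := (QuotientGroup.eq_one_iff (N := P.subgroupOf N) _).1 h2
  exact h3

/-- `z` is isolated modulo `P`. -/
theorem isolated {g : G} (hg : g ∈ Cm 3 E) (hy : g * X.z * g⁻¹ * X.z ∈ X.Cz) :
    g * X.z * g⁻¹ * X.z ∈ Pm 3 E := by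
  set y := g * X.z * g⁻¹ * X.z with hy'
  have hQ : ∀ e ∈ E, e⁻¹ * g * e * g⁻¹ ∈ normalizer (Cfsg.pCoreOf 3 E : Set G) := fun e he =>
    X.Cz_norm_Q hG hnle (X.ce_mem_Cz hG hnle hg hy he)
  choose t ht using fun e : ↥E => X.scalar_Cz hG hnle (X.ce_mem_Cz hG hnle hg hy e.2)
  have hv : (![1, 0] : Fin 2 → F) 0 = 1 := rfl
  have huniq : ∀ a b : F, (∀ v : Fin 2 → F, a • v = b • v) → a = b := fun a b h => by
    have := congrFun (h ![1, 0]) 0
    simpa using this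
  have hmul : ∀ e e' : ↥E, t (e * e') = t e * t e' := fun e e' => huniq _ _ fun v => by
    have hc := hQ e e.2
    have hc' := hQ e' e'.2
    have hE := X.E_norm_Q e'.2
    have hi := inv_mem hE
    have hm : (e' : G)⁻¹ * ((e : G)⁻¹ * g * e * g⁻¹) * e' ∈ normalizer (Cfsg.pCoreOf 3 E : Set G) :=
      mul_mem (mul_mem hi hc) hE
    rw [← ht (e * e'),
      show ((e * e' : ↥E) : G)⁻¹ * g * ((e * e' : ↥E) : G) * g⁻¹ =
        ((e' : G)⁻¹ * ((e : G)⁻¹ * g * e * g⁻¹) * e') * ((e' : G)⁻¹ * g * e' * g⁻¹) by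
          rw [Subgroup.coe_mul]; group,
      X.S2.act_mul hm (X.norm_W hm) hc' (X.norm_W hc'), ht e',
      X.S2.act_mul (mul_mem hi hc) (X.norm_W (mul_mem hi hc)) hE (X.norm_W hE),
      X.S2.act_mul hi (X.norm_W hi) hc (X.norm_W hc), ht e,
      X.S2.act_of_mem e' (X.norm_W hE), ← Subgroup.coe_inv, X.S2.act_of_mem e'⁻¹ (X.norm_W hi),
      Matrix.mulVec_smul, Matrix.mulVec_smul, Matrix.mulVec_smul, ← mulVec_mul, ← map_mul,
      inv_mul_cancel, map_one, Matrix.SpecialLinearGroup.coe_one, Matrix.one_mulVec, smul_smul]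
  have htQ : ∀ e : ↥E, (e : G) ∈ Cfsg.pCoreOf 3 E → t e = 1 := fun e he => huniq _ _ fun v => by
    rw [← ht e, one_smul]
    refine X.act2_P hG hnle ?_ v
    rw [show (e : G)⁻¹ * g * e * g⁻¹ = (e : G)⁻¹ * (g * e * g⁻¹) by group]
    exact mul_mem (inv_mem (X.Q_le_P hG hnle he))
      ((mem_normalizer_iff.1 (C_le_normalizer_P E hg) _).1 (X.Q_le_P hG hnle he))
  let th : ↥E →* F :=
    { toFun := t, map_one' := htQ 1 (one_mem _), map_mul' := hmul }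
  obtain ⟨i, hi⟩ := X.S2.exists_pre jj (jj_mem X.good)
  obtain ⟨k, hk⟩ := X.S2.exists_pre (xx X.char) (xx_mem X.char)
  have htz : t ⟨X.z, X.zE⟩ = 1 := by
    have hρ : X.S2.ρ (⟨X.z, X.zE⟩ * (i * k * i⁻¹ * k⁻¹)⁻¹) = 1 := by
      rw [map_mul, map_inv, mul_inv_eq_one, map_mul, map_mul, map_mul, map_inv, map_inv, hi, hk,
        X.z2, eq_comm, mul_inv_eq_iff_eq_mul, mul_inv_eq_iff_eq_mul]
      refine Subtype.ext ?_
      ext a b
      fin_cases a <;> fin_cases b <;>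
        simp [coe_jj, coe_xx, Matrix.SpecialLinearGroup.coe_mul, Matrix.mul_apply,
          Fin.sum_univ_two]
    have h1 : th (⟨X.z, X.zE⟩ * (i * k * i⁻¹ * k⁻¹)⁻¹) = 1 := htQ _ ((X.ker2 _).1 hρ)
    have h2 : th (i * k * i⁻¹ * k⁻¹)⁻¹ = 1 := by
      have hu : ∀ a : ↥E, th a * th a⁻¹ = 1 := fun a => by rw [← map_mul, mul_inv_cancel, map_one]
      rw [show (i * k * i⁻¹ * k⁻¹)⁻¹ = k * i * k⁻¹ * i⁻¹ by group, map_mul, map_mul, map_mul]
      linear_combination (hu i) * (th k * th k⁻¹) + (hu k)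
    rw [map_mul, h2, mul_one] at h1
    exact h1
  have hyQ := X.Cz_norm_Q hG hnle hy
  have hy1 : ∀ v, X.S2.act y v = v := fun v => by
    have h := ht ⟨X.z, X.zE⟩
    have e1 : X.z⁻¹ * g * X.z * g⁻¹ = y⁻¹ := by
      rw [hy']; simp [mul_assoc, X.z_inv]
    simp only [htz, one_smul, e1] at h
    conv_lhs => rw [← h v]
    rw [← X.S2.act_mul hyQ (X.norm_W hyQ) (inv_mem hyQ) (X.norm_W (inv_mem hyQ)), mul_inv_cancel,
      X.S2.act_one]
  have hgN := C_le_normalizer_P E hg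
  have hgK := C_le_normalizer_K E hg
  have hyK : y ∈ normalizer (Km 3 E : Set G) := C_le_normalizer_K E hy.1
  -- `y` is trivial on `Q K / K`
  have hyW : ∀ q ∈ Cfsg.pCoreOf 3 E, y * q * y⁻¹ * q⁻¹ ∈ Wm 3 E := fun q hq => by
    have hm := (mem_normalizer_iff.1 hyQ q).1 hq
    refine (X.S2.zero _ (mul_mem hm (inv_mem hq))).1 ?_
    rw [X.S2.map_mul _ hm _ (inv_mem hq), ← X.S2.act_apply hyQ (X.norm_W hyQ) hq, hy1,
      X.S2.map_inv hq, add_neg_cancel]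
  set M := Cfsg.pCoreOf 3 E ⊔ Km 3 E with hM
  have hgz : ∀ u ∈ Pm 3 E, u * (g * X.z * g⁻¹) * u⁻¹ * (g * X.z * g⁻¹)⁻¹ ∈ g ⋆ M := fun u hu => by
    have hv : g⁻¹ * u * g ∈ Pm 3 E := by
      have := (mem_normalizer_iff.1 (inv_mem hgN) u).1 hu
      rwa [inv_inv] at this
    have h := inv_mem (comm_mem_Q hG X.blk hv X.zE)
    have h' := conj_mem_cj (g := g) (mem_sup_left (T := Km 3 E) h)
    rwa [show g * (X.z * (g⁻¹ * u * g) * X.z⁻¹ * (g⁻¹ * u * g)⁻¹)⁻¹ * g⁻¹ =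
      u * (g * X.z * g⁻¹) * u⁻¹ * (g * X.z * g⁻¹)⁻¹ by group] at h'
  have hKM : Km 3 E ≤ g ⋆ M := (mem_normalizer_iff_cj.1 hgK).ge.trans (map_mono le_sup_right)
  have hQM : Cfsg.pCoreOf 3 E ≤ g ⋆ M := fun q hq => by
    -- `q * q` is congruent to a commutator with the conjugate of `z`
    set z' := g * X.z * g⁻¹ with hz'
    have hzq := X.S2.conj_mem X.zE hq
    have hzqm : X.z * q * X.z⁻¹ * q ∈ Wm 3 E := (X.S2.zero _ (mul_mem hzq hq)).1 (by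
      rw [X.S2.map_mul _ hzq _ hq, X.f2_z hq, neg_add_cancel])
    have h1 := hyW _ hzq
    have hyz : y * (X.z * q * X.z⁻¹) * y⁻¹ = z' * q * z'⁻¹ := by
      rw [hy']; simp [mul_assoc, X.z_inv]
      simp only [← mul_assoc X.z X.z, X.hz, one_mul]
    rw [hyz] at h1
    have h2 := mul_mem h1 hzqm
    rw [show z' * q * z'⁻¹ * (X.z * q * X.z⁻¹)⁻¹ * (X.z * q * X.z⁻¹ * q) = z' * q * z'⁻¹ * q by
      group] at h2
    -- `h2 : z' q z'⁻¹ q ∈ W`
    have h3 := hgz q (X.Q_le_P hG hnle hq)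
    have h4 : q * q ∈ g ⋆ M := by
      have h5 := mul_mem h3 (hKM (X.W_le_K hG hnle h2))
      rwa [show q * z' * q⁻¹ * z'⁻¹ * (z' * q * z'⁻¹ * q) = q * (z' * (q⁻¹ * q) * z'⁻¹) * q by group,
        inv_mul_cancel, mul_one, mul_inv_cancel, mul_one] at h5
    have h6 : q ^ 3 ∈ g ⋆ M := hKM (X.W_le_K hG hnle (X.pow_mem q hq).1)
    have h7 := mul_mem h6 (inv_mem h4)
    rwa [show q ^ 3 * (q * q)⁻¹ = q by group] at h7
  have hMeq : g ⋆ M = M :=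
    (eq_of_le_of_card_le' (sup_le hQM hKM) (card_cj _ _).le).symm
  have hfix : ∀ u ∈ Pm 3 E, X.z * u = u * X.z → y * u * y⁻¹ * u⁻¹ ∈ Km 3 E := by
    intro u hu huz
    set z' := g * X.z * g⁻¹ with hz'
    have e1 : y * u * y⁻¹ * u⁻¹ = (u * z' * u⁻¹ * z'⁻¹)⁻¹ := by
      rw [hy']
      have : z' * X.z * u * (z' * X.z)⁻¹ = z' * u * z'⁻¹ := by
        rw [show z' * X.z * u = z' * (u * X.z) by rw [mul_assoc, huz]]
        group
      rw [this]; group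
    have hm : y * u * y⁻¹ * u⁻¹ ∈ M := by
      rw [e1]; exact inv_mem (hMeq.le (hgz u hu))
    set m := y * u * y⁻¹ * u⁻¹ with hm'
    have hQK : Cfsg.pCoreOf 3 E ≤ normalizer (Km 3 E : Set G) :=
      (Q_le E).trans (le_normalizer.trans (normalizer_E_le_K E))
    rw [hM, CfsgLib.Solvable.mem_sup_of_le_normalizer hQK] at hm
    obtain ⟨q, hq, k, hk, hqk⟩ := hm
    have hzq := X.S2.conj_mem X.zE hq
    have hzK := normalizer_E_le_K (p := 3) E (le_normalizer X.zE)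
    have hw : X.z * y * X.z⁻¹ * y⁻¹ ∈ Pm 3 E := hy.2
    set w := X.z * y * X.z⁻¹ * y⁻¹ with hw'
    have hzm : X.z * m * X.z⁻¹ * m⁻¹ ∈ Km 3 E := by
      have hyu : y * u * y⁻¹ ∈ Pm 3 E := (mem_normalizer_iff.1 (C_le_normalizer_P E hy.1) u).1 hu
      have e2 : X.z * m * X.z⁻¹ * m⁻¹ = w * (y * u * y⁻¹) * w⁻¹ * (y * u * y⁻¹)⁻¹ := by
        rw [hm', hw']
        have hzu : X.z * u * X.z⁻¹ = u := by rw [huz, mul_inv_cancel_right]
        rw [show X.z * (y * u * y⁻¹ * u⁻¹) * X.z⁻¹ = (X.z * y * X.z⁻¹) * (X.z * u * X.z⁻¹) *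
          (X.z * y * X.z⁻¹)⁻¹ * (X.z * u * X.z⁻¹)⁻¹ by group, hzu]
        group
      rw [e2]
      refine mem_sup_right ⟨⁅(⟨w, hw⟩ : ↥(Pm 3 E)), ⟨_, hyu⟩⁆, ?_, rfl⟩
      refine (CfsgLib.PGroupBasic.commutator_pow_le_frattini (isPGroup_P E)).1 ?_
      rw [_root_.commutator_def]
      exact commutator_mem_commutator (mem_top _) (mem_top _)
    have hkz : X.z * k * X.z⁻¹ ∈ Km 3 E := (mem_normalizer_iff.1 hzK k).1 hk
    have hqz : (X.z * q * X.z⁻¹) * q⁻¹ ∈ Km 3 E := by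
      have h1 : X.z * q * X.z⁻¹ ∈ normalizer (Km 3 E : Set G) := hQK hzq
      have e3 : (X.z * q * X.z⁻¹) * q⁻¹ = ((X.z * q * X.z⁻¹) * (X.z * k * X.z⁻¹) *
          (X.z * q * X.z⁻¹)⁻¹)⁻¹ * (X.z * m * X.z⁻¹ * m⁻¹) * (q * k * q⁻¹) := by
        rw [← hqk]; group
      rw [e3]
      exact mul_mem (mul_mem (inv_mem ((mem_normalizer_iff.1 h1 _).1 hkz)) hzm)
        ((mem_normalizer_iff.1 (hQK hq) k).1 hk)
    have h0 := X.Q_inf_K hG hnle (mul_mem hzq (inv_mem hq)) hqz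
    have hf := (X.S2.zero _ (mul_mem hzq (inv_mem hq))).2 h0
    rw [X.S2.map_mul _ hzq _ (inv_mem hq), X.f2_z hq, X.S2.map_inv hq] at hf
    have hq0 : X.S2.f q = 0 := by
      funext i
      have := congrFun hf i
      simp only [Pi.add_apply, Pi.neg_apply, Pi.zero_apply] at this
      simp only [Pi.zero_apply]
      linear_combination this + (X.S2.f q i) * X.char
    rw [← hqk]
    exact mul_mem (X.W_le_K hG hnle ((X.S2.zero q hq).1 hq0)) hk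
  refine stab_le_P hG X.blk ⟨hy.1, C_le_normalizer_P E hy.1, hyK, fun u hu => ?_⟩
  obtain ⟨q, hq, huqP, hfx⟩ := X.exists_fixed_mul hG hnle hu
  have h1 := hfix _ huqP hfx
  have h2 := X.W_le_K hG hnle (hyW q⁻¹ (inv_mem hq))
  have hPK : u * q ∈ normalizer (Km 3 E : Set G) :=
    normalizer_E_le_K E (P_le_normalizer_E hG X.blk huqP)
  rw [show y * u * y⁻¹ * u⁻¹ =
    (y * (u * q) * y⁻¹ * (u * q)⁻¹) * ((u * q) * (y * q⁻¹ * y⁻¹ * q⁻¹⁻¹) * (u * q)⁻¹) by group]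
  exact mul_mem h1 ((mem_normalizer_iff.1 hPK _).1 h2)

end

end Exc

end CfsgLib.BlockExc
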