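import Cfsg.Agent.LocalB.BlockExc

/-!
For an exceptional block `E`, commutators of `C_E(z)` with `C_C(z)` act trivially on `Q / W`; this is
where the condition that no element of `B(T)` acts quadratically on `Q / Z` is used.
-/

set_option autoImplicit false
set_option linter.style.haveILetI false
set_option linter.unusedSectionVars false

namespace CfsgLib.BlockExc

open Subgroup CfsgLib.Functor CfsgLib.BlockSL2 CfsgLib.BlockModule CfsgLib.BlockSection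
  CfsgLib.BlockBasic
open scoped CfsgLib.Functor commutatorElement

universe u

variable {G : Type u} [Group G] [Finite G]

/-- An offender on an elementary abelian `X ≤ U`. -/
theorem offender_card {p : ℕ} {U A X : Subgroup G} (hA : A ∈ CfsgLib.Thompson.maxIn p U)
    (hX : Cfsg.IsElementaryAbelian p X) (hXU : X ≤ U) :
    Nat.card X * Nat.card ↥(A ⊓ centralizer (X : Set G)) ≤
      Nat.card A * Nat.card ↥(X ⊓ centralizer (A : Set G)) := by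
  set A' := A ⊓ centralizer (X : Set G)
  have hAn : A' ≤ normalizer (X : Set G) :=
    inf_le_right.trans (CfsgLib.FrakM.centralizer_le_normalizer _)
  have hsup : Cfsg.IsElementaryAbelian p (A' ⊔ X) :=
    CfsgLib.Thompson.elab_sup (CfsgLib.Thompson.elab_mono hA.2.1 inf_le_left) hX inf_le_right
  have h1 := CfsgLib.Solvable.card_sup_mul_card_inf hAn
  have h2 : Nat.card ↥(A' ⊔ X) ≤ Nat.card A :=
    hA.2.2 _ (sup_le (inf_le_left.trans hA.1) hXU) hsup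
  have h3 : Nat.card ↥(A' ⊓ X) ≤ Nat.card ↥(X ⊓ centralizer (A : Set G)) :=
    Subgroup.card_le_of_le fun x hx => Subgroup.mem_inf.2 ⟨hx.2,
      mem_centralizer_iff.2 fun a ha => CfsgLib.Thompson.elab_commute hA.2.1 ha hx.1.1⟩
  rw [mul_comm, ← h1]
  exact Nat.mul_le_mul h2 h3

/-- The determinant is preserved by a quadratic linear map. -/
theorem det2_of_quadratic {F : Type*} [Field F] [Fintype F] (g : (Fin 2 → F) →+ (Fin 2 → F))
    (hlin : ∀ (c : F) v, g (c • v) = c • g v) (hq : ∀ v, g (g v - v) = g v - v)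
    (v w : Fin 2 → F) : det2 (g v) (g w) = det2 v w := by
  set N : (Fin 2 → F) →+ (Fin 2 → F) := g - AddMonoidHom.id _
  by_cases hne : ∃ v, N v ≠ 0
  · obtain ⟨u, v₀, hNv, hNu, -, hspan, -⟩ := exists_frame N (fun c v => by
      show g (c • v) - c • v = c • (g v - v)
      rw [hlin, smul_sub]) (m := 2) (fun v => sub_eq_zero.2 (hq v)) hne
    have e : ∀ a b : F, g (a • u + b • v₀) = (a + b) • u + b • v₀ := fun a b => by
      have e1 : g u = u := sub_eq_zero.1 hNu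
      have e2 : g v₀ = u + v₀ := sub_eq_iff_eq_add.1 hNv
      rw [map_add, hlin, hlin, e1, e2, smul_add, add_smul, add_assoc]
    obtain ⟨a, b, rfl⟩ := hspan v
    obtain ⟨c, d, rfl⟩ := hspan w
    rw [e, e]
    simp only [det2, Pi.add_apply, Pi.smul_apply, smul_eq_mul]
    ring
  · push Not at hne
    rw [show g v = v from sub_eq_zero.1 (hne v), show g w = w from sub_eq_zero.1 (hne w)]

namespace Exc

variable {T : Sylow 3 G} {E : Subgroup G} {F : Type} [Field F] [Fintype F] (X : Exc T E F)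

include X

/-- `C_E(z)` covers `E / Q`. -/
theorem exists_E0 {e : G} (he : e ∈ E) :
    ∃ q ∈ Cfsg.pCoreOf 3 E, e * q ∈ E ∧ X.z * (e * q) = (e * q) * X.z := by
  have hx : e⁻¹ * (X.z * e * X.z) ∈ Cfsg.pCoreOf 3 E := by
    set u : ↥E := (⟨e, he⟩ : ↥E)⁻¹ * (⟨X.z, X.zE⟩ * ⟨e, he⟩ * ⟨X.z, X.zE⟩)
    have hu : X.S1.ρ u = 1 := by
      rw [map_mul, map_mul, map_mul, map_inv, X.z1]
      refine inv_mul_eq_one.2 ?_
      refine Subtype.ext ?_
      simp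
    exact (X.ker1 u).1 hu
  obtain ⟨q, hq, hzq⟩ := exists_fixed_coset X.Q_odd X.hz hx
  exact ⟨q, hq, mul_mem he (Q_le E hq), hzq⟩

theorem rho2_mul {e q : G} (he : e ∈ E) (hq : q ∈ Cfsg.pCoreOf 3 E) :
    X.S2.ρ ⟨e * q, mul_mem he (Q_le E hq)⟩ = X.S2.ρ ⟨e, he⟩ ∧
      X.S1.ρ ⟨e * q, mul_mem he (Q_le E hq)⟩ = X.S1.ρ ⟨e, he⟩ := by
  have h : (⟨e * q, mul_mem he (Q_le E hq)⟩ : ↥E) = ⟨e, he⟩ * ⟨q, Q_le E hq⟩ := rfl
  rw [h, map_mul, map_mul, (X.ker2 ⟨q, Q_le E hq⟩).2 hq, (X.ker1 ⟨q, Q_le E hq⟩).2 hq, mul_one,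
    mul_one]
  exact ⟨rfl, rfl⟩

/-- `C_E(z)` -/
def E0 : Subgroup G := E ⊓ centralizer {X.z}

/-- `C_C(z)` -/
def C0 : Subgroup G := Cm 3 E ⊓ centralizer {X.z}

theorem mem_E0 {e : G} : e ∈ X.E0 ↔ e ∈ E ∧ e * X.z = X.z * e := by
  rw [E0, Subgroup.mem_inf, mem_centralizer_singleton_iff]

theorem mem_C0 {c : G} : c ∈ X.C0 ↔ c ∈ Cm 3 E ∧ c * X.z = X.z * c := by
  rw [C0, Subgroup.mem_inf, mem_centralizer_singleton_iff]

theorem E0_conj_C0 {e c : G} (he : e ∈ X.E0) (hc : c ∈ X.C0) : e * c * e⁻¹ ∈ X.C0 :=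
  ⟨(mem_normalizer_iff.1 (normalizer_E_le_C E (le_normalizer he.1)) c).1 hc.1,
    (centralizer {X.z}).mul_mem ((centralizer {X.z}).mul_mem he.2 hc.2)
      ((centralizer {X.z}).inv_mem he.2)⟩

/-- The group generated by the commutators of `C_E(z)` and `C_C(z)`. -/
def D : Subgroup G := Subgroup.closure {x | ∃ e ∈ X.E0, ∃ c ∈ X.C0, x = e * c * e⁻¹ * c⁻¹}

theorem D_le : X.D ≤ X.C0 := (closure_le _).2 (by
  rintro _ ⟨e, he, c, hc, rfl⟩
  exact mul_mem (X.E0_conj_C0 he hc) (inv_mem hc))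

theorem mem_D {e c : G} (he : e ∈ X.E0) (hc : c ∈ X.C0) : e * c * e⁻¹ * c⁻¹ ∈ X.D :=
  subset_closure ⟨e, he, c, hc, rfl⟩

theorem conj_D_E0 {a d : G} (ha : a ∈ X.E0) (hd : d ∈ X.D) : a * d * a⁻¹ ∈ X.D := by
  have : a ⋆ X.D ≤ X.D := by
    rw [D, MonoidHom.map_closure, closure_le]
    rintro _ ⟨_, ⟨e, he, c, hc, rfl⟩, rfl⟩
    show a * (e * c * e⁻¹ * c⁻¹) * a⁻¹ ∈ X.D
    rw [show a * (e * c * e⁻¹ * c⁻¹) * a⁻¹ =
      (a * e) * c * (a * e)⁻¹ * c⁻¹ * (a * c * a⁻¹ * c⁻¹)⁻¹ by group]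
    exact mul_mem (X.mem_D (mul_mem ha he) hc) (inv_mem (X.mem_D ha hc))
  exact this (conj_mem_cj hd)

theorem conj_D_C0 {a d : G} (ha : a ∈ X.C0) (hd : d ∈ X.D) : a * d * a⁻¹ ∈ X.D := by
  have : a ⋆ X.D ≤ X.D := by
    rw [D, MonoidHom.map_closure, closure_le]
    rintro _ ⟨_, ⟨e, he, c, hc, rfl⟩, rfl⟩
    show a * (e * c * e⁻¹ * c⁻¹) * a⁻¹ ∈ X.D
    rw [show a * (e * c * e⁻¹ * c⁻¹) * a⁻¹ =
      (e * a * e⁻¹ * a⁻¹)⁻¹ * (e * (a * c) * e⁻¹ * (a * c)⁻¹) by group]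
    exact mul_mem (inv_mem (X.mem_D he ha)) (X.mem_D he (mul_mem ha hc))
  exact this (conj_mem_cj hd)

theorem norm_W {x : G} (hx : x ∈ normalizer (Cfsg.pCoreOf 3 E : Set G)) :
    x ∈ normalizer (Wm 3 E : Set G) :=
  CfsgLib.Baumann.normalizer_le_normalizer_omegaOneCenter _ hx

theorem norm_Z {x : G} (hx : x ∈ normalizer (Cfsg.pCoreOf 3 E : Set G)) :
    x ∈ normalizer (Zm 3 E : Set G) := by
  rw [mem_normalizer_iff_cj, ← X.comm_eq, cj_commutator, mem_normalizer_iff_cj.1 hx]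

theorem E_norm_Q {e : G} (he : e ∈ E) : e ∈ normalizer (Cfsg.pCoreOf 3 E : Set G) :=
  CfsgLib.FrakM.le_normalizer_pCoreOf E he

theorem B_norm_Q {b : G} (hb : b ∈ Cfsg.baumannSubgroupOf 3 (T : Subgroup G)) :
    b ∈ normalizer (Cfsg.pCoreOf 3 E : Set G) :=
  CfsgLib.FrakM.normalizer_le_normalizer_pCoreOf E (B_le_normalizer_E X.blk hb)

section

variable (hG : centralizer (Cfsg.pCore 3 G : Set G) ≤ Cfsg.pCore 3 G)
  (hnle : ¬ ⁅Pm 3 E, E⁆ ≤ Wm 3 E)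

include hG hnle

/-- `Q` is generated by the commutators with `z` in `P`. -/
theorem Q_eq : Cfsg.pCoreOf 3 E =
    Subgroup.closure {x | ∃ u ∈ Pm 3 E, x = u * X.z * u⁻¹ * X.z⁻¹} := by
  set M := Subgroup.closure {x | ∃ u ∈ Pm 3 E, x = u * X.z * u⁻¹ * X.z⁻¹}
  have hM : M ≤ Cfsg.pCoreOf 3 E := (closure_le _).2 (by
    rintro _ ⟨u, hu, rfl⟩
    have h := inv_mem (comm_mem_Q hG X.blk hu X.zE)
    rwa [show (X.z * u * X.z⁻¹ * u⁻¹)⁻¹ = u * X.z * u⁻¹ * X.z⁻¹ by group] at h)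
  refine le_antisymm (X.le_of_le_sup_Z hM ?_) hM
  intro q hq
  have hgen : ∀ a ∈ Cfsg.pCoreOf 3 E, a * X.z * a⁻¹ * X.z⁻¹ ∈ M := fun a ha =>
    subset_closure ⟨a, X.Q_le_P hG hnle ha, rfl⟩
  have hWM : Wm 3 E ≤ M ⊔ Zm 3 E := fun w hw => by
    obtain ⟨n, hn, c, hc, rfl⟩ := X.exists_split hw
    have h1 := hgen n (W_le_Q E hn.1)
    rw [show n * X.z * n⁻¹ * X.z⁻¹ = n * (X.z * n * X.z⁻¹)⁻¹ by group, hn.2, inv_inv] at h1
    have h2 := mul_mem h1 h1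
    rw [show n * n * (n * n) = n * n * n * n by group, X.W_pow hn.1, one_mul] at h2
    exact mul_mem (mem_sup_left h2) (mem_sup_right hc)
  -- `[q⁻¹, z]` has the same image as `q` in `Q / W`
  set m := q⁻¹ * X.z * q⁻¹⁻¹ * X.z⁻¹ with hm
  have hmM := hgen q⁻¹ (inv_mem hq)
  have hzq : X.z * q * X.z⁻¹ ∈ Cfsg.pCoreOf 3 E := X.S2.conj_mem X.zE hq
  have e1 : m = q⁻¹ * (X.z * q * X.z⁻¹) := by rw [hm]; group
  have hf : X.S2.f m = X.S2.f q := by
    rw [e1, X.S2.map_mul _ (inv_mem hq) _ hzq, X.f2_z hq, X.S2.map_inv hq]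
    funext i
    simp only [Pi.add_apply, Pi.neg_apply]
    linear_combination -(X.S2.f q i) * X.char
  have h3 := (X.S2.eq_iff (hM hmM) hq).1 hf
  have := mul_mem (mem_sup_left (T := Zm 3 E) hmM) (hWM h3)
  rwa [mul_inv_cancel_left] at this

theorem C0_norm_Q {c : G} (hc : c ∈ X.C0) : c ∈ normalizer (Cfsg.pCoreOf 3 E : Set G) := by
  rw [mem_normalizer_iff_cj]
  refine eq_of_le_of_card_le' ?_ (card_cj _ _).ge
  conv_lhs => rw [X.Q_eq hG hnle]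
  rw [MonoidHom.map_closure, closure_le]
  rintro _ ⟨_, ⟨u, hu, rfl⟩, rfl⟩
  show c * (u * X.z * u⁻¹ * X.z⁻¹) * c⁻¹ ∈ Cfsg.pCoreOf 3 E
  rw [X.Q_eq hG hnle]
  refine subset_closure ⟨c * u * c⁻¹, (mem_normalizer_iff.1 (C_le_normalizer_P E hc.1) u).1 hu, ?_⟩
  have hcz := (X.mem_C0.1 hc).2
  have hcz' : X.z⁻¹ * c⁻¹ = c⁻¹ * X.z⁻¹ := by
    rw [← _root_.mul_inv_rev, ← _root_.mul_inv_rev, hcz]
  calc c * (u * X.z * u⁻¹ * X.z⁻¹) * c⁻¹ = c * u * X.z * u⁻¹ * (X.z⁻¹ * c⁻¹) := by group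
    _ = c * u * c⁻¹ * (c * X.z) * u⁻¹ * c⁻¹ * X.z⁻¹ := by rw [hcz']; group
    _ = c * u * c⁻¹ * X.z * (c * u * c⁻¹)⁻¹ * X.z⁻¹ := by rw [hcz]; group

/-- Elements of `D` centralize `W`. -/
theorem D_cent_W {d : G} (hd : d ∈ X.D) : d ∈ centralizer (Wm 3 E : Set G) := by
  refine X.centralize_W (X.D_le hd).1 ?_
  refine (closure_le _).2 ?_ hd
  rintro _ ⟨e, he, c, hc, rfl⟩
  have he' : e ∈ centralizer (Zm 3 E : Set G) :=
    mem_centralizer_iff.2 fun x hx => (mem_centralizer_iff.1 hx.2 e he.1).symm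
  have hcZ := X.norm_Z (X.C0_norm_Q hG hnle hc)
  rw [show e * c * e⁻¹ * c⁻¹ = e * (c * e⁻¹ * c⁻¹) by group]
  exact mul_mem he' (CfsgLib.FrakM.conj_mem_centralizer hcZ (inv_mem he'))

/-- `C_P(z)` is centralized modulo `Z` by `D`. -/
theorem D_fix {d : G} (hd : d ∈ X.D) :
    ∀ u ∈ Pm 3 E ⊓ centralizer {X.z}, d * u * d⁻¹ * u⁻¹ ∈ Zm 3 E := by
  suffices h : X.D ≤ stab (Pm 3 E ⊓ centralizer {X.z}) (Zm 3 E) from (h hd).2.2
  refine (closure_le _).2 ?_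
  rintro _ ⟨e, he, c, hc, rfl⟩
  have hnorm : ∀ x, x ∈ normalizer (Pm 3 E : Set G) → x * X.z = X.z * x →
      x ∈ normalizer ((Pm 3 E ⊓ centralizer {X.z} : Subgroup G) : Set G) := fun x hxP hxz => by
    refine mem_normalizer_iff.2 fun u => and_congr ((mem_normalizer_iff.1 hxP u)) ?_
    show u ∈ centralizer ({X.z} : Set G) ↔ x * u * x⁻¹ ∈ centralizer ({X.z} : Set G)
    rw [mem_centralizer_singleton_iff, mem_centralizer_singleton_iff]
    have hx : Commute x X.z := hxz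
    refine ⟨fun hu => ((hx.mul_left hu).mul_left hx.inv_left).eq, fun hu => ?_⟩
    have := (hx.inv_left.mul_left (show Commute (x * u * x⁻¹) X.z from hu)).mul_left hx
    rwa [show x⁻¹ * (x * u * x⁻¹) * x = u by group] at this
  have heS : e ∈ stab (Pm 3 E ⊓ centralizer {X.z}) (Zm 3 E) := by
    refine ⟨hnorm e (normalizer_E_le_P E (le_normalizer he.1)) (X.mem_E0.1 he).2,
      X.norm_Z (X.E_norm_Q he.1), fun u hu => ?_⟩
    refine X.mem_Z_of_fixed' (comm_mem_Q hG X.blk hu.1 he.1) ?_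
    have hez : Commute X.z e := (X.mem_E0.1 he).2.symm
    have huz : Commute X.z u := (mem_centralizer_singleton_iff.1 hu.2).symm
    rw [(((hez.mul_right huz).mul_right hez.inv_right).mul_right huz.inv_right).eq,
      mul_inv_cancel_right]
  exact comm_mem_stab (hnorm c (C_le_normalizer_P E hc.1) (X.mem_C0.1 hc).2)
    (X.norm_Z (X.C0_norm_Q hG hnle hc)) heS

/-- An element of `D` trivial on `Q / W` lies in `P`. -/
theorem D_mem_P {d : G} (hd : d ∈ X.D) (htriv : ∀ v, X.S2.act d v = v) : d ∈ Pm 3 E := by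
  have hdC := X.D_le hd
  have hQ := X.C0_norm_Q hG hnle hdC
  have hK : ∀ q ∈ Cfsg.pCoreOf 3 E, d * q * d⁻¹ * q⁻¹ ∈ Km 3 E := fun q hq => by
    have hm := (mem_normalizer_iff.1 hQ q).1 hq
    refine X.W_le_K hG hnle ((X.S2.zero _ (mul_mem hm (inv_mem hq))).1 ?_)
    rw [X.S2.map_mul _ hm _ (inv_mem hq), ← X.S2.act_apply hQ (X.norm_W hQ) hq, htriv,
      X.S2.map_inv hq, add_neg_cancel]
  refine stab_le_P hG X.blk ⟨hdC.1, C_le_normalizer_P E hdC.1, C_le_normalizer_K E hdC.1,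
    fun u hu => ?_⟩
  obtain ⟨q, hq, huqP, hfix⟩ := X.exists_fixed_mul hG hnle hu
  have h1 := X.D_fix hG hnle hd (u * q) ⟨huqP, mem_centralizer_singleton_iff.2 hfix.symm⟩
  have h2 := hK q⁻¹ (inv_mem hq)
  have hPK : u * q ∈ normalizer (Km 3 E : Set G) :=
    normalizer_E_le_K E (P_le_normalizer_E hG X.blk huqP)
  rw [show d * u * d⁻¹ * u⁻¹ =
    (d * (u * q) * d⁻¹ * (u * q)⁻¹) * ((u * q) * (d * q⁻¹ * d⁻¹ * q⁻¹⁻¹) * (u * q)⁻¹) by group]
  exact mul_mem (X.W_le_K hG hnle h1.1) ((mem_normalizer_iff.1 hPK _).1 h2)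

/-- An element acting linearly on `W / Z` acts linearly on `Q / W`. -/
theorem linear2_of_linear1 {b : G} (hb : b ∈ normalizer (E : Set G))
    (_hlin : ∀ (c : F) v, X.S1.act b (c • v) = c • X.S1.act b v)
    (hdet : ∀ v w, det2 (X.S1.act b v) (X.S1.act b w) = det2 v w) :
    ∀ (c : F) v, X.S2.act b (c • v) = c • X.S2.act b v := by
  have hQ : b ∈ normalizer (Cfsg.pCoreOf 3 E : Set G) :=
    CfsgLib.FrakM.normalizer_le_normalizer_pCoreOf E hb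
  have hW := X.norm_W hQ
  have hZ := X.norm_Z hQ
  by_cases hbig : ∃ t : F, t ≠ 0 ∧ t * t ≠ 1
  · obtain ⟨m, hm⟩ := exists_of_isometry (X.S1.actHom hW hZ) (X.S1.act_surjective hW hZ) hdet
    obtain ⟨e, rfl⟩ := X.S1.exists_pre m (by rw [R_eq_top hbig]; trivial)
    set c := (e : G)⁻¹ * b with hc
    have heQ := X.E_norm_Q e.2
    have hcQ : c ∈ normalizer (Cfsg.pCoreOf 3 E : Set G) := mul_mem (inv_mem heQ) hQ
    have hcE : c ∈ normalizer (E : Set G) := mul_mem (inv_mem (le_normalizer e.2)) hb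
    have hbc : b = (e : G) * c := by rw [hc, mul_inv_cancel_left]
    have hc1 : ∀ v, X.S1.act c v = v := fun v => by
      rw [hc, X.S1.act_mul (inv_mem (X.norm_W heQ)) (inv_mem (X.norm_Z heQ)) hW hZ,
        show X.S1.act b v = _ from hm v, ← X.S1.act_of_mem e (X.norm_Z heQ),
        ← X.S1.act_mul (inv_mem (X.norm_W heQ)) (inv_mem (X.norm_Z heQ)) (X.norm_W heQ)
          (X.norm_Z heQ), inv_mul_cancel, X.S1.act_one]
    -- so `c` centralizes `E / Q`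
    obtain ⟨lam, hlam⟩ := commutant X.good (X.S2.actHom hcQ (X.norm_W hcQ)) fun r hr v => by
      obtain ⟨e', rfl⟩ := X.S2.exists_pre r hr
      have hce : c * (e' : G) * c⁻¹ ∈ E := (mem_normalizer_iff.1 hcE e').1 e'.2
      show X.S2.act c _ = Matrix.mulVec _ (X.S2.act c v)
      rw [X.S2.act_conj hcQ (X.norm_W hcQ) e' hce]
      suffices h3 : X.S2.ρ ⟨_, hce⟩ = X.S2.ρ e' by rw [h3]
      have h1 : X.S1.ρ ⟨_, hce⟩ = X.S1.ρ e' := by
        refine Subtype.ext (Matrix.mulVec_injective ?_)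
        funext w
        have := X.S1.act_conj (X.norm_W hcQ) (X.norm_Z hcQ) e' hce w
        rw [hc1, hc1] at this
        exact this.symm
      have h2 : X.S1.ρ (⟨_, hce⟩ * e'⁻¹) = 1 := by rw [map_mul, map_inv, h1, mul_inv_cancel]
      have h3 := (X.ker2 _).2 ((X.ker1 _).1 h2)
      rwa [map_mul, map_inv, mul_inv_eq_one] at h3
    intro a v
    have hl : ∀ w, X.S2.act c w = lam • w := hlam
    rw [hbc, X.S2.act_mul heQ (X.norm_W heQ) hcQ (X.norm_W hcQ),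
      X.S2.act_mul heQ (X.norm_W heQ) hcQ (X.norm_W hcQ), hl, hl,
      X.S2.act_of_mem e (X.norm_W heQ), X.S2.act_of_mem e (X.norm_W heQ), ← Matrix.mulVec_smul,
      smul_smul, smul_smul, mul_comm]
  · intro c v
    have hg := X.S2.actHom hQ hW
    rcases small_cases hbig c with rfl | rfl | rfl
    · rw [zero_smul, zero_smul]; exact map_zero (X.S2.actHom hQ hW)
    · rw [one_smul, one_smul]
    · rw [neg_one_smul, neg_one_smul]; exact map_neg (X.S2.actHom hQ hW) v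

/-- Some element of `B(T)` outside `C(W)` acts quadratically on `W / Z` and on `Q / W`. -/
theorem exists_quadratic : ∃ b ∈ Cfsg.baumannSubgroupOf 3 (T : Subgroup G),
    b ∉ centralizer (Wm 3 E : Set G) ∧
    (∀ v, X.S1.act b (X.S1.act b v - v) = X.S1.act b v - v) ∧
    ∀ v, X.S2.act b (X.S2.act b v - v) = X.S2.act b v - v := by
  obtain ⟨A, hA, hAne⟩ : ∃ A ∈ CfsgLib.Thompson.maxIn 3 (T : Subgroup G),
      ¬ A ≤ centralizer (WEm 3 E : Set G) := by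
    by_contra hno
    push Not at hno
    refine CfsgLib.Baumann.commutator_W_thompson_ne hG T X.blk ?_
    rw [commutator_comm, commutator_eq_bot_iff_le_centralizer,
      CfsgLib.Thompson.thompsonSubgroupOf_eq]
    exact sSup_le hno
  have hAB : A ≤ Cfsg.baumannSubgroupOf 3 (T : Subgroup G) := by
    refine le_trans ?_ (CfsgLib.Baumann.thompson_le_baumann _)
    rw [CfsgLib.Thompson.thompsonSubgroupOf_eq]
    exact le_sSup hA
  have hAQ : ∀ a ∈ A, a ∈ normalizer (Cfsg.pCoreOf 3 E : Set G) := fun a ha => X.B_norm_Q (hAB ha)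
  have hel := hA.2.1
  letI : CommGroup ↥A :=
    { (inferInstance : Group ↥A) with
      mul_comm := fun a b => Subtype.ext (CfsgLib.Thompson.elab_commute hel a.2 b.2) }
  let g : ↥A →* AddMonoid.End (Fin 2 → F) :=
    { toFun := fun a => (X.S1.actHom (X.norm_W (hAQ a a.2)) (X.norm_Z (hAQ a a.2)) :)
      map_one' := AddMonoidHom.ext fun v => X.S1.act_one v
      map_mul' := fun a b => AddMonoidHom.ext fun v =>
        X.S1.act_mul (X.norm_W (hAQ a a.2)) (X.norm_Z (hAQ a a.2)) (X.norm_W (hAQ b b.2))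
          (X.norm_Z (hAQ b b.2)) v }
  have hWEW : WEm 3 E ≤ Wm 3 E := WE_le_W E
  have hker : ∀ a : ↥A, g a = 1 → (a : G) ∈ centralizer (WEm 3 E : Set G) := fun a ha => by
    refine mem_centralizer_iff.2 fun w hw => ?_
    have hm := (mem_normalizer_iff.1 (X.norm_W (hAQ a a.2)) w).1 (hWEW hw)
    have e : X.S1.f ((a : G) * w * (a : G)⁻¹) = X.S1.f w := by
      rw [← X.S1.act_apply (X.norm_W (hAQ a a.2)) (X.norm_Z (hAQ a a.2)) (hWEW hw)]
      exact congrArg (fun φ : AddMonoid.End (Fin 2 → F) => φ (X.S1.f w)) ha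
    have h1 := (X.S1.eq_iff hm (hWEW hw)).1 e
    have hWE2 : (a : G) * w * (a : G)⁻¹ ∈ WEm 3 E :=
      (cj_WE (B_le_normalizer_E X.blk (hAB a.2))).le (conj_mem_cj hw)
    have h2 := X.WE_inf_Z (mul_mem (inv_mem hWE2) hw) h1
    rw [inv_mul_eq_one, mul_inv_eq_iff_eq_mul] at h2
    exact h2.symm
  have hX : Cfsg.IsElementaryAbelian 3 (WEm 3 E) :=
    CfsgLib.Thompson.elab_mono CfsgLib.Baumann.exponent_omegaOneCenter hWEW
  have hXT : WEm 3 E ≤ (T : Subgroup G) := fun x hx =>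
    CfsgLib.Fitting.pCore_le_sylow T
      (CfsgLib.Thompson.omegaOne_le _ (WE_le_O hG X.blk hx)).1
  have hoff := offender_card hA hX hXT
  have hinjW : ∀ x ∈ WEm 3 E, ∀ y ∈ WEm 3 E, X.S1.f x = X.S1.f y → x = y := fun x hx y hy h => by
    have := X.WE_inf_Z (mul_mem (inv_mem hx) hy) ((X.S1.eq_iff (hWEW hx) (hWEW hy)).1 h)
    rwa [inv_mul_eq_one] at this
  have hWcard : Fintype.card F * Fintype.card F ≤ Nat.card ↥(WEm 3 E) := by
    have hsurj : Function.Surjective (fun x : ↥(WEm 3 E) => X.S1.f (x : G)) := fun v => by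
      obtain ⟨w, hw, rfl⟩ := X.S1.surj v
      obtain ⟨n, hn, c, hc, rfl⟩ := X.exists_split hw
      exact ⟨⟨n, X.WE_eq.ge hn⟩, (X.S1.map_mul_zero hn.1 hc).symm⟩
    have := Nat.card_le_card_of_surjective _ hsurj
    rwa [Nat.card_eq_fintype_card (α := Fin 2 → F), Fintype.card_fun, Fintype.card_fin, pow_two]
      at this
  have hkercard : Nat.card g.ker ≤ Nat.card ↥(A ⊓ centralizer (WEm 3 E : Set G)) :=
    Nat.card_le_card_of_injective (fun a => ⟨((a : ↥A) : G), Subgroup.mem_inf.2 ⟨(a : ↥A).2, hker a a.2⟩⟩)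
      fun a b h => Subtype.ext (Subtype.ext (congrArg (fun x : ↥(A ⊓ centralizer (WEm 3 E : Set G)) => (x : G)) h))
  have hfixcard : Nat.card ↥(WEm 3 E ⊓ centralizer (A : Set G)) ≤
      Nat.card {v : Fin 2 → F // ∀ a : ↥A, g a v = v} :=
    Nat.card_le_card_of_injective (fun x => ⟨X.S1.f (x : G), fun a => by
        show X.S1.act (a : G) _ = _
        rw [X.S1.act_apply (X.norm_W (hAQ a a.2)) (X.norm_Z (hAQ a a.2)) (hWEW x.2.1),
          mem_centralizer_iff.1 x.2.2 a a.2, mul_inv_cancel_right]⟩)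
      fun x y h => Subtype.ext (hinjW _ x.2.1 _ y.2.1 (congrArg Subtype.val h))
  have hlin := linear_of_offender (p := 3) (show ((3 : ℕ) : F) = 0 by exact_mod_cast X.char) g
    (fun a => Subtype.ext (by rw [Subgroup.coe_pow, hel.2 a a.2, Subgroup.coe_one]))
    (fun a => X.S1.exists_semilinear X.good (X.norm_W (hAQ a a.2)) (X.norm_Z (hAQ a a.2))
      (B_le_normalizer_E X.blk (hAB a.2)))
    (calc Fintype.card F * Fintype.card F * Nat.card g.ker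
          ≤ Nat.card ↥(WEm 3 E) * Nat.card ↥(A ⊓ centralizer (WEm 3 E : Set G)) :=
            Nat.mul_le_mul hWcard hkercard
      _ ≤ _ := hoff
      _ ≤ _ := Nat.mul_le_mul_left _ hfixcard)
  obtain ⟨b, hbA, hbne⟩ := SetLike.not_le_iff_exists.1 hAne
  have hQ := hAQ b hbA
  have hb3 : b ^ 3 = 1 := hel.2 b hbA
  have hl1 : ∀ (c : F) v, X.S1.act b (c • v) = c • X.S1.act b v := fun c v => hlin ⟨b, hbA⟩ c v
  have hit : ∀ {U U₀ : Subgroup G} (S : Sec E U U₀ F), b ∈ normalizer (U : Set G) →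
      b ∈ normalizer (U₀ : Set G) → ∀ v, (S.act b)^[3 ^ 1] v = v := fun S hU hU₀ v => by
    show S.act b (S.act b (S.act b v)) = v
    rw [← S.act_mul hU hU₀ hU hU₀, ← S.act_mul (mul_mem hU hU) (mul_mem hU₀ hU₀) hU hU₀,
      show b * b * b = b ^ 3 by rw [pow_succ, pow_two], hb3, S.act_one]
  have h3F : ((3 : ℕ) : F) = 0 := by exact_mod_cast X.char
  have hq1 := quadratic_of_iterate h3F (X.S1.actHom (X.norm_W hQ) (X.norm_Z hQ)) hl1
    (fun v => hit X.S1 (X.norm_W hQ) (X.norm_Z hQ) v)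
  have hl2 := X.linear2_of_linear1 hG hnle (B_le_normalizer_E X.blk (hAB hbA)) hl1
    (det2_of_quadratic (X.S1.actHom (X.norm_W hQ) (X.norm_Z hQ)) hl1 hq1)
  exact ⟨b, hAB hbA, fun hc => hbne (centralizer_le (WE_le_W E) hc), hq1,
    quadratic_of_iterate h3F (X.S2.actHom hQ (X.norm_W hQ)) hl2
      (fun v => hit X.S2 hQ (X.norm_W hQ) v)⟩

/-- Every element of `D` acts trivially on `Q / W`. -/
theorem top_trivial {d : G} (hd : d ∈ X.D) (v : Fin 2 → F) : X.S2.act d v = v := by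
  have hQp := CfsgLib.FrakM.isPGroup_pCoreOf (p := 3) E
  have hDQ : ∀ d ∈ X.D, d ∈ normalizer (Cfsg.pCoreOf 3 E : Set G) := fun d hd =>
    X.C0_norm_Q hG hnle (X.D_le hd)
  have hDcent : ∀ d ∈ X.D, ∀ w ∈ Wm 3 E, d * w * d⁻¹ = w := fun d hd w hw => by
    rw [← mem_centralizer_iff.1 (X.D_cent_W hG hnle hd) w hw, mul_inv_cancel_right]
  choose s hsQ hsf using X.S2.surj
  -- an element acting trivially on `Q / W`
  by_cases hcase : ∃ d₀ ∈ X.D, (∀ v, X.S2.act d₀ v = v) ∧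
      ∃ q ∈ Cfsg.pCoreOf 3 E, d₀ * q * d₀⁻¹ * q⁻¹ ∉ Zm 3 E
  · obtain ⟨d₀, hd₀, htr₀, q₁, hq₁, hq₁Z⟩ := hcase
    have hW : ∀ d ∈ X.D, (∀ v, X.S2.act d v = v) → ∀ q ∈ Cfsg.pCoreOf 3 E,
        d * q * d⁻¹ * q⁻¹ ∈ Wm 3 E := fun d hd htr q hq => by
      have hm := (mem_normalizer_iff.1 (hDQ d hd) q).1 hq
      refine (X.S2.zero _ (mul_mem hm (inv_mem hq))).1 ?_
      rw [X.S2.map_mul _ hm _ (inv_mem hq), ← X.S2.act_apply (hDQ d hd) (X.norm_W (hDQ d hd)) hq,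
        htr, X.S2.map_inv hq, add_neg_cancel]
    -- the map `Q / W → W / Z` given by such an element
    have hgam : ∀ d ∈ X.D, (∀ v, X.S2.act d v = v) →
        ∃ γ : (Fin 2 → F) →+ (Fin 2 → F),
          (∀ q ∈ Cfsg.pCoreOf 3 E, γ (X.S2.f q) = X.S1.f (d * q * d⁻¹ * q⁻¹)) ∧
          ∀ (e : ↥E) v, γ ((X.S2.ρ e : Matrix (Fin 2) (Fin 2) F).mulVec v) =
            (X.S1.ρ e : Matrix (Fin 2) (Fin 2) F).mulVec (γ v) := by
      intro d hd htr
      have hadd : ∀ a ∈ Cfsg.pCoreOf 3 E, ∀ b ∈ Cfsg.pCoreOf 3 E,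
          X.S1.f (d * (a * b) * d⁻¹ * (a * b)⁻¹) =
            X.S1.f (d * a * d⁻¹ * a⁻¹) + X.S1.f (d * b * d⁻¹ * b⁻¹) := fun a ha b hb => by
        have hwb := hW d hd htr b hb
        rw [← X.S1.map_mul _ (hW d hd htr a ha) _ hwb]
        congr 1
        rw [show d * (a * b) * d⁻¹ * (a * b)⁻¹ =
          d * a * d⁻¹ * (d * b * d⁻¹ * b⁻¹) * a⁻¹ by group,
          mul_assoc _ (d * b * d⁻¹ * b⁻¹) a⁻¹, ← W_comm hwb (inv_mem ha)]
        group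
      have hzero : ∀ w ∈ Wm 3 E, X.S1.f (d * w * d⁻¹ * w⁻¹) = 0 := fun w hw => by
        rw [hDcent d hd w hw, mul_inv_cancel, X.S1.map_one]
      have hdep : ∀ a ∈ Cfsg.pCoreOf 3 E, ∀ b ∈ Cfsg.pCoreOf 3 E, X.S2.f a = X.S2.f b →
          X.S1.f (d * a * d⁻¹ * a⁻¹) = X.S1.f (d * b * d⁻¹ * b⁻¹) := fun a ha b hb h => by
        have hw := (X.S2.eq_iff ha hb).1 h
        conv_rhs => rw [show b = a * (a⁻¹ * b) by group]
        rw [hadd a ha _ (W_le_Q E hw), hzero _ hw, add_zero]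
      let γ : (Fin 2 → F) →+ (Fin 2 → F) :=
        AddMonoidHom.mk' (fun v => X.S1.f (d * s v * d⁻¹ * (s v)⁻¹)) fun a b => by
          rw [hdep (s (a + b)) (hsQ _) (s a * s b) (mul_mem (hsQ _) (hsQ _))
            (by rw [X.S2.map_mul _ (hsQ _) _ (hsQ _), hsf, hsf, hsf]), hadd _ (hsQ _) _ (hsQ _)]
      refine ⟨γ, fun q hq => hdep _ (hsQ _) _ hq (hsf _), fun e v => ?_⟩
      obtain ⟨q', hq', heq, hez⟩ := X.exists_E0 e.2
      set e₀ := (e : G) * q'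
      have hρ := X.rho2_mul e.2 hq'
      obtain ⟨a, ha, rfl⟩ := X.S2.surj v
      show γ _ = _
      rw [← hρ.1, ← hρ.2, ← X.S2.equiv ⟨e₀, heq⟩ a ha]
      show X.S1.f _ = _
      rw [hdep _ (hsQ _) _ (X.S2.conj_mem heq ha) (hsf _),
        show γ (X.S2.f a) = X.S1.f (d * a * d⁻¹ * a⁻¹) from hdep _ (hsQ _) _ ha (hsf _),
        ← X.S1.equiv ⟨e₀, heq⟩ _ (hW d hd htr a ha)]
      congr 1
      -- `e₀ d e₀⁻¹ ∈ Z d`
      have he0 : e₀ ∈ X.E0 := X.mem_E0.2 ⟨heq, hez.symm⟩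
      have hζ : e₀ * d * e₀⁻¹ * d⁻¹ ∈ Zm 3 E := by
        refine X.mem_Z_of_fixed' (comm_mem_Q hG X.blk (X.D_mem_P hG hnle hd htr) heq) ?_
        have h1 : Commute X.z e₀ := hez
        have h2 : Commute X.z d := (X.mem_C0.1 (X.D_le hd)).2.symm
        rw [(((h1.mul_right h2).mul_right h1.inv_right).mul_right h2.inv_right).eq,
          mul_inv_cancel_right]
      set ζ := e₀ * d * e₀⁻¹ * d⁻¹ with hζdef
      set a' := e₀ * a * e₀⁻¹ with ha'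
      have ha'Q : a' ∈ Cfsg.pCoreOf 3 E := X.S2.conj_mem heq ha
      have hb' : d * a' * d⁻¹ ∈ Cfsg.pCoreOf 3 E := (mem_normalizer_iff.1 (hDQ d hd) a').1 ha'Q
      rw [show e₀ * (d * a * d⁻¹ * a⁻¹) * e₀⁻¹ = ζ * (d * a' * d⁻¹) * ζ⁻¹ * a'⁻¹ by
        rw [hζdef, ha']; group]
      rw [show ζ * (d * a' * d⁻¹) * ζ⁻¹ = d * a' * d⁻¹ by
        rw [← X.Z_central hζ hb', mul_inv_cancel_right]]
    obtain ⟨γ, hγf, hγe⟩ := hgam d₀ hd₀ htr₀
    have hinj : ∀ (γ : (Fin 2 → F) →+ (Fin 2 → F)),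
        (∀ (e : ↥E) v, γ ((X.S2.ρ e : Matrix (Fin 2) (Fin 2) F).mulVec v) =
          (X.S1.ρ e : Matrix (Fin 2) (Fin 2) F).mulVec (γ v)) → (∃ v, γ v ≠ 0) →
        ∀ v, γ v = 0 → v = 0 := by
      intro γ hγ hne v hv
      by_contra hv0
      obtain ⟨w, hw⟩ := hne
      let B : AddSubgroup (Fin 2 → F) := γ.ker
      have htop : B = ⊤ := CfsgLib.BlockModule.eq_top_of_invariant B (fun r hr u hu => by
        obtain ⟨e, rfl⟩ := X.S2.exists_pre r hr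
        show γ _ = 0
        rw [hγ, show γ u = 0 from hu, Matrix.mulVec_zero]) fun h => hv0 (by
          have : v ∈ B := hv
          rwa [h, AddSubgroup.mem_bot] at this)
      exact hw (show w ∈ B by rw [htop]; trivial)
    have hγ0 : ∃ v, γ v ≠ 0 := ⟨_, fun h0 => hq₁Z ((X.S1.zero _ (hW d₀ hd₀ htr₀ q₁ hq₁)).1
      (by rw [← hγf q₁ hq₁]; exact h0))⟩
    -- elements of `C₀` act by scalars
    have hscalar : ∀ c ∈ X.C0, ∃ l : F, ∀ v, X.S2.act c v = l • v := by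
      intro c hc
      have hcQ := X.C0_norm_Q hG hnle hc
      have hcW := X.norm_W hcQ
      have hd' : c * d₀ * c⁻¹ ∈ X.D := X.conj_D_C0 hc hd₀
      have hcinv := inv_mem hcQ
      have hd₀Q := hDQ d₀ hd₀
      have htr' : ∀ v, X.S2.act (c * d₀ * c⁻¹) v = v := fun v => by
        rw [X.S2.act_mul (mul_mem hcQ hd₀Q) (X.norm_W (mul_mem hcQ hd₀Q)) hcinv (X.norm_W hcinv),
          X.S2.act_mul hcQ hcW hd₀Q (X.norm_W hd₀Q), htr₀,
          ← X.S2.act_mul hcQ hcW hcinv (X.norm_W hcinv), mul_inv_cancel, X.S2.act_one]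
      obtain ⟨γ', hγ'f, hγ'e⟩ := hgam _ hd' htr'
      have hrel : ∀ v, γ' (X.S2.act c v) = γ v := fun v => by
        obtain ⟨a, ha, rfl⟩ := X.S2.surj v
        rw [X.S2.act_apply hcQ hcW ha, hγ'f _ ((mem_normalizer_iff.1 hcQ a).1 ha), hγf a ha]
        have hw := hW d₀ hd₀ htr₀ a ha
        have hm := (mem_normalizer_iff.1 hcW _).1 hw
        rw [show c * d₀ * c⁻¹ * (c * a * c⁻¹) * (c * d₀ * c⁻¹)⁻¹ * (c * a * c⁻¹)⁻¹ =
          c * (d₀ * a * d₀⁻¹ * a⁻¹) * c⁻¹ by group, X.S1.eq_iff hm hw]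
        -- `c` centralizes `W_E`
        obtain ⟨n, hn, x, hx, hnx⟩ := X.exists_split hw
        rw [hnx]
        have hcn : c * n * c⁻¹ = n := by
          rw [← mem_centralizer_iff.1 hc.1 n (X.WE_eq.ge hn), mul_inv_cancel_right]
        rw [show c * (n * x) * c⁻¹ = (c * n * c⁻¹) * (c * x * c⁻¹) by group, hcn,
          show (n * (c * x * c⁻¹))⁻¹ * (n * x) = (c * x * c⁻¹)⁻¹ * x by group]
        exact mul_mem (inv_mem ((mem_normalizer_iff.1 (X.norm_Z hcQ) x).1 hx)) hx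
      have hinj' := hinj γ' hγ'e (by
        obtain ⟨w, hw⟩ := hγ0
        exact ⟨_, fun h => hw ((hrel w).symm.trans h)⟩)
      obtain ⟨l, hl⟩ := commutant X.good (X.S2.actHom hcQ hcW) fun r hr u => by
        obtain ⟨e, rfl⟩ := X.S2.exists_pre r hr
        refine sub_eq_zero.1 (hinj' _ ?_)
        rw [map_sub, sub_eq_zero]
        show γ' (X.S2.act c _) = γ' (Matrix.mulVec _ (X.S2.act c u))
        rw [hrel, hγe, hγ'e, hrel]
      exact ⟨l, hl⟩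
    -- hence the commutators act trivially
    refine closure_induction (p := fun x _ => ∀ v, X.S2.act x v = v) ?_ (fun v => X.S2.act_one v)
      ?_ ?_ hd v
    · rintro _ ⟨e, he, c, hc, rfl⟩ v
      obtain ⟨l, hl⟩ := hscalar c hc
      have heQ := X.E_norm_Q he.1
      have hcQ := X.C0_norm_Q hG hnle hc
      have hl' : ∀ v, X.S2.act c⁻¹ (l • v) = v := fun v => by
        rw [← hl, ← X.S2.act_mul (inv_mem hcQ) (X.norm_W (inv_mem hcQ)) hcQ (X.norm_W hcQ),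
          inv_mul_cancel, X.S2.act_one]
      obtain ⟨u, rfl⟩ : ∃ u, v = l • u := by
        obtain ⟨u, hu⟩ := X.S2.act_surjective hcQ (X.norm_W hcQ) v
        exact ⟨u, by rw [← hl, hu]⟩
      have h1 := mul_mem (mul_mem heQ hcQ) (inv_mem heQ)
      rw [X.S2.act_mul h1 (X.norm_W h1) (inv_mem hcQ) (X.norm_W (inv_mem hcQ)), hl',
        X.S2.act_mul (mul_mem heQ hcQ) (X.norm_W (mul_mem heQ hcQ)) (inv_mem heQ)
          (X.norm_W (inv_mem heQ)),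
        X.S2.act_mul heQ (X.norm_W heQ) hcQ (X.norm_W hcQ), hl,
        X.S2.act_of_mem ⟨e, he.1⟩ (X.norm_W heQ), Matrix.mulVec_smul,
        ← X.S2.act_of_mem ⟨e, he.1⟩ (X.norm_W heQ),
        ← X.S2.act_mul heQ (X.norm_W heQ) (inv_mem heQ) (X.norm_W (inv_mem heQ)), mul_inv_cancel,
        X.S2.act_one]
    · intro a b ha hb pa pb v
      rw [X.S2.act_mul (hDQ a ha) (X.norm_W (hDQ a ha)) (hDQ b hb) (X.norm_W (hDQ b hb)), pb, pa]
    · intro a ha pa v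
      conv_lhs => rw [← pa v]
      rw [← X.S2.act_mul (inv_mem (hDQ a ha)) (X.norm_W (inv_mem (hDQ a ha))) (hDQ a ha)
        (X.norm_W (hDQ a ha)), inv_mul_cancel, X.S2.act_one]
  push Not at hcase
  by_contra hne
  letI : CommGroup ↥(Zm 3 E) :=
    { (inferInstance : Group ↥(Zm 3 E)) with
      mul_comm := fun a b => Subtype.ext (X.W_commute a.2.1 b.2.1) }
  -- the commutator form
  have hcl : ∀ a ∈ Cfsg.pCoreOf 3 E, ∀ b ∈ Cfsg.pCoreOf 3 E, ∀ c ∈ Cfsg.pCoreOf 3 E,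
      (a * b) * c * (a * b)⁻¹ * c⁻¹ = (a * c * a⁻¹ * c⁻¹) * (b * c * b⁻¹ * c⁻¹) := by
    intro a ha b hb c hc
    have h := X.Q_comm_mem hb hc
    have h' := X.Z_central h ha
    rw [show (a * b) * c * (a * b)⁻¹ * c⁻¹ =
      a * (b * c * b⁻¹ * c⁻¹) * (c * a⁻¹ * c⁻¹) by group, h', mul_assoc _ a (c * a⁻¹ * c⁻¹),
      show a * (c * a⁻¹ * c⁻¹) = a * c * a⁻¹ * c⁻¹ by group]
    exact X.W_commute h.1 (X.Q_comm_mem ha hc).1
  have hcr : ∀ a ∈ Cfsg.pCoreOf 3 E, ∀ b ∈ Cfsg.pCoreOf 3 E, ∀ c ∈ Cfsg.pCoreOf 3 E,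
      a * (b * c) * a⁻¹ * (b * c)⁻¹ = (a * b * a⁻¹ * b⁻¹) * (a * c * a⁻¹ * c⁻¹) := by
    intro a ha b hb c hc
    have h := X.Q_comm_mem ha hc
    rw [show a * (b * c) * a⁻¹ * (b * c)⁻¹ =
      (a * b * a⁻¹ * b⁻¹) * (b * (a * c * a⁻¹ * c⁻¹) * b⁻¹) by group,
      X.Z_central h hb, mul_inv_cancel_right]
  have hw0 : ∀ w ∈ Wm 3 E, ∀ c ∈ Cfsg.pCoreOf 3 E, w * c * w⁻¹ * c⁻¹ = 1 := fun w hw c hc => by
    rw [← W_comm hw hc, mul_inv_cancel_right, mul_inv_cancel]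
  have hw0' : ∀ w ∈ Wm 3 E, ∀ c ∈ Cfsg.pCoreOf 3 E, c * w * c⁻¹ * w⁻¹ = 1 := fun w hw c hc => by
    rw [W_comm hw hc, mul_inv_cancel_right, mul_inv_cancel]
  let K : (Fin 2 → F) → (Fin 2 → F) → Additive ↥(Zm 3 E) := fun v w =>
    Additive.ofMul ⟨_, X.Q_comm_mem (hsQ v) (hsQ w)⟩
  have hKdep : ∀ a (ha : a ∈ Cfsg.pCoreOf 3 E) b (hb : b ∈ Cfsg.pCoreOf 3 E),
      K (X.S2.f a) (X.S2.f b) = Additive.ofMul ⟨_, X.Q_comm_mem ha hb⟩ := by
    intro a ha b hb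
    refine congrArg Additive.ofMul (Subtype.ext ?_)
    show s (X.S2.f a) * s (X.S2.f b) * _ * _ = a * b * a⁻¹ * b⁻¹
    have hwa := (X.S2.eq_iff ha (hsQ _)).1 (hsf (X.S2.f a)).symm
    have hwb := (X.S2.eq_iff hb (hsQ _)).1 (hsf (X.S2.f b)).symm
    conv_lhs => rw [show s (X.S2.f a) = a * (a⁻¹ * s (X.S2.f a)) by group,
      show s (X.S2.f b) = b * (b⁻¹ * s (X.S2.f b)) by group]
    rw [hcl a ha _ (W_le_Q E hwa) _ (mul_mem hb (W_le_Q E hwb)),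
      hw0 _ hwa _ (mul_mem hb (W_le_Q E hwb)), mul_one, hcr a ha b hb _ (W_le_Q E hwb),
      hw0' _ hwb a ha, mul_one]
  let Kf : (Fin 2 → F) →+ (Fin 2 → F) →+ Additive ↥(Zm 3 E) :=
    AddMonoidHom.mk' (fun v => AddMonoidHom.mk' (K v) fun a b => by
      obtain ⟨x, hx, rfl⟩ := X.S2.surj v
      obtain ⟨y, hy, rfl⟩ := X.S2.surj a
      obtain ⟨y', hy', rfl⟩ := X.S2.surj b
      rw [← X.S2.map_mul y hy y' hy', hKdep _ hx _ (mul_mem hy hy'), hKdep _ hx _ hy,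
        hKdep _ hx _ hy', ← ofMul_mul]
      exact congrArg Additive.ofMul (Subtype.ext (hcr x hx y hy y' hy'))) fun a b => by
      refine AddMonoidHom.ext fun w => ?_
      obtain ⟨y, hy, rfl⟩ := X.S2.surj a
      obtain ⟨y', hy', rfl⟩ := X.S2.surj b
      obtain ⟨x, hx, rfl⟩ := X.S2.surj w
      show K _ _ = K _ _ + K _ _
      rw [← X.S2.map_mul y hy y' hy', hKdep _ (mul_mem hy hy') _ hx, hKdep _ hy _ hx,
        hKdep _ hy' _ hx, ← ofMul_mul]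
      exact congrArg Additive.ofMul (Subtype.ext (hcl y hy y' hy' x hx))
  obtain ⟨h, hh⟩ := invariant_form X.good Kf fun r hr a b => by
    obtain ⟨e, rfl⟩ := X.S2.exists_pre r hr
    obtain ⟨x, hx, rfl⟩ := X.S2.surj a
    obtain ⟨y, hy, rfl⟩ := X.S2.surj b
    show K _ _ = K _ _
    rw [← X.S2.equiv e x hx, ← X.S2.equiv e y hy,
      hKdep _ (X.S2.conj_mem e.2 hx) _ (X.S2.conj_mem e.2 hy), hKdep _ hx _ hy]
    refine congrArg Additive.ofMul (Subtype.ext ?_)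
    show (e : G) * x * (e : G)⁻¹ * ((e : G) * y * (e : G)⁻¹) * ((e : G) * x * (e : G)⁻¹)⁻¹ *
      ((e : G) * y * (e : G)⁻¹)⁻¹ = x * y * x⁻¹ * y⁻¹
    rw [show (e : G) * x * (e : G)⁻¹ * ((e : G) * y * (e : G)⁻¹) *
      ((e : G) * x * (e : G)⁻¹)⁻¹ * ((e : G) * y * (e : G)⁻¹)⁻¹ =
      (e : G) * (x * y * x⁻¹ * y⁻¹) * (e : G)⁻¹ by group, X.Z_fix (X.Q_comm_mem hx hy) e.2]
  have hsurj : Function.Surjective h := by
    let Img : Subgroup G :=
      { carrier := {x | ∃ hx : x ∈ Zm 3 E, Additive.ofMul (⟨x, hx⟩ : ↥(Zm 3 E)) ∈ h.range}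
        mul_mem' := by
          rintro a b ⟨ha, ha'⟩ ⟨hb, hb'⟩
          exact ⟨mul_mem ha hb, h.range.add_mem ha' hb'⟩
        one_mem' := ⟨one_mem _, h.range.zero_mem⟩
        inv_mem' := by
          rintro a ⟨ha, ha'⟩
          exact ⟨inv_mem ha, h.range.neg_mem ha'⟩ }
    have hle : Zm 3 E ≤ Img := by
      rw [← X.comm_eq, commutator_le]
      intro a ha b hb
      refine ⟨X.Q_comm_mem ha hb, det2 (X.S2.f a) (X.S2.f b), ?_⟩
      exact (hh (X.S2.f a) (X.S2.f b)).symm.trans (hKdep a ha b hb)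
    intro x
    obtain ⟨_, y, hy⟩ := hle (Additive.toMul x).2
    exact ⟨y, hy⟩
  have hhinj : Function.Injective h := by
    refine ((Nat.bijective_iff_surjective_and_card h).2 ⟨hsurj, ?_⟩).1
    rw [Nat.card_eq_fintype_card, ← X.cardZ]
    exact (Nat.card_congr Additive.toMul).symm
  have hiso : ∀ d ∈ X.D, ∃ m : SL F, ∀ v, X.S2.act d v = (m : Matrix (Fin 2) (Fin 2) F).mulVec v := by
    intro d hd
    have hdQ := hDQ d hd
    refine exists_of_isometry (X.S2.actHom hdQ (X.norm_W hdQ))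
      (X.S2.act_surjective hdQ (X.norm_W hdQ)) fun a b => hhinj ?_
    rw [← hh, ← hh]
    obtain ⟨x, hx, rfl⟩ := X.S2.surj a
    obtain ⟨y, hy, rfl⟩ := X.S2.surj b
    have hx' := (mem_normalizer_iff.1 hdQ x).1 hx
    have hy' := (mem_normalizer_iff.1 hdQ y).1 hy
    show K (X.S2.act d _) (X.S2.act d _) = K _ _
    rw [X.S2.act_apply hdQ (X.norm_W hdQ) hx, X.S2.act_apply hdQ (X.norm_W hdQ) hy,
      hKdep _ hx' _ hy', hKdep _ hx _ hy]
    refine congrArg Additive.ofMul (Subtype.ext ?_)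
    show d * x * d⁻¹ * (d * y * d⁻¹) * (d * x * d⁻¹)⁻¹ * (d * y * d⁻¹)⁻¹ = x * y * x⁻¹ * y⁻¹
    rw [show d * x * d⁻¹ * (d * y * d⁻¹) * (d * x * d⁻¹)⁻¹ * (d * y * d⁻¹)⁻¹ =
      d * (x * y * x⁻¹ * y⁻¹) * d⁻¹ by group, hDcent d hd _ (X.Q_comm_mem hx hy).1]
  let N : Subgroup (SL F) :=
    { carrier := {m | ∃ d ∈ X.D, ∀ v, X.S2.act d v = (m : Matrix (Fin 2) (Fin 2) F).mulVec v}
      mul_mem' := fun {m n} ⟨a, ha, hma⟩ ⟨b, hb, hnb⟩ => ⟨a * b, mul_mem ha hb, fun v => by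
        rw [X.S2.act_mul (hDQ a ha) (X.norm_W (hDQ a ha)) (hDQ b hb) (X.norm_W (hDQ b hb)), hnb,
          hma, mulVec_mul]⟩
      one_mem' := ⟨1, one_mem _, fun v => by
        rw [X.S2.act_one, Matrix.SpecialLinearGroup.coe_one, Matrix.one_mulVec]⟩
      inv_mem' := fun {m} ⟨a, ha, hma⟩ => ⟨a⁻¹, inv_mem ha, fun v => by
        have haQ := hDQ a ha
        conv_lhs => rw [show v = (m : Matrix (Fin 2) (Fin 2) F).mulVec
          ((m⁻¹ : SL F).1.mulVec v) by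
            rw [← mulVec_mul, mul_inv_cancel, Matrix.SpecialLinearGroup.coe_one, Matrix.one_mulVec]]
        rw [← hma, ← X.S2.act_mul (inv_mem haQ) (X.norm_W (inv_mem haQ)) haQ (X.norm_W haQ),
          inv_mul_cancel, X.S2.act_one]⟩ }
  have hNne : N ≠ ⊥ := fun hbot => hne (by
    obtain ⟨m, hm⟩ := hiso d hd
    have : m ∈ N := ⟨d, hd, hm⟩
    rw [hbot, Subgroup.mem_bot] at this
    rw [hm, this, Matrix.SpecialLinearGroup.coe_one, Matrix.one_mulVec])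
  have hNn : ∀ r ∈ R F, ∀ m ∈ N, r * m * r⁻¹ ∈ N := by
    rintro r hr m ⟨a, ha, hma⟩
    obtain ⟨e, rfl⟩ := X.S2.exists_pre r hr
    obtain ⟨q, hq, heq, hez⟩ := X.exists_E0 e.2
    have he0 : (e : G) * q ∈ X.E0 := X.mem_E0.2 ⟨heq, hez.symm⟩
    refine ⟨_, X.conj_D_E0 he0 ha, fun v => ?_⟩
    have heQ := X.E_norm_Q heq
    have haQ := hDQ a ha
    rw [X.S2.act_mul (mul_mem heQ haQ) (X.norm_W (mul_mem heQ haQ)) (inv_mem heQ)
        (X.norm_W (inv_mem heQ)), X.S2.act_mul heQ (X.norm_W heQ) haQ (X.norm_W haQ),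
      X.S2.act_of_mem ⟨_, inv_mem heq⟩ (X.norm_W (inv_mem heQ)),
      show (⟨_, inv_mem heq⟩ : ↥E) = (⟨_, heq⟩ : ↥E)⁻¹ from rfl, hma,
      X.S2.act_of_mem ⟨_, heq⟩ (X.norm_W heQ), map_inv, (X.rho2_mul e.2 hq).1, ← mulVec_mul,
      ← mulVec_mul, mul_assoc]
  obtain ⟨m, hmN, hm2⟩ : ∃ m ∈ N, orderOf m = 2 := by
    have heven : 2 ∣ Nat.card N := by
      by_contra hodd
      exact hNne (eq_bot_of_odd X.two_ne N (Nat.odd_iff.2 (Nat.two_dvd_ne_zero.1 hodd)) hNn)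
    obtain ⟨m, hm⟩ := exists_prime_orderOf_dvd_card' (G := ↥N) 2 heven
    exact ⟨m, m.2, by rw [Subgroup.orderOf_coe, hm]⟩
  obtain ⟨x, hxD, hxm⟩ := hmN
  have hxneg : ∀ v, X.S2.act x v = -v := fun v => by
    rw [hxm, orderOf_two_eq X.two_ne hm2, neg_one_mulVec]
  have hxQ := hDQ x hxD
  -- the subgroup inverted by `x` modulo `Z`
  let Y : Subgroup G :=
    { carrier := {q | q ∈ Cfsg.pCoreOf 3 E ∧ x * q * x⁻¹ * q ∈ Zm 3 E}
      one_mem' := ⟨one_mem _, by simp⟩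
      mul_mem' := fun {a b} ha hb => ⟨mul_mem ha.1 hb.1, by
        have hbx := (mem_normalizer_iff.1 hxQ b).1 hb.1
        have hc := X.Q_comm_mem hbx ha.1
        rw [show x * (a * b) * x⁻¹ * (a * b) =
          (x * a * x⁻¹) * ((x * b * x⁻¹) * a * (x * b * x⁻¹)⁻¹ * a⁻¹) * a * (x * b * x⁻¹ * b) by
            group, X.Z_central hc ((mem_normalizer_iff.1 hxQ a).1 ha.1)]
        rw [show ((x * b * x⁻¹) * a * (x * b * x⁻¹)⁻¹ * a⁻¹) * (x * a * x⁻¹) * a * (x * b * x⁻¹ * b) =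
          ((x * b * x⁻¹) * a * (x * b * x⁻¹)⁻¹ * a⁻¹) * (x * a * x⁻¹ * a) * (x * b * x⁻¹ * b) by group]
        exact mul_mem (mul_mem hc ha.2) hb.2⟩
      inv_mem' := fun {a} ha => ⟨inv_mem ha.1, by
        have hax := (mem_normalizer_iff.1 hxQ a).1 ha.1
        have h := inv_mem ha.2
        rw [show x * a⁻¹ * x⁻¹ * a⁻¹ = a * (x * a * x⁻¹ * a)⁻¹ * a⁻¹ by group,
          X.Z_central h ha.1, mul_inv_cancel_right]
        exact h⟩ }
  have hYmem : ∀ q, q ∈ Y ↔ q ∈ Cfsg.pCoreOf 3 E ∧ x * q * x⁻¹ * q ∈ Zm 3 E := fun q => Iff.rfl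
  have hYW : ∀ w ∈ Y, w ∈ Wm 3 E → w ∈ Zm 3 E := fun w hw hwW => by
    have h := ((hYmem w).1 hw).2
    rw [hDcent x hxD w hwW] at h
    have := mul_mem h h
    rwa [show w * w * (w * w) = w * w * w * w by group, X.W_pow hwW, one_mul] at this
  have hdecomp : ∀ q ∈ Cfsg.pCoreOf 3 E, ∃ y ∈ Y, ∃ w ∈ Wm 3 E, q = y * w := by
    intro q hq
    have hqx := (mem_normalizer_iff.1 hxQ q).1 hq
    set w₀ := x * q * x⁻¹ * q with hw₀
    have hw₀W : w₀ ∈ Wm 3 E := (X.S2.zero _ (mul_mem hqx hq)).1 (by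
      rw [X.S2.map_mul _ hqx _ hq, ← X.S2.act_apply hxQ (X.norm_W hxQ) hq, hxneg, neg_add_cancel])
    refine ⟨q * w₀, ⟨mul_mem hq (W_le_Q E hw₀W), ?_⟩, w₀⁻¹, inv_mem hw₀W, by group⟩
    rw [show x * (q * w₀) * x⁻¹ * (q * w₀) = (x * q * x⁻¹) * ((x * w₀ * x⁻¹) * q) * w₀ by group,
      hDcent x hxD w₀ hw₀W, ← W_comm hw₀W hq, ← mul_assoc (x * q * x⁻¹) q w₀, ← hw₀, X.W_pow hw₀W]
    exact one_mem _
  obtain ⟨b, hbB, hbW, hb1, hb2⟩ := X.exists_quadratic hG hnle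
  have hbQ := X.B_norm_Q hbB
  have hbE := B_le_normalizer_E X.blk hbB
  -- `b` leaves `Y` invariant
  have hbY : ∀ y ∈ Y, b * y * b⁻¹ ∈ Y := by
    intro y hy
    have hzb : b * X.z * b⁻¹ ∈ E := (mem_normalizer_iff.1 hbE X.z).1 X.zE
    have hz2' : X.S2.ρ ⟨_, hzb⟩ = -1 := by
      refine Subtype.ext (Matrix.mulVec_injective ?_)
      funext u
      obtain ⟨v, rfl⟩ := X.S2.act_surjective hbQ (X.norm_W hbQ) u
      rw [← X.S2.act_conj hbQ (X.norm_W hbQ) ⟨X.z, X.zE⟩ hzb, X.z2, neg_one_mulVec,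
        neg_one_mulVec]
      exact map_neg (X.S2.actHom hbQ (X.norm_W hbQ)) v
    set u := b * X.z * b⁻¹ * X.z with hu
    have huQ : u ∈ Cfsg.pCoreOf 3 E := (X.ker2 (⟨_, hzb⟩ * ⟨X.z, X.zE⟩)).1 (by
      rw [map_mul, hz2', X.z2]; simp)
    have huz : u * X.z = b * X.z * b⁻¹ := by rw [hu, mul_assoc, X.hz, mul_one]
    obtain ⟨r, hr, hrz⟩ := exists_conj_invol X.Q_odd X.hz huQ (by
      rw [huz, show b * X.z * b⁻¹ * (b * X.z * b⁻¹) = b * (X.z * X.z) * b⁻¹ by group, X.hz, mul_one,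
        mul_inv_cancel])
    set b' := r⁻¹ * b with hb'
    have hb'z : b' * X.z = X.z * b' := by
      rw [huz] at hrz
      calc b' * X.z = r⁻¹ * (b * X.z * b⁻¹) * b := by rw [hb']; group
        _ = X.z * b' := by rw [← hrz, hb']; group
    have hb'E : b' ∈ normalizer (E : Set G) := mul_mem (inv_mem (le_normalizer (Q_le E hr))) hbE
    have hb'Q : b' ∈ normalizer (Cfsg.pCoreOf 3 E : Set G) :=
      CfsgLib.FrakM.normalizer_le_normalizer_pCoreOf E hb'E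
    have hconjz : ∀ x, x * X.z = X.z * x → (b'⁻¹ * x * b'⁻¹⁻¹) * X.z = X.z * (b'⁻¹ * x * b'⁻¹⁻¹) :=
      fun x hx => (((Commute.inv_left (show Commute b' X.z from hb'z)).mul_left hx).mul_left
        (Commute.inv_left (Commute.inv_left (show Commute b' X.z from hb'z)))).eq
    set x' := b'⁻¹ * x * b'⁻¹⁻¹ with hx'
    have hx'D : x' ∈ X.D := by
      have : b'⁻¹ ⋆ X.D ≤ X.D := by
        rw [D, MonoidHom.map_closure, closure_le]
        rintro _ ⟨_, ⟨e, he, c, hc, rfl⟩, rfl⟩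
        show b'⁻¹ * (e * c * e⁻¹ * c⁻¹) * b'⁻¹⁻¹ ∈ X.D
        rw [show b'⁻¹ * (e * c * e⁻¹ * c⁻¹) * b'⁻¹⁻¹ = (b'⁻¹ * e * b'⁻¹⁻¹) * (b'⁻¹ * c * b'⁻¹⁻¹) *
          (b'⁻¹ * e * b'⁻¹⁻¹)⁻¹ * (b'⁻¹ * c * b'⁻¹⁻¹)⁻¹ by group]
        exact X.mem_D (X.mem_E0.2 ⟨(mem_normalizer_iff.1 (inv_mem hb'E) e).1 he.1,
            hconjz e (X.mem_E0.1 he).2⟩)
          (X.mem_C0.2 ⟨(mem_normalizer_iff.1 (inv_mem (normalizer_E_le_C E hb'E)) c).1 hc.1,
            hconjz c (X.mem_C0.1 hc).2⟩)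
      exact this (conj_mem_cj hxD)
    set d := x⁻¹ * x' with hd'
    have hdD : d ∈ X.D := mul_mem (inv_mem hxD) hx'D
    have htr : ∀ v, X.S2.act d v = v := fun v => by
      have hb'i := inv_mem hb'Q
      have hb'ii := inv_mem hb'i
      have hx'Q := mul_mem hb'i hxQ
      have e1 : ∀ v, X.S2.act x' v = -v := fun v => by
        rw [hx', X.S2.act_mul hx'Q (X.norm_W hx'Q) hb'ii (X.norm_W hb'ii),
          X.S2.act_mul hb'i (X.norm_W hb'i) hxQ (X.norm_W hxQ), hxneg,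
          show X.S2.act b'⁻¹ (-X.S2.act b'⁻¹⁻¹ v) = -X.S2.act b'⁻¹ (X.S2.act b'⁻¹⁻¹ v) from
            map_neg (X.S2.actHom hb'i (X.norm_W hb'i)) _,
          ← X.S2.act_mul hb'i (X.norm_W hb'i) hb'ii (X.norm_W hb'ii), mul_inv_cancel, X.S2.act_one]
      rw [hd', X.S2.act_mul (inv_mem hxQ) (X.norm_W (inv_mem hxQ)) (hDQ x' hx'D)
        (X.norm_W (hDQ x' hx'D)), e1, ← hxneg v,
        ← X.S2.act_mul (inv_mem hxQ) (X.norm_W (inv_mem hxQ)) hxQ (X.norm_W hxQ), inv_mul_cancel,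
        X.S2.act_one]
    obtain ⟨hyQ, hyZ⟩ := (hYmem y).1 hy
    have hζ := hcase d hdD htr y hyQ
    have hx'y : x' * y * x'⁻¹ * y ∈ Zm 3 E := by
      rw [show x' * y * x'⁻¹ * y = x * (d * y * d⁻¹ * y⁻¹) * x⁻¹ * (x * y * x⁻¹ * y) by
        rw [hd']; group, hDcent x hxD _ hζ.1]
      exact mul_mem hζ hyZ
    have hb'y : b' * y * b'⁻¹ ∈ Y := by
      refine (hYmem _).2 ⟨(mem_normalizer_iff.1 hb'Q y).1 hyQ, ?_⟩
      have := (mem_normalizer_iff.1 (X.norm_Z hb'Q) _).1 hx'y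
      rwa [show b' * (x' * y * x'⁻¹ * y) * b'⁻¹ = x * (b' * y * b'⁻¹) * x⁻¹ * (b' * y * b'⁻¹) by
        rw [hx']; group] at this
    set y' := b' * y * b'⁻¹
    have hy'Q := ((hYmem y').1 hb'y).1
    rw [show b * y * b⁻¹ = (r * y' * r⁻¹ * y'⁻¹) * y' by rw [show y' = b' * y * b'⁻¹ from rfl, hb']; group]
    refine mul_mem ?_ hb'y
    have hc := X.Q_comm_mem hr hy'Q
    refine (hYmem _).2 ⟨W_le_Q E hc.1, ?_⟩
    rw [hDcent x hxD _ hc.1]
    exact mul_mem hc hc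
  -- so `b` acts quadratically on `Q / Z`
  have hstep : ∀ q ∈ Cfsg.pCoreOf 3 E,
      b * (b * q * b⁻¹ * q⁻¹) * b⁻¹ * (b * q * b⁻¹ * q⁻¹)⁻¹ ∈ Zm 3 E := by
    intro q hq
    obtain ⟨y, hy, w, hw, rfl⟩ := hdecomp q hq
    have hyQ := ((hYmem y).1 hy).1
    set u := b * y * b⁻¹ * y⁻¹ with hu
    set t := b * w * b⁻¹ * w⁻¹ with ht
    have huY : u ∈ Y := mul_mem (hbY y hy) (inv_mem hy)
    have hbwW : b * w * b⁻¹ ∈ Wm 3 E := (mem_normalizer_iff.1 (X.norm_W hbQ) w).1 hw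
    have htW : t ∈ Wm 3 E := mul_mem hbwW (inv_mem hw)
    have e : b * (y * w) * b⁻¹ * (y * w)⁻¹ = u * t := by
      rw [show b * (y * w) * b⁻¹ * (y * w)⁻¹ = b * y * b⁻¹ * ((b * w * b⁻¹ * w⁻¹) * y⁻¹) by group,
        ← ht, ← W_comm htW (inv_mem hyQ), hu]
      group
    rw [e]
    set u' := b * u * b⁻¹ * u⁻¹ with hu'
    have hu'Z : u' ∈ Zm 3 E := by
      have huQ := ((hYmem u).1 huY).1
      refine hYW u' (mul_mem (hbY u huY) (inv_mem huY)) ((X.S2.zero _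
        (mul_mem ((mem_normalizer_iff.1 hbQ u).1 huQ) (inv_mem huQ))).1 ?_)
      have hby := (mem_normalizer_iff.1 hbQ y).1 hyQ
      rw [X.S2.map_mul _ ((mem_normalizer_iff.1 hbQ u).1 huQ) _ (inv_mem huQ), X.S2.map_inv huQ,
        ← X.S2.act_apply hbQ (X.norm_W hbQ) huQ, hu, X.S2.map_mul _ hby _ (inv_mem hyQ),
        X.S2.map_inv hyQ, ← X.S2.act_apply hbQ (X.norm_W hbQ) hyQ]
      simp only [← sub_eq_add_neg]
      rw [hb2, sub_self]
    have htZ : b * t * b⁻¹ * t⁻¹ ∈ Zm 3 E := by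
      refine (X.S1.zero _ (mul_mem ((mem_normalizer_iff.1 (X.norm_W hbQ) t).1 htW)
        (inv_mem htW))).1 ?_
      rw [X.S1.map_mul _ ((mem_normalizer_iff.1 (X.norm_W hbQ) t).1 htW) _ (inv_mem htW),
        X.S1.map_inv htW, ← X.S1.act_apply (X.norm_W hbQ) (X.norm_Z hbQ) htW, ht,
        X.S1.map_mul _ hbwW _ (inv_mem hw), X.S1.map_inv hw,
        ← X.S1.act_apply (X.norm_W hbQ) (X.norm_Z hbQ) hw]
      simp only [← sub_eq_add_neg]
      rw [hb1, sub_self]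
    have huQ := ((hYmem u).1 huY).1
    rw [show b * (u * t) * b⁻¹ * (u * t)⁻¹ = u' * (u * (b * t * b⁻¹ * t⁻¹) * u⁻¹) by rw [hu']; group,
      X.Z_central htZ huQ, mul_inv_cancel_right]
    exact mul_mem hu'Z htZ
  refine X.nq b hbB hbW ?_
  -- `[Q, ⟨b⟩, ⟨b⟩] ≤ Z`
  let U : Subgroup G :=
    { carrier := {u | u ∈ Cfsg.pCoreOf 3 E ∧ b * u * b⁻¹ * u⁻¹ ∈ Zm 3 E}
      one_mem' := ⟨one_mem _, by simp⟩
      mul_mem' := fun {a c} ha hc => ⟨mul_mem ha.1 hc.1, by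
        rw [show b * (a * c) * b⁻¹ * (a * c)⁻¹ =
          (b * a * b⁻¹ * a⁻¹) * (a * (b * c * b⁻¹ * c⁻¹) * a⁻¹) by group,
          X.Z_central hc.2 ha.1, mul_inv_cancel_right]
        exact mul_mem ha.2 hc.2⟩
      inv_mem' := fun {a} ha => ⟨inv_mem ha.1, by
        have hi := inv_mem ha.2
        rw [show b * a⁻¹ * b⁻¹ * a⁻¹⁻¹ = a⁻¹ * (b * a * b⁻¹ * a⁻¹)⁻¹ * a⁻¹⁻¹ by group,
          X.Z_central hi (inv_mem ha.1), mul_inv_cancel_right]
        exact hi⟩ }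
  have hUb : ∀ u ∈ U, b * u * b⁻¹ ∈ U := fun u hu =>
    ⟨(mem_normalizer_iff.1 hbQ u).1 hu.1, by
      have := (mem_normalizer_iff.1 (X.norm_Z hbQ) _).1 hu.2
      rwa [show b * (b * u * b⁻¹ * u⁻¹) * b⁻¹ = b * (b * u * b⁻¹) * b⁻¹ * (b * u * b⁻¹)⁻¹ by group]
        at this⟩
  have hUQ : ∀ q ∈ Cfsg.pCoreOf 3 E, ∀ n : ℕ, ⁅q, b ^ n⁆ ∈ U := by
    intro q hq n
    induction n with
    | zero => rw [pow_zero, commutatorElement_one_right]; exact one_mem _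
    | succ n ih =>
      rw [show ⁅q, b ^ (n + 1)⁆ = ⁅q, b⁆ * (b * ⁅q, b ^ n⁆ * b⁻¹) by
        rw [pow_succ', commutatorElement_def, commutatorElement_def, commutatorElement_def]; group]
      refine mul_mem ?_ (hUb _ ih)
      have h : b * q * b⁻¹ * q⁻¹ ∈ U :=
        ⟨mul_mem ((mem_normalizer_iff.1 hbQ q).1 hq) (inv_mem hq), hstep q hq⟩
      rw [show ⁅q, b⁆ = (b * q * b⁻¹ * q⁻¹)⁻¹ by rw [commutatorElement_def]; group]
      exact inv_mem h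
  have hQU : ⁅Cfsg.pCoreOf 3 E, zpowers b⁆ ≤ U := by
    rw [commutator_le]
    intro q hq a ha
    obtain ⟨n, rfl⟩ := mem_powers_iff_mem_zpowers.2 ha
    exact hUQ q hq n
  refine (commutator_mono hQU le_rfl).trans ?_
  rw [commutator_le]
  intro u hu a ha
  obtain ⟨n, rfl⟩ := mem_powers_iff_mem_zpowers.2 ha
  induction n generalizing u with
  | zero => dsimp only; rw [pow_zero, commutatorElement_one_right]; exact one_mem _
  | succ n ih =>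
    dsimp only at ih ⊢
    rw [show ⁅u, b ^ (n + 1)⁆ = ⁅u, b⁆ * (b * ⁅u, b ^ n⁆ * b⁻¹) by
      rw [pow_succ', commutatorElement_def, commutatorElement_def, commutatorElement_def]; group]
    refine mul_mem ?_ ((mem_normalizer_iff.1 (X.norm_Z hbQ) _).1
      (ih u hu (_root_.pow_mem (mem_zpowers b) n)))
    rw [show ⁅u, b⁆ = (b * u * b⁻¹ * u⁻¹)⁻¹ by rw [commutatorElement_def]; group]
    exact inv_mem hu.2

end

end Exc

end CfsgLib.BlockExc
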