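import Cfsg.Agent.LocalB.BlockOrbit
import Mathlib.Algebra.Group.Subgroup.Finite
import Mathlib.Algebra.Group.Pi.Lemmas

/-!
`J(T')` and `B(T')` normalize every subnormal block.
-/

set_option autoImplicit false
set_option linter.style.haveILetI false
set_option linter.unusedSectionVars false

namespace CfsgLib.BlockJ

open Subgroup CfsgLib.Functor CfsgLib.BlockModule CfsgLib.BlockBasic CfsgLib.BlockCore
  CfsgLib.BlockTop CfsgLib.BlockTypes CfsgLib.BlockConj CfsgLib.BlockOrbit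
open scoped CfsgLib.Functor commutatorElement

universe u

variable {G : Type u} [Group G] [Finite G] {p : ℕ} [hp : Fact p.Prime]

theorem pow_ineq {c m : ℕ} (hc : 4 ≤ c) (hm : 0 < m) (h : c ^ m ≤ m * c) : m = 1 := by
  rcases Nat.lt_or_ge m 2 with h1 | h1
  · omega
  exfalso
  obtain ⟨j, rfl⟩ : ∃ j, m = j + 1 := ⟨m - 1, by omega⟩
  rw [pow_succ] at h
  have h2 : c ^ j ≤ j + 1 := Nat.le_of_mul_le_mul_right h (by omega)
  have h3 : 4 ^ j ≤ c ^ j := Nat.pow_le_pow_left hc j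
  have h4 : 2 * j < 2 ^ (2 * j) := Nat.lt_two_pow_self
  have h5 : (4 : ℕ) ^ j = 2 ^ (2 * j) := by rw [pow_mul]; norm_num
  omega

section

variable (hG : centralizer (Cfsg.pCore p G : Set G) ≤ Cfsg.pCore p G) {T : Sylow p G}
  {E : Subgroup G} (hE : Cfsg.IsBaumannBlock p (T : Subgroup G) E) (hs : E.IsSubnormal)
  (T' : Sylow p G)

include hG hE hs

/-- A member of `A_e(T')` fixes every conjugate. -/
theorem maxIn_le_normalizer {A : Subgroup G}
    (hA : A ∈ CfsgLib.Thompson.maxIn p (T' : Subgroup G)) : A ≤ normalizer (E : Set G) := by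
  classical
  haveI : (Cfsg.pCore p G).Normal := CfsgLib.Solvable.pCore_normal p
  have hEf := facts_of_block hE
  set Ω := {D : Subgroup G // ∃ a ∈ A, a ⋆ E = D} with hΩ
  haveI : Finite (Subgroup G) := Finite.of_injective SetLike.coe SetLike.coe_injective
  haveI : Fintype Ω := Fintype.ofFinite _
  choose r hr hrE using fun D : Ω => D.2
  set X : Subgroup G := ⨆ D : Ω, WEm p D.1 with hX
  have hAc : ∀ {a b : G}, a ∈ A → b ∈ A → a * b = b * a := fun {_ _} ha hb =>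
    CfsgLib.Thompson.elab_commute hA.2.1 ha hb
  have hXV : X ≤ Vm p G := iSup_le fun D => by
    rw [← hrE D]; exact WE_le_V' hG hE _
  have hVel : Cfsg.IsElementaryAbelian p (Vm p G) := CfsgLib.Baumann.exponent_omegaOneCenter
  have hXel : Cfsg.IsElementaryAbelian p X := CfsgLib.Thompson.elab_mono hVel hXV
  have hXT : X ≤ (T' : Subgroup G) := fun x hx =>
    CfsgLib.Fitting.pCore_le_sylow T' (CfsgLib.Thompson.omegaOne_le _ (hXV hx)).1
  have hWX : ∀ {a : G}, a ∈ A → WEm p (a ⋆ E) ≤ X := fun {a} ha =>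
    le_iSup (fun D : Ω => WEm p D.1) ⟨_, a, ha, rfl⟩
  have hWEX : WEm p E ≤ X := by
    have := hWX A.one_mem; rwa [cj_one] at this
  have hAX : ∀ a ∈ A, ∀ x ∈ X, a * x * a⁻¹ ∈ X := by
    intro a ha x hx
    have hle : a ⋆ X ≤ X := by
      rw [hX, Subgroup.map_iSup]
      refine iSup_le fun D => ?_
      rw [← hrE D, cj_WEm, cj_cj]
      exact hWX (mul_mem ha (hr D))
    exact hle (conj_mem_cj hx)
  -- components
  have hcent : ∀ {a : G}, a ⋆ E ≠ E → WEm p (a ⋆ E) ≤ centralizer (E : Set G) := by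
    intro a hne
    refine WE_le_centralizer (facts' hG hE a) ?_
    rw [commutator_comm]
    exact (conjugates hG hE hs a).resolve_left hne
  letI : CommGroup ↥X :=
    { X.toGroup with
      mul_comm := fun a b => Subtype.ext (CfsgLib.Thompson.elab_commute hXel a.2 b.2) }
  set Z0 := (centralizer (E : Set G)).subgroupOf X with hZ0
  let π : ↥X →* ↥X ⧸ Z0 := QuotientGroup.mk' Z0
  have hπ : ∀ y : ↥X, π y = 1 ↔ (y : G) ∈ centralizer (E : Set G) := fun y =>
    (QuotientGroup.eq_one_iff y).trans Subgroup.mem_subgroupOf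
  let Φ : ↥X →* (Ω → ↥X ⧸ Z0) :=
    MonoidHom.mk' (fun y D => π ⟨(r D)⁻¹ * y * r D, by
      simpa using hAX _ (A.inv_mem (hr D)) y y.2⟩) fun y y' => by
      funext D
      rw [Pi.mul_apply, ← map_mul]
      congr 1
      exact Subtype.ext (by
        show (r D)⁻¹ * ((y : G) * y') * r D = (r D)⁻¹ * y * r D * ((r D)⁻¹ * y' * r D)
        group)
  -- every class comes from `W_E`
  let ψ : ↥(WEm p E) →* ↥X ⧸ Z0 := π.comp (Subgroup.inclusion hWEX)
  have hdec : ∀ x ∈ X, x ∈ WEm p E ⊔ X ⊓ centralizer (E : Set G) := by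
    intro x hx
    refine (iSup_le fun D : Ω => ?_ : X ≤ _) hx
    by_cases hD : D.1 = E
    · rw [hD]; exact le_sup_left
    · refine le_trans (le_inf (le_iSup (fun D : Ω => WEm p D.1) D) ?_) le_sup_right
      rw [← hrE D] at hD ⊢
      exact hcent hD
  have hsplit : ∀ y : ↥X, ∃ w : ↥(WEm p E), ψ w = π y := by
    intro y
    have hy := hdec y y.2
    rw [CfsgLib.Solvable.mem_sup_of_le_normalizer (fun w hw => mem_normalizer_iff.2 fun v =>
      ⟨fun hv => by
        rw [CfsgLib.Thompson.elab_commute hXel (hWEX hw) hv.1, mul_inv_cancel_right]; exact hv,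
       fun hv => by
        have hvX : v ∈ X := by
          have := mul_mem (mul_mem (inv_mem (hWEX hw)) hv.1) (hWEX hw)
          rwa [show w⁻¹ * (w * v * w⁻¹) * w = v by group] at this
        rwa [CfsgLib.Thompson.elab_commute hXel (hWEX hw) hvX, mul_inv_cancel_right] at hv⟩)] at hy
    obtain ⟨w, hw, z, hz, e⟩ := hy
    refine ⟨⟨w, hw⟩, QuotientGroup.eq.2 (Subgroup.mem_subgroupOf.2 ?_)⟩
    show w⁻¹ * (y : G) ∈ centralizer (E : Set G)
    rw [← e, inv_mul_cancel_left]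
    exact hz.2
  have hψker : Nat.card ψ.ker = Nat.card ↥(WEm p E ⊓ Zm p E) := by
    refine Nat.card_congr
      ⟨fun w => ⟨(w : ↥(WEm p E)), (w : ↥(WEm p E)).2, mem_Z_of_centralizes (w : ↥(WEm p E)).2
        ((hπ ⟨_, hWEX (w : ↥(WEm p E)).2⟩).1 w.2)⟩,
      fun w => ⟨⟨w, w.2.1⟩, (hπ ⟨_, hWEX w.2.1⟩).2 w.2.2.2⟩,
      fun w => rfl, fun w => rfl⟩
  have hψsurj : Function.Surjective ψ := fun q => by
    obtain ⟨y, rfl⟩ := QuotientGroup.mk'_surjective Z0 q
    exact hsplit y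
  have hWcard : Nat.card ↥(WEm p E) =
      Nat.card (↥X ⧸ Z0) * Nat.card ↥(WEm p E ⊓ Zm p E) := by
    rw [← hψker, ψ.ker.card_eq_card_quotient_mul_card_subgroup,
      Nat.card_congr (QuotientGroup.quotientKerEquivOfSurjective ψ hψsurj).toEquiv]
  -- `Φ` is onto
  have hΦsurj : Function.Surjective Φ := by
    intro v
    refine Subgroup.pi_mem_of_mulSingle_mem (H := Φ.range) v fun D => ?_
    obtain ⟨⟨w, hw⟩, hwv⟩ := hψsurj (v D)
    refine ⟨⟨r D * w * (r D)⁻¹, hAX _ (hr D) _ (hWEX hw)⟩, funext fun D' => ?_⟩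
    show π _ = _
    by_cases hD : D' = D
    · subst hD
      rw [Pi.mulSingle_eq_same, ← hwv]
      show π _ = π _
      congr 1
      exact Subtype.ext (by
        show (r D')⁻¹ * (r D' * w * (r D')⁻¹) * r D' = w
        group)
    · rw [Pi.mulSingle_eq_of_ne hD]
      refine (QuotientGroup.eq_one_iff _).2 (Subgroup.mem_subgroupOf.2 ?_)
      show (r D')⁻¹ * (r D * w * (r D)⁻¹) * r D' ∈ centralizer (E : Set G)
      have hmem := (cj_WEm (p := p) ((r D')⁻¹ * r D) E).le (conj_mem_cj hw)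
      rw [show (r D')⁻¹ * (r D * w * (r D)⁻¹) * r D' =
        (r D')⁻¹ * r D * w * ((r D')⁻¹ * r D)⁻¹ by group]
      refine hcent (fun e => hD (Subtype.ext ?_)) hmem
      rw [← hrE D', ← hrE D]
      conv_lhs => rw [← e]
      rw [← cj_cj, cj_cj_inv]
  have hXcard : Nat.card ↥X = Nat.card (↥X ⧸ Z0) ^ Nat.card Ω * Nat.card Φ.ker := by
    rw [Φ.ker.card_eq_card_quotient_mul_card_subgroup,
      Nat.card_congr (QuotientGroup.quotientKerEquivOfSurjective Φ hΦsurj).toEquiv, Nat.card_fun]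
  -- fixed points
  set A1 := A ⊓ normalizer (E : Set G) with hA1
  set CA := X ⊓ centralizer (A : Set G) with hCA
  let θ : ↥CA →* ↥X ⧸ Z0 := π.comp (Subgroup.inclusion (inf_le_left : CA ≤ X))
  let φ : ↥(Fx hEf A1) →* ↥X ⧸ Z0 := ψ.comp (Subgroup.inclusion (Fx_le hEf A1))
  have hθker : Nat.card θ.ker ≤ Nat.card Φ.ker := by
    refine Nat.card_le_card_of_injective (fun y => ⟨⟨((y : ↥CA) : G), (y : ↥CA).2.1⟩,
      funext fun D => ?_⟩) fun a b e => Subtype.ext (Subtype.ext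
        (congrArg (fun v : Φ.ker => ((v : ↥X) : G)) e))
    have hy : θ (y : ↥CA) = 1 := y.2
    show π _ = 1
    refine Eq.trans ?_ hy
    show π _ = π _
    congr 1
    exact Subtype.ext (by
      show (r D)⁻¹ * ((y : ↥CA) : G) * r D = ((y : ↥CA) : G)
      rw [mul_assoc, ← mem_centralizer_iff.1 (y : ↥CA).2.2 _ (hr D), inv_mul_cancel_left])
  have hθrange : θ.range ≤ φ.range := by
    rintro _ ⟨⟨y, hyX, hyA⟩, rfl⟩
    obtain ⟨⟨w, hw⟩, hwy⟩ := hsplit ⟨y, hyX⟩
    have hz : w⁻¹ * y ∈ centralizer (E : Set G) := Subgroup.mem_subgroupOf.1 (QuotientGroup.eq.1 hwy)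
    refine ⟨⟨w, hw, fun a ha => ?_⟩, hwy⟩
    have haN : a ∈ normalizer (E : Set G) := ha.2
    have h1 : a * (w⁻¹ * y) * a⁻¹ ∈ centralizer (E : Set G) := by
      have := conj_mem_cj (g := a) hz
      rwa [cj_centralizer, mem_normalizer_iff_cj.1 haN] at this
    have hcW : a * w * a⁻¹ ∈ WEm p E := (cj_WE haN).le (conj_mem_cj hw)
    refine mem_Z_of_centralizes (mul_mem hcW (inv_mem hw)) ?_
    have e : a * w * a⁻¹ * w⁻¹ = y * (a * (w⁻¹ * y) * a⁻¹)⁻¹ * w⁻¹ := by
      rw [show a * w * a⁻¹ = a * y * a⁻¹ * (a * (w⁻¹ * y) * a⁻¹)⁻¹ by group,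
        mem_centralizer_iff.1 hyA a ha.1, mul_inv_cancel_right]
    have hxX : a * (w⁻¹ * y) * a⁻¹ ∈ X := hAX a ha.1 _ (mul_mem (inv_mem (hWEX hw)) hyX)
    rw [e, CfsgLib.Thompson.elab_commute hXel hyX (inv_mem hxX), mul_assoc,
      CfsgLib.Thompson.elab_commute hXel hyX (inv_mem (hWEX hw))]
    exact mul_mem (inv_mem h1) hz
  have hCAcard : Nat.card ↥CA ≤ Nat.card Φ.ker * Nat.card φ.range := by
    rw [θ.ker.card_eq_card_quotient_mul_card_subgroup, mul_comm,
      Nat.card_congr (QuotientGroup.quotientKerEquivRange θ).toEquiv]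
    exact Nat.mul_le_mul hθker (Subgroup.card_le_of_le hθrange)
  have hA1N : A1 ≤ normalizer (E : Set G) := inf_le_right
  have hFcard : Nat.card ↥(Fx hEf A1) =
      Nat.card φ.range * Nat.card ↥(WEm p E ⊓ Zm p E) := by
    rw [φ.ker.card_eq_card_quotient_mul_card_subgroup,
      Nat.card_congr (QuotientGroup.quotientKerEquivRange φ).toEquiv]
    congr 1
    refine Nat.card_congr
      ⟨fun w => ⟨((w : ↥(Fx hEf A1)) : G), (w : ↥(Fx hEf A1)).2.1,
        mem_Z_of_centralizes (w : ↥(Fx hEf A1)).2.1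
          ((hπ ⟨_, hWEX (w : ↥(Fx hEf A1)).2.1⟩).1 w.2)⟩,
      fun w => ⟨⟨w, inf_Z_le_Fx hEf hA1N w.2⟩, (hπ ⟨_, hWEX w.2.1⟩).2 w.2.2.2⟩,
      fun w => rfl, fun w => rfl⟩
  have hbound := (topFacts hE).bound A1 hA1N (CfsgLib.Thompson.elab_mono hA.2.1 inf_le_left)
  have hCX : A1 ⊓ Cm p E ≤ A ⊓ centralizer (X : Set G) := by
    rintro x ⟨hx, hxC⟩
    refine Subgroup.mem_inf.2 ⟨hx.1, ?_⟩
    have hle : X ≤ centralizer {x} := iSup_le fun D => by
      rw [← hrE D, ← cj_WEm]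
      refine cj_le_iff.2 fun w hw => mem_centralizer_singleton_iff.2 ?_
      calc r D * w * (r D)⁻¹ * x = r D * w * (x * (r D)⁻¹) := by
            rw [mul_assoc, ← hAc hx.1 (A.inv_mem (hr D))]
        _ = r D * (w * x) * (r D)⁻¹ := by group
        _ = r D * (x * w) * (r D)⁻¹ := by rw [mem_centralizer_iff.1 hxC w hw]
        _ = x * (r D * w * (r D)⁻¹) := by rw [← mul_assoc, ← hAc hx.1 (hr D)]; group
    exact mem_centralizer_iff.2 fun y hy => mem_centralizer_singleton_iff.1 (hle hy)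
  have hAcard : Nat.card A ≤ Nat.card Ω * Nat.card A1 := by
    rw [← Nat.card_prod]
    refine Nat.card_le_card_of_injective (fun a : ↥A =>
      ((⟨_, a, a.2, rfl⟩ : Ω), (⟨(r ⟨_, a, a.2, rfl⟩)⁻¹ * a, Subgroup.mem_inf.2
        ⟨mul_mem (A.inv_mem (hr _)) a.2, mem_normalizer_iff_cj.2 ?_⟩⟩ : ↥A1)))
      fun a b e => ?_
    · rw [← cj_cj]
      exact (congrArg (fun H => (r ⟨_, a, a.2, rfl⟩)⁻¹ ⋆ H)
        (hrE ⟨_, a, a.2, rfl⟩).symm).trans (cj_inv_cj _ _)
    · have e1 : (⟨_, a, a.2, rfl⟩ : Ω) = ⟨_, b, b.2, rfl⟩ := congrArg Prod.fst e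
      have e2 := congrArg (fun q : Ω × ↥A1 => (q.2 : G)) e
      dsimp only at e2
      rw [e1] at e2
      exact Subtype.ext (mul_left_cancel e2)
  have hoff := CfsgLib.BlockExc.offender_card hA hXel hXT
  have h4 := (topFacts hE).four
  -- count
  set c := Nat.card (↥X ⧸ Z0)
  set k := Nat.card Φ.ker
  set z := Nat.card ↥(WEm p E ⊓ Zm p E)
  set m := Nat.card Ω with hm
  have hz : 0 < z := Nat.card_pos
  have hk : 0 < k := Nat.card_pos
  have haC : 0 < Nat.card ↥(A1 ⊓ Cm p E) := Nat.card_pos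
  have hmpos : 0 < m := by
    haveI : Nonempty Ω := ⟨⟨_, 1, A.one_mem, rfl⟩⟩
    exact Nat.card_pos
  have hc4 : 4 ≤ c := Nat.le_of_mul_le_mul_right (hWcard ▸ h4) hz
  have hineq : c ^ m ≤ m * c := by
    refine Nat.le_of_mul_le_mul_right ?_ (Nat.mul_pos (Nat.mul_pos hk hz) haC)
    calc c ^ m * (k * z * Nat.card ↥(A1 ⊓ Cm p E))
        = Nat.card ↥X * Nat.card ↥(A1 ⊓ Cm p E) * z := by rw [hXcard]; ring
      _ ≤ Nat.card ↥X * Nat.card ↥(A ⊓ centralizer (X : Set G)) * z :=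
          Nat.mul_le_mul_right _ (Nat.mul_le_mul_left _ (Subgroup.card_le_of_le hCX))
      _ ≤ Nat.card A * Nat.card ↥CA * z := Nat.mul_le_mul_right _ hoff
      _ ≤ m * Nat.card A1 * (k * Nat.card φ.range) * z :=
          Nat.mul_le_mul_right _ (Nat.mul_le_mul hAcard hCAcard)
      _ = m * k * (Nat.card A1 * Nat.card ↥(Fx hEf A1)) := by rw [hFcard]; ring
      _ ≤ m * k * (Nat.card ↥(WEm p E) * Nat.card ↥(A1 ⊓ Cm p E)) :=
          Nat.mul_le_mul_left _ hbound
      _ = _ := by rw [hWcard]; ring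
  have hone : m = 1 := pow_ineq hc4 hmpos hineq
  intro a ha
  haveI : Subsingleton Ω := (Nat.card_eq_one_iff_unique.1 hone).1
  have := congrArg Subtype.val
    (Subsingleton.elim (⟨_, a, ha, rfl⟩ : Ω) ⟨_, 1, A.one_mem, rfl⟩)
  exact mem_normalizer_iff_cj.2 (this.trans (cj_one E))

theorem thompson_le_normalizer :
    Cfsg.thompsonSubgroupOf p (T' : Subgroup G) ≤ normalizer (E : Set G) := by
  rw [CfsgLib.Thompson.thompsonSubgroupOf_eq]
  exact sSup_le fun A hA => maxIn_le_normalizer hG hE hs T' hA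

theorem baumann_le_normalizer :
    Cfsg.baumannSubgroupOf p (T' : Subgroup G) ≤ normalizer (E : Set G) := by
  intro b hb
  have hJ := thompson_le_normalizer hG hE hs T'
  rw [mem_normalizer_iff_cj]
  by_contra hne
  obtain ⟨w, hw, hwZ⟩ := SetLike.not_le_iff_exists.1 (fx_J_not_le_Z hG hE T' hJ)
  refine hwZ (mem_Z_of_centralizes hw.1 ?_)
  have hbw : b * w * b⁻¹ = w := by
    rw [mem_centralizer_iff.1 (fx_J_le_centralizer_B hG hE T' hJ hw) b hb, mul_inv_cancel_right]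
  rw [← hbw]
  refine WE_le_centralizer (facts' hG hE b) ?_ ((cj_WEm b E).le (conj_mem_cj hw.1))
  rw [commutator_comm]
  exact (conjugates hG hE hs b).resolve_left hne

theorem baumannSubgroup_le_normalizer :
    Cfsg.baumannSubgroup p G ≤ normalizer (E : Set G) :=
  iSup_le fun T'' => baumann_le_normalizer hG hE hs T''

end

end CfsgLib.BlockJ
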