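import Cfsg.Agent.LocalB.BlockSL2

/-!
Generators of `SL₂(F)`, the quotient by the derived group, determinants of linear maps of `F²`.
-/

set_option autoImplicit false
set_option linter.style.haveILetI false
set_option linter.unusedSectionVars false
set_option linter.unusedTactic false
set_option linter.unreachableTactic false

namespace CfsgLib.BlockLinearSL

open Subgroup CfsgLib.BlockSL2 CfsgLib.BlockModule
open scoped commutatorElement

variable {F : Type*} [Field F]

theorem ext_mulVec {a b : SL F}
    (h : ∀ v, (a : Matrix (Fin 2) (Fin 2) F).mulVec v = (b : Matrix (Fin 2) (Fin 2) F).mulVec v) :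
    a = b := Subtype.ext (Matrix.mulVec_injective (funext h))

theorem mem_of_transvections (K : Subgroup (SL F)) (hup : ∀ x : F, up x ∈ K)
    (hlo : ∀ x : F, lo x ∈ K) (m : SL F) : m ∈ K := by
  have hdet : ∀ m : SL F, (m : Matrix (Fin 2) (Fin 2) F) 0 0 * (m : Matrix (Fin 2) (Fin 2) F) 1 1 -
      (m : Matrix (Fin 2) (Fin 2) F) 0 1 * (m : Matrix (Fin 2) (Fin 2) F) 1 0 = 1 := fun m => by
    rw [← Matrix.det_fin_two]; exact m.2
  have key : ∀ m : SL F, (m : Matrix (Fin 2) (Fin 2) F) 1 0 ≠ 0 → m ∈ K := by
    intro m hc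
    set a := (m : Matrix (Fin 2) (Fin 2) F) 0 0 with ha
    set b := (m : Matrix (Fin 2) (Fin 2) F) 0 1 with hb
    set c := (m : Matrix (Fin 2) (Fin 2) F) 1 0 with hc'
    set d := (m : Matrix (Fin 2) (Fin 2) F) 1 1 with hd
    have hm := hdet m
    rw [← ha, ← hb, ← hc', ← hd] at hm
    have e : m = up ((a - 1) * c⁻¹) * lo c * up ((d - 1) * c⁻¹) := by
      refine Subtype.ext ?_
      ext i j
      fin_cases i <;> fin_cases j <;>
        simp [Matrix.SpecialLinearGroup.coe_mul, coe_up, coe_lo, Matrix.mul_apply, Fin.sum_univ_two,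
          ← ha, ← hb, ← hc', ← hd] <;> field_simp
      · ring
      · linear_combination -hm
      · ring
    rw [e]
    exact mul_mem (mul_mem (hup _) (hlo _)) (hup _)
  by_cases hc : (m : Matrix (Fin 2) (Fin 2) F) 1 0 = 0
  · have ha : (m : Matrix (Fin 2) (Fin 2) F) 0 0 ≠ 0 := fun h => by
      have := hdet m
      rw [h, hc, zero_mul, mul_zero, sub_zero] at this
      exact zero_ne_one this
    have h := key (lo 1 * m) (by
      simp [Matrix.SpecialLinearGroup.coe_mul, coe_lo, Matrix.mul_apply, Fin.sum_univ_two, hc, ha])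
    have := mul_mem (inv_mem (hlo 1)) h
    rwa [inv_mul_cancel_left] at this
  · exact key m hc

/-- The quotient by the derived group has exponent dividing `p` in characteristic `p`. -/
theorem pow_mem_R {p : ℕ} (hp : (p : F) = 0) (m : SL F) : m ^ p ∈ R F := by
  haveI : (R F).Normal := normal_R
  let π := QuotientGroup.mk' (R F)
  have hcom : ∀ a b : SL F ⧸ R F, a * b = b * a := fun a b => by
    obtain ⟨a, rfl⟩ := QuotientGroup.mk'_surjective _ a
    obtain ⟨b, rfl⟩ := QuotientGroup.mk'_surjective _ b
    rw [← map_mul, ← map_mul, QuotientGroup.mk'_apply, QuotientGroup.mk'_apply, QuotientGroup.eq,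
      show (a * b)⁻¹ * (b * a) = ⁅b⁻¹, a⁻¹⁆ by rw [commutatorElement_def]; group]
    show _ ∈ _root_.commutator (SL F)
    rw [_root_.commutator_def]
    exact commutator_mem_commutator (mem_top _) (mem_top _)
  let K : Subgroup (SL F) :=
    { carrier := {g | π g ^ p = 1}
      mul_mem' := fun {a b} (ha : π a ^ p = 1) (hb : π b ^ p = 1) => by
        show π (a * b) ^ p = 1
        rw [map_mul, Commute.mul_pow (hcom _ _), ha, hb, one_mul]
      one_mem' := by show π 1 ^ p = 1; rw [map_one, one_pow]
      inv_mem' := fun {a} (ha : π a ^ p = 1) => by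
        show π a⁻¹ ^ p = 1
        rw [map_inv, inv_pow, ha, inv_one] }
  have hupn : ∀ (n : ℕ) (x : F), up x ^ n = up ((n : F) * x) := fun n x => by
    induction n with
    | zero => refine Subtype.ext ?_; ext i j; fin_cases i <;> fin_cases j <;> simp [coe_up]
    | succ n ih =>
      rw [pow_succ, ih]
      refine Subtype.ext ?_
      ext i j
      fin_cases i <;> fin_cases j <;>
        simp [Matrix.SpecialLinearGroup.coe_mul, coe_up, Matrix.mul_apply, Fin.sum_univ_two]
      ring
  have hlon : ∀ (n : ℕ) (x : F), lo x ^ n = lo ((n : F) * x) := fun n x => by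
    induction n with
    | zero => refine Subtype.ext ?_; ext i j; fin_cases i <;> fin_cases j <;> simp [coe_lo]
    | succ n ih =>
      rw [pow_succ, ih]
      refine Subtype.ext ?_
      ext i j
      fin_cases i <;> fin_cases j <;>
        simp [Matrix.SpecialLinearGroup.coe_mul, coe_lo, Matrix.mul_apply, Fin.sum_univ_two]
      ring
  have h0u : up (0 : F) = 1 := by
    refine Subtype.ext ?_; ext i j; fin_cases i <;> fin_cases j <;> simp [coe_up]
  have h0l : lo (0 : F) = 1 := by
    refine Subtype.ext ?_; ext i j; fin_cases i <;> fin_cases j <;> simp [coe_lo]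
  have hm : m ∈ K := mem_of_transvections K
    (fun x => by show π (up x) ^ p = 1; rw [← map_pow, hupn, hp, zero_mul, h0u, map_one])
    (fun x => by show π (lo x) ^ p = 1; rw [← map_pow, hlon, hp, zero_mul, h0l, map_one]) m
  have h1 : π (m ^ p) = 1 := by rw [map_pow]; exact hm
  exact (QuotientGroup.eq_one_iff _).1 h1

/-- A fixed-point-free element that commutes with `R` when `F` has two elements. -/
theorem exists_central_two (h2 : (2 : F) = 0) (hsmall : ¬ ∃ t : F, t ≠ 0 ∧ t * t ≠ 1) :
    ∃ m ∈ R F, m ^ 3 = 1 ∧ (∀ r ∈ R F, r * m = m * r) ∧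
      ∀ v, (m : Matrix (Fin 2) (Fin 2) F).mulVec v = v → v = 0 := by
  have hneg : (-1 : F) = 1 := by linear_combination -h2
  have h01 : ∀ x : F, x = 0 ∨ x = 1 := fun x => by
    rcases small_cases hsmall x with h | h | h
    · exact Or.inl h
    · exact Or.inr h
    · exact Or.inr (h.trans hneg)
  set m : SL F := ⁅up (1 : F), lo (1 : F)⁆ with hmdef
  have hm : (m : Matrix (Fin 2) (Fin 2) F) = !![1, 1; 1, 0] := by
    ext i j
    fin_cases i <;> fin_cases j <;>
      simp [m, commutatorElement_def, up_inv, lo_inv, Matrix.SpecialLinearGroup.coe_mul, coe_up,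
        coe_lo, Matrix.mul_apply, Fin.sum_univ_two, hneg] <;>
      (first | linear_combination h2 | linear_combination -h2 | linear_combination 2 * h2 | linear_combination (-2) * h2 | linear_combination 3 * h2 | linear_combination (-3) * h2)
  have hmR : m ∈ R F := by
    show m ∈ _root_.commutator (SL F)
    rw [_root_.commutator_def]
    exact commutator_mem_commutator (mem_top _) (mem_top _)
  have hm3 : m ^ 3 = 1 := by
    refine Subtype.ext ?_
    rw [pow_succ, pow_two]
    simp only [Matrix.SpecialLinearGroup.coe_mul, hm]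
    ext i j
    fin_cases i <;> fin_cases j <;>
      simp [Matrix.mul_apply, Fin.sum_univ_two] <;>
      (first | linear_combination h2 | linear_combination -h2 | linear_combination 2 * h2 | linear_combination (-2) * h2 | linear_combination 3 * h2 | linear_combination (-3) * h2)
  let K : Subgroup (SL F) :=
    { carrier := {g | g * m * g⁻¹ = m ∨ g * m * g⁻¹ = m⁻¹}
      one_mem' := Or.inl (by group)
      mul_mem' := fun {a b} ha hb => by
        have e : a * b * m * (a * b)⁻¹ = a * (b * m * b⁻¹) * a⁻¹ := by group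
        show _ ∨ _
        rw [e]
        rcases hb with hb | hb <;> rw [hb]
        · exact ha
        · rw [show a * m⁻¹ * a⁻¹ = (a * m * a⁻¹)⁻¹ by group]
          rcases ha with ha | ha <;> rw [ha]
          · exact Or.inr rfl
          · exact Or.inl (inv_inv m)
      inv_mem' := fun {a} ha => by
        show _ ∨ _
        rcases ha with ha | ha
        · refine Or.inl ?_
          conv_lhs => arg 1; arg 2; rw [← ha]
          group
        · refine Or.inr ?_
          have : a⁻¹ * (a * m * a⁻¹)⁻¹ * a = m⁻¹ := by group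
          rw [ha, inv_inv] at this
          rw [inv_inv]; exact this }
  have hgen : ∀ x : F, up x ∈ K ∧ lo x ∈ K := by
    intro x
    rcases h01 x with rfl | rfl
    · have h0u : up (0 : F) = 1 := by
        refine Subtype.ext ?_; ext i j; fin_cases i <;> fin_cases j <;> simp [coe_up]
      have h0l : lo (0 : F) = 1 := by
        refine Subtype.ext ?_; ext i j; fin_cases i <;> fin_cases j <;> simp [coe_lo]
      rw [h0u, h0l]
      exact ⟨one_mem K, one_mem K⟩
    · have hinv : (m⁻¹ : SL F) = m * m := inv_eq_of_mul_eq_one_right (by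
        rw [← hm3, pow_succ, pow_two, mul_assoc])
      refine ⟨Or.inr ?_, Or.inr ?_⟩ <;>
      · rw [hinv, mul_inv_eq_iff_eq_mul]
        refine Subtype.ext ?_
        ext i j
        fin_cases i <;> fin_cases j <;>
          simp [Matrix.SpecialLinearGroup.coe_mul, hm, coe_up, coe_lo, Matrix.mul_apply,
            Fin.sum_univ_two] <;>
            (first | linear_combination h2 | linear_combination -h2 | linear_combination 2 * h2 | linear_combination (-2) * h2 | linear_combination 3 * h2 | linear_combination (-3) * h2)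
  have hall := mem_of_transvections K (fun x => (hgen x).1) fun x => (hgen x).2
  refine ⟨m, hmR, hm3, fun r hr => ?_, fun v hv => ?_⟩
  · have hle : R F ≤ centralizer {m} := by
      show _root_.commutator (SL F) ≤ _
      rw [_root_.commutator_def, Subgroup.commutator_le]
      have hi : ∀ x : SL F, ∀ y : SL F, y * m * y⁻¹ = x → y * m⁻¹ * y⁻¹ = x⁻¹ := fun x y e => by
        rw [← e]; group
      have hcomm : ∀ g h : SL F, g * (h * m * h⁻¹) * g⁻¹ = h * (g * m * g⁻¹) * h⁻¹ := fun g h => by
        rcases hall g with a | a <;> rcases hall h with b | b <;>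
          simp only [a, b, hi _ _ a, hi _ _ b, inv_inv]
      intro g _ h _
      refine mem_centralizer_singleton_iff.2 (mul_inv_eq_iff_eq_mul.1 ?_)
      set A := g⁻¹ * h⁻¹ with hA
      set B := h⁻¹ * g⁻¹ with hB
      have hAB : A * m * A⁻¹ = B * m * B⁻¹ := by
        rw [hA, hB, show g⁻¹ * h⁻¹ * m * (g⁻¹ * h⁻¹)⁻¹ = g⁻¹ * (h⁻¹ * m * h⁻¹⁻¹) * g⁻¹⁻¹ by group,
          hcomm]
        group
      calc ⁅g, h⁆ * m * ⁅g, h⁆⁻¹ = B⁻¹ * (A * m * A⁻¹) * B := by
            rw [hA, hB, commutatorElement_def]; group
        _ = m := by rw [hAB]; group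
    exact mem_centralizer_singleton_iff.1 (hle hr)
  · rw [hm] at hv
    have h0 := congrFun hv 0
    have h1 := congrFun hv 1
    simp [Matrix.mulVec, dotProduct, Fin.sum_univ_two] at h0 h1
    funext i
    fin_cases i <;> simp_all

/-! ### Determinants -/

/-- Linearity of an additive map of `F²`. -/
def Lin (g : (Fin 2 → F) → (Fin 2 → F)) : Prop := ∀ (c : F) v, g (c • v) = c • g v

/-- The determinant of a linear map of `F²`. -/
def dt (g : (Fin 2 → F) → (Fin 2 → F)) : F := det2 (g ![1, 0]) (g ![0, 1])

theorem det2_map (g : (Fin 2 → F) →+ (Fin 2 → F)) (hlin : Lin g) (v w : Fin 2 → F) :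
    det2 (g v) (g w) = dt g * det2 v w := by
  have e : ∀ v : Fin 2 → F, g v = v 0 • g ![1, 0] + v 1 • g ![0, 1] := fun v => by
    rw [← hlin, ← hlin, ← map_add]
    congr 1
    funext i; fin_cases i <;> simp
  rw [e v, e w]
  simp only [det2, dt, Pi.add_apply, Pi.smul_apply, smul_eq_mul]
  ring

end CfsgLib.BlockLinearSL
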