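import Cfsg.Agent.LocalB.BlockTop
import Cfsg.Agent.LocalB.BlockExcTop
import Cfsg.Agent.LocalB.BlockLinearSL

/-!
Blocks of linear type: offenders, elements acting as elements of the block, complements.
-/

set_option autoImplicit false
set_option linter.style.haveILetI false
set_option linter.unusedSectionVars false

namespace CfsgLib.BlockLinear

open Subgroup CfsgLib.Functor CfsgLib.BlockSL2 CfsgLib.BlockModule CfsgLib.BlockSection
  CfsgLib.BlockBasic CfsgLib.BlockCore CfsgLib.BlockTop CfsgLib.BlockLinearSL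
open scoped CfsgLib.Functor commutatorElement

universe u

variable {G : Type u} [Group G] [Finite G]

/-- A block of linear or exceptional type with a chosen section map. -/
structure LData (p : ℕ) (E : Subgroup G) (F : Type) [Field F] [Fintype F] where
  facts : Facts p E
  char : (p : F) = 0
  S : Sec E (Wm p E) (Zm p E) F

variable {p : ℕ} [hp : Fact p.Prime]

theorem exists_ldata {T E : Subgroup G} (hE : Cfsg.IsBaumannBlock p T E) {F : Type} [Field F]
    [Fintype F] {n : ℕ} (hcard : Fintype.card F = p ^ n)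
    (hW : Cfsg.ActsAsSL2OnSection F (commutator (SL F)) E (Wm p E) (Zm p E)) :
    Nonempty (LData p E F) := by
  obtain ⟨S⟩ := exists_sec hW
  refine ⟨⟨facts_of_block hE, ?_, S⟩⟩
  have h := Nat.cast_card_eq_zero F
  rw [hcard, Nat.cast_pow] at h
  exact IsReduced.eq_zero _ ⟨n, h⟩

namespace LData

variable {E : Subgroup G} {F : Type} [Field F] [Fintype F] (X : LData p E F)

include X

theorem good (hbig : p ≠ 2 ∨ ∃ t : F, t ≠ 0 ∧ t * t ≠ 1) : Good F := by
  rcases hbig with h | h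
  · refine good_of_two_ne fun h2 => h ?_
    haveI : CharP F p := (CharP.charP_iff_prime_eq_zero hp.out).2 X.char
    exact (Nat.prime_dvd_prime_iff_eq hp.out Nat.prime_two).1
      ((CharP.cast_eq_zero_iff F p 2).1 (by exact_mod_cast h2))
  · exact Or.inl h

theorem nW {g : G} (hg : g ∈ normalizer (E : Set G)) : g ∈ normalizer (Wm p E : Set G) :=
  CfsgLib.Baumann.le_normalizer_W E hg

theorem nZ {g : G} (hg : g ∈ normalizer (E : Set G)) : g ∈ normalizer (Zm p E : Set G) :=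
  X.facts.norm_Z hg

theorem hW {g : G} (hg : g ∈ normalizer (E : Set G)) {a : G} (ha : a ∈ Wm p E) :
    g * a * g⁻¹ ∈ Wm p E := (mem_normalizer_iff.1 (X.nW hg) a).1 ha

/-- The action of `g ∈ N(E)` on `W / Z`. -/
noncomputable def hom {g : G} (hg : g ∈ normalizer (E : Set G)) : (Fin 2 → F) →+ (Fin 2 → F) :=
  X.S.actHom (X.nW hg) (X.nZ hg)

theorem act_pow {g : G} (hg : g ∈ normalizer (E : Set G)) (k : ℕ) (v : Fin 2 → F) :
    (X.hom hg)^[k] v = X.S.act (g ^ k) v := by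
  induction k with
  | zero => rw [pow_zero, X.S.act_one]; rfl
  | succ k ih =>
    rw [Function.iterate_succ_apply', ih, pow_succ',
      X.S.act_mul (X.nW hg) (X.nZ hg) (X.nW (pow_mem hg k)) (X.nZ (pow_mem hg k))]
    rfl

theorem surj_WE (v : Fin 2 → F) : ∃ a ∈ WEm p E, X.S.f a = v := by
  obtain ⟨u, hu, rfl⟩ := X.S.surj v
  obtain ⟨k, hk, c, hc, rfl⟩ := X.facts.exists_split hu
  exact ⟨k, hk, (X.S.map_mul_zero (WE_le_W E hk) hc).symm⟩

theorem mem_Z_of_fixed {g w : G} (hg : g ∈ normalizer (E : Set G)) (hw : w ∈ Wm p E)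
    (h : X.S.act g (X.S.f w) = X.S.f w) : g * w * g⁻¹ * w⁻¹ ∈ Zm p E := by
  rw [X.S.act_apply (X.nW hg) (X.nZ hg) hw, eq_comm, X.S.eq_iff hw (X.hW hg hw)] at h
  rwa [X.facts.W_commute (X.hW hg hw) (inv_mem hw)]

theorem fixed_of_mem_Z {g w : G} (hg : g ∈ normalizer (E : Set G)) (hw : w ∈ Wm p E)
    (h : g * w * g⁻¹ * w⁻¹ ∈ Zm p E) : X.S.act g (X.S.f w) = X.S.f w := by
  rw [X.S.act_apply (X.nW hg) (X.nZ hg) hw, eq_comm, X.S.eq_iff hw (X.hW hg hw),
    X.facts.W_commute (inv_mem hw) (X.hW hg hw)]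
  exact h

theorem top_of_id {g : G} (hg : g ∈ normalizer (E : Set G)) (hid : ∀ v, X.S.act g v = v) :
    g ∈ Cm p E :=
  X.facts.mem_C_of_top hg fun _ hw => X.mem_Z_of_fixed hg (WE_le_W E hw) (hid _)

theorem id_of_C {g : G} (hg : g ∈ normalizer (E : Set G)) (hC : g ∈ Cm p E) (v : Fin 2 → F) :
    X.S.act g v = v := by
  obtain ⟨w, hw, rfl⟩ := X.surj_WE v
  refine X.fixed_of_mem_Z hg (WE_le_W E hw) ?_
  rw [← mem_centralizer_iff.1 hC w hw, mul_inv_cancel_right, mul_inv_cancel]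
  exact one_mem _

theorem lin_of_small (hsmall : ¬ ∃ t : F, t ≠ 0 ∧ t * t ≠ 1) {g : G}
    (hg : g ∈ normalizer (E : Set G)) : Lin (X.S.act g) := fun c v => by
  show X.hom hg (c • v) = c • X.hom hg v
  rcases small_cases hsmall c with rfl | rfl | rfl
  · rw [zero_smul, zero_smul, map_zero]
  · rw [one_smul, one_smul]
  · rw [neg_one_smul, neg_one_smul, map_neg]

theorem semilinear {g : G} (hg : g ∈ normalizer (E : Set G)) :
    ∃ σ : F → F, ∀ (c : F) v, X.S.act g (c • v) = σ c • X.S.act g v := by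
  by_cases hbig : ∃ t : F, t ≠ 0 ∧ t * t ≠ 1
  · exact X.S.exists_semilinear (Or.inl hbig) (X.nW hg) (X.nZ hg) hg
  · exact ⟨id, X.lin_of_small hbig hg⟩

theorem lin_mul {g g' : G} (hg : g ∈ normalizer (E : Set G)) (hg' : g' ∈ normalizer (E : Set G))
    (h : Lin (X.S.act g)) (h' : Lin (X.S.act g')) : Lin (X.S.act (g * g')) := fun c v => by
  rw [X.S.act_mul (X.nW hg) (X.nZ hg) (X.nW hg') (X.nZ hg'), h', h,
    X.S.act_mul (X.nW hg) (X.nZ hg) (X.nW hg') (X.nZ hg')]

theorem lin_inv {g : G} (hg : g ∈ normalizer (E : Set G)) (h : Lin (X.S.act g)) :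
    Lin (X.S.act g⁻¹) := fun c v => by
  obtain ⟨w, rfl⟩ := X.S.act_surjective (X.nW hg) (X.nZ hg) v
  have key : ∀ w, X.S.act g⁻¹ (X.S.act g w) = w := fun w => by
    rw [← X.S.act_mul (X.nW (inv_mem hg)) (X.nZ (inv_mem hg)) (X.nW hg) (X.nZ hg), inv_mul_cancel,
      X.S.act_one]
  rw [key, ← h, key]

theorem dt_mul {g g' : G} (hg : g ∈ normalizer (E : Set G)) (hg' : g' ∈ normalizer (E : Set G))
    (h : Lin (X.S.act g)) : dt (X.S.act (g * g')) = dt (X.S.act g) * dt (X.S.act g') := by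
  unfold dt
  rw [X.S.act_mul (X.nW hg) (X.nZ hg) (X.nW hg') (X.nZ hg'),
    X.S.act_mul (X.nW hg) (X.nZ hg) (X.nW hg') (X.nZ hg')]
  exact det2_map (X.hom hg) h _ _

theorem dt_one : dt (X.S.act (1 : G)) = 1 := by
  unfold dt
  rw [X.S.act_one, X.S.act_one]
  simp [det2]

/-- An element acting as a matrix in `R` lies in `E C`. -/
theorem mem_EC_of_R {g : G} (hg : g ∈ normalizer (E : Set G)) {m : SL F} (hm : m ∈ R F)
    (h : ∀ v, X.S.act g v = (m : Matrix (Fin 2) (Fin 2) F).mulVec v) :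
    ∃ e ∈ E, e⁻¹ * g ∈ Cm p E := by
  obtain ⟨e, he⟩ := X.S.exists_pre m hm
  have heN : (e : G) ∈ normalizer (E : Set G) := le_normalizer e.2
  refine ⟨e, e.2, X.top_of_id (mul_mem (inv_mem heN) hg) fun v => ?_⟩
  rw [X.S.act_mul (X.nW (inv_mem heN)) (X.nZ (inv_mem heN)) (X.nW hg) (X.nZ hg), h, ← he,
    ← X.S.act_of_mem e (X.nZ heN),
    ← X.S.act_mul (X.nW (inv_mem heN)) (X.nZ (inv_mem heN)) (X.nW heN) (X.nZ heN), inv_mul_cancel,
    X.S.act_one]

/-- A linear element of determinant one of order prime to `p` lies in `E C`. -/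
theorem coprime_mem_EC {g : G} (hg : g ∈ normalizer (E : Set G)) (hlin : Lin (X.S.act g))
    (hdt : dt (X.S.act g) = 1) (hco : (orderOf g).Coprime p) : ∃ e ∈ E, e⁻¹ * g ∈ Cm p E := by
  obtain ⟨m, hm⟩ := exists_of_isometry (X.hom hg) (X.S.act_surjective (X.nW hg) (X.nZ hg))
    fun v w => by rw [det2_map (X.hom hg) hlin, show dt (X.hom hg) = 1 from hdt, one_mul]
  have hpow : ∀ (k : ℕ) v, X.S.act (g ^ k) v =
      ((m ^ k : SL F) : Matrix (Fin 2) (Fin 2) F).mulVec v := by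
    intro k
    induction k with
    | zero =>
      intro v
      rw [pow_zero, pow_zero, X.S.act_one, Matrix.SpecialLinearGroup.coe_one, Matrix.one_mulVec]
    | succ k ih =>
      intro v
      rw [pow_succ, X.S.act_mul (X.nW (pow_mem hg k)) (X.nZ (pow_mem hg k)) (X.nW hg) (X.nZ hg), ih,
        show X.S.act g v = _ from hm v, pow_succ, mulVec_mul]
  have hm1 : m ^ orderOf g = 1 := ext_mulVec fun v => by
    rw [← hpow, pow_orderOf_eq_one, X.S.act_one, Matrix.SpecialLinearGroup.coe_one,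
      Matrix.one_mulVec]
  have hmR : m ∈ R F := CfsgLib.Coprime.mem_of_pow_mem_of_coprime
    (Nat.Coprime.coprime_dvd_right (orderOf_dvd_of_pow_eq_one hm1) hco.symm)
    (pow_mem_R X.char m)
  exact X.mem_EC_of_R hg hmR hm

/-- A linear `p`-element preserves the determinant and acts quadratically. -/
theorem pElement_dt {g : G} (hg : g ∈ normalizer (E : Set G)) (hlin : Lin (X.S.act g)) {k : ℕ}
    (hk : g ^ p ^ k = 1) :
    dt (X.S.act g) = 1 ∧ ∀ v, X.S.act g (X.S.act g v - v) = X.S.act g v - v := by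
  have hq := quadratic_of_iterate X.char (X.hom hg) hlin (k := k) fun v => by
    rw [X.act_pow hg, hk, X.S.act_one]
  refine ⟨?_, hq⟩
  have := CfsgLib.BlockExc.det2_of_quadratic (X.hom hg) hlin hq ![1, 0] ![0, 1]
  show det2 (X.hom hg ![1, 0]) (X.hom hg ![0, 1]) = 1
  rw [this]
  simp [det2]

/-- A `p`-element fixing a line pointwise lies in `E C`, if `F` is not tiny. -/
theorem fix_line_mem_EC (hbig : ∃ t : F, t ≠ 0 ∧ t * t ≠ 1) {b : G}
    (hb : b ∈ normalizer (E : Set G)) {k : ℕ} (hk : b ^ p ^ k = 1) {u : Fin 2 → F} (hu : u ≠ 0)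
    (hfix : ∀ c : F, X.S.act b (c • u) = c • u) : ∃ e ∈ E, e⁻¹ * b ∈ Cm p E := by
  obtain ⟨σ, hσ⟩ := X.semilinear hb
  have h1 : X.S.act b u = u := by simpa using hfix 1
  have hσid : ∀ c, σ c = c := fun c => by
    have := (hσ c u).symm.trans (hfix c)
    rw [h1, ← sub_eq_zero, ← sub_smul, smul_eq_zero] at this
    exact sub_eq_zero.1 (this.resolve_right hu)
  have hlin : Lin (X.S.act b) := fun c v => by rw [hσ, hσid]
  obtain ⟨m, hm⟩ := exists_of_isometry (X.hom hb) (X.S.act_surjective (X.nW hb) (X.nZ hb))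
    fun v w => by rw [det2_map (X.hom hb) hlin, show dt (X.hom hb) = 1 from (X.pElement_dt hb hlin hk).1, one_mul]
  exact X.mem_EC_of_R hb (by rw [R_eq_top hbig]; trivial) hm

theorem card_four : 4 * Nat.card ↥(WEm p E ⊓ Zm p E) ≤ Nat.card ↥(WEm p E) := by
  refine le_trans ?_ (card_mul_le_card (p := p) (E := E) X.S.f
    (fun a ha b hb => X.S.map_mul a (WE_le_W E ha) b (WE_le_W E hb))
    (fun a ha => X.S.zero a (WE_le_W E ha)) (fun _ => True) fun x _ => X.surj_WE x)
  rw [mul_comm]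
  refine Nat.mul_le_mul_left _ ?_
  rw [Nat.card_congr (Equiv.subtypeUnivEquiv fun _ => trivial), Nat.card_fun, Nat.card_fin, pow_two,
    Nat.card_eq_fintype_card]
  have := Fintype.one_lt_card (α := F)
  nlinarith

/-- The action of an elementary abelian subgroup. -/
theorem exists_actionHom {A : Subgroup G} (hA : A ≤ normalizer (E : Set G))
    (hel : Cfsg.IsElementaryAbelian p A) :
    ∃ g : ↥A →* AddMonoid.End (Fin 2 → F), (∀ a v, g a v = X.S.act (a : G) v) ∧
      (∀ a : ↥A, a ^ p = 1) ∧ Nat.card g.ker = Nat.card ↥(A ⊓ Cm p E) := by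
  let g : ↥A →* AddMonoid.End (Fin 2 → F) :=
    { toFun := fun a => (X.hom (hA a.2) :)
      map_one' := AddMonoidHom.ext fun v => X.S.act_one v
      map_mul' := fun a b => AddMonoidHom.ext fun v =>
        X.S.act_mul (X.nW (hA a.2)) (X.nZ (hA a.2)) (X.nW (hA b.2)) (X.nZ (hA b.2)) v }
  refine ⟨g, fun a v => rfl, fun a => Subtype.ext (hel.2 a a.2),
    le_antisymm ?_ ?_⟩
  · refine Nat.card_le_card_of_injective (fun a => (⟨((a : ↥A) : G), (a : ↥A).2,
      X.top_of_id (hA (a : ↥A).2) fun v => ?_⟩ : ↥(A ⊓ Cm p E))) fun a b e =>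
        Subtype.ext (Subtype.ext (congrArg (fun x : ↥(A ⊓ Cm p E) => (x : G)) e))
    exact congrArg (fun φ : AddMonoid.End (Fin 2 → F) => φ v) a.2
  · refine Nat.card_le_card_of_injective (fun a => (⟨⟨(a : G), a.2.1⟩,
      AddMonoidHom.ext fun v => X.id_of_C (hA a.2.1) a.2.2 v⟩ : g.ker)) fun a b e =>
        Subtype.ext (congrArg (fun x : g.ker => ((x : ↥A) : G)) e)

/-- A nontrivial linear elementary abelian group: common line and transvection parameters. -/
theorem frame_of_linear {A : Subgroup G} (hA : A ≤ normalizer (E : Set G))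
    (hel : Cfsg.IsElementaryAbelian p A) (hlin : ∀ a ∈ A, Lin (X.S.act a)) (hne : ¬ A ≤ Cm p E) :
    ∃ (u v₀ : Fin 2 → F) (t : G → F), u ≠ 0 ∧ (∀ w, ∃ a b : F, w = a • u + b • v₀) ∧
      (∀ a ∈ A, ∀ x y : F, X.S.act a (x • u + y • v₀) = (x + t a * y) • u + y • v₀) ∧
      (∀ v, (∀ a ∈ A, X.S.act a v = v) → ∃ c : F, v = c • u) := by
  classical
  obtain ⟨b, hb, hbC⟩ := SetLike.not_le_iff_exists.1 hne
  set N : (Fin 2 → F) →+ (Fin 2 → F) := X.hom (hA hb) - AddMonoidHom.id _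
  have hNlin : ∀ (c : F) v, N (c • v) = c • N v := fun c v => by
    show X.S.act b (c • v) - c • v = c • (X.S.act b v - v)
    rw [hlin b hb, smul_sub]
  have hquad : ∀ a ∈ A, ∀ v, X.S.act a (X.S.act a v - v) = X.S.act a v - v := fun a ha =>
    (X.pElement_dt (hA ha) (hlin a ha) (k := 1) (by rw [pow_one]; exact hel.2 a ha)).2
  obtain ⟨u, v₀, hNv, hNu, hu, hspan, -⟩ := exists_frame N hNlin (m := 2)
    (fun v => sub_eq_zero.2 (hquad b hb v)) (by
      by_contra hno
      push Not at hno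
      exact hbC (X.top_of_id (hA hb) fun v => sub_eq_zero.1 (hno v)))
  have hbu : X.S.act b u = u := sub_eq_zero.1 hNu
  have hbv : X.S.act b v₀ = u + v₀ := sub_eq_iff_eq_add.1 hNv
  have hcoord : ∀ x y x' y' : F, x • u + y • v₀ = x' • u + y' • v₀ → x = x' ∧ y = y' := by
    intro x y x' y' e
    have h1 : (x - x') • u = (y' - y) • v₀ := by
      rw [sub_smul, sub_smul, sub_eq_sub_iff_add_eq_add]
      rw [e, add_comm]
    have h2 := congrArg N h1
    rw [hNlin, hNlin, hNu, hNv, smul_zero] at h2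
    have hy : y' - y = 0 := (smul_eq_zero.1 h2.symm).resolve_right hu
    rw [hy, zero_smul, smul_eq_zero] at h1
    exact ⟨sub_eq_zero.1 (h1.resolve_right hu), (sub_eq_zero.1 hy).symm⟩
  have hex : ∀ a ∈ A, ∃ t : F, X.S.act a u = u ∧ X.S.act a v₀ = t • u + v₀ := by
    intro a ha
    have hcom : ∀ v, X.S.act a (X.S.act b v) = X.S.act b (X.S.act a v) := fun v => by
      rw [← X.S.act_mul (X.nW (hA ha)) (X.nZ (hA ha)) (X.nW (hA hb)) (X.nZ (hA hb)),
        ← X.S.act_mul (X.nW (hA hb)) (X.nZ (hA hb)) (X.nW (hA ha)) (X.nZ (hA ha)),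
        CfsgLib.Thompson.elab_commute hel ha hb]
    have hadd := X.S.act_add (X.nW (hA hb)) (X.nZ (hA hb))
    have haddA := X.S.act_add (X.nW (hA ha)) (X.nZ (hA ha))
    obtain ⟨s₁, s₂, hs⟩ := hspan (X.S.act a v₀)
    obtain ⟨r₁, r₂, hr⟩ := hspan (X.S.act a u)
    have h1 := hcom v₀
    rw [hbv, hs, haddA, hr, hs, hadd, hlin b hb, hlin b hb, hbu, hbv] at h1
    obtain ⟨e1, e2⟩ := hcoord (r₁ + s₁) (r₂ + s₂) (s₁ + s₂) s₂ (by
      rw [add_smul, add_smul, add_smul, add_add_add_comm, h1, smul_add, add_assoc])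
    have hr2 : r₂ = 0 := add_eq_right.1 e2
    rw [hr2, zero_smul, add_zero] at hr
    have hr1 : r₁ = s₂ := by linear_combination e1
    have h2 := hquad a ha u
    rw [hr, show (r₁ • u - u : Fin 2 → F) = (r₁ - 1) • u by rw [sub_smul, one_smul], hlin a ha, hr,
      smul_smul, ← sub_eq_zero, ← sub_smul, smul_eq_zero] at h2
    have hr11 : r₁ = 1 := by
      have := h2.resolve_right hu
      have h3 : (r₁ - 1) * (r₁ - 1) = 0 := by linear_combination this
      exact sub_eq_zero.1 (mul_self_eq_zero.1 h3)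
    exact ⟨s₁, by rw [hr, hr11, one_smul], by rw [hs, ← hr1, hr11, one_smul]⟩
  choose! t ht using hex
  refine ⟨u, v₀, t, hu, hspan, fun a ha x y => ?_, fun v hv => ?_⟩
  · rw [X.S.act_add (X.nW (hA ha)) (X.nZ (hA ha)), hlin a ha, hlin a ha, (ht a ha).1, (ht a ha).2,
      smul_add, smul_smul, mul_comm y (t a), add_smul, add_assoc]
  · obtain ⟨x, y, rfl⟩ := hspan v
    have := hv b hb
    rw [X.S.act_add (X.nW (hA hb)) (X.nZ (hA hb)), hlin b hb, hlin b hb, hbu, hbv, smul_add,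
      ← add_assoc, ← add_smul] at this
    obtain ⟨e1, -⟩ := hcoord _ _ _ _ this
    exact ⟨x, by rw [add_eq_left.1 e1, zero_smul, add_zero]⟩

theorem Fx_card_le {A : Subgroup G} (hA : A ≤ normalizer (E : Set G)) :
    Nat.card ↥(Fx X.facts A) ≤ Nat.card ↥(WEm p E ⊓ Zm p E) *
      Nat.card {v : Fin 2 → F // ∀ a ∈ A, X.S.act a v = v} :=
  card_le_mul (p := p) (E := E) X.S.f
    (fun a ha b hb => X.S.map_mul a (WE_le_W E ha) b (WE_le_W E hb))
    (fun a ha => X.S.zero a (WE_le_W E ha)) (Fx X.facts A) (Fx_le X.facts A) _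
    fun w hw a ha => X.fixed_of_mem_Z (hA ha) (WE_le_W E hw.1) (hw.2 a ha)

theorem WE_card_ge : Nat.card ↥(WEm p E ⊓ Zm p E) * (Fintype.card F * Fintype.card F) ≤
    Nat.card ↥(WEm p E) := by
  have := card_mul_le_card (p := p) (E := E) X.S.f
    (fun a ha b hb => X.S.map_mul a (WE_le_W E ha) b (WE_le_W E hb))
    (fun a ha => X.S.zero a (WE_le_W E ha)) (fun _ => True) fun x _ => X.surj_WE x
  rwa [Nat.card_congr (Equiv.subtypeUnivEquiv fun _ => trivial), Nat.card_fun, Nat.card_fin,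
    pow_two, Nat.card_eq_fintype_card (α := F)] at this

/-- An offender acts linearly. -/
theorem lin_of_le {A : Subgroup G} (hA : A ≤ normalizer (E : Set G))
    (hel : Cfsg.IsElementaryAbelian p A)
    (hoff : Fintype.card F * Fintype.card F * Nat.card ↥(A ⊓ Cm p E) ≤
      Nat.card A * Nat.card {v : Fin 2 → F // ∀ a ∈ A, X.S.act a v = v}) :
    ∀ a ∈ A, Lin (X.S.act a) := by
  obtain ⟨g, hg, hexp, hker⟩ := X.exists_actionHom hA hel
  have hfix : Nat.card {v : Fin 2 → F // ∀ a ∈ A, X.S.act a v = v} =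
      Nat.card {v : Fin 2 → F // ∀ a, g a v = v} := Nat.card_congr (Equiv.subtypeEquivRight fun v =>
    ⟨fun h a => (hg a v).trans (h a a.2), fun h a ha => (hg ⟨a, ha⟩ v).symm.trans (h ⟨a, ha⟩)⟩)
  letI iC : CommGroup ↥A :=
    { A.toGroup with
      mul_comm := fun a b => Subtype.ext (CfsgLib.Thompson.elab_commute hel a.2 b.2) }
  have hlin := linear_of_offender X.char g hexp (fun (a : ↥A) => by
    obtain ⟨σ, hσ⟩ := X.semilinear (hA a.2)
    exact ⟨σ, fun c v => by rw [hg, hg, hσ]⟩) (by rw [hker, ← hfix]; exact hoff)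
  intro a ha c v
  rw [← hg ⟨a, ha⟩, ← hg ⟨a, ha⟩]
  exact hlin _ c v

/-- The offender bound. -/
theorem bound {A : Subgroup G} (hA : A ≤ normalizer (E : Set G))
    (hel : Cfsg.IsElementaryAbelian p A) :
    Nat.card A * Nat.card ↥(Fx X.facts A) ≤
      Nat.card ↥(WEm p E) * Nat.card ↥(A ⊓ Cm p E) := by
  classical
  set q := Fintype.card F
  set fix := Nat.card {v : Fin 2 → F // ∀ a ∈ A, X.S.act a v = v}
  have key : Nat.card A * fix ≤ q * q * Nat.card ↥(A ⊓ Cm p E) := by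
    by_contra hlt
    have hlin := X.lin_of_le hA hel (not_le.1 hlt).le
    by_cases hne : A ≤ Cm p E
    · refine hlt ?_
      rw [inf_eq_left.2 hne, mul_comm]
      refine Nat.mul_le_mul_right _ ?_
      calc fix ≤ Nat.card (Fin 2 → F) :=
            Nat.card_le_card_of_injective _ Subtype.val_injective
        _ = q * q := by rw [Nat.card_fun, Nat.card_fin, pow_two, Nat.card_eq_fintype_card]
    obtain ⟨u, v₀, t, hu, hspan, hact, hline⟩ := X.frame_of_linear hA hel hlin hne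
    have hfix : fix ≤ q := by
      choose c hc using fun v : {v : Fin 2 → F // ∀ a ∈ A, X.S.act a v = v} => hline v v.2
      calc fix ≤ Nat.card F := Nat.card_le_card_of_injective c fun v w e =>
            Subtype.ext (by rw [hc, hc, e])
        _ = q := Nat.card_eq_fintype_card
    have hcardA : Nat.card A ≤ Nat.card ↥(A ⊓ Cm p E) * q := by
      rw [show q = Nat.card F from Nat.card_eq_fintype_card.symm, ← Nat.card_prod]
      have hrep : ∀ a : ↥A, ∃ r : ↥A, t r = t a := fun a => ⟨a, rfl⟩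
      let rep : F → ↥A := fun x =>
        if h : ∃ r : ↥A, t r = x then h.choose else 1
      have hrep' : ∀ a : ↥A, t (rep (t a)) = t a := fun a => by
        simp only [rep]
        rw [dif_pos (hrep a)]
        exact (hrep a).choose_spec
      refine Nat.card_le_card_of_injective (fun a : ↥A =>
        ((⟨(rep (t a) : G)⁻¹ * a, Subgroup.mem_inf.2 ⟨mul_mem (inv_mem (rep (t a)).2) a.2,
          X.top_of_id (hA (mul_mem (inv_mem (rep (t a)).2) a.2)) fun v => ?_⟩⟩ :
            ↥(A ⊓ Cm p E)), t a)) fun a b e => ?_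
      · set r := rep (t a)
        obtain ⟨x, y, rfl⟩ := hspan v
        have hr := hA r.2
        rw [X.S.act_mul (X.nW (inv_mem hr)) (X.nZ (inv_mem hr)) (X.nW (hA a.2)) (X.nZ (hA a.2)),
          hact a a.2, show t a = t r from (hrep' a).symm, ← hact r r.2,
          ← X.S.act_mul (X.nW (inv_mem hr)) (X.nZ (inv_mem hr)) (X.nW hr) (X.nZ hr),
          inv_mul_cancel, X.S.act_one]
      · have e1 := congrArg (fun q => ((q.1 : ↥(A ⊓ Cm p E)) : G)) e
        have e2 := congrArg Prod.snd e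
        dsimp only at e1 e2
        rw [e2] at e1
        exact Subtype.ext (mul_left_cancel e1)
    exact hlt ((Nat.mul_le_mul hcardA hfix).trans (le_of_eq (by ring)))
  calc Nat.card A * Nat.card ↥(Fx X.facts A)
      ≤ Nat.card A * (Nat.card ↥(WEm p E ⊓ Zm p E) * fix) :=
        Nat.mul_le_mul_left _ (X.Fx_card_le hA)
    _ = Nat.card ↥(WEm p E ⊓ Zm p E) * (Nat.card A * fix) := by ring
    _ ≤ Nat.card ↥(WEm p E ⊓ Zm p E) * (q * q * Nat.card ↥(A ⊓ Cm p E)) :=
        Nat.mul_le_mul_left _ key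
    _ = Nat.card ↥(WEm p E ⊓ Zm p E) * (q * q) * Nat.card ↥(A ⊓ Cm p E) := by ring
    _ ≤ _ := Nat.mul_le_mul_right _ X.WE_card_ge

theorem lin_of_offender {A : Subgroup G} (hA : A ≤ normalizer (E : Set G))
    (hel : Cfsg.IsElementaryAbelian p A)
    (hoff : Nat.card ↥(WEm p E) * Nat.card ↥(A ⊓ Cm p E) ≤
      Nat.card A * Nat.card ↥(Fx X.facts A)) :
    ∀ a ∈ A, Lin (X.S.act a) := by
  refine X.lin_of_le hA hel (Nat.le_of_mul_le_mul_left ?_
    (Nat.card_pos (α := ↥(WEm p E ⊓ Zm p E))))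
  calc Nat.card ↥(WEm p E ⊓ Zm p E) *
        (Fintype.card F * Fintype.card F * Nat.card ↥(A ⊓ Cm p E))
      = Nat.card ↥(WEm p E ⊓ Zm p E) * (Fintype.card F * Fintype.card F) *
        Nat.card ↥(A ⊓ Cm p E) := by ring
    _ ≤ Nat.card ↥(WEm p E) * Nat.card ↥(A ⊓ Cm p E) := Nat.mul_le_mul_right _ X.WE_card_ge
    _ ≤ Nat.card A * Nat.card ↥(Fx X.facts A) := hoff
    _ ≤ Nat.card A * (Nat.card ↥(WEm p E ⊓ Zm p E) *
        Nat.card {v : Fin 2 → F // ∀ a ∈ A, X.S.act a v = v}) :=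
      Nat.mul_le_mul_left _ (X.Fx_card_le hA)
    _ = _ := by ring

/-- An element of `E` fixing what an offender fixes acts as an element of the offender. -/
theorem mem_AC_of_fix {A : Subgroup G} (hA : A ≤ normalizer (E : Set G))
    (hel : Cfsg.IsElementaryAbelian p A) (hne : ¬ A ≤ Cm p E)
    (hoff : Nat.card ↥(WEm p E) * Nat.card ↥(A ⊓ Cm p E) ≤
      Nat.card A * Nat.card ↥(Fx X.facts A)) {e : G} (he : e ∈ E)
    (hfix : ∀ w ∈ Fx X.facts A, e * w * e⁻¹ * w⁻¹ ∈ Zm p E) : ∃ a ∈ A, a⁻¹ * e ∈ Cm p E := by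
  classical
  set q := Fintype.card F
  have hlin := X.lin_of_offender hA hel hoff
  obtain ⟨u, v₀, t, hu, hspan, hact, hline⟩ := X.frame_of_linear hA hel hlin hne
  have hau : ∀ a ∈ A, ∀ x : F, X.S.act a (x • u) = x • u := fun a ha x => by
    have := hact a ha x 0
    rwa [mul_zero, add_zero, zero_smul, add_zero] at this
  -- every parameter occurs
  let T : ↥A →* Multiplicative F :=
    MonoidHom.mk' (fun a => Multiplicative.ofAdd (t a)) fun a b => by
      rw [← ofAdd_add]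
      congr 1
      have h1 := hact _ (mul_mem a.2 b.2) 0 1
      rw [X.S.act_mul (X.nW (hA a.2)) (X.nZ (hA a.2)) (X.nW (hA b.2)) (X.nZ (hA b.2)),
        hact b b.2, hact a a.2, mul_one, mul_one, mul_one, zero_add, zero_add] at h1
      have h2 := add_right_cancel h1
      rw [← sub_eq_zero, ← sub_smul, smul_eq_zero] at h2
      have := h2.resolve_right hu
      show t ((a : G) * b) = _
      linear_combination -this
  have hker : Nat.card T.ker ≤ Nat.card ↥(A ⊓ Cm p E) := by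
    refine Nat.card_le_card_of_injective (fun a => (⟨((a : ↥A) : G), (a : ↥A).2,
      X.top_of_id (hA (a : ↥A).2) fun v => ?_⟩ : ↥(A ⊓ Cm p E))) fun a b e =>
        Subtype.ext (Subtype.ext (congrArg (fun x : ↥(A ⊓ Cm p E) => (x : G)) e))
    obtain ⟨x, y, rfl⟩ := hspan v
    have h0 : t ((a : ↥A) : G) = 0 := Multiplicative.ofAdd.injective a.2
    rw [hact _ (a : ↥A).2, h0, zero_mul, add_zero]
  have hfixle : Nat.card {v : Fin 2 → F // ∀ a ∈ A, X.S.act a v = v} ≤ q := by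
    choose c hc using fun v : {v : Fin 2 → F // ∀ a ∈ A, X.S.act a v = v} => hline v v.2
    calc Nat.card {v : Fin 2 → F // ∀ a ∈ A, X.S.act a v = v} ≤ Nat.card F :=
          Nat.card_le_card_of_injective c fun v w e => Subtype.ext (by rw [hc, hc, e])
      _ = q := Nat.card_eq_fintype_card
  have hsurj : Function.Surjective T := by
    have hA' : Nat.card A = Nat.card T.range * Nat.card T.ker := by
      rw [T.ker.card_eq_card_quotient_mul_card_subgroup,
        Nat.card_congr (QuotientGroup.quotientKerEquivRange T).toEquiv]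
    have h1 : Nat.card ↥(WEm p E ⊓ Zm p E) * (q * q) * Nat.card ↥(A ⊓ Cm p E) ≤
        Nat.card ↥(WEm p E ⊓ Zm p E) * (q * Nat.card T.range) * Nat.card ↥(A ⊓ Cm p E) := by
      calc Nat.card ↥(WEm p E ⊓ Zm p E) * (q * q) * Nat.card ↥(A ⊓ Cm p E)
          ≤ Nat.card ↥(WEm p E) * Nat.card ↥(A ⊓ Cm p E) := Nat.mul_le_mul_right _ X.WE_card_ge
        _ ≤ Nat.card A * Nat.card ↥(Fx X.facts A) := hoff
        _ ≤ Nat.card T.range * Nat.card ↥(A ⊓ Cm p E) *
            (Nat.card ↥(WEm p E ⊓ Zm p E) * q) := by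
          rw [hA']
          exact Nat.mul_le_mul (Nat.mul_le_mul_left _ hker)
            ((X.Fx_card_le hA).trans (Nat.mul_le_mul_left _ hfixle))
        _ = _ := by ring
    have h2 := Nat.le_of_mul_le_mul_left (Nat.le_of_mul_le_mul_left
      (Nat.le_of_mul_le_mul_right h1 Nat.card_pos) Nat.card_pos) Fintype.card_pos
    refine MonoidHom.range_eq_top.1 (eq_top_of_le_card _ ?_)
    rw [Nat.card_congr Multiplicative.toAdd, Nat.card_eq_fintype_card]
    exact h2
  -- `e` is a transvection with the same line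
  have heN : e ∈ normalizer (E : Set G) := le_normalizer he
  have heu : ∀ x : F, X.S.act e (x • u) = x • u := fun x => by
    obtain ⟨w, hw, hwv⟩ := X.surj_WE (x • u)
    rw [← hwv]
    refine X.fixed_of_mem_Z heN (WE_le_W E hw) (hfix w ⟨hw, fun a ha => ?_⟩)
    exact X.mem_Z_of_fixed (hA ha) (WE_le_W E hw) (by rw [hwv]; exact hau a ha x)
  set m := X.S.ρ ⟨e, he⟩
  have hev : ∀ v, X.S.act e v = (m : Matrix (Fin 2) (Fin 2) F).mulVec v := fun v =>
    X.S.act_of_mem ⟨e, he⟩ (X.nZ heN) v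
  obtain ⟨s₁, s₂, hs⟩ := hspan (X.S.act e v₀)
  have hdet : det2 (X.S.act e u) (X.S.act e v₀) = det2 u v₀ := by
    rw [hev, hev]; exact det2_mulVec m u v₀
  have hne0 : det2 u v₀ ≠ 0 := fun h0 => by
    refine hu (funext fun i => ?_)
    have hz : ∀ w : Fin 2 → F, det2 u w = 0 := fun w => by
      obtain ⟨x, y, rfl⟩ := hspan w
      simp only [det2, Pi.add_apply, Pi.smul_apply, smul_eq_mul] at h0 ⊢
      linear_combination y * h0
    fin_cases i
    · simpa [det2] using hz ![0, 1]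
    · simpa [det2] using hz ![-1, 0]
  have hs2 : s₂ = 1 := by
    rw [show X.S.act e u = u by simpa using heu 1, hs] at hdet
    simp only [det2, Pi.add_apply, Pi.smul_apply, smul_eq_mul] at hdet hne0
    exact mul_left_cancel₀ hne0 (by linear_combination hdet)
  obtain ⟨a, ha⟩ := hsurj (Multiplicative.ofAdd s₁)
  have hta : t a = s₁ := Multiplicative.ofAdd.injective ha
  have haN := hA a.2
  refine ⟨a, a.2, X.top_of_id (mul_mem (inv_mem haN) heN) fun v => ?_⟩
  obtain ⟨x, y, rfl⟩ := hspan v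
  have e1 : X.S.act e (x • u + y • v₀) = X.S.act a (x • u + y • v₀) := by
    rw [hact a a.2, X.S.act_add (X.nW heN) (X.nZ heN), heu, hev (y • v₀), Matrix.mulVec_smul,
      ← hev, hs, hs2, hta, one_smul, smul_add, smul_smul, mul_comm s₁ y, add_smul, add_assoc]
  rw [X.S.act_mul (X.nW (inv_mem haN)) (X.nZ (inv_mem haN)) (X.nW heN) (X.nZ heN), e1,
    ← X.S.act_mul (X.nW (inv_mem haN)) (X.nZ (inv_mem haN)) (X.nW haN) (X.nZ haN), inv_mul_cancel,
    X.S.act_one]

/-- `W_E ∩ Z = 1`, unless `p = 2` and `F` is bigger. -/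
theorem WE_inf_Z (hc : p ≠ 2 ∨ ¬ ∃ t : F, t ≠ 0 ∧ t * t ≠ 1) : WEm p E ⊓ Zm p E = ⊥ := by
  classical
  obtain ⟨j, m, hmR, hmj, hmc, hmf, hjp⟩ : ∃ (j : ℕ) (m : SL F), m ∈ R F ∧ m ^ j = 1 ∧
      (∀ r ∈ R F, r * m = m * r) ∧
      (∀ v, (m : Matrix (Fin 2) (Fin 2) F).mulVec v = v → v = 0) ∧ j.Coprime p := by
    by_cases hp2 : p = 2
    · subst hp2
      obtain ⟨m, h1, h2, h3, h4⟩ := exists_central_two (by exact_mod_cast X.char)
        (hc.resolve_left (not_not.2 rfl))
      exact ⟨3, m, h1, h2, h3, h4, by norm_num⟩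
    · refine ⟨2, -1, neg_one_mem (X.good (Or.inl hp2)), neg_one_sq,
        fun r _ => Subtype.ext (by simp), fun v hv => ?_,
        (Nat.coprime_primes Nat.prime_two hp.out).2 (Ne.symm hp2)⟩
      rw [neg_one_mulVec] at hv
      have h2 : (2 : F) ≠ 0 := fun h2 => hp2 (by
        haveI : CharP F p := (CharP.charP_iff_prime_eq_zero hp.out).2 X.char
        exact (Nat.prime_dvd_prime_iff_eq hp.out Nat.prime_two).1
          ((CharP.cast_eq_zero_iff F p 2).1 (by exact_mod_cast h2)))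
      funext i
      have := congrFun hv i
      rw [Pi.neg_apply] at this
      exact (mul_eq_zero.1 (show (2 : F) * v i = 0 by linear_combination -this)).resolve_left h2
  obtain ⟨e, he⟩ := X.S.exists_pre m hmR
  have hQfix : ∀ x : ↥E, X.S.ρ x = 1 → ∀ w ∈ Wm p E, (x : G) * w * (x : G)⁻¹ = w := fun x hx w hw => by
    have hxQ : (x : G) ∈ Cfsg.pCoreOf p E := X.facts.ker x x.2 fun v hv =>
      X.mem_Z_of_fixed (le_normalizer x.2) hv (by
        rw [X.S.act_of_mem x (X.nZ (le_normalizer x.2)), hx, Matrix.SpecialLinearGroup.coe_one,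
          Matrix.one_mulVec])
    rw [W_comm hw hxQ, mul_inv_cancel_right]
  have heN : (e : G) ∈ normalizer (E : Set G) := le_normalizer e.2
  have hej : ∀ w ∈ Wm p E, (e : G) ^ j * w * ((e : G) ^ j)⁻¹ = w := fun w hw => by
    have := hQfix (e ^ j) (by rw [map_pow, he, hmj]) w hw
    rwa [Subgroup.coe_pow] at this
  -- the commutators with `e`
  let N : Subgroup G :=
    { carrier := {x | ∃ w ∈ Wm p E, x = (e : G) * w * (e : G)⁻¹ * w⁻¹}
      one_mem' := ⟨1, one_mem _, by simp⟩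
      mul_mem' := by
        rintro _ _ ⟨w, hw, rfl⟩ ⟨w', hw', rfl⟩
        refine ⟨w * w', mul_mem hw hw', ?_⟩
        rw [show (e : G) * (w * w') * (e : G)⁻¹ * (w * w')⁻¹ =
          (e : G) * w * (e : G)⁻¹ * ((e : G) * w' * (e : G)⁻¹ * w'⁻¹ * w⁻¹) by group,
          X.facts.W_commute (mul_mem (X.hW heN hw') (inv_mem hw')) (inv_mem hw)]
        simp only [mul_assoc]
      inv_mem' := by
        rintro _ ⟨w, hw, rfl⟩
        refine ⟨w⁻¹, inv_mem hw, ?_⟩
        rw [show (e : G) * w⁻¹ * (e : G)⁻¹ * w⁻¹⁻¹ = ((e : G) * w * (e : G)⁻¹)⁻¹ * w by group,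
          X.facts.W_commute (inv_mem (X.hW heN hw)) hw]
        group }
  have hNinv : ∀ g ∈ E, ∀ x ∈ N, g * x * g⁻¹ ∈ N := by
    rintro g hg _ ⟨w, hw, rfl⟩
    have hgN : g ∈ normalizer (E : Set G) := le_normalizer hg
    refine ⟨g * w * g⁻¹, X.hW hgN hw, ?_⟩
    have h1 := hQfix (e⁻¹ * ⟨g, hg⟩⁻¹ * e * ⟨g, hg⟩) (by
      rw [map_mul, map_mul, map_mul, map_inv, map_inv, he, mul_assoc, mul_assoc,
        ← hmc _ (X.S.range.le ⟨_, rfl⟩), inv_mul_cancel_left, inv_mul_cancel]) w hw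
    simp only [Subgroup.coe_mul, Subgroup.coe_inv] at h1
    have e2 : g⁻¹ * (e : G) * g * w * (g⁻¹ * (e : G) * g)⁻¹ = (e : G) * w * (e : G)⁻¹ := by
      conv_rhs => rw [← h1]
      group
    calc g * ((e : G) * w * (e : G)⁻¹ * w⁻¹) * g⁻¹ =
          g * (g⁻¹ * (e : G) * g * w * (g⁻¹ * (e : G) * g)⁻¹) * g⁻¹ * (g * w⁻¹ * g⁻¹) := by
            rw [e2]; group
      _ = _ := by group
  have hNZ : ∀ x ∈ N, x ∈ Zm p E → x = 1 := by
    rintro _ ⟨w, hw, rfl⟩ hxZ
    set δ := (e : G) * w * (e : G)⁻¹ * w⁻¹ with hδ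
    have hd := X.facts.Z_fix hxZ e.2
    have hstep : ∀ k : ℕ, (e : G) ^ k * w * ((e : G) ^ k)⁻¹ = δ ^ k * w := by
      intro k
      induction k with
      | zero => simp
      | succ k ih =>
        rw [show (e : G) ^ (k + 1) * w * ((e : G) ^ (k + 1))⁻¹ =
          (e : G) * ((e : G) ^ k * w * ((e : G) ^ k)⁻¹) * (e : G)⁻¹ by rw [pow_succ']; group, ih,
          show (e : G) * (δ ^ k * w) * (e : G)⁻¹ =
            ((e : G) * δ * (e : G)⁻¹) ^ k * ((e : G) * w * (e : G)⁻¹) by rw [conj_pow]; group, hd,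
          show (e : G) * w * (e : G)⁻¹ = δ * w by rw [hδ, inv_mul_cancel_right], ← mul_assoc,
          ← pow_succ]
    have h1 := hstep j
    rw [hej w hw, eq_comm, mul_eq_right] at h1
    have h2 : δ ^ p = 1 := (CfsgLib.Baumann.exponent_omegaOneCenter (X := Cfsg.pCoreOf p E)).2 δ hxZ.1
    rw [← pow_one δ, ← hjp.gcd_eq_one]
    exact pow_gcd_eq_one.2 ⟨h1, h2⟩
  have hcover : ∀ w ∈ Wm p E, ∃ x ∈ N, x⁻¹ * w ∈ Zm p E := by
    intro w hw
    -- `m - 1` is invertible
    have hinj : Function.Injective (fun v : Fin 2 → F => (m : Matrix (Fin 2) (Fin 2) F).mulVec v - v) :=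
      fun v v' h => sub_eq_zero.1 (hmf _ (by
        rw [Matrix.mulVec_sub, ← sub_eq_zero,
          show ∀ a b c d : Fin 2 → F, a - b - (c - d) = (a - c) - (b - d) from fun a b c d => by abel]
        exact sub_eq_zero.2 h))
    obtain ⟨v, hv⟩ := (Finite.injective_iff_surjective.1 hinj) (X.S.f w)
    obtain ⟨w', hw', rfl⟩ := X.S.surj v
    refine ⟨_, ⟨w', hw', rfl⟩, (X.S.eq_iff (mul_mem (X.hW heN hw') (inv_mem hw')) hw).1 ?_⟩
    rw [X.S.map_comm hw', he]
    exact hv
  refine (Subgroup.eq_bot_iff_forall _).2 fun x hx => hNZ x ?_ hx.2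
  have hle : WEm p E ≤ N := by
    show ⁅Wm p E, E⁆ ≤ N
    rw [Subgroup.commutator_le]
    intro w hw g hg
    obtain ⟨y, hy, hyZ⟩ := hcover w hw
    set z := y⁻¹ * w with hz
    rw [commutatorElement_def,
      show w * g * w⁻¹ * g⁻¹ = y * ((z * g) * z⁻¹ * y⁻¹ * g⁻¹) by rw [hz]; group,
      X.facts.Z_commute hyZ hg, mul_inv_cancel_right]
    exact mul_mem hy (hNinv g hg _ (inv_mem hy))
  exact hle hx.1

end LData

end CfsgLib.BlockLinear
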