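import Cfsg.Agent.LocalB.BlockJ

/-!
Subnormal blocks are blocks for every Sylow subgroup and absorb or commute with all blocks.
-/

set_option autoImplicit false
set_option linter.style.haveILetI false
set_option linter.unusedSectionVars false

namespace CfsgLib.BlockMain

open Subgroup CfsgLib.Functor CfsgLib.BlockModule CfsgLib.BlockBasic CfsgLib.BlockCore
  CfsgLib.BlockTypes CfsgLib.BlockConj CfsgLib.BlockOrbit
open scoped CfsgLib.Functor commutatorElement

universe u

variable {G : Type u} [Group G] [Finite G] {p : ℕ} [hp : Fact p.Prime]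

theorem cj_baumannSubgroup_le (g : G) :
    g ⋆ Cfsg.baumannSubgroup p G ≤ Cfsg.baumannSubgroup p G := by
  rw [Cfsg.baumannSubgroup, Subgroup.map_iSup]
  refine iSup_le fun S => ?_
  rw [CfsgLib.Baumann.cj_baumann]
  exact le_iSup (fun T : Sylow p G => Cfsg.baumannSubgroupOf p (T : Subgroup G)) (g • S)

theorem baumannSubgroup_normal : (Cfsg.baumannSubgroup p G).Normal :=
  ⟨fun _ hn g => cj_baumannSubgroup_le g (conj_mem_cj hn)⟩

theorem baumann_le_baumannSubgroup (T : Sylow p G) :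
    Cfsg.baumannSubgroupOf p (T : Subgroup G) ≤ Cfsg.baumannSubgroup p G :=
  le_iSup (fun T : Sylow p G => Cfsg.baumannSubgroupOf p (T : Subgroup G)) T

theorem block_le_baumannSubgroup {T : Sylow p G} {F : Subgroup G}
    (hF : Cfsg.IsBaumannBlock p (T : Subgroup G) F) : F ≤ Cfsg.baumannSubgroup p G := by
  rw [← hF.2.1, Subgroup.commutator_le]
  intro a _ b hb
  have hb' := baumann_le_baumannSubgroup T hb
  rw [commutatorElement_def]
  exact mul_mem ((baumannSubgroup_normal (p := p)).conj_mem b hb' a) (inv_mem hb')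

theorem baumann_eq_of_le (T S : Sylow p G)
    (h : Cfsg.baumannSubgroupOf p (T : Subgroup G) ≤ (S : Subgroup G)) :
    Cfsg.baumannSubgroupOf p (T : Subgroup G) = Cfsg.baumannSubgroupOf p (S : Subgroup G) := by
  obtain ⟨g, hg⟩ := CfsgLib.Baumann.exists_cj_sylow T S
  have hJ := CfsgLib.Baumann.thompson_eq_of_le T S
    ((CfsgLib.Baumann.thompson_le_baumann _).trans h)
  refine eq_of_le_of_card_le' (le_inf h ?_) ?_
  · unfold Cfsg.baumannSubgroupOf Cfsg.centerThompsonOf
    rw [← hJ]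
    exact inf_le_right
  · rw [← hg, ← CfsgLib.Baumann.cj_baumann, card_cj]

/-- A product over an orbit of conjugates. -/
theorem exists_orbit_product {P E V : Subgroup G} {x : G}
    (hVel : Cfsg.IsElementaryAbelian p V) (hV : ∀ g : G, g ∈ normalizer (V : Set G))
    (hx : x ∈ V) (hxE : x ∉ centralizer (E : Set G))
    (hfix : ∀ s ∈ P, s ⋆ E = E → s * x * s⁻¹ = x)
    (hother : ∀ t ∈ P, t ⋆ E ≠ E → t * x * t⁻¹ ∈ centralizer (E : Set G)) :
    ∃ y ∈ V, (∀ t ∈ P, t * y * t⁻¹ = y) ∧ y ∉ centralizer (E : Set G) := by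
  classical
  set Ω := {D : Subgroup G // ∃ t ∈ P, t ⋆ E = D}
  haveI : Finite (Subgroup G) := Finite.of_injective SetLike.coe SetLike.coe_injective
  haveI : Fintype Ω := Fintype.ofFinite _
  choose r hr hrE using fun D : Ω => D.2
  letI : CommGroup ↥V :=
    { V.toGroup with
      mul_comm := fun a b => Subtype.ext (CfsgLib.Thompson.elab_commute hVel a.2 b.2) }
  let xD : Ω → ↥V := fun D => ⟨r D * x * (r D)⁻¹, (mem_normalizer_iff.1 (hV _) x).1 hx⟩
  set y : ↥V := ∏ D, xD D with hy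
  have hval : ∀ (t : G) (ht : t ∈ P) (D : Ω), ((xD ⟨t ⋆ E, t, ht, rfl⟩ : ↥V) : G) =
      t * x * t⁻¹ ∧ D.1 = r D ⋆ E := fun t ht D => ⟨by
    set D₀ : Ω := ⟨t ⋆ E, t, ht, rfl⟩
    show r D₀ * x * (r D₀)⁻¹ = _
    have hs : (t⁻¹ * r D₀) * x * (t⁻¹ * r D₀)⁻¹ = x := hfix _ (mul_mem (inv_mem ht) (hr D₀))
      (by rw [← cj_cj, hrE D₀, cj_inv_cj])
    conv_rhs => rw [← hs]
    group, (hrE D).symm⟩
  refine ⟨y, y.2, fun t ht => ?_, fun hyC => hxE ?_⟩
  · let φ : ↥V →* ↥V := MonoidHom.mk'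
      (fun v => ⟨t * v * t⁻¹, (mem_normalizer_iff.1 (hV t) v).1 v.2⟩)
      fun a b => Subtype.ext (by
        show t * ((a : G) * b) * t⁻¹ = t * a * t⁻¹ * (t * b * t⁻¹)
        group)
    let e : Ω ≃ Ω :=
      { toFun := fun D => ⟨t ⋆ D.1, t * r D, mul_mem ht (hr D), by rw [← cj_cj, hrE]⟩
        invFun := fun D => ⟨t⁻¹ ⋆ D.1, t⁻¹ * r D, mul_mem (inv_mem ht) (hr D), by
          rw [← cj_cj, hrE]⟩
        left_inv := fun D => Subtype.ext (cj_inv_cj t D.1)
        right_inv := fun D => Subtype.ext (cj_cj_inv t D.1) }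
    have h1 : φ y = y := by
      rw [hy, map_prod]
      refine Fintype.prod_equiv e _ _ fun D => Subtype.ext ?_
      have h2 : e D = ⟨(t * r D) ⋆ E, t * r D, mul_mem ht (hr D), rfl⟩ :=
        Subtype.ext ((congrArg (fun H => t ⋆ H) (hrE D)).symm.trans (cj_cj t (r D) E))
      rw [h2, (hval _ (mul_mem ht (hr D)) D).1]
      show t * (r D * x * (r D)⁻¹) * t⁻¹ = _
      group
    exact congrArg Subtype.val h1
  · set D₀ : Ω := ⟨(1 : G) ⋆ E, 1, P.one_mem, rfl⟩
    have hrest : ((∏ D ∈ Finset.univ.erase D₀, xD D : ↥V) : G) ∈ centralizer (E : Set G) := by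
      refine Subgroup.mem_subgroupOf.1 (?_ : _ ∈ (centralizer (E : Set G)).subgroupOf V)
      refine Subgroup.prod_mem _ fun D hD => Subgroup.mem_subgroupOf.2 ?_
      refine hother (r D) (hr D) fun e => (Finset.mem_erase.1 hD).1 (Subtype.ext ?_)
      show D.1 = (1 : G) ⋆ E
      rw [cj_one, ← hrE D, e]
    have e0 : ((xD D₀ : ↥V) : G) = x := by
      rw [(hval 1 P.one_mem D₀).1]; group
    rw [hy, ← Finset.mul_prod_erase _ _ (Finset.mem_univ D₀), Subgroup.coe_mul, e0] at hyC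
    have h3 := mul_mem hyC (inv_mem hrest)
    rwa [mul_inv_cancel_right] at h3

section

variable (hG : centralizer (Cfsg.pCore p G : Set G) ≤ Cfsg.pCore p G) {T : Sylow p G}
  {E : Subgroup G} (hE : Cfsg.IsBaumannBlock p (T : Subgroup G) E) (hs : E.IsSubnormal)

include hG hE hs

theorem omega_ne {T'' : Sylow p G}
    (hB : Cfsg.baumannSubgroupOf p (T'' : Subgroup G) =
      Cfsg.baumannSubgroupOf p (T : Subgroup G)) :
    ⁅E, Cfsg.omegaOneCenter p (T'' : Subgroup G)⁆ ≠ ⊥ := by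
  intro hbot
  haveI : (Cfsg.pCore p G).Normal := CfsgLib.Solvable.pCore_normal p
  set V := Vm p G
  have hVn : ∀ g : G, g ∈ normalizer (V : Set G) := fun g =>
    CfsgLib.Baumann.normalizer_le_normalizer_omegaOneCenter _
      (le_normalizer_of_normal (H := Cfsg.pCore p G) (mem_top g))
  have hblk := CfsgLib.Baumann.blk_of_isBaumannBlock hE
  have hJ := CfsgLib.BlockJ.thompson_le_normalizer hG hE hs T''
  have hJeq : Cfsg.thompsonSubgroupOf p (T'' : Subgroup G) =
      Cfsg.thompsonSubgroupOf p (T : Subgroup G) := CfsgLib.Baumann.thompson_eq_of_le T'' T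
    ((CfsgLib.Baumann.thompson_le_baumann _).trans (hB.le.trans (CfsgLib.Baumann.baumann_le _)))
  have hJne : ⁅WEm p E, Cfsg.thompsonSubgroupOf p (T'' : Subgroup G)⁆ ≠ ⊥ := by
    rw [hJeq]; exact CfsgLib.Baumann.commutator_W_thompson_ne hG T hblk
  obtain ⟨x, hxW, hxZ, hfix⟩ := exists_fixed hG hE T'' hJ hJne
    (S := (T'' : Subgroup G) ⊓ normalizer (E : Set G)) (T''.2.to_le inf_le_left) inf_le_right
    (fun g hg => by
      rw [mem_normalizer_iff_cj, CfsgLib.Baumann.cj_thompson, cj_eq_self_of_mem hg.1])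
  obtain ⟨y, hy, hyfix, hyE⟩ := exists_orbit_product (P := (T'' : Subgroup G)) (E := E)
    CfsgLib.Baumann.exponent_omegaOneCenter hVn (WE_le_V hG hE hxW)
    (fun hc => hxZ (mem_Z_of_centralizes hxW hc))
    (fun s hsP hsE => hfix s (Subgroup.mem_inf.2 ⟨hsP, mem_normalizer_iff_cj.2 hsE⟩))
    (fun t _ hne => WE_le_centralizer (facts' hG hE t)
      (by rw [commutator_comm]; exact (conjugates hG hE hs t).resolve_left hne)
      ((cj_WEm t E).le (conj_mem_cj hxW)))
  refine hyE (mem_centralizer_iff.2 fun e he => ?_)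
  rw [commutator_eq_bot_iff_le_centralizer] at hbot
  refine (mem_centralizer_iff.1 (hbot he) y ?_).symm
  refine CfsgLib.Thompson.mem_omegaOne ⟨CfsgLib.Fitting.pCore_le_sylow T''
    (CfsgLib.Thompson.omegaOne_le _ hy).1, mem_centralizer_iff.2 fun t ht => ?_⟩
    (CfsgLib.Baumann.exponent_omegaOneCenter.2 y hy)
  exact mul_inv_eq_iff_eq_mul.1 (hyfix t ht)

theorem isBlock_every (T' : Sylow p G) : Cfsg.IsBaumannBlock p (T' : Subgroup G) E := by
  set BG := Cfsg.baumannSubgroup p G with hBG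
  haveI : BG.Normal := baumannSubgroup_normal
  have hsyl : ∀ S : Sylow p G, IsSylowIn p ((S : Subgroup G) ⊓ BG) BG := fun S =>
    (isSylowIn_top S).inf_normal le_top le_normalizer_of_normal
  obtain ⟨h, hh, hhT⟩ := (hsyl T).exists_cj_eq (hsyl T')
  have hEh : h ⋆ E = E :=
    mem_normalizer_iff_cj.1 (CfsgLib.BlockJ.baumannSubgroup_le_normalizer hG hE hs hh)
  set T'' : Sylow p G := h • T'
  have hT'' : (T'' : Subgroup G) = h ⋆ (T' : Subgroup G) := rfl
  have hle : Cfsg.baumannSubgroupOf p (T'' : Subgroup G) ≤ (T : Subgroup G) := by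
    rw [hT'', ← CfsgLib.Baumann.cj_baumann]
    calc h ⋆ Cfsg.baumannSubgroupOf p (T' : Subgroup G) ≤ h ⋆ ((T' : Subgroup G) ⊓ BG) :=
          cj_mono h (le_inf (CfsgLib.Baumann.baumann_le _) (baumann_le_baumannSubgroup T'))
      _ = (T : Subgroup G) ⊓ BG := hhT
      _ ≤ _ := inf_le_left
  have hB := baumann_eq_of_le T'' T hle
  have hne := omega_ne hG hE hs hB
  have h'' : Cfsg.IsBaumannBlock p (T'' : Subgroup G) E := by
    obtain ⟨h1, h2, h3, -, h5⟩ := hE
    exact ⟨h1, by rw [hB]; exact h2, h3, hne, by rw [hB]; exact h5⟩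
  have := CfsgLib.BlockTransport.isBaumannBlock_cj h⁻¹ h''
  rwa [hT'', cj_inv_cj, show h⁻¹ ⋆ E = E by
    conv_lhs => rw [← hEh]
    rw [cj_inv_cj]] at this

/-- Every block lies in `E` or commutes with it. -/
theorem absorb {T' : Sylow p G} {F : Subgroup G}
    (hF : Cfsg.IsBaumannBlock p (T' : Subgroup G) F) : F ≤ E ∨ ⁅F, E⁆ = ⊥ :=
  CfsgLib.BlockCompare.le_or_commute hG hE hs hF
    ((block_le_baumannSubgroup hF).trans
      (CfsgLib.BlockJ.baumannSubgroup_le_normalizer hG hE hs))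
    (CfsgLib.BlockJ.baumann_le_normalizer hG hE hs T')

end

end CfsgLib.BlockMain
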