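import Cfsg.Prelude.Def_BaumannBlocks
import Mathlib.FieldTheory.Finite.Basic
import Mathlib.LinearAlgebra.Matrix.Notation
import Mathlib.GroupTheory.SpecificGroups.Alternating
import Mathlib.Tactic.LinearCombination
import Mathlib.Tactic.FieldSimp

/-!
Irreducibility of the natural modules in the definition of a block: the derived group of `SL₂(F)` on
`F²` and the alternating group on the even-weight vectors, with its consequence for sections.
-/

set_option autoImplicit false
set_option linter.style.haveILetI false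

namespace CfsgLib.BlockModule

open Subgroup Matrix
open scoped commutatorElement

variable {F : Type*} [Field F]

abbrev SL (F : Type*) [Field F] := Matrix.SpecialLinearGroup (Fin 2) F

def up (x : F) : SL F := ⟨!![1, x; 0, 1], by simp [Matrix.SpecialLinearGroup.coe_mul, Matrix.det_fin_two]⟩

def lo (x : F) : SL F := ⟨!![1, 0; x, 1], by simp [Matrix.SpecialLinearGroup.coe_mul, Matrix.det_fin_two]⟩

def dg (t : F) (ht : t ≠ 0) : SL F := ⟨!![t, 0; 0, t⁻¹], by simp [Matrix.SpecialLinearGroup.coe_mul, Matrix.det_fin_two, ht]⟩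

theorem coe_up (x : F) : (up x : Matrix (Fin 2) (Fin 2) F) = !![1, x; 0, 1] := rfl

theorem coe_lo (x : F) : (lo x : Matrix (Fin 2) (Fin 2) F) = !![1, 0; x, 1] := rfl

theorem coe_dg (t : F) (ht : t ≠ 0) :
    (dg t ht : Matrix (Fin 2) (Fin 2) F) = !![t, 0; 0, t⁻¹] := rfl

theorem up_inv (x : F) : (up x)⁻¹ = up (-x) := by
  refine inv_eq_of_mul_eq_one_right (Subtype.ext ?_)
  ext i j
  fin_cases i <;> fin_cases j <;> simp [Matrix.SpecialLinearGroup.coe_mul, Matrix.mul_apply, Fin.sum_univ_two, coe_up]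

theorem lo_inv (x : F) : (lo x)⁻¹ = lo (-x) := by
  refine inv_eq_of_mul_eq_one_right (Subtype.ext ?_)
  ext i j
  fin_cases i <;> fin_cases j <;> simp [Matrix.SpecialLinearGroup.coe_mul, Matrix.mul_apply, Fin.sum_univ_two, coe_lo]

theorem dg_inv (t : F) (ht : t ≠ 0) : (dg t ht)⁻¹ = dg t⁻¹ (inv_ne_zero ht) := by
  refine inv_eq_of_mul_eq_one_right (Subtype.ext ?_)
  ext i j
  fin_cases i <;> fin_cases j <;> simp [Matrix.SpecialLinearGroup.coe_mul, Matrix.mul_apply, Fin.sum_univ_two, coe_dg, ht]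

theorem comm_dg_up (t : F) (ht : t ≠ 0) (y : F) :
    ⁅dg t ht, up y⁆ = up ((t * t - 1) * y) := by
  rw [commutatorElement_def, dg_inv, up_inv]
  refine Subtype.ext ?_
  ext i j
  fin_cases i <;> fin_cases j <;> simp [Matrix.SpecialLinearGroup.coe_mul, Matrix.mul_apply, Fin.sum_univ_two, coe_dg, coe_up, ht] <;> ring

theorem comm_dg_lo (t : F) (ht : t ≠ 0) (y : F) :
    ⁅dg t ht, lo y⁆ = lo ((t⁻¹ * t⁻¹ - 1) * y) := by
  rw [commutatorElement_def, dg_inv, lo_inv]
  refine Subtype.ext ?_
  ext i j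
  fin_cases i <;> fin_cases j <;> simp [Matrix.SpecialLinearGroup.coe_mul, Matrix.mul_apply, Fin.sum_univ_two, coe_dg, coe_lo, ht] <;> ring

theorem up_mem {t : F} (ht : t ≠ 0) (ht2 : t * t ≠ 1) (x : F) : up x ∈ commutator (SL F) := by
  have h : up x = ⁅dg t ht, up ((t * t - 1)⁻¹ * x)⁆ := by
    rw [comm_dg_up, ← mul_assoc, mul_inv_cancel₀ (sub_ne_zero.2 ht2), one_mul]
  rw [h, _root_.commutator_def]
  exact commutator_mem_commutator (mem_top _) (mem_top _)

theorem lo_mem {t : F} (ht : t ≠ 0) (ht2 : t * t ≠ 1) (x : F) : lo x ∈ commutator (SL F) := by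
  have h2 : t⁻¹ * t⁻¹ ≠ 1 := by
    rw [← mul_inv, Ne, inv_eq_one]; exact ht2
  have h : lo x = ⁅dg t ht, lo ((t⁻¹ * t⁻¹ - 1)⁻¹ * x)⁆ := by
    rw [comm_dg_lo, ← mul_assoc, mul_inv_cancel₀ (sub_ne_zero.2 h2), one_mul]
  rw [h, _root_.commutator_def]
  exact commutator_mem_commutator (mem_top _) (mem_top _)

/-- The derived group of `SL₂(F)` leaves no nontrivial additive subgroup of `F²` invariant. -/
theorem eq_top_of_invariant [Fintype F] (S : AddSubgroup (Fin 2 → F))
    (hS : ∀ r ∈ commutator (SL F), ∀ v ∈ S, (r : Matrix (Fin 2) (Fin 2) F).mulVec v ∈ S)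
    (hne : S ≠ ⊥) : S = ⊤ := by
  classical
  obtain ⟨v, hv, hv0⟩ : ∃ v ∈ S, v ≠ 0 := by
    by_contra hno
    push Not at hno
    exact hne ((AddSubgroup.eq_bot_iff_forall S).2 hno)
  by_cases hbig : ∃ t : F, t ≠ 0 ∧ t * t ≠ 1
  · obtain ⟨t, ht, ht2⟩ := hbig
    have hup : ∀ w ∈ S, ∀ x : F, ![x * w 1, 0] ∈ S := fun w hw x => by
      have h := S.sub_mem (hS _ (up_mem ht ht2 x) w hw) hw
      convert h using 1
      funext i; fin_cases i <;> simp [Matrix.SpecialLinearGroup.coe_mul, coe_up, Matrix.mulVec, dotProduct, Fin.sum_univ_two]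
    have hlo : ∀ w ∈ S, ∀ x : F, ![0, x * w 0] ∈ S := fun w hw x => by
      have h := S.sub_mem (hS _ (lo_mem ht ht2 x) w hw) hw
      convert h using 1
      funext i; fin_cases i <;> simp [Matrix.SpecialLinearGroup.coe_mul, coe_lo, Matrix.mulVec, dotProduct, Fin.sum_univ_two]
    obtain ⟨w, hw, hw1⟩ : ∃ w ∈ S, w 1 ≠ 0 := by
      by_cases h1 : v 1 = 0
      · have h0 : v 0 ≠ 0 := fun h0 => hv0 (funext fun i => by fin_cases i <;> assumption)
        exact ⟨_, hlo v hv 1, by simpa using h0⟩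
      · exact ⟨v, hv, h1⟩
    have he0 : ∀ x : F, ![x, 0] ∈ S := fun x => by
      have := hup w hw (x * (w 1)⁻¹)
      rwa [mul_assoc, inv_mul_cancel₀ hw1, mul_one] at this
    refine eq_top_iff.2 fun u _ => ?_
    have h2 : ![0, u 1] ∈ S := by simpa using hlo _ (he0 1) (u 1)
    convert S.add_mem (he0 (u 0)) h2 using 1
    funext i; fin_cases i <;> simp
  · push Not at hbig
    -- the field has 2 or 3 elements
    have hsmall : ∀ x : F, x = 0 ∨ x = 1 ∨ x = -1 := fun x => by
      rcases eq_or_ne x 0 with h | h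
      · exact Or.inl h
      · exact Or.inr (mul_self_eq_one_iff.1 (hbig x h))
    have hsmul : ∀ w ∈ S, ∀ x : F, x • w ∈ S := fun w hw x => by
      rcases hsmall x with rfl | rfl | rfl
      · rw [zero_smul]; exact S.zero_mem
      · rwa [one_smul]
      · rw [neg_one_smul]; exact S.neg_mem hw
    set M : SL F := ⁅up (1 : F), lo (1 : F)⁆ with hMdef
    have hM : M ∈ commutator (SL F) := by
      rw [_root_.commutator_def]; exact commutator_mem_commutator (mem_top _) (mem_top _)
    have hMv : ![3 * v 0 - v 1, v 0] ∈ S := by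
      convert hS M hM v hv using 1
      funext i
      fin_cases i <;>
        simp [Matrix.SpecialLinearGroup.coe_mul, M, commutatorElement_def, up_inv, lo_inv, coe_up, coe_lo, Matrix.mulVec, dotProduct,
          Fin.sum_univ_two] <;> ring
    have hd : v 0 * v 0 - (3 * v 0 - v 1) * v 1 ≠ 0 := by
      intro h0
      rcases eq_or_ne (v 1) 0 with h1 | h1
      · rw [h1, mul_zero, sub_zero, mul_self_eq_zero] at h0
        exact hv0 (funext fun i => by fin_cases i <;> assumption)
      · set x := v 0 * (v 1)⁻¹ with hx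
        have hv0x : v 0 = x * v 1 := by rw [hx, mul_assoc, inv_mul_cancel₀ h1, mul_one]
        rw [hv0x] at h0
        have h2 : (x * x - 3 * x + 1) * (v 1 * v 1) = 0 := by linear_combination h0
        rcases mul_eq_zero.1 h2 with h3 | h3
        · rcases hsmall x with e | e | e <;> rw [e] at h3
          · exact one_ne_zero (by linear_combination h3)
          · exact one_ne_zero (by linear_combination -h3)
          · rcases hsmall 2 with e2 | e2 | e2
            · exact one_ne_zero (show (1 : F) = 0 by linear_combination h3 - 2 * e2)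
            · exact one_ne_zero (show (1 : F) = 0 by linear_combination e2)
            · exact one_ne_zero (show (1 : F) = 0 by linear_combination 2 * e2 - h3)
        · exact h1 (mul_self_eq_zero.1 h3)
    refine eq_top_iff.2 fun u _ => ?_
    set d := v 0 * v 0 - (3 * v 0 - v 1) * v 1
    convert S.add_mem (hsmul _ hv ((u 0 * v 0 - u 1 * (3 * v 0 - v 1)) * d⁻¹))
      (hsmul _ hMv ((u 1 * v 0 - u 0 * v 1) * d⁻¹)) using 1
    funext i
    fin_cases i <;> simp <;> field_simp <;> ring

/-- The alternating group leaves no nontrivial subgroup of the even-weight module invariant. -/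
theorem perm_mem_of_invariant {n : ℕ} (hn : Odd n) (hn3 : 3 ≤ n)
    (S : AddSubgroup (Fin n → ZMod 2))
    (hS : ∀ σ ∈ alternatingGroup (Fin n), ∀ v ∈ S, (fun i => v (σ⁻¹ i)) ∈ S)
    (heven : ∀ v ∈ S, ∑ i, v i = 0) (hne : ∃ v ∈ S, v ≠ 0) (u : Fin n → ZMod 2)
    (hu : ∑ i, u i = 0) : u ∈ S := by
  classical
  have h01 : ∀ x : ZMod 2, x = 0 ∨ x = 1 := by decide
  have hcyc : ∀ {a b c : Fin n}, a ≠ b → a ≠ c → b ≠ c →
      Equiv.swap a b * Equiv.swap a c ∈ alternatingGroup (Fin n) := fun hab hac hbc =>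
    (Equiv.Perm.isThreeCycle_swap_mul_swap_same hab hac hbc).mem_alternatingGroup
  have hinv : ∀ (a b c x : Fin n), (Equiv.swap a b * Equiv.swap a c)⁻¹ x =
      Equiv.swap a c (Equiv.swap a b x) := fun a b c x => by
    rw [_root_.mul_inv_rev, Equiv.swap_inv, Equiv.swap_inv, Equiv.Perm.mul_apply]
  let P : Fin n → Fin n → Prop := fun a b => (Pi.single a (1 : ZMod 2) + Pi.single b 1) ∈ S
  have hsymm : ∀ {a b}, P a b → P b a := fun {a b} h => by
    show Pi.single b (1 : ZMod 2) + Pi.single a 1 ∈ S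
    rwa [add_comm]
  have hstep : ∀ {a b c}, a ≠ b → a ≠ c → b ≠ c → P a b → P c a := by
    intro a b c hab hac hbc h
    have := hS _ (hcyc hab hac hbc) _ h
    show Pi.single c (1 : ZMod 2) + Pi.single a 1 ∈ S
    convert this using 1
    funext x
    rw [hinv a b c x]
    simp only [Pi.add_apply, Pi.single_apply, Equiv.swap_apply_def]
    split_ifs <;> simp_all [CharTwo.add_self_eq_zero]
  obtain ⟨v, hv, hv0⟩ := hne
  obtain ⟨i, hi⟩ : ∃ i, v i = 1 := by
    by_contra hno
    push Not at hno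
    exact hv0 (funext fun i => (h01 (v i)).resolve_right (hno i))
  obtain ⟨j, hj⟩ : ∃ j, v j = 0 := by
    by_contra hno
    push Not at hno
    have h1 : ∑ l, v l = (n : ZMod 2) := by
      rw [Finset.sum_congr rfl fun l _ => (h01 (v l)).resolve_left (hno l)]
      simp
    rw [heven v hv] at h1
    obtain ⟨m, rfl⟩ := hn
    push_cast at h1
    rw [show (2 : ZMod 2) = 0 from rfl, zero_mul, zero_add] at h1
    exact zero_ne_one h1
  have hij : i ≠ j := fun e => zero_ne_one (hj.symm.trans (e ▸ hi))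
  obtain ⟨k, hki, hkj⟩ : ∃ k : Fin n, k ≠ i ∧ k ≠ j := by
    by_contra hno
    push Not at hno
    have hsub : (Finset.univ : Finset (Fin n)) ⊆ {i, j} := fun k _ => by
      by_cases hk : k = i <;> simp [Matrix.SpecialLinearGroup.coe_mul, hk]
      exact hno k hk
    have h := Finset.card_le_card hsub
    rw [Finset.card_univ, Fintype.card_fin] at h
    have := Finset.card_le_two (a := i) (b := j)
    omega
  -- a vector of weight two
  obtain ⟨a, b, hab, hP⟩ : ∃ a b, a ≠ b ∧ P a b := by
    have hw := S.add_mem hv (hS _ (hcyc hij hki.symm hkj.symm) v hv)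
    rcases h01 (v k) with hk | hk
    · refine ⟨i, k, hki.symm, ?_⟩
      show Pi.single i (1 : ZMod 2) + Pi.single k 1 ∈ S
      convert hw using 1
      funext x
      simp only [Pi.add_apply, Pi.single_apply, hinv i j k x]
      simp only [Equiv.swap_apply_def]
      split_ifs <;> simp_all [CharTwo.add_self_eq_zero]
    · refine ⟨j, i, hij.symm, ?_⟩
      show Pi.single j (1 : ZMod 2) + Pi.single i 1 ∈ S
      convert hw using 1
      funext x
      simp only [Pi.add_apply, Pi.single_apply, hinv i j k x]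
      simp only [Equiv.swap_apply_def]
      split_ifs <;> simp_all [CharTwo.add_self_eq_zero]
  have hall : ∀ c d, c ≠ d → P c d := by
    intro c d hcd
    have ha : ∀ c, c ≠ a → P a c := by
      intro c hca
      rcases eq_or_ne c b with rfl | hcb
      · exact hP
      · exact hsymm (hstep hab (Ne.symm hca) (Ne.symm hcb) hP)
    rcases eq_or_ne c a with rfl | hca
    · exact ha d (Ne.symm hcd)
    rcases eq_or_ne d a with rfl | hda
    · exact hsymm (ha c hcd)
    exact hsymm (hstep hca hcd (Ne.symm hda) (hsymm (ha c hca)))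
  have hsum : ∑ l, u l • (Pi.single l (1 : ZMod 2) + Pi.single a 1) ∈ S := by
    refine S.sum_mem fun l _ => ?_
    rcases h01 (u l) with h | h <;> rw [h]
    · rw [zero_smul]; exact S.zero_mem
    · rw [one_smul]
      rcases eq_or_ne l a with rfl | hla
      · convert S.zero_mem using 1
        funext x
        exact CharTwo.add_self_eq_zero _
      · exact hall l a hla
  convert hsum using 1
  funext x
  simp only [Finset.sum_apply, Pi.smul_apply, Pi.add_apply, smul_eq_mul, mul_add,
    Finset.sum_add_distrib, Pi.single_apply, mul_ite, mul_one, mul_zero]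
  rw [Finset.sum_ite_eq]
  rcases eq_or_ne x a with rfl | hxa
  · simp [Matrix.SpecialLinearGroup.coe_mul, hu]
  · simp [Matrix.SpecialLinearGroup.coe_mul, hxa]

/-- The irreducibility hypothesis on a section `W / Z` for `E`. -/
def Irred {G : Type*} [Group G] (E W Z : Subgroup G) : Prop :=
  ∀ U : Subgroup G, Z ≤ U → U ≤ W → E ≤ normalizer (U : Set G) → U = Z ∨ U = W

theorem irred_of_linear {G : Type*} [Group G] {F : Type*} [Field F] [Fintype F] {E W Z : Subgroup G}
    (h : Cfsg.ActsAsSL2OnSection F (commutator (SL F)) E W Z) :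
    Irred E W Z ∧ ¬ W ≤ Z := by
  obtain ⟨hEW, hZW, ρ, ψ, hR, hψ, hker, hact⟩ := h
  refine ⟨fun U hZU hUW hEU => ?_, fun hle => ?_⟩
  · let S : AddSubgroup (Fin 2 → F) :=
      { carrier := {v | ∃ u : ↥W, (u : G) ∈ U ∧ Multiplicative.toAdd (ψ u) = v}
        add_mem' := by
          rintro _ _ ⟨u, hu, rfl⟩ ⟨v, hv, rfl⟩
          exact ⟨u * v, mul_mem hu hv, by rw [map_mul]; rfl⟩
        zero_mem' := ⟨1, one_mem _, by rw [map_one]; rfl⟩
        neg_mem' := by
          rintro _ ⟨u, hu, rfl⟩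
          exact ⟨u⁻¹, inv_mem hu, by rw [map_inv]; rfl⟩ }
    by_cases hS : S = ⊥
    · left
      refine le_antisymm (fun x hx => ?_) hZU
      have hm : Multiplicative.toAdd (ψ ⟨x, hUW hx⟩) ∈ S := ⟨_, hx, rfl⟩
      rw [hS, AddSubgroup.mem_bot] at hm
      exact (hker _).1 (Multiplicative.toAdd.injective hm)
    · right
      have htop := eq_top_of_invariant S (fun r hr v hv => by
        obtain ⟨u, hu, rfl⟩ := hv
        obtain ⟨e, rfl⟩ := hR.ge hr
        obtain ⟨w, hw, hwv⟩ := hact e u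
        exact ⟨w, hw ▸ (mem_normalizer_iff.1 (hEU e.2) _).1 hu, hwv⟩) hS
      refine le_antisymm hUW fun x hx => ?_
      obtain ⟨u, hu, he⟩ : Multiplicative.toAdd (ψ ⟨x, hx⟩) ∈ S := htop ▸ AddSubgroup.mem_top _
      have h1 : ψ (u⁻¹ * ⟨x, hx⟩) = 1 := by
        rw [map_mul, map_inv, Multiplicative.toAdd.injective he, inv_mul_cancel]
      have h2 := mul_mem hu (hZU ((hker _).1 h1))
      simpa using h2
  · obtain ⟨u, hu⟩ := hψ (Multiplicative.ofAdd ![(1 : F), 0])
    have h1 := (hker u).2 (hle u.2)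
    rw [hu] at h1
    have := congrArg (fun v : Multiplicative (Fin 2 → F) => Multiplicative.toAdd v 0) h1
    simp at this

theorem irred_of_perm {G : Type*} [Group G] {n : ℕ} (hn : Odd n) (hn3 : 3 ≤ n)
    {E W Z : Subgroup G}
    (h : Cfsg.ActsAsOddPermModuleOnSection n (alternatingGroup (Fin n)) E W Z) :
    Irred E W Z ∧ ¬ W ≤ Z := by
  classical
  obtain ⟨hEW, hZW, ρ, ψ, hR, heven, hψ, hker, hact⟩ := h
  refine ⟨fun U hZU hUW hEU => ?_, fun hle => ?_⟩
  · let S : AddSubgroup (Fin n → ZMod 2) :=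
      { carrier := {v | ∃ u : ↥W, (u : G) ∈ U ∧ Multiplicative.toAdd (ψ u) = v}
        add_mem' := by
          rintro _ _ ⟨u, hu, rfl⟩ ⟨v, hv, rfl⟩
          exact ⟨u * v, mul_mem hu hv, by rw [map_mul]; rfl⟩
        zero_mem' := ⟨1, one_mem _, by rw [map_one]; rfl⟩
        neg_mem' := by
          rintro _ ⟨u, hu, rfl⟩
          exact ⟨u⁻¹, inv_mem hu, by rw [map_inv]; rfl⟩ }
    by_cases hS : ∃ v ∈ S, v ≠ 0
    · right
      refine le_antisymm hUW fun x hx => ?_
      have hm := perm_mem_of_invariant hn hn3 S (fun σ hσ v hv => by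
        obtain ⟨u, hu, rfl⟩ := hv
        obtain ⟨e, rfl⟩ := hR.ge hσ
        obtain ⟨w, hw, hwv⟩ := hact e u
        exact ⟨w, hw ▸ (mem_normalizer_iff.1 (hEU e.2) _).1 hu, funext hwv⟩)
        (fun v hv => by obtain ⟨u, -, rfl⟩ := hv; exact heven u) hS
        (Multiplicative.toAdd (ψ ⟨x, hx⟩)) (heven _)
      obtain ⟨u, hu, he⟩ := hm
      have h1 : ψ (u⁻¹ * ⟨x, hx⟩) = 1 := by
        rw [map_mul, map_inv, Multiplicative.toAdd.injective he, inv_mul_cancel]
      have h2 := mul_mem hu (hZU ((hker _).1 h1))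
      simpa using h2
    · left
      push Not at hS
      refine le_antisymm (fun x hx => ?_) hZU
      exact (hker _).1 (Multiplicative.toAdd.injective (hS _ ⟨⟨x, hUW hx⟩, hx, rfl⟩))
  · obtain ⟨a, b, hab⟩ : ∃ a b : Fin n, a ≠ b :=
      ⟨⟨0, by omega⟩, ⟨1, by omega⟩, by simp [Matrix.SpecialLinearGroup.coe_mul, Fin.ext_iff]⟩
    obtain ⟨u, hu⟩ := hψ (Pi.single a 1 + Pi.single b 1) (by
      simp only [Pi.add_apply, Finset.sum_add_distrib, Finset.sum_pi_single', Finset.mem_univ,
        if_true]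
      decide)
    have h1 := (hker u).2 (hle u.2)
    rw [h1, toAdd_one] at hu
    have := congrFun hu a
    simp [Matrix.SpecialLinearGroup.coe_mul, hab] at this

end CfsgLib.BlockModule
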