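import Cfsg.Agent.LocalB.BlockExcLinear

/-!
`C_G(W_E)` normalizes a block `E`, and `E` centralizes it modulo its `p`-core.
-/

set_option autoImplicit false

namespace CfsgLib.BlockNorm

open Subgroup CfsgLib.BlockBasic
open scoped commutatorElement

universe u

variable {G : Type u} [Group G] [Finite G] {p : ℕ} [hp : Fact p.Prime]

theorem comm_mem_P (hG : centralizer (Cfsg.pCore p G : Set G) ≤ Cfsg.pCore p G) {T : Sylow p G}
    {E : Subgroup G} (hE : Cfsg.IsBaumannBlock p (T : Subgroup G) E) :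
    ∀ e ∈ E, ∀ c ∈ Cm p E, e * c * e⁻¹ * c⁻¹ ∈ Pm p E := by
  have hB := CfsgLib.Baumann.blk_of_isBaumannBlock hE
  intro e he c hc
  by_cases hle : ⁅Pm p E, E⁆ ≤ Wm p E
  · exact comm_mem_P_of_le hG hB hle he hc
  have hne : ¬ Cfsg.pCoreOf p E ≤ Wm p E := fun h => hle ((comm_P_E_le hG hB).trans h)
  obtain ⟨rfl, hex⟩ := CfsgLib.BlockExc.exists_exc hE hne
  obtain ⟨F, iF, iFt, ⟨X⟩⟩ := hex T rfl
  letI := iF
  letI := iFt
  exact X.comm_mem_P hG hle he hc

theorem C_le_normalizer (hG : centralizer (Cfsg.pCore p G : Set G) ≤ Cfsg.pCore p G) {T : Sylow p G}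
    {E : Subgroup G} (hE : Cfsg.IsBaumannBlock p (T : Subgroup G) E) :
    Cm p E ≤ normalizer (E : Set G) :=
  C_le_normalizer_of_comm hG (CfsgLib.Baumann.blk_of_isBaumannBlock hE) (comm_mem_P hG hE)

end CfsgLib.BlockNorm
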