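import Cfsg.Agent.LocalB.BlockConj

/-!
All conjugates of a subnormal block are equal or commute.
-/

set_option autoImplicit false
set_option linter.style.haveILetI false
set_option linter.unusedSectionVars false

namespace CfsgLib.BlockOrbit

open Subgroup CfsgLib.Functor CfsgLib.BlockModule CfsgLib.BlockBasic CfsgLib.BlockCore
  CfsgLib.BlockSection CfsgLib.BlockSL2 CfsgLib.BlockLinearSL CfsgLib.BlockLinear
  CfsgLib.BlockTypes CfsgLib.BlockConj
open scoped CfsgLib.Functor commutatorElement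

universe u

variable {G : Type u} [Group G] [Finite G] {p : ℕ} [hp : Fact p.Prime]

theorem cj_Zm (g : G) (E : Subgroup G) : g ⋆ Zm p E = Zm p (g ⋆ E) := by
  rw [Zm, Zm, cj_inf, cj_centralizer, Wm, Wm, CfsgLib.Baumann.cj_omegaOneCenter,
    CfsgLib.BlockTransport.cj_pCoreOf]

theorem WE_le_centralizer {D D' : Subgroup G} (h : Facts p D') (hc : ⁅D, D'⁆ = ⊥) :
    WEm p D' ≤ centralizer (D : Set G) := by
  rw [commutator_comm, commutator_eq_bot_iff_le_centralizer] at hc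
  exact fun x hx => hc (h.W_le_E (WE_le_W D' hx))

theorem mem_Z_of_centralizes {D : Subgroup G} {w : G} (hw : w ∈ WEm p D)
    (hc : w ∈ centralizer (D : Set G)) : w ∈ Zm p D :=
  Subgroup.mem_inf.2 ⟨WE_le_W D hw, hc⟩

theorem cj_bot (g : G) : g ⋆ (⊥ : Subgroup G) = ⊥ := Subgroup.map_bot _

section

variable (hG : centralizer (Cfsg.pCore p G : Set G) ≤ Cfsg.pCore p G) {T T' : Sylow p G}
  {D : Subgroup G} (hD : Cfsg.IsBaumannBlock p (T : Subgroup G) D) (g : G)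
  (hF : Cfsg.IsBaumannBlock p (T' : Subgroup G) (g ⋆ D))

include hG hD

theorem WE_le_V : WEm p D ≤ Vm p G := WE_le_O hG (CfsgLib.Baumann.blk_of_isBaumannBlock hD)

theorem WE_le_V' (x : G) : WEm p (x ⋆ D) ≤ Vm p G := by
  obtain ⟨T₁, -, h⟩ := exists_cj_block x hD
  exact WE_le_O hG (CfsgLib.Baumann.blk_of_isBaumannBlock h)

theorem facts' (x : G) : Facts p (x ⋆ D) := by
  obtain ⟨T₁, -, h⟩ := exists_cj_block x hD
  exact facts_of_block h

include hF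

theorem commutator_mem {f v : G} (hf : f ∈ g ⋆ D) (hv : v ∈ Vm p G) :
    f * v * f⁻¹ * v⁻¹ ∈ WEm p (g ⋆ D) := by
  have := inv_mem ((comm_V_le hF) (commutator_mem_commutator hv hf))
  rwa [show ⁅v, f⁆⁻¹ = f * v * f⁻¹ * v⁻¹ by rw [commutatorElement_def]; group] at this

/-- No `p'`-element of a conjugate block has a longer orbit. -/
theorem no_long_orbit {f : G} (hf : f ∈ g ⋆ D) (hco : (orderOf f).Coprime p)
    (h12 : ⁅D, f ⋆ D⁆ = ⊥) (h13 : ⁅D, (f * f) ⋆ D⁆ = ⊥) : False := by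
  haveI : (Cfsg.pCore p G).Normal := CfsgLib.Solvable.pCore_normal p
  set F := g ⋆ D
  set V := Vm p G
  have hVel : Cfsg.IsElementaryAbelian p V := CfsgLib.Baumann.exponent_omegaOneCenter
  have hVn : ∀ x : G, x ∈ normalizer (V : Set G) := fun x =>
    CfsgLib.Baumann.normalizer_le_normalizer_omegaOneCenter _
      (le_normalizer_of_normal (H := Cfsg.pCore p G) (mem_top x))
  have h23 : ⁅f ⋆ D, (f * f) ⋆ D⁆ = ⊥ := by
    rw [← cj_cj, ← cj_commutator, h12, cj_bot]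
  have hfD := facts' hG hD f
  have hV1 := WE_le_V hG hD
  have hV2 := WE_le_V' hG hD f
  have hvc : ∀ {a b : G}, a ∈ V → b ∈ V → a * b = b * a := fun {_ _} ha hb =>
    CfsgLib.Thompson.elab_commute hVel ha hb
  have hfV : ∀ {a : G}, a ∈ V → f * a * f⁻¹ ∈ V := fun {a} ha =>
    (mem_normalizer_iff.1 (hVn f) a).1 ha
  let Φ : ↥(WEm p D) × ↥(WEm p (f ⋆ D)) →* G :=
    MonoidHom.mk' (fun w => f * ((w.1 : G) * w.2) * f⁻¹ * ((w.1 : G) * w.2)⁻¹) fun a b => by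
      have ha := mul_mem (hV1 a.1.2) (hV2 a.2.2)
      have hb := mul_mem (hV1 b.1.2) (hV2 b.2.2)
      simp only [Prod.fst_mul, Prod.snd_mul, Subgroup.coe_mul]
      rw [show (a.1 : G) * b.1 * ((a.2 : G) * b.2) = (a.1 : G) * a.2 * ((b.1 : G) * b.2) by
        rw [mul_assoc, ← mul_assoc (b.1 : G), hvc (hV1 b.1.2) (hV2 a.2.2), mul_assoc, ← mul_assoc]]
      set x := (a.1 : G) * a.2
      set y := (b.1 : G) * b.2
      rw [show f * (x * y) * f⁻¹ * (x * y)⁻¹ =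
        f * x * f⁻¹ * ((f * y * f⁻¹ * y⁻¹) * x⁻¹) by group,
        hvc (mul_mem (hfV hb) (inv_mem hb)) (inv_mem ha), ← mul_assoc]
  have hrange : Φ.range ≤ WEm p F := by
    rintro _ ⟨w, rfl⟩
    exact commutator_mem hG hD g hF hf (mul_mem (hV1 w.1.2) (hV2 w.2.2))
  have hZF : ∀ y ∈ Φ.range, y ∈ Zm p F → y = 1 := by
    rintro _ ⟨w, rfl⟩ hy
    have hwV := mul_mem (hV1 w.1.2) (hV2 w.2.2)
    exact comm_eq_one (CfsgLib.Thompson.elab_isPGroup hVel) hco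
      (mul_mem (hfV hwV) (inv_mem hwV)) ((facts_of_block hF).Z_commute hy hf).symm
  have hker : ∀ w, Φ w = 1 → (w.1 : G) ∈ WEm p D ⊓ Zm p D ∧
      (w.2 : G) ∈ WEm p (f ⋆ D) ⊓ Zm p (f ⋆ D) := by
    rintro ⟨⟨a, ha⟩, ⟨b, hb⟩⟩ h
    have heq : f * a * f⁻¹ * (f * b * f⁻¹) = a * b := by
      have : f * (a * b) * f⁻¹ * (a * b)⁻¹ = 1 := h
      rw [mul_inv_eq_one] at this
      rw [← this]; group
    have hfa : f * a * f⁻¹ ∈ WEm p (f ⋆ D) := (cj_WEm f D).le (conj_mem_cj ha)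
    have hfb : f * b * f⁻¹ ∈ WEm p ((f * f) ⋆ D) := by
      have := (cj_WEm f (f ⋆ D)).le (conj_mem_cj (g := f) hb)
      rwa [cj_cj] at this
    have h1 : a ∈ centralizer (D : Set G) := by
      rw [show a = f * a * f⁻¹ * (f * b * f⁻¹) * b⁻¹ by rw [heq]; group]
      exact mul_mem (mul_mem (WE_le_centralizer hfD h12 hfa)
        (WE_le_centralizer (facts' hG hD (f * f)) h13 hfb))
        (inv_mem (WE_le_centralizer hfD h12 hb))
    have h2 : f * b * f⁻¹ ∈ centralizer (((f * f) ⋆ D : Subgroup G) : Set G) := by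
      rw [show f * b * f⁻¹ = (f * a * f⁻¹)⁻¹ * (a * b) by rw [← heq]; group]
      have h31 : ⁅(f * f) ⋆ D, D⁆ = ⊥ := by rw [commutator_comm]; exact h13
      have h32 : ⁅(f * f) ⋆ D, f ⋆ D⁆ = ⊥ := by rw [commutator_comm]; exact h23
      exact mul_mem (inv_mem (WE_le_centralizer hfD h32 hfa))
        (mul_mem (WE_le_centralizer (facts_of_block hD) h31 ha) (WE_le_centralizer hfD h32 hb))
    have h3 : b ∈ centralizer ((f ⋆ D : Subgroup G) : Set G) := by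
      refine mem_centralizer_iff.2 fun x hx => ?_
      have hx' : f * x * f⁻¹ ∈ (f * f) ⋆ D := by rw [← cj_cj]; exact conj_mem_cj hx
      have h4 := mem_centralizer_iff.1 h2 _ hx'
      rw [show f * x * f⁻¹ * (f * b * f⁻¹) = f * (x * b) * f⁻¹ by group,
        show f * b * f⁻¹ * (f * x * f⁻¹) = f * (b * x) * f⁻¹ by group] at h4
      exact mul_left_cancel (mul_right_cancel h4)
    exact ⟨Subgroup.mem_inf.2 ⟨ha, mem_Z_of_centralizes ha h1⟩,
      Subgroup.mem_inf.2 ⟨hb, mem_Z_of_centralizes hb h3⟩⟩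
  -- count
  have hc1 : ∀ x : G, Nat.card ↥(WEm p (x ⋆ D)) = Nat.card ↥(WEm p D) := fun x => by
    rw [← cj_WEm, card_cj]
  have hc2 : ∀ x : G,
      Nat.card ↥(WEm p (x ⋆ D) ⊓ Zm p (x ⋆ D)) = Nat.card ↥(WEm p D ⊓ Zm p D) := fun x => by
    rw [← cj_WEm, ← cj_Zm, ← cj_inf, card_cj]
  set Z' := WEm p D ⊓ Zm p D
  have h1 : Nat.card Φ.range * Nat.card ↥Z' ≤ Nat.card ↥(WEm p D) := by
    rw [← hc1 g, ← hc2 g, ← Nat.card_prod]
    refine Nat.card_le_card_of_injective (fun q => (⟨(q.1 : G) * q.2,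
      mul_mem (hrange q.1.2) q.2.2.1⟩ : ↥(WEm p F))) fun q r e => ?_
    have e' : (q.1 : G) * q.2 = (r.1 : G) * r.2 := congrArg Subtype.val e
    have h0 : (r.1 : G)⁻¹ * q.1 = (r.2 : G) * (q.2 : G)⁻¹ := by
      rw [eq_mul_inv_iff_mul_eq, mul_assoc, inv_mul_eq_iff_eq_mul]
      exact e'
    have h1 := hZF _ (mul_mem (inv_mem r.1.2) q.1.2)
      (h0 ▸ mul_mem r.2.2.2 (inv_mem q.2.2.2))
    have hq : (r.1 : G) = q.1 := inv_mul_eq_one.1 h1
    rw [hq] at e'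
    exact Prod.ext (Subtype.ext hq.symm) (Subtype.ext (mul_left_cancel e'))
  have h2 : Nat.card Φ.ker ≤ Nat.card ↥Z' * Nat.card ↥Z' := by
    conv_rhs => arg 2; rw [← hc2 f]
    rw [← Nat.card_prod]
    exact Nat.card_le_card_of_injective (fun w => ((⟨_, (hker w.1 w.2).1⟩ : ↥Z'),
      (⟨_, (hker w.1 w.2).2⟩ : ↥(WEm p (f ⋆ D) ⊓ Zm p (f ⋆ D))))) fun a b e => by
        have e1 := congrArg (fun q => ((q.1 : ↥Z') : G)) e
        have e2 := congrArg
          (fun q => ((q.2 : ↥(WEm p (f ⋆ D) ⊓ Zm p (f ⋆ D))) : G)) e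
        exact Subtype.ext (Prod.ext (Subtype.ext e1) (Subtype.ext e2))
  have h3 : Nat.card Φ.range * Nat.card Φ.ker =
      Nat.card ↥(WEm p D) * Nat.card ↥(WEm p D) :=
    calc Nat.card Φ.range * Nat.card Φ.ker
        = Nat.card (↥(WEm p D) × ↥(WEm p (f ⋆ D))) := by
          rw [Φ.ker.card_eq_card_quotient_mul_card_subgroup,
            Nat.card_congr (QuotientGroup.quotientKerEquivRange Φ).toEquiv]
      _ = _ := by rw [Nat.card_prod, hc1 f]
  have hpos : 0 < Nat.card ↥Z' := Nat.card_pos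
  have hposW : 0 < Nat.card ↥(WEm p D) := Nat.card_pos
  have h4 : 4 * Nat.card ↥Z' ≤ Nat.card ↥(WEm p D) := (topFacts hD).four
  have h5 : Nat.card ↥(WEm p D) * Nat.card ↥(WEm p D) ≤
      Nat.card ↥(WEm p D) * Nat.card ↥Z' :=
    calc _ = Nat.card Φ.range * Nat.card Φ.ker := h3.symm
      _ ≤ Nat.card Φ.range * (Nat.card ↥Z' * Nat.card ↥Z') := Nat.mul_le_mul_left _ h2
      _ = Nat.card Φ.range * Nat.card ↥Z' * Nat.card ↥Z' := by ring
      _ ≤ _ := Nat.mul_le_mul_right _ h1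
  have h6 := Nat.le_of_mul_le_mul_left h5 hposW
  omega

variable (hz : WEm p D ⊓ Zm p D = ⊥)

include hz

theorem eq_one_of_centralizes {x w : G} (hw : w ∈ WEm p (x ⋆ D))
    (hc : w ∈ centralizer ((x ⋆ D : Subgroup G) : Set G)) : w = 1 := by
  have h : w ∈ WEm p (x ⋆ D) ⊓ Zm p (x ⋆ D) :=
    Subgroup.mem_inf.2 ⟨hw, mem_Z_of_centralizes hw hc⟩
  rwa [← cj_WEm, ← cj_Zm, ← cj_inf, hz, cj_bot, mem_bot] at h

/-- Two `p'`-elements do not produce a third conjugate. -/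
theorem no_third {f f' x : G} (hf : f ∈ g ⋆ D) (hf' : f' ∈ g ⋆ D) (h12 : ⁅D, f ⋆ D⁆ = ⊥)
    (h13 : ⁅D, (f' * x) ⋆ D⁆ = ⊥) (h23 : ⁅f ⋆ D, (f' * x) ⋆ D⁆ = ⊥)
    (hx : x ⋆ D = D ∨ x ⋆ D = f ⋆ D) : False := by
  haveI : (Cfsg.pCore p G).Normal := CfsgLib.Solvable.pCore_normal p
  set V := Vm p G
  have hV1 := WE_le_V hG hD
  have hVel : Cfsg.IsElementaryAbelian p V := CfsgLib.Baumann.exponent_omegaOneCenter
  have hVn : ∀ {y a : G}, a ∈ V → y * a * y⁻¹ ∈ V := fun {y a} ha =>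
    (mem_normalizer_iff.1 (CfsgLib.Baumann.normalizer_le_normalizer_omegaOneCenter _
      (le_normalizer_of_normal (H := Cfsg.pCore p G) (mem_top y))) a).1 ha
  have hvc : ∀ {a b : G}, a ∈ V → b ∈ V → a * b = b * a := fun {_ _} ha hb =>
    CfsgLib.Thompson.elab_commute hVel ha hb
  have hx3 : ⁅(f' * x) ⋆ D, x ⋆ D⁆ = ⊥ := by
    rw [commutator_comm]
    rcases hx with h | h <;> rw [h]
    exacts [h13, h23]
  have h31 : ⁅(f' * x) ⋆ D, D⁆ = ⊥ := by rw [commutator_comm]; exact h13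
  have h32 : ⁅(f' * x) ⋆ D, f ⋆ D⁆ = ⊥ := by rw [commutator_comm]; exact h23
  let Φ : ↥(WEm p D) × ↥(WEm p (x ⋆ D)) → ↥(WEm p (g ⋆ D)) := fun w =>
    ⟨f * w.1 * f⁻¹ * (w.1 : G)⁻¹ * (f' * w.2 * f'⁻¹ * (w.2 : G)⁻¹),
      mul_mem (commutator_mem hG hD g hF hf (hV1 w.1.2))
        (commutator_mem hG hD g hF hf' (WE_le_V' hG hD x w.2.2))⟩
  have hinj : Function.Injective Φ := by
    rintro ⟨⟨a, ha⟩, ⟨b, hb⟩⟩ ⟨⟨a', ha'⟩, ⟨b', hb'⟩⟩ e
    have e0 : f * a * f⁻¹ * a⁻¹ * (f' * b * f'⁻¹ * b⁻¹) =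
      f * a' * f⁻¹ * a'⁻¹ * (f' * b' * f'⁻¹ * b'⁻¹) := congrArg Subtype.val e
    -- reduce to the kernel
    set A := a'⁻¹ * a with hA
    set B := b'⁻¹ * b with hB
    have hAW : A ∈ WEm p D := mul_mem (inv_mem ha') ha
    have hBW : B ∈ WEm p (x ⋆ D) := mul_mem (inv_mem hb') hb
    have hfA : ∀ {y a a' : G}, a ∈ V → a' ∈ V →
        y * (a'⁻¹ * a) * y⁻¹ * (a'⁻¹ * a)⁻¹ =
          (y * a' * y⁻¹ * a'⁻¹)⁻¹ * (y * a * y⁻¹ * a⁻¹) := by
      intro y a a' ha ha'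
      have h1 := hVn (y := y) ha
      rw [show y * (a'⁻¹ * a) * y⁻¹ * (a'⁻¹ * a)⁻¹ =
        (y * a' * y⁻¹)⁻¹ * (y * a * y⁻¹ * a⁻¹) * a' by group, mul_assoc,
        ← hvc ha' (mul_mem h1 (inv_mem ha)),
        show (y * a' * y⁻¹)⁻¹ * (a' * (y * a * y⁻¹ * a⁻¹)) =
          (y * a' * y⁻¹)⁻¹ * a' * (y * a * y⁻¹ * a⁻¹) by group,
        hvc (inv_mem (hVn (y := y) ha')) ha']
      group
    have eAB : f * A * f⁻¹ * A⁻¹ * (f' * B * f'⁻¹ * B⁻¹) = 1 := by
      have hbV := WE_le_V' hG hD x hb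
      have hbV' := WE_le_V' hG hD x hb'
      rw [hA, hB, hfA (hV1 ha) (hV1 ha'), hfA hbV hbV']
      set u := f * a * f⁻¹ * a⁻¹
      set v := f' * b * f'⁻¹ * b⁻¹
      set u' := f * a' * f⁻¹ * a'⁻¹
      set v' := f' * b' * f'⁻¹ * b'⁻¹
      have hu : u ∈ V := mul_mem (hVn (hV1 ha)) (inv_mem (hV1 ha))
      have hv' : v' ∈ V := mul_mem (hVn hbV') (inv_mem hbV')
      rw [show u'⁻¹ * u * (v'⁻¹ * v) = u'⁻¹ * (u * v'⁻¹) * v by group, hvc hu (inv_mem hv'),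
        show u'⁻¹ * (v'⁻¹ * u) * v = (v' * u')⁻¹ * (u * v) by group, e0,
        hvc hv' (mul_mem (hVn (hV1 ha')) (inv_mem (hV1 ha'))), inv_mul_cancel]
    have hfA' : f * A * f⁻¹ ∈ WEm p (f ⋆ D) := (cj_WEm f D).le (conj_mem_cj hAW)
    have hfB : f' * B * f'⁻¹ ∈ WEm p ((f' * x) ⋆ D) := by
      have := (cj_WEm f' (x ⋆ D)).le (conj_mem_cj (g := f') hBW)
      rwa [cj_cj] at this
    have hB1 : B = 1 := by
      have h := eq_one_of_centralizes hG hD g hF hz hfB (by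
        rw [show f' * B * f'⁻¹ = (f * A * f⁻¹ * A⁻¹)⁻¹ * B by
          rw [inv_eq_of_mul_eq_one_right eAB]; group]
        exact mul_mem (inv_mem (mul_mem (WE_le_centralizer (facts' hG hD f) h32 hfA')
          (inv_mem (WE_le_centralizer (facts_of_block hD) h31 hAW))))
          (WE_le_centralizer (facts' hG hD x) hx3 hBW))
      rwa [conj_eq_one_iff] at h
    have hA1 : A = 1 := by
      rw [hB1] at eAB
      simp only [mul_one, mul_inv_cancel, inv_one] at eAB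
      rw [mul_inv_eq_one] at eAB
      have h := eq_one_of_centralizes hG hD g hF hz (x := 1) (w := A) (by rwa [cj_one]) (by
        rw [cj_one, ← eAB]
        exact WE_le_centralizer (facts' hG hD f) h12 hfA')
      exact h
    exact Prod.ext (Subtype.ext (inv_mul_eq_one.1 (hA ▸ hA1)).symm)
      (Subtype.ext (inv_mul_eq_one.1 (hB ▸ hB1)).symm)
  have h1 := Nat.card_le_card_of_injective Φ hinj
  rw [Nat.card_prod, ← cj_WEm, ← cj_WEm, card_cj, card_cj] at h1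
  have h4 := (topFacts hD).four
  rw [hz, Subgroup.card_bot, mul_one] at h4
  have := Nat.mul_le_mul_right (Nat.card ↥(WEm p D)) h4
  omega

/-- A conjugate block does not swap two commuting conjugates. -/
theorem no_swap (hp2 : p ≠ 2) {f : G} (hf : f ∈ g ⋆ D) (h12 : ⁅D, f ⋆ D⁆ = ⊥)
    (hstab : ∀ x ∈ g ⋆ D, (x ⋆ D = D ∧ x ⋆ (f ⋆ D) = f ⋆ D) ∨
      (x ⋆ D = f ⋆ D ∧ x ⋆ (f ⋆ D) = D)) : False := by
  haveI : (Cfsg.pCore p G).Normal := CfsgLib.Solvable.pCore_normal p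
  set F := g ⋆ D
  set V := Vm p G
  have hV1 := WE_le_V hG hD
  have hVel : Cfsg.IsElementaryAbelian p V := CfsgLib.Baumann.exponent_omegaOneCenter
  let Φ : ↥(WEm p D) → ↥(WEm p F) := fun w =>
    ⟨f * w * f⁻¹ * (w : G)⁻¹, commutator_mem hG hD g hF hf (hV1 w.2)⟩
  have hfW : ∀ w ∈ WEm p D, f * w * f⁻¹ ∈ WEm p (f ⋆ D) := fun w hw =>
    (cj_WEm f D).le (conj_mem_cj hw)
  have hinj : Function.Injective Φ := by
    rintro ⟨a, ha⟩ ⟨b, hb⟩ e
    have e0 : f * a * f⁻¹ * a⁻¹ = f * b * f⁻¹ * b⁻¹ := congrArg Subtype.val e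
    have h1 : b⁻¹ * a ∈ centralizer (D : Set G) := by
      have e1 : a * b⁻¹ = (f * b * f⁻¹)⁻¹ * (f * a * f⁻¹) := by
        rw [show f * b * f⁻¹ = f * a * f⁻¹ * a⁻¹ * b by rw [e0]; group]; group
        simpa only [zpow_neg_one] using
          CfsgLib.Thompson.elab_commute (WE_el (p := p) D) ha (inv_mem hb)
      rw [CfsgLib.Thompson.elab_commute (WE_el (p := p) D) (inv_mem hb) ha, e1]
      exact mul_mem (inv_mem (WE_le_centralizer (facts' hG hD f) h12 (hfW b hb)))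
        (WE_le_centralizer (facts' hG hD f) h12 (hfW a ha))
    have h2 := eq_one_of_centralizes hG hD g hF hz (x := 1) (w := b⁻¹ * a)
      (by rw [cj_one]; exact mul_mem (inv_mem hb) ha) (by rwa [cj_one])
    exact Subtype.ext (inv_mul_eq_one.1 h2).symm
  have hsurj : Function.Surjective Φ :=
    ((Nat.bijective_iff_injective_and_card Φ).2 ⟨hinj, by rw [← cj_WEm, card_cj]⟩).2
  have key : ∀ k ∈ F, k ⋆ D = D → ∀ w ∈ WEm p D, k * w * k⁻¹ = w := by
    intro k hk hkD w hw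
    have hy : k * w * k⁻¹ * w⁻¹ ∈ WEm p D :=
      mul_mem ((cj_WE (mem_normalizer_iff_cj.2 hkD)).le (conj_mem_cj hw)) (inv_mem hw)
    obtain ⟨⟨v, hv⟩, hve⟩ := hsurj ⟨_, commutator_mem hG hD g hF hk (hV1 hw)⟩
    have e0 : f * v * f⁻¹ * v⁻¹ = k * w * k⁻¹ * w⁻¹ := congrArg Subtype.val hve
    have h1 : f * v * f⁻¹ ∈ WEm p D := by
      rw [show f * v * f⁻¹ = f * v * f⁻¹ * v⁻¹ * v by group, e0]
      exact mul_mem hy hv
    have h2 := eq_one_of_centralizes hG hD g hF hz (x := 1) (w := f * v * f⁻¹)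
      (by rwa [cj_one]) (by rw [cj_one]; exact WE_le_centralizer (facts' hG hD f) h12 (hfW v hv))
    have h3 : v = 1 := conj_eq_one_iff.1 h2
    rw [h3, mul_one, mul_inv_cancel, one_mul, inv_one, eq_comm, mul_inv_eq_one] at e0
    exact e0
  rcases block_cases hF with ⟨h2, -⟩ | ⟨K, iK, iKt, ⟨X⟩⟩
  · exact hp2 h2
  have hgood := X.good (Or.inl hp2)
  obtain ⟨a, ha⟩ := X.S.exists_pre jj (jj_mem hgood)
  obtain ⟨h1, h2⟩ : ((a : G) * a) ⋆ D = D ∧ ((a : G) * a) ⋆ (f ⋆ D) = f ⋆ D := by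
    rw [← cj_cj, ← cj_cj]
    rcases hstab a a.2 with ⟨e1, e2⟩ | ⟨e1, e2⟩
    · exact ⟨by rw [e1, e1], by rw [e2, e2]⟩
    · exact ⟨by rw [e1, e2], by rw [e2, e1]⟩
  set k := (a : G) * a with hk
  have hkF : k ∈ F := mul_mem a.2 a.2
  have hfix1 := key k hkF h1
  have hfix2 := key (f⁻¹ * k * f) (mul_mem (mul_mem (inv_mem hf) hkF) hf)
    (by rw [← cj_cj, ← cj_cj, h2, cj_inv_cj])
  have hρ : X.S.ρ (a * a) = 1 := ext_mulVec fun v => by
    obtain ⟨y, hy, rfl⟩ := X.surj_WE v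
    obtain ⟨⟨w, hw⟩, hwe⟩ := hsurj ⟨y, hy⟩
    have ey : y = f * w * f⁻¹ * w⁻¹ := (congrArg Subtype.val hwe).symm
    rw [← X.S.equiv (a * a) y (WE_le_W F hy), Matrix.SpecialLinearGroup.coe_one, Matrix.one_mulVec,
      Subgroup.coe_mul, ← hk, ey,
      show k * (f * w * f⁻¹ * w⁻¹) * k⁻¹ =
        f * ((f⁻¹ * k * f) * w * (f⁻¹ * k * f)⁻¹) * f⁻¹ * (k * w * k⁻¹)⁻¹ by group,
      hfix1 w hw, hfix2 w hw]
  rw [map_mul, ha] at hρ
  have h := congrArg (fun m : SL K => (m : Matrix (Fin 2) (Fin 2) K).mulVec ![1, 0]) hρ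
  simp only [mulVec_mul, jj_mulVec, Matrix.SpecialLinearGroup.coe_one, Matrix.one_mulVec] at h
  have h2K : (2 : K) = 0 := by
    have := congrFun h 0
    simp at this
    linear_combination -this
  haveI : CharP K p := (CharP.charP_iff_prime_eq_zero hp.out).2 X.char
  exact hp2 ((Nat.prime_dvd_prime_iff_eq hp.out Nat.prime_two).1
    ((CharP.cast_eq_zero_iff K p 2).1 (by exact_mod_cast h2K)))

end

section

variable (hG : centralizer (Cfsg.pCore p G : Set G) ≤ Cfsg.pCore p G) {T : Sylow p G}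
  {E : Subgroup G} (hE : Cfsg.IsBaumannBlock p (T : Subgroup G) E)

include hG hE

/-- A conjugate block inside `L` normalizes `E`. -/
theorem le_normalizer_of_conjugates {L : Subgroup G}
    (hP : ∀ g ∈ L, g ⋆ E = E ∨ ⁅g ⋆ E, E⁆ = ⊥) (x : G) (hx : x ⋆ E ≤ L) :
    x ⋆ E ≤ normalizer (E : Set G) := by
  obtain ⟨T', -, hF⟩ := exists_cj_block x hE
  set F := x ⋆ E
  have hcomm : ∀ a ∈ L, ∀ b ∈ L, a ⋆ E ≠ b ⋆ E → ⁅a ⋆ E, b ⋆ E⁆ = ⊥ := by
    intro a ha b hb hne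
    rcases hP (a⁻¹ * b) (mul_mem (inv_mem ha) hb) with h | h
    · exact absurd (by rw [← cj_cj_inv a (b ⋆ E), cj_cj a⁻¹, h]) hne
    · have := congrArg (fun H => a ⋆ H) h
      simp only [cj_commutator, cj_cj, mul_inv_cancel_left, cj_bot] at this
      rw [commutator_comm]; exact this
  have hcomm1 : ∀ b ∈ L, b ⋆ E ≠ E → ⁅E, b ⋆ E⁆ = ⊥ := fun b hb hne => by
    have := hcomm 1 (one_mem _) b hb (by rw [cj_one]; exact hne.symm)
    rwa [cj_one] at this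
  have htwo : ∀ f ∈ F, (orderOf f).Coprime p → (f * f) ⋆ E = E := by
    intro f hf hco
    by_cases h1 : f ⋆ E = E
    · rw [← cj_cj, h1, h1]
    by_contra h2
    exact no_long_orbit hG hE x hF hf hco (hcomm1 f (hx hf) h1)
      (hcomm1 _ (mul_mem (hx hf) (hx hf)) h2)
  refine CfsgLib.Baumann.residual_induction (facts_of_block hF).res _ fun f hf hco =>
    mem_normalizer_iff_cj.2 ?_
  by_cases hp2 : p = 2
  · subst hp2
    have hodd : Odd (orderOf f) := Nat.coprime_two_right.1 hco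
    obtain ⟨m, hm⟩ := hodd
    have e : f = (f * f) ^ (m + 1) := by
      have h1 := pow_orderOf_eq_one f
      rw [hm] at h1
      calc f = f * f ^ (2 * m + 1) := by rw [h1, mul_one]
        _ = (f * f) ^ (m + 1) := by
            rw [← pow_two, ← pow_mul, ← pow_succ']; congr 1
    have := mem_normalizer_iff_cj.2 (htwo f hf hco)
    exact mem_normalizer_iff_cj.1 (e ▸ pow_mem this (m + 1))
  by_contra h1
  have hz : WEm p E ⊓ Zm p E = ⊥ := by
    rcases block_cases hE with ⟨h2, -⟩ | ⟨K, iK, iKt, ⟨X⟩⟩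
    · exact absurd h2 hp2
    · exact X.WE_inf_Z (Or.inl hp2)
  have hfL := hx hf
  have h12 := hcomm1 f hfL h1
  let S : Subgroup G :=
    { carrier := {y | (y ⋆ E = E ∧ y ⋆ (f ⋆ E) = f ⋆ E) ∨
        (y ⋆ E = f ⋆ E ∧ y ⋆ (f ⋆ E) = E)}
      one_mem' := Or.inl ⟨cj_one _, cj_one _⟩
      mul_mem' := by
        intro a b ha hb
        simp only [Set.mem_ofPred_eq, ← cj_cj a b] at ha hb ⊢
        rcases ha with ⟨a1, a2⟩ | ⟨a1, a2⟩ <;> rcases hb with ⟨b1, b2⟩ | ⟨b1, b2⟩ <;>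
          rw [b1, b2, a1, a2] <;> simp
      inv_mem' := by
        intro a ha
        rcases ha with ⟨a1, a2⟩ | ⟨a1, a2⟩
        · refine Or.inl ⟨?_, ?_⟩
          · conv_lhs => rw [← a1]
            rw [cj_inv_cj]
          · conv_lhs => rw [← a2]
            rw [cj_inv_cj]
        · refine Or.inr ⟨?_, ?_⟩
          · conv_lhs => rw [← a2]
            rw [cj_inv_cj]
          · conv_lhs => rw [← a1]
            rw [cj_inv_cj] }
  have hle : F ≤ S := by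
    refine CfsgLib.Baumann.residual_induction (facts_of_block hF).res _ fun y hy _ => ?_
    have hyL := hx hy
    have c1 : y ⋆ E = E ∨ y ⋆ E = f ⋆ E := by
      by_contra hno
      push Not at hno
      exact no_third hG hE x hF hz hf hy (x := 1) h12
        (by rw [mul_one]; exact hcomm1 y hyL hno.1)
        (by rw [mul_one]; exact hcomm f hfL y hyL hno.2.symm) (Or.inl (cj_one _))
    have c2 : y ⋆ (f ⋆ E) = E ∨ y ⋆ (f ⋆ E) = f ⋆ E := by
      by_contra hno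
      push Not at hno
      rw [cj_cj] at hno
      exact no_third hG hE x hF hz hf hy (x := f) h12 (hcomm1 _ (mul_mem hyL hfL) hno.1)
        (hcomm f hfL _ (mul_mem hyL hfL) hno.2.symm) (Or.inr rfl)
    rcases c1 with c | c <;> rcases c2 with d | d
    · exact absurd (cj_inj (d.trans c.symm)) h1
    · exact Or.inl ⟨c, d⟩
    · exact Or.inr ⟨c, d⟩
    · exact absurd (cj_inj (d.trans c.symm)) h1
  exact no_swap hG hE x hF hz hp2 hf h12 fun y hy => hle hy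

variable (hs : E.IsSubnormal)

include hs

theorem conjugates_top {H : Subgroup G} (hH : H.IsSubnormal) :
    E ≤ H → (∀ g ∈ H, g ⋆ E = E ∨ ⁅g ⋆ E, E⁆ = ⊥) → ∀ g : G, g ⋆ E = E ∨ ⁅g ⋆ E, E⁆ = ⊥ := by
  induction hH with
  | top => exact fun _ h g => h g (mem_top _)
  | step H K hle _ hN ih =>
    intro hEH hP
    refine ih (hEH.trans hle) fun g hg => ?_
    have hxE : g ⋆ E ≤ H := by
      refine cj_le_iff.2 fun y hy => ?_
      exact (mem_normalizer_iff.1 ((Subgroup.normal_subgroupOf_iff_le_normalizer hle).1 hN hg) y).1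
        (hEH hy)
    exact conj_eq_or_commute hG hE hs g (le_normalizer_of_conjugates hG hE hP g hxE)

/-- Two conjugates of a subnormal block are equal or commute. -/
theorem conjugates (g : G) : g ⋆ E = E ∨ ⁅g ⋆ E, E⁆ = ⊥ :=
  conjugates_top hG hE hs hs le_rfl (fun _ hh => Or.inl (cj_eq_self_of_mem hh)) g

end

end CfsgLib.BlockOrbit
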