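import Mathlib.GroupTheory.SpecificGroups.Alternating
import Mathlib.Data.ZMod.Basic
import Mathlib.Algebra.CharP.Two
import Mathlib.GroupTheory.GroupAction.Quotient
import Mathlib.Tactic.Group
import Mathlib.Tactic.Abel

/-!
The even-weight module of a symmetric group of odd degree: its automorphisms normalizing the
alternating group, and abelian groups of permutations of exponent two acting on it.
-/

set_option autoImplicit false
set_option linter.style.haveILetI false

namespace CfsgLib.BlockPermCombi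

variable {n : ℕ}

abbrev Vec (n : ℕ) := Fin n → ZMod 2

/-- A vector of weight two. -/
def ed (a b : Fin n) : Vec n := Pi.single a 1 + Pi.single b 1

/-- The permutation action on vectors. -/
def pa (σ : Equiv.Perm (Fin n)) (v : Vec n) : Vec n := fun i => v (σ⁻¹ i)

/-- Even weight. -/
def Ev (v : Vec n) : Prop := ∑ i, v i = 0

theorem zmod_two (x : ZMod 2) : x = 0 ∨ x = 1 := by revert x; decide

theorem ed_apply {a b : Fin n} (hab : a ≠ b) (i : Fin n) :
    ed a b i = if i = a ∨ i = b then 1 else 0 := by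
  rcases eq_or_ne i a with rfl | ha
  · simp [ed, hab]
  · rcases eq_or_ne i b with rfl | hb
    · simp [ed, ha]
    · simp [ed, ha, hb]

theorem ed_left {a b : Fin n} (hab : a ≠ b) : ed a b a = 1 := by simp [ed_apply hab]

theorem ed_right {a b : Fin n} (hab : a ≠ b) : ed a b b = 1 := by simp [ed_apply hab]

theorem mem_of_ed {a b i : Fin n} (hab : a ≠ b) (h : ed a b i = 1) : i = a ∨ i = b := by
  by_contra hn
  rw [ed_apply hab, if_neg hn] at h
  exact zero_ne_one h

theorem ed_eq_zero {a b i : Fin n} (ha : i ≠ a) (hb : i ≠ b) : ed a b i = 0 := by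
  simp [ed, ha, hb]

theorem ed_comm (a b : Fin n) : ed a b = ed b a := add_comm _ _

theorem ed_self (a : Fin n) : ed a a = 0 := funext fun _ => CharTwo.add_self_eq_zero _

theorem ed_add (a b c : Fin n) : ed a b + ed a c = ed b c := by
  funext i
  simp only [ed, Pi.add_apply]
  have := CharTwo.add_self_eq_zero ((Pi.single a 1 : Vec n) i)
  generalize (Pi.single a 1 : Vec n) i = x at this
  generalize (Pi.single b 1 : Vec n) i = y
  generalize (Pi.single c 1 : Vec n) i = z
  rw [add_add_add_comm, this, zero_add]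

theorem ev_ed (a b : Fin n) : Ev (ed a b) := by
  unfold Ev
  simp only [ed, Pi.add_apply, Finset.sum_add_distrib, Finset.sum_pi_single', Finset.mem_univ,
    if_true]
  decide

theorem ev_add {v w : Vec n} (hv : Ev v) (hw : Ev w) : Ev (v + w) := by
  unfold Ev at *
  simp only [Pi.add_apply, Finset.sum_add_distrib, hv, hw, add_zero]

theorem ev_zero : Ev (0 : Vec n) := by simp [Ev]

theorem ev_pa (σ : Equiv.Perm (Fin n)) {v : Vec n} (hv : Ev v) : Ev (pa σ v) := by
  unfold Ev pa at *
  rw [Equiv.sum_comp σ⁻¹ v]; exact hv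

theorem pa_ed (σ : Equiv.Perm (Fin n)) (a b : Fin n) : pa σ (ed a b) = ed (σ a) (σ b) := by
  funext i
  simp only [pa, ed, Pi.add_apply, Pi.single_apply]
  congr 1 <;> simp [Equiv.Perm.inv_def, Equiv.symm_apply_eq]

theorem pa_mul (σ τ : Equiv.Perm (Fin n)) (v : Vec n) : pa (σ * τ) v = pa σ (pa τ v) := by
  funext i; simp [pa]

theorem pa_one (v : Vec n) : pa 1 v = v := rfl

theorem pa_add (σ : Equiv.Perm (Fin n)) (v w : Vec n) : pa σ (v + w) = pa σ v + pa σ w := rfl

theorem exists_third (hn : 3 ≤ n) (a b : Fin n) : ∃ c, c ≠ a ∧ c ≠ b := by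
  by_contra hno
  push Not at hno
  have hsub : (Finset.univ : Finset (Fin n)) ⊆ {a, b} := fun k _ => by
    rcases eq_or_ne k a with hk | hk <;> simp [hk]
    exact hno k hk
  have h := Finset.card_le_card hsub
  rw [Finset.card_univ, Fintype.card_fin] at h
  have := Finset.card_le_two (a := a) (b := b)
  omega

theorem exists_fifth (hn : 5 ≤ n) (a b c d : Fin n) : ∃ e, e ≠ a ∧ e ≠ b ∧ e ≠ c ∧ e ≠ d := by
  by_contra hno
  push Not at hno
  have hsub : (Finset.univ : Finset (Fin n)) ⊆ {a, b, c, d} := fun k _ => by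
    rcases eq_or_ne k a with hk | hk <;> simp [hk]
    rcases eq_or_ne k b with hk' | hk' <;> simp [hk']
    rcases eq_or_ne k c with hk'' | hk'' <;> simp [hk'']
    exact hno k hk hk' hk''
  have h := Finset.card_le_card hsub
  rw [Finset.card_univ, Fintype.card_fin] at h
  have := Finset.card_le_four (a := a) (b := b) (c := c) (d := d)
  omega

theorem perm_faithful (hn : 3 ≤ n) {σ : Equiv.Perm (Fin n)}
    (h : ∀ v, Ev v → pa σ v = v) : σ = 1 := by
  by_contra hne
  obtain ⟨i, hi⟩ : ∃ i, σ i ≠ i := by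
    by_contra hno
    push Not at hno
    exact hne (Equiv.ext hno)
  obtain ⟨j, hji, hjs⟩ := exists_third hn i (σ i)
  have h1 := congrFun (h _ (ev_ed i j)) (σ i)
  rw [pa_ed, ed_left (fun e => hji (σ.injective e).symm), ed_eq_zero hi hjs.symm] at h1
  exact one_ne_zero h1

/-- Even vectors are sums of vectors of weight two. -/
theorem ev_induction (a : Fin n) {P : Vec n → Prop} (h0 : P 0)
    (hadd : ∀ v w, Ev v → Ev w → P v → P w → P (v + w)) (hed : ∀ l, l ≠ a → P (ed l a))
    {v : Vec n} (hv : Ev v) : P v := by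
  classical
  have key : ∀ (s : Finset (Fin n)), Ev (∑ l ∈ s, v l • ed l a) ∧ P (∑ l ∈ s, v l • ed l a) := by
    intro s
    induction s using Finset.induction with
    | empty => exact ⟨by rw [Finset.sum_empty]; exact ev_zero, by rw [Finset.sum_empty]; exact h0⟩
    | insert l s hl ih =>
      have hterm : Ev (v l • ed l a) ∧ P (v l • ed l a) := by
        rcases zmod_two (v l) with h | h <;> rw [h]
        · have : (0 : ZMod 2) • ed l a = 0 := funext fun i => zero_mul _
          rw [this]; exact ⟨ev_zero, h0⟩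
        · have : (1 : ZMod 2) • ed l a = ed l a := funext fun i => one_mul _
          rw [this]
          rcases eq_or_ne l a with rfl | hla
          · rw [ed_self]; exact ⟨ev_zero, h0⟩
          · exact ⟨ev_ed _ _, hed l hla⟩
      rw [Finset.sum_insert hl]
      exact ⟨ev_add hterm.1 ih.1, hadd _ _ hterm.1 ih.1 hterm.2 ih.2⟩
  convert (key Finset.univ).2 using 1
  funext x
  simp only [Finset.sum_apply, Pi.smul_apply, ed, Pi.add_apply, smul_eq_mul, mul_add,
    Finset.sum_add_distrib, Pi.single_apply, mul_ite, mul_one, mul_zero]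
  rw [Finset.sum_ite_eq]
  rcases eq_or_ne x a with rfl | hxa
  · have : ∑ i, v i = 0 := hv
    simp [this]
  · simp [hxa]

/-- The three-cycle `a → b → c`. -/
def cyc (a b c : Fin n) : Equiv.Perm (Fin n) := Equiv.swap a c * Equiv.swap a b

theorem cyc_mem {a b c : Fin n} (hab : a ≠ b) (hac : a ≠ c) (hbc : b ≠ c) :
    cyc a b c ∈ alternatingGroup (Fin n) :=
  (Equiv.Perm.isThreeCycle_swap_mul_swap_same hac hab hbc.symm).mem_alternatingGroup

theorem cyc_a {a b c : Fin n} (hab : a ≠ b) (hbc : b ≠ c) : cyc a b c a = b := by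
  simp [cyc, Equiv.swap_apply_of_ne_of_ne hab.symm hbc]

theorem cyc_b {a b c : Fin n} : cyc a b c b = c := by
  simp [cyc]

theorem cyc_c {a b c : Fin n} (hac : a ≠ c) (hbc : b ≠ c) : cyc a b c c = a := by
  simp [cyc, Equiv.swap_apply_of_ne_of_ne hac.symm hbc.symm]

theorem cyc_other {a b c i : Fin n} (ha : i ≠ a) (hb : i ≠ b) (hc : i ≠ c) : cyc a b c i = i := by
  simp [cyc, Equiv.swap_apply_of_ne_of_ne ha hb, Equiv.swap_apply_of_ne_of_ne ha hc]

theorem cyc_rotate {a b c : Fin n} (hab : a ≠ b) (hac : a ≠ c) (hbc : b ≠ c) :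
    cyc b c a = cyc a b c := by
  ext i
  rcases eq_or_ne i a with rfl | ha
  · rw [cyc_c hab.symm hac.symm, cyc_a hab hbc]
  rcases eq_or_ne i b with rfl | hb
  · rw [cyc_a hbc hac.symm, cyc_b]
  rcases eq_or_ne i c with rfl | hc
  · rw [cyc_b, cyc_c hac hbc]
  rw [cyc_other hb hc ha, cyc_other ha hb hc]

theorem cyc_inv {a b c : Fin n} (hab : a ≠ b) (hac : a ≠ c) (hbc : b ≠ c) :
    (cyc a b c)⁻¹ = cyc b a c := by
  rw [inv_eq_iff_mul_eq_one]
  ext i
  rw [Equiv.Perm.mul_apply, Equiv.Perm.one_apply]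
  rcases eq_or_ne i a with rfl | ha
  · rw [cyc_b, cyc_c hac hbc]
  rcases eq_or_ne i b with rfl | hb
  · rw [cyc_a hab.symm hac, cyc_a hab hbc]
  rcases eq_or_ne i c with rfl | hc
  · rw [cyc_c hbc hac, cyc_b]
  rw [cyc_other hb ha hc, cyc_other ha hb hc]

theorem cyc_pow_three {a b c : Fin n} (hab : a ≠ b) (hac : a ≠ c) (hbc : b ≠ c) :
    cyc a b c ^ 3 = 1 := by
  have := (Equiv.Perm.isThreeCycle_swap_mul_swap_same hac hab hbc.symm).orderOf
  exact this ▸ pow_orderOf_eq_one _

/-- A permutation fixing the points other than `a b c` moves even vectors into the triangle. -/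
theorem pa_cyc_add {a b c : Fin n} (hab : a ≠ b) (hac : a ≠ c) (hbc : b ≠ c) (v : Vec n) :
    pa (cyc a b c) v + v = 0 ∨ pa (cyc a b c) v + v = ed a b ∨
      pa (cyc a b c) v + v = ed a c ∨ pa (cyc a b c) v + v = ed b c := by
  set w := pa (cyc a b c) v + v with hw
  have ha : w a = v c + v a := by
    show v ((cyc a b c)⁻¹ a) + v a = _
    rw [Equiv.Perm.inv_eq_iff_eq.2 (cyc_c hac hbc).symm]
  have hb : w b = v a + v b := by
    show v ((cyc a b c)⁻¹ b) + v b = _
    rw [Equiv.Perm.inv_eq_iff_eq.2 (cyc_a hab hbc).symm]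
  have hc : w c = v b + v c := by
    show v ((cyc a b c)⁻¹ c) + v c = _
    rw [Equiv.Perm.inv_eq_iff_eq.2 cyc_b.symm]
  have ho : ∀ i, i ≠ a → i ≠ b → i ≠ c → w i = 0 := fun i h1 h2 h3 => by
    show v ((cyc a b c)⁻¹ i) + v i = 0
    rw [Equiv.Perm.inv_eq_iff_eq.2 (cyc_other h1 h2 h3).symm, CharTwo.add_self_eq_zero]
  have key : ∀ u : Vec n, (∀ i, i ≠ a → i ≠ b → i ≠ c → u i = 0) → u a = w a → u b = w b →
      u c = w c → w = u := fun u hu h1 h2 h3 => funext fun i => by
    rcases eq_or_ne i a with rfl | i1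
    · exact h1.symm
    rcases eq_or_ne i b with rfl | i2
    · exact h2.symm
    rcases eq_or_ne i c with rfl | i3
    · exact h3.symm
    rw [ho i i1 i2 i3, hu i i1 i2 i3]
  rcases zmod_two (v a) with x | x <;> rcases zmod_two (v b) with y | y <;>
    rcases zmod_two (v c) with z | z <;> rw [x, y] at hb <;> rw [z, x] at ha <;> rw [y, z] at hc
  all_goals
    first
    | (left; refine key 0 (fun _ _ _ _ => rfl) ?_ ?_ ?_ <;> simp only [ha, hb, hc, Pi.zero_apply] <;>
        decide)
    | (right; left; refine key (ed a b) (fun i h1 h2 _ => ed_eq_zero h1 h2) ?_ ?_ ?_ <;>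
        simp only [ha, hb, hc, ed_left hab, ed_right hab, ed_eq_zero hac.symm hbc.symm] <;> decide)
    | (right; right; left; refine key (ed a c) (fun i h1 _ h3 => ed_eq_zero h1 h3) ?_ ?_ ?_ <;>
        simp only [ha, hb, hc, ed_left hac, ed_right hac, ed_eq_zero hab.symm hbc] <;> decide)
    | (right; right; right; refine key (ed b c) (fun i _ h2 h3 => ed_eq_zero h2 h3) ?_ ?_ ?_ <;>
        simp only [ha, hb, hc, ed_left hbc, ed_right hbc, ed_eq_zero hab hac] <;> decide)

/-- An automorphism of the even vectors normalizing the alternating group maps vectors of weight two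
to vectors of weight two. -/
theorem edge_image (g : Vec n → Vec n) (hadd : ∀ v w, Ev v → Ev w → g (v + w) = g v + g w)
    (hsurj : ∀ u, Ev u → ∃ v, Ev v ∧ g v = u) (hinj : ∀ v, Ev v → g v = 0 → v = 0)
    {a b c : Fin n} (hab : a ≠ b) (hac : a ≠ c) (hbc : b ≠ c)
    {y : Equiv.Perm (Fin n)} (hy3 : y ^ 3 = 1)
    (hy : ∀ v, Ev v → g (pa (cyc a b c) v) = pa y (g v)) :
    ∃ i j, i ≠ j ∧ g (ed a b) = ed i j := by
  classical
  have himg : ∀ u, Ev u → pa y u + u = 0 ∨ pa y u + u = g (ed a b) ∨
      pa y u + u = g (ed a c) ∨ pa y u + u = g (ed b c) := by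
    intro u hu
    obtain ⟨v, hv, rfl⟩ := hsurj u hu
    rw [← hy v hv, ← hadd _ _ (ev_pa _ hv) hv]
    have h0 : g 0 = 0 := by
      have := hadd 0 0 ev_zero ev_zero
      rw [add_zero] at this
      exact left_eq_add.1 this
    rcases pa_cyc_add hab hac hbc v with h | h | h | h <;> rw [h]
    · exact Or.inl h0
    · exact Or.inr (Or.inl rfl)
    · exact Or.inr (Or.inr (Or.inl rfl))
    · exact Or.inr (Or.inr (Or.inr rfl))
  obtain ⟨i, hi⟩ : ∃ i, y i ≠ i := by
    by_contra hno
    push Not at hno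
    have h1 := hy _ (ev_ed a b)
    rw [show y = 1 from Equiv.ext hno, pa_one, pa_ed, cyc_a hab hbc, cyc_b] at h1
    have h2 := hinj _ (ev_add (ev_ed b c) (ev_ed a b)) (by
      rw [hadd _ _ (ev_ed b c) (ev_ed a b), h1]
      exact funext fun _ => CharTwo.add_self_eq_zero _)
    have h3 := congrFun h2 a
    rw [Pi.add_apply, ed_eq_zero hab hac, ed_left hab, zero_add] at h3
    exact one_ne_zero h3
  have h3i : y (y (y i)) = i := by
    have := Equiv.Perm.congr_fun hy3 i
    simpa [pow_succ] using this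
  set j := y i with hj
  set k := y j with hk
  have hij : i ≠ j := Ne.symm hi
  have hjk : j ≠ k := fun h => hi (y.injective h).symm
  have hik : i ≠ k := fun h => hij (by
    have : y j = y k := by rw [← hk, h3i, h]
    rw [y.injective this] at hk ⊢
    exact h3i ▸ h)
  have e1 : pa y (ed i j) + ed i j = ed i k := by
    rw [pa_ed, ← hj, ← hk, add_comm, ed_comm i j, ed_add]
  have e2 : pa y (ed j k) + ed j k = ed i j := by
    rw [pa_ed, ← hk, h3i, ed_comm k i, ed_comm j k, add_comm, ed_comm i k, ed_add, ed_comm j i]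
  have e3 : pa y (ed i k) + ed i k = ed j k := by
    rw [pa_ed, ← hj, h3i, ed_comm j i, ed_add]
  have hne : ∀ p q r s : Fin n, p ≠ q → r ≠ s → (p ≠ r ∧ p ≠ s) → ed p q ≠ ed r s :=
    fun p q r s hpq hrs hp e => by
      have := congrFun e p
      rw [ed_left hpq, ed_eq_zero hp.1 hp.2] at this
      exact one_ne_zero this
  have hnz : ∀ p q : Fin n, p ≠ q → ed p q ≠ 0 := fun p q hpq e => by
    have := congrFun e p
    rw [ed_left hpq] at this
    exact one_ne_zero this
  have d1 : ed i k ≠ ed i j := (hne k i i j hik.symm hij ⟨hik.symm, hjk.symm⟩).elim ∘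
    (fun e => by rwa [ed_comm k i])
  have d2 : ed i k ≠ ed j k := hne i k j k hik hjk ⟨hij, hik⟩
  have d3 : ed i j ≠ ed j k := hne i j j k hij hjk ⟨hij, hik⟩
  -- the three edges of the orbit are the three images
  let S : Finset (Vec n) := {g (ed a b), g (ed a c), g (ed b c)}
  let T : Finset (Vec n) := {ed i k, ed i j, ed j k}
  have hTS : T ⊆ S := by
    intro x hx
    have hx' : ∃ u, Ev u ∧ pa y u + u = x ∧ x ≠ 0 := by
      simp only [T, Finset.mem_insert, Finset.mem_singleton] at hx
      rcases hx with rfl | rfl | rfl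
      · exact ⟨_, ev_ed i j, e1, hnz _ _ hik⟩
      · exact ⟨_, ev_ed j k, e2, hnz _ _ hij⟩
      · exact ⟨_, ev_ed i k, e3, hnz _ _ hjk⟩
    obtain ⟨u, hu, rfl, hx0⟩ := hx'
    simp only [S, Finset.mem_insert, Finset.mem_singleton]
    exact (himg u hu).resolve_left hx0
  have hT : T.card = 3 := by
    simp [T, d1, d2, d3]
  have hS : S.card ≤ 3 := Finset.card_le_three
  have := (Finset.eq_of_subset_of_card_le hTS (hT ▸ hS)).ge (show g (ed a b) ∈ S by simp [S])
  simp only [T, Finset.mem_insert, Finset.mem_singleton] at this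
  rcases this with h | h | h
  exacts [⟨i, k, hik, h⟩, ⟨i, j, hij, h⟩, ⟨j, k, hjk, h⟩]

/-- An additive map sending vectors of weight two to vectors of weight two is a permutation. -/
theorem exists_perm (hn : 3 ≤ n) (g : Vec n → Vec n)
    (hadd : ∀ v w, Ev v → Ev w → g (v + w) = g v + g w)
    (hinj : ∀ v, Ev v → g v = 0 → v = 0)
    (hed : ∀ a b, a ≠ b → ∃ i j, i ≠ j ∧ g (ed a b) = ed i j) :
    ∃ σ : Equiv.Perm (Fin n), ∀ v, Ev v → g v = pa σ v := by
  classical
  have hinj' : ∀ v w, Ev v → Ev w → g v = g w → v = w := fun v w hv hw e => by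
    have h := hinj _ (ev_add hv hw) (by
      rw [hadd _ _ hv hw, e]; exact funext fun _ => CharTwo.add_self_eq_zero _)
    funext i
    exact CharTwo.add_eq_zero.1 (congrFun h i)
  have hneed : ∀ a b c d : Fin n, a ≠ b → a ≠ c → a ≠ d → ed a b ≠ ed c d :=
    fun a b c d hab hac had e => by
      have := congrFun e a
      rw [ed_left hab, ed_eq_zero hac had] at this
      exact one_ne_zero this
  have hstar : ∀ a, ∃ u, ∀ d, d ≠ a → g (ed a d) u = 1 := by
    intro a
    obtain ⟨b, hba, -⟩ := exists_third hn a a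
    obtain ⟨c, hca, hcb⟩ := exists_third hn a b
    obtain ⟨p, q, hpq, e1⟩ := hed a b hba.symm
    obtain ⟨r, s, hrs, e2⟩ := hed a c hca.symm
    have hshare : ∀ {p q r s : Fin n}, p ≠ q → r ≠ s →
        (∃ x y, x ≠ y ∧ ed p q + ed r s = ed x y) → ∃ u, ed p q u = 1 ∧ ed r s u = 1 := by
      intro p q r s hpq hrs ⟨x, y, hxy, he⟩
      by_contra hno
      push Not at hno
      have hp : ed r s p = 0 := (zmod_two _).resolve_right (hno p (ed_left hpq))
      have hq : ed r s q = 0 := (zmod_two _).resolve_right (hno q (ed_right hpq))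
      have hr : ed p q r = 0 := (zmod_two _).resolve_right fun h => hno r h (ed_left hrs)
      have h1 := congrFun he p
      have h2 := congrFun he q
      have h3 := congrFun he r
      rw [Pi.add_apply, ed_left hpq, hp, add_zero] at h1
      rw [Pi.add_apply, ed_right hpq, hq, add_zero] at h2
      rw [Pi.add_apply, ed_left hrs, hr, zero_add] at h3
      have hpr : p ≠ r := fun e => by
        subst e; rw [ed_left hpq] at hr; exact one_ne_zero hr
      have hqr : q ≠ r := fun e => by
        subst e; rw [ed_right hpq] at hr; exact one_ne_zero hr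
      rcases mem_of_ed hxy h1.symm with rfl | rfl <;> rcases mem_of_ed hxy h2.symm with rfl | rfl <;>
        rcases mem_of_ed hxy h3.symm with rfl | rfl <;> simp_all
    obtain ⟨u, hu1, hu2⟩ := hshare hpq hrs (by
      rw [← e1, ← e2, ← hadd _ _ (ev_ed a b) (ev_ed a c), ed_add]
      exact hed b c hcb.symm)
    -- write both images through `u`
    have hform : ∀ {p q : Fin n}, p ≠ q → ed p q u = 1 → ∃ v, u ≠ v ∧ ed p q = ed u v := by
      intro p q hpq h
      rcases mem_of_ed hpq h with rfl | rfl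
      · exact ⟨q, hpq, rfl⟩
      · exact ⟨p, hpq.symm, ed_comm _ _⟩
    obtain ⟨v, huv, ev1⟩ := hform hpq hu1
    obtain ⟨w, huw, ev2⟩ := hform hrs hu2
    rw [ev1] at e1
    rw [ev2] at e2
    have hvw : v ≠ w := fun e => by
      have := hinj' _ _ (ev_ed a b) (ev_ed a c) (by rw [e1, e2, e])
      have h' := congrFun this b
      rw [ed_right hba.symm, ed_eq_zero hba hcb.symm] at h'
      exact one_ne_zero h'
    refine ⟨u, fun d hda => ?_⟩
    rcases eq_or_ne d b with rfl | hdb
    · rw [e1, ed_left huv]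
    rcases eq_or_ne d c with rfl | hdc
    · rw [e2, ed_left huw]
    obtain ⟨x, y, hxy, e3⟩ := hed a d hda.symm
    obtain ⟨u1, h11, h12⟩ := hshare hxy huv (by
      rw [← e3, ← e1, ← hadd _ _ (ev_ed a d) (ev_ed a b), ed_add]
      exact hed d b hdb)
    obtain ⟨u2, h21, h22⟩ := hshare hxy huw (by
      rw [← e3, ← e2, ← hadd _ _ (ev_ed a d) (ev_ed a c), ed_add]
      exact hed d c hdc)
    rcases mem_of_ed huv h12 with x1 | x1
    · rw [e3, ← x1]; exact h11
    rcases mem_of_ed huw h22 with x2 | x2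
    · rw [e3, ← x2]; exact h21
    rw [x1] at h11
    rw [x2] at h21
    exfalso
    have exy : ed x y = ed v w := by
      rcases mem_of_ed hxy h11 with rfl | rfl <;> rcases mem_of_ed hxy h21 with rfl | rfl <;>
        first | exact absurd rfl hvw | rfl | exact ed_comm _ _
    have : g (ed a d) = g (ed b c) := by
      rw [e3, exy, ← ed_add a b c, hadd _ _ (ev_ed a b) (ev_ed a c), e1, e2, ed_add]
    exact hneed a d b c hda.symm hba.symm hca.symm (hinj' _ _ (ev_ed a d) (ev_ed b c) this)
  choose σ hσ using hstar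
  have hσinj : Function.Injective σ := by
    intro a a' e
    by_contra hne
    obtain ⟨c, hca, hca'⟩ := exists_third hn a a'
    have h1 := congrFun (show g (ed a a') = g (ed c a) + g (ed c a') by
      rw [← hadd _ _ (ev_ed c a) (ev_ed c a'), ed_add]) (σ a)
    rw [Pi.add_apply, ed_comm c a, ed_comm c a', hσ a a' (Ne.symm hne), hσ a c hca, e, hσ a' c hca',
      CharTwo.add_self_eq_zero] at h1
    exact one_ne_zero h1
  set τ := Equiv.ofBijective σ (Finite.injective_iff_bijective.1 hσinj)
  refine ⟨τ, fun v hv => ?_⟩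
  obtain ⟨a⟩ : Nonempty (Fin n) := ⟨⟨0, by omega⟩⟩
  refine ev_induction a (P := fun v => g v = pa τ v) ?_ (fun x y hx hy h1 h2 => ?_)
    (fun l hla => ?_) hv
  · have h := hadd 0 0 ev_zero ev_zero
    rw [add_zero] at h
    rw [left_eq_add.1 h]; rfl
  · rw [hadd x y hx hy, h1, h2, pa_add]
  · obtain ⟨i, j, hij, e⟩ := hed l a hla
    rw [pa_ed, e]
    have h1 := hσ l a (Ne.symm hla)
    have h2 := hσ a l hla
    rw [ed_comm a l, e] at h2
    rw [e] at h1
    have hne : σ l ≠ σ a := fun e => hla (hσinj e)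
    show ed i j = ed (σ l) (σ a)
    rcases mem_of_ed hij h1 with x | x <;> rcases mem_of_ed hij h2 with y | y <;> rw [x, y] at hne ⊢
    · exact absurd rfl hne
    · exact ed_comm _ _
    · exact absurd rfl hne

open MulAction in
/-- An abelian group of permutations of exponent two and its fixed even vectors. -/
theorem card_mul_fixed_le (hn : Odd n) (H : Subgroup (Equiv.Perm (Fin n)))
    (hexp : ∀ h ∈ H, h * h = 1) :
    Nat.card H * Nat.card {v : Vec n // Ev v ∧ ∀ h ∈ H, pa h v = v} ≤
      Nat.card {v : Vec n // Ev v} := by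
  classical
  have hcomm : ∀ a ∈ H, ∀ b ∈ H, a * b = b * a := fun a ha b hb => by
    have h := hexp _ (mul_mem ha hb)
    calc a * b = a * (a * b * (a * b)) * b := by rw [h, mul_one]
      _ = (a * a) * (b * a) * (b * b) := by group
      _ = b * a := by rw [hexp a ha, hexp b hb, one_mul, mul_one]
  letI : Fintype ↥H := Fintype.ofFinite _
  let Ω := orbitRel.Quotient ↥H (Fin n)
  letI : Fintype Ω := Fintype.ofFinite _
  let O : Ω → Type := fun o => {i : Fin n // (Quotient.mk'' i : Ω) = o}
  have hmk : ∀ (h : ↥H) (i : Fin n), (Quotient.mk'' ((h : Equiv.Perm (Fin n)) i) : Ω) =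
      Quotient.mk'' i := fun h i => Quotient.sound' ⟨h, rfl⟩
  have hH : Nat.card H ≤ ∏ o : Ω, Nat.card (O o) := by
    rw [← Nat.card_pi]
    refine Nat.card_le_card_of_injective (fun h o => (⟨(h : Equiv.Perm (Fin n)) o.out,
      (hmk h o.out).trans (Quotient.out_eq' o)⟩ : O o)) fun h h' e => Subtype.ext (Equiv.ext fun i => ?_)
    obtain ⟨k, hk⟩ : i ∈ orbit ↥H (Quotient.mk'' i : Ω).out :=
      Quotient.exact' (Quotient.out_eq' (Quotient.mk'' i : Ω)).symm
    have hk' : (k : Equiv.Perm (Fin n)) (Quotient.mk'' i : Ω).out = i := hk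
    have he : (h : Equiv.Perm (Fin n)) (Quotient.mk'' i : Ω).out =
        (h' : Equiv.Perm (Fin n)) (Quotient.mk'' i : Ω).out :=
      congrArg Subtype.val (congrFun e (Quotient.mk'' i : Ω))
    calc (h : Equiv.Perm (Fin n)) i = ((h : Equiv.Perm (Fin n)) * k) (Quotient.mk'' i : Ω).out := by
          rw [Equiv.Perm.mul_apply, hk']
      _ = ((k : Equiv.Perm (Fin n)) * h') (Quotient.mk'' i : Ω).out := by
          rw [hcomm _ h.2 _ k.2, Equiv.Perm.mul_apply, Equiv.Perm.mul_apply, he]
      _ = (h' : Equiv.Perm (Fin n)) i := by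
          rw [← hcomm _ h'.2 _ k.2, Equiv.Perm.mul_apply, hk']
  -- an orbit of odd length
  obtain ⟨o₁, ho₁⟩ : ∃ o : Ω, Odd (Nat.card (O o)) := by
    by_contra hno
    push Not at hno
    have h1 : n = ∑ o : Ω, Nat.card (O o) := by
      simp only [O, Nat.card_eq_fintype_card, Fintype.card_subtype]
      conv_lhs => rw [← Fintype.card_fin n, ← Finset.card_univ]
      exact Finset.card_eq_sum_card_fiberwise fun _ _ => Finset.mem_univ _
    refine Nat.not_even_iff_odd.2 hn ?_
    rw [h1]
    exact Finset.even_sum _ fun o _ => Nat.not_odd_iff_even.1 (hno o)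
  let χ : Vec n := fun i => if (Quotient.mk'' i : Ω) = o₁ then 1 else 0
  have hχ : ∑ i, χ i = 1 := by
    simp only [χ]
    rw [Finset.sum_boole]
    obtain ⟨m, hm⟩ := ho₁
    rw [Nat.card_eq_fintype_card, Fintype.card_subtype] at hm
    rw [hm]; push_cast
    rw [show (2 : ZMod 2) = 0 from rfl, zero_mul, zero_add]
  have hfix : Nat.card {v : Vec n // Ev v ∧ ∀ h ∈ H, pa h v = v} * 2 ≤ 2 ^ Fintype.card Ω := by
    have h2 : Nat.card (Ω → ZMod 2) = 2 ^ Fintype.card Ω := by
      rw [Nat.card_fun, Nat.card_zmod, Nat.card_eq_fintype_card]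
    rw [← h2]
    conv_lhs => arg 2; rw [← Nat.card_zmod 2]
    rw [← Nat.card_prod]
    refine Nat.card_le_card_of_injective (fun x o => (x.1 : Vec n) o.out + x.2 * χ o.out) ?_
    rintro ⟨⟨v, hv, hvf⟩, s⟩ ⟨⟨v', hv', hvf'⟩, s'⟩ e
    have hconst : ∀ (w : Vec n), (∀ h ∈ H, pa h w = w) →
        ∀ i, w i = w (Quotient.mk'' i : Ω).out := by
      intro w hw i
      obtain ⟨k, hk⟩ : i ∈ orbit ↥H (Quotient.mk'' i : Ω).out :=
        Quotient.exact' (Quotient.out_eq' (Quotient.mk'' i : Ω)).symm
      have := congrFun (hw _ (inv_mem k.2)) (Quotient.mk'' i : Ω).out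
      rw [pa, inv_inv] at this
      rw [← this]
      exact congrArg w hk.symm
    have hχf : ∀ i, χ i = χ (Quotient.mk'' i : Ω).out := fun i => by
      simp only [χ, Quotient.out_eq']
    have e' : ∀ i, v i + s * χ i = v' i + s' * χ i := fun i => by
      rw [hconst v hvf i, hconst v' hvf' i, hχf i]
      exact congrFun e _
    have hs : s = s' := by
      have := Finset.sum_congr (rfl : (Finset.univ : Finset (Fin n)) = _) fun i _ => e' i
      rw [Finset.sum_add_distrib, Finset.sum_add_distrib, ← Finset.mul_sum, ← Finset.mul_sum,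
        show ∑ i, v i = 0 from hv, show ∑ i, v' i = 0 from hv', hχ] at this
      simpa using this
    subst hs
    exact Prod.ext (Subtype.ext (funext fun i => add_right_cancel (e' i))) rfl
  have hall : 2 ^ n ≤ Nat.card {v : Vec n // Ev v} * 2 := by
    have h2 : Nat.card (Vec n) = 2 ^ n := by
      rw [Nat.card_fun, Nat.card_zmod, Nat.card_eq_fintype_card, Fintype.card_fin]
    rw [← h2]
    conv_rhs => arg 2; rw [← Nat.card_zmod 2]
    rw [← Nat.card_prod]
    have a : Fin n := ⟨0, hn.pos⟩
    refine Nat.card_le_card_of_injective (fun v : Vec n =>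
      ((⟨v + Pi.single a (∑ i, v i), ?_⟩ : {v : Vec n // Ev v}), ∑ i, v i)) fun v w e => ?_
    · unfold Ev
      simp only [Pi.add_apply, Finset.sum_add_distrib, Finset.sum_pi_single', Finset.mem_univ,
        if_true]
      exact CharTwo.add_self_eq_zero _
    · have e1 := congrArg (fun x => ((x.1 : {v : Vec n // Ev v}) : Vec n)) e
      have e2 := congrArg Prod.snd e
      dsimp only at e1 e2
      rw [e2] at e1
      exact add_right_cancel e1
  have hprod : (∏ o : Ω, Nat.card (O o)) * 2 ^ Fintype.card Ω ≤ 2 ^ n := by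
    rw [← Finset.card_univ (α := Ω), ← Finset.prod_const, ← Finset.prod_mul_distrib]
    have hsum : n = ∑ o : Ω, Nat.card (O o) := by
      simp only [O, Nat.card_eq_fintype_card, Fintype.card_subtype]
      conv_lhs => rw [← Fintype.card_fin n, ← Finset.card_univ]
      exact Finset.card_eq_sum_card_fiberwise fun _ _ => Finset.mem_univ _
    conv_rhs => rw [hsum, ← Finset.prod_pow_eq_pow_sum]
    refine Finset.prod_le_prod' fun o _ => ?_
    generalize Nat.card (O o) = m
    rcases Nat.eq_zero_or_pos m with rfl | hm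
    · simp
    calc m * 2 ≤ 2 ^ (m - 1) * 2 := by
          refine Nat.mul_le_mul_right _ ?_
          have := (m - 1).lt_two_pow_self
          omega
      _ = 2 ^ m := by rw [← pow_succ]; congr 1; omega
  have := Nat.mul_le_mul hH hfix
  rw [← mul_assoc] at this
  exact Nat.le_of_mul_le_mul_right (this.trans (hprod.trans hall)) two_pos

end CfsgLib.BlockPermCombi
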