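import Cfsg.Agent.LocalB.BlockTop
import Cfsg.Agent.LocalB.BlockPermCombi

/-!
Blocks of symmetric type.
-/

set_option autoImplicit false
set_option linter.style.haveILetI false
set_option linter.unusedSectionVars false

namespace CfsgLib.BlockPerm

open Subgroup CfsgLib.Functor CfsgLib.BlockModule CfsgLib.BlockBasic CfsgLib.BlockCore
  CfsgLib.BlockTop CfsgLib.BlockPermCombi
open scoped CfsgLib.Functor commutatorElement

universe u

variable {G : Type u} [Group G] [Finite G]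

/-- A block of symmetric type with a chosen section map. -/
structure PData (E : Subgroup G) (n : ℕ) where
  facts : Facts 2 E
  hn : Odd n
  hn3 : 3 ≤ n
  Q_le : Cfsg.pCoreOf 2 E ≤ Wm 2 E
  ρ : ↥E →* Equiv.Perm (Fin n)
  range : ρ.range = alternatingGroup (Fin n)
  f : G → Vec n
  map_mul : ∀ a ∈ Wm 2 E, ∀ b ∈ Wm 2 E, f (a * b) = f a + f b
  even : ∀ a ∈ Wm 2 E, Ev (f a)
  surj : ∀ v, Ev v → ∃ a ∈ WEm 2 E, f a = v
  zero : ∀ a ∈ Wm 2 E, (f a = 0 ↔ a ∈ Zm 2 E)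
  equiv : ∀ (e : ↥E), ∀ a ∈ Wm 2 E, f ((e : G) * a * (e : G)⁻¹) = pa (ρ e) (f a)

theorem exists_pdata {T E : Subgroup G} (hE : Cfsg.IsBaumannBlock 2 T E) {m : ℕ}
    (hW : Cfsg.ActsAsOddPermModuleOnSection (2 * m + 1) (alternatingGroup (Fin (2 * m + 1))) E
      (Wm 2 E) (Zm 2 E)) (hQ : Cfsg.pCoreOf 2 E = Wm 2 E) :
    Nonempty (PData E (2 * m + 1)) := by
  classical
  have h := facts_of_block hE
  have hm : m ≠ 0 := by
    rintro rfl
    obtain ⟨-, -, ρ, ψ, -, heven, -, hker, -⟩ := hW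
    refine h.ne fun w hw => (hker ⟨w, hw⟩).1 (Multiplicative.toAdd.injective (funext fun i => ?_))
    have := heven ⟨w, hw⟩
    rw [Fin.sum_univ_one] at this
    rw [show i = 0 from Fin.ext (by omega)]
    exact this
  obtain ⟨hEW, hle, ρ, ψ, hR, heven, hψ, hker, hact⟩ := hW
  let f : G → Vec (2 * m + 1) :=
    fun a => if ha : a ∈ Wm 2 E then Multiplicative.toAdd (ψ ⟨a, ha⟩) else 0
  have hf : ∀ a (ha : a ∈ Wm 2 E), f a = Multiplicative.toAdd (ψ ⟨a, ha⟩) := fun a ha => dif_pos ha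
  have hzero : ∀ a ∈ Wm 2 E, (f a = 0 ↔ a ∈ Zm 2 E) := fun a ha => by
    rw [hf a ha]
    exact ⟨fun e => (hker _).1 (Multiplicative.toAdd.injective e),
      fun e => by rw [(hker ⟨a, ha⟩).2 e, toAdd_one]⟩
  have hmul : ∀ a ∈ Wm 2 E, ∀ b ∈ Wm 2 E, f (a * b) = f a + f b := fun a ha b hb => by
    rw [hf a ha, hf b hb, hf _ (mul_mem ha hb), ← toAdd_mul, ← map_mul]; rfl
  refine ⟨{ facts := h, hn := ⟨m, by ring⟩, hn3 := by omega, Q_le := hQ.le, ρ := ρ, range := hR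
            f := f, map_mul := hmul, even := fun a ha => ?_, surj := fun v hv => ?_
            zero := hzero, equiv := fun e a ha => ?_ }⟩
  · rw [hf a ha]; exact heven _
  · obtain ⟨⟨u, hu⟩, huv⟩ := hψ v hv
    obtain ⟨k, hk, c, hc, rfl⟩ := h.exists_split hu
    refine ⟨k, hk, ?_⟩
    rw [← huv, ← hf _ hu, hmul k (WE_le_W E hk) c hc.1, (hzero c hc.1).2 hc, add_zero]
  · obtain ⟨w, hw, hwv⟩ := hact e ⟨a, ha⟩
    rw [hf a ha, hf _ (hw ▸ w.2)]
    refine funext fun i => ?_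
    rw [show (⟨(e : G) * a * (e : G)⁻¹, hw ▸ w.2⟩ : ↥(Wm 2 E)) = w from Subtype.ext hw.symm]
    exact hwv i

namespace PData

variable {E : Subgroup G} {n : ℕ} (X : PData E n)

include X

theorem hW {g : G} (hg : g ∈ normalizer (E : Set G)) {a : G} (ha : a ∈ Wm 2 E) :
    g * a * g⁻¹ ∈ Wm 2 E :=
  (mem_normalizer_iff.1 (CfsgLib.Baumann.le_normalizer_W E hg) a).1 ha

theorem f_inv {a : G} (ha : a ∈ Wm 2 E) : X.f a⁻¹ = X.f a := by
  have h1 := X.map_mul a ha _ (inv_mem ha)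
  rw [mul_inv_cancel, (X.zero 1 (one_mem _)).2 (one_mem _)] at h1
  funext i
  exact (CharTwo.add_eq_zero.1 (congrFun h1.symm i)).symm

theorem eq_iff {a b : G} (ha : a ∈ Wm 2 E) (hb : b ∈ Wm 2 E) :
    X.f a = X.f b ↔ a⁻¹ * b ∈ Zm 2 E := by
  rw [← X.zero _ (mul_mem (inv_mem ha) hb), X.map_mul _ (inv_mem ha) _ hb, X.f_inv ha]
  refine ⟨fun e => by rw [e]; exact funext fun _ => CharTwo.add_self_eq_zero _, fun e => ?_⟩
  funext i
  exact CharTwo.add_eq_zero.1 (congrFun e i)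

theorem top_of_id {g : G} (hg : g ∈ normalizer (E : Set G))
    (hid : ∀ w ∈ Wm 2 E, X.f (g * w * g⁻¹) = X.f w) : g ∈ Cm 2 E :=
  X.facts.mem_C_of_top hg fun w hw => by
    have hw' := WE_le_W E hw
    have := (X.eq_iff hw' (X.hW hg hw')).1 (hid w hw').symm
    rwa [X.facts.W_commute (inv_mem hw') (X.hW hg hw')] at this

/-- `g` acts on the top as the permutation `σ`. -/
def Acts (g : G) (σ : Equiv.Perm (Fin n)) : Prop :=
  ∀ w ∈ Wm 2 E, X.f (g * w * g⁻¹) = pa σ (X.f w)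

theorem acts_unique {g : G} {σ τ : Equiv.Perm (Fin n)} (h1 : X.Acts g σ) (h2 : X.Acts g τ) :
    σ = τ := by
  have : τ⁻¹ * σ = 1 := perm_faithful X.hn3 fun v hv => by
    obtain ⟨w, hw, rfl⟩ := X.surj v hv
    rw [pa_mul, ← h1 w (WE_le_W E hw), h2 w (WE_le_W E hw), ← pa_mul, inv_mul_cancel, pa_one]
  exact (inv_mul_eq_one.1 this).symm

theorem acts_mul {g g' : G} {σ τ : Equiv.Perm (Fin n)}
    (hg' : g' ∈ normalizer (E : Set G)) (h1 : X.Acts g σ) (h2 : X.Acts g' τ) :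
    X.Acts (g * g') (σ * τ) := fun w hw => by
  rw [show g * g' * w * (g * g')⁻¹ = g * (g' * w * g'⁻¹) * g⁻¹ by group, h1 _ (X.hW hg' hw),
    h2 w hw, pa_mul]

theorem acts_one : X.Acts 1 1 := fun w _ => by simp [pa_one]

theorem acts_of_mem (e : ↥E) : X.Acts e (X.ρ e) := X.equiv e

theorem acts_inv {g : G} {σ : Equiv.Perm (Fin n)} (hg : g ∈ normalizer (E : Set G))
    (h : X.Acts g σ) : X.Acts g⁻¹ σ⁻¹ := fun w hw => by
  have h1 := h _ (X.hW (inv_mem hg) hw)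
  rw [show g * (g⁻¹ * w * g⁻¹⁻¹) * g⁻¹ = w by group] at h1
  rw [h1, ← pa_mul, inv_mul_cancel, pa_one]

theorem exists_acts {g : G} (hg : g ∈ normalizer (E : Set G)) : ∃ σ, X.Acts g σ := by
  classical
  have hs := X.surj
  choose s hs hfs using hs
  let T : Vec n → Vec n := fun v => if hv : Ev v then X.f (g * s v hv * g⁻¹) else 0
  have hT : ∀ w ∈ Wm 2 E, T (X.f w) = X.f (g * w * g⁻¹) := fun w hw => by
    have hsw := WE_le_W E (hs _ (X.even w hw))
    show (if hv : Ev (X.f w) then X.f (g * s _ hv * g⁻¹) else 0) = _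
    rw [dif_pos (X.even w hw), X.eq_iff (X.hW hg hsw) (X.hW hg hw),
      show (g * s _ (X.even w hw) * g⁻¹)⁻¹ * (g * w * g⁻¹) =
        g * ((s _ (X.even w hw))⁻¹ * w) * g⁻¹ by group]
    exact (mem_normalizer_iff.1 (X.facts.norm_Z hg) _).1
      ((X.eq_iff hsw hw).1 (hfs _ (X.even w hw)))
  have hadd : ∀ v w, Ev v → Ev w → T (v + w) = T v + T w := fun v w hv hw => by
    obtain ⟨a, ha, rfl⟩ := X.surj v hv
    obtain ⟨b, hb, rfl⟩ := X.surj w hw
    have ha' := WE_le_W E ha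
    have hb' := WE_le_W E hb
    rw [← X.map_mul a ha' b hb', hT _ (mul_mem ha' hb'), hT a ha', hT b hb',
      ← X.map_mul _ (X.hW hg ha') _ (X.hW hg hb')]
    congr 1; group
  have hsurj : ∀ u, Ev u → ∃ v, Ev v ∧ T v = u := fun u hu => by
    obtain ⟨a, ha, rfl⟩ := X.surj u hu
    have ha' := X.hW (inv_mem hg) (WE_le_W E ha)
    refine ⟨_, X.even _ ha', ?_⟩
    rw [hT _ ha']
    congr 1; group
  have hinj : ∀ v, Ev v → T v = 0 → v = 0 := fun v hv h0 => by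
    obtain ⟨a, ha, rfl⟩ := X.surj v hv
    have ha' := WE_le_W E ha
    rw [hT a ha', X.zero _ (X.hW hg ha')] at h0
    refine (X.zero a ha').2 ?_
    exact (mem_normalizer_iff.1 (X.facts.norm_Z hg) a).2 h0
  obtain ⟨σ, hσ⟩ := exists_perm X.hn3 T hadd hinj fun a b hab => by
    obtain ⟨c, hca, hcb⟩ := exists_third X.hn3 a b
    obtain ⟨e, he⟩ := X.range.ge (cyc_mem hab hca.symm hcb.symm)
    have hge : g * (e : G) * g⁻¹ ∈ E := (mem_normalizer_iff.1 hg e).1 e.2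
    have hy : ∀ v, Ev v → T (pa (cyc a b c) v) = pa (X.ρ ⟨_, hge⟩) (T v) := fun v hv => by
      obtain ⟨w, hw, rfl⟩ := X.surj v hv
      have hw' := WE_le_W E hw
      rw [← he, ← X.equiv e w hw', hT _ (X.hW (le_normalizer e.2) hw'), hT w hw',
        ← X.equiv ⟨_, hge⟩ _ (X.hW hg hw')]
      congr 1
      show g * ((e : G) * w * (e : G)⁻¹) * g⁻¹ =
        g * e * g⁻¹ * (g * w * g⁻¹) * (g * e * g⁻¹)⁻¹
      group
    refine edge_image T hadd hsurj hinj hab hca.symm hcb.symm ?_ hy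
    refine perm_faithful X.hn3 fun u hu => ?_
    obtain ⟨v, hv, rfl⟩ := hsurj u hu
    rw [pow_succ, pow_two, pa_mul, pa_mul, ← hy v hv, ← hy _ (ev_pa _ hv),
      ← hy _ (ev_pa _ (ev_pa _ hv)), ← pa_mul, ← pa_mul,
      show cyc a b c * cyc a b c * cyc a b c = cyc a b c ^ 3 by rw [pow_succ, pow_two],
      cyc_pow_three hab hca.symm hcb.symm, pa_one]
  exact ⟨σ, fun w hw => by rw [← hT w hw, hσ _ (X.even w hw)]⟩

/-- Elements of odd order in `N(E)` act on `W_E` as elements of `E`. -/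
theorem odd_mem_EC {g : G} (hg : g ∈ normalizer (E : Set G)) (hco : (orderOf g).Coprime 2) :
    ∃ e ∈ E, e⁻¹ * g ∈ Cm 2 E := by
  obtain ⟨σ, hσ⟩ := X.exists_acts hg
  have hpow : ∀ k : ℕ, X.Acts (g ^ k) (σ ^ k) := by
    intro k
    induction k with
    | zero => rw [pow_zero, pow_zero]; exact X.acts_one
    | succ k ih => rw [pow_succ, pow_succ]; exact X.acts_mul hg ih hσ
  have h1 : σ ^ orderOf g = 1 := by
    have := hpow (orderOf g)
    rw [pow_orderOf_eq_one] at this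
    exact X.acts_unique this X.acts_one
  have hsign : Equiv.Perm.sign σ = 1 := by
    have := congrArg Equiv.Perm.sign h1
    rw [map_pow, map_one] at this
    rcases Int.units_eq_one_or (Equiv.Perm.sign σ) with e | e
    · exact e
    · rw [e, (Nat.coprime_two_right.1 hco).neg_one_pow] at this
      exact absurd this (by decide)
  obtain ⟨e, he⟩ := X.range.ge (show σ ∈ alternatingGroup (Fin n) from hsign)
  refine ⟨e, e.2, X.top_of_id (mul_mem (inv_mem (le_normalizer e.2)) hg) fun w hw => ?_⟩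
  have h2 := X.acts_mul hg (X.acts_inv (le_normalizer e.2) (X.acts_of_mem e)) hσ w hw
  rw [he, inv_mul_cancel, pa_one] at h2
  exact h2

theorem card_four : 4 * Nat.card ↥(WEm 2 E ⊓ Zm 2 E) ≤ Nat.card ↥(WEm 2 E) := by
  refine le_trans ?_ (card_mul_le_card (p := 2) (E := E) X.f
    (fun a ha b hb => X.map_mul a (WE_le_W E ha) b (WE_le_W E hb))
    (fun a ha => X.zero a (WE_le_W E ha)) Ev X.surj)
  rw [mul_comm]
  refine Nat.mul_le_mul_left _ ?_
  obtain ⟨a, b, c, hab, hac, hbc⟩ : ∃ a b c : Fin n, a ≠ b ∧ a ≠ c ∧ b ≠ c := by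
    obtain ⟨a⟩ : Nonempty (Fin n) := ⟨⟨0, X.hn.pos⟩⟩
    obtain ⟨b, hb, -⟩ := exists_third X.hn3 a a
    obtain ⟨c, hca, hcb⟩ := exists_third X.hn3 a b
    exact ⟨a, b, c, hb.symm, hca.symm, hcb.symm⟩
  let q : Fin 4 → {v : Vec n // Ev v} := ![⟨0, ev_zero⟩, ⟨_, ev_ed a b⟩, ⟨_, ev_ed a c⟩, ⟨_, ev_ed b c⟩]
  have h4 : Nat.card (Fin 4) = 4 := Nat.card_fin 4
  rw [← h4]
  refine Nat.card_le_card_of_injective q fun i j e => ?_
  have e' := congrArg Subtype.val e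
  have ha := congrFun e' a
  have hb := congrFun e' b
  have hab' : ed a b b = 1 := ed_right hab
  have hbc' : ed a c b = 0 := ed_eq_zero hab.symm hbc
  have hbca : ed b c a = 0 := ed_eq_zero hab hac
  fin_cases i <;> fin_cases j <;>
    simp [q, ed_left hab, ed_left hac, ed_left hbc, hab', hbc', hbca] at ha hb ⊢

/-- The offender bound. -/
theorem bound {A : Subgroup G} (hA : A ≤ normalizer (E : Set G))
    (hel : Cfsg.IsElementaryAbelian 2 A) :
    Nat.card A * Nat.card ↥(Fx X.facts A) ≤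
      Nat.card ↥(WEm 2 E) * Nat.card ↥(A ⊓ Cm 2 E) := by
  have hσ : ∀ a : ↥A, ∃ σ, X.Acts a σ := fun a => X.exists_acts (hA a.2)
  choose σ hσ using hσ
  let φ : ↥A →* Equiv.Perm (Fin n) :=
    { toFun := σ
      map_one' := X.acts_unique (hσ 1) X.acts_one
      map_mul' := fun a b => X.acts_unique (hσ (a * b)) (X.acts_mul (hA b.2) (hσ a) (hσ b)) }
  have hker : Nat.card φ.ker ≤ Nat.card ↥(A ⊓ Cm 2 E) := by
    refine Nat.card_le_card_of_injective (fun a => (⟨((a : ↥A) : G), (a : ↥A).2,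
      X.top_of_id (hA (a : ↥A).2) fun w hw => ?_⟩ : ↥(A ⊓ Cm 2 E))) fun a b e =>
        Subtype.ext (Subtype.ext (congrArg (fun x : ↥(A ⊓ Cm 2 E) => (x : G)) e))
    rw [hσ (a : ↥A) w hw, show σ (a : ↥A) = 1 from a.2, pa_one]
  have hexp : ∀ x ∈ φ.range, x * x = 1 := by
    rintro _ ⟨a, rfl⟩
    rw [← _root_.map_mul, show a * a = 1 from Subtype.ext (by
      have := hel.2 a a.2
      rwa [pow_two] at this), map_one]
  have hFx := card_le_mul (p := 2) (E := E) X.f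
    (fun a ha b hb => X.map_mul a (WE_le_W E ha) b (WE_le_W E hb))
    (fun a ha => X.zero a (WE_le_W E ha)) (Fx X.facts A) (Fx_le X.facts A)
    (fun v => Ev v ∧ ∀ s ∈ φ.range, pa s v = v) fun w hw => by
      have hw' := WE_le_W E hw.1
      refine ⟨X.even w hw', ?_⟩
      rintro _ ⟨a, rfl⟩
      show pa (σ a) (X.f w) = X.f w
      rw [← hσ a w hw', eq_comm, X.eq_iff hw' (X.hW (hA a.2) hw'),
        X.facts.W_commute (inv_mem hw') (X.hW (hA a.2) hw')]
      exact hw.2 a a.2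
  have hall := card_mul_le_card (p := 2) (E := E) X.f
    (fun a ha b hb => X.map_mul a (WE_le_W E ha) b (WE_le_W E hb))
    (fun a ha => X.zero a (WE_le_W E ha)) Ev X.surj
  have hmain := card_mul_fixed_le X.hn φ.range hexp
  have hA' : Nat.card A = Nat.card φ.range * Nat.card φ.ker := by
    rw [φ.ker.card_eq_card_quotient_mul_card_subgroup,
      Nat.card_congr (QuotientGroup.quotientKerEquivRange φ).toEquiv]
  rw [hA']
  calc Nat.card φ.range * Nat.card φ.ker * Nat.card ↥(Fx X.facts A)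
      ≤ Nat.card φ.range * Nat.card φ.ker * (Nat.card ↥(WEm 2 E ⊓ Zm 2 E) *
        Nat.card {v : Vec n // Ev v ∧ ∀ s ∈ φ.range, pa s v = v}) := Nat.mul_le_mul_left _ hFx
    _ = Nat.card ↥(WEm 2 E ⊓ Zm 2 E) * (Nat.card φ.range *
        Nat.card {v : Vec n // Ev v ∧ ∀ s ∈ φ.range, pa s v = v}) * Nat.card φ.ker := by ring
    _ ≤ Nat.card ↥(WEm 2 E ⊓ Zm 2 E) * Nat.card {v : Vec n // Ev v} *
        Nat.card ↥(A ⊓ Cm 2 E) := Nat.mul_le_mul (Nat.mul_le_mul_left _ hmain) hker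
    _ ≤ _ := Nat.mul_le_mul_right _ hall

/-- `W_E ∩ Z = 1` for a block of symmetric type. -/
theorem WE_inf_Z : WEm 2 E ⊓ Zm 2 E = ⊥ := by
  classical
  have h := X.facts
  have hWel : Cfsg.IsElementaryAbelian 2 (Wm 2 E) := CfsgLib.Baumann.exponent_omegaOneCenter
  have hsq : ∀ w ∈ Wm 2 E, w * w = 1 := fun w hw => by
    have := hWel.2 w hw; rwa [pow_two] at this
  have hQfix : ∀ x ∈ E, (∀ w ∈ Wm 2 E, X.f (x * w * x⁻¹) = X.f w) → ∀ w ∈ Wm 2 E, x * w * x⁻¹ = w := by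
    intro x hx hid w hw
    have hxQ : x ∈ Cfsg.pCoreOf 2 E := h.ker x hx fun v hv => by
      have := (X.eq_iff hv (X.hW (le_normalizer hx) hv)).1 (hid v hv).symm
      rwa [h.W_commute (inv_mem hv) (X.hW (le_normalizer hx) hv)] at this
    rw [W_comm hw hxQ, mul_inv_cancel_right]
  -- an element of order three modulo the kernel fixes what it fixes modulo `Z`
  have hthree : ∀ (e : ↥E), X.ρ e ^ 3 = 1 → ∀ w ∈ Wm 2 E,
      X.f ((e : G) * w * (e : G)⁻¹) = X.f w → (e : G) * w * (e : G)⁻¹ = w := by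
    intro e he w hw hfw
    have hc : (e : G) ^ 3 * w * ((e : G) ^ 3)⁻¹ = w :=
      hQfix _ (pow_mem e.2 3) (fun v hv => by
        rw [show (e : G) ^ 3 = ((e ^ 3 : ↥E) : G) by simp, X.equiv _ v hv, map_pow, he, pa_one])
        w hw
    set δ := w⁻¹ * ((e : G) * w * (e : G)⁻¹) with hδ
    have hδZ : δ ∈ Zm 2 E := (X.eq_iff hw (X.hW (le_normalizer e.2) hw)).1 hfw.symm
    have e1 : (e : G) * w * (e : G)⁻¹ = w * δ := by rw [hδ, mul_inv_cancel_left]
    have e3 : (e : G) ^ 3 * w * ((e : G) ^ 3)⁻¹ = w * δ * δ * δ := by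
      have hd := h.Z_fix hδZ e.2
      calc (e : G) ^ 3 * w * ((e : G) ^ 3)⁻¹
          = (e : G) * ((e : G) * ((e : G) * w * (e : G)⁻¹) * (e : G)⁻¹) * (e : G)⁻¹ := by
            simp only [pow_succ, pow_zero, one_mul, _root_.mul_inv_rev, mul_assoc]
        _ = w * δ * δ * δ := by
            rw [e1, show (e : G) * (w * δ) * (e : G)⁻¹ =
              (e : G) * w * (e : G)⁻¹ * ((e : G) * δ * (e : G)⁻¹) by group, e1, hd,
              show (e : G) * (w * δ * δ) * (e : G)⁻¹ = (e : G) * w * (e : G)⁻¹ *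
                ((e : G) * δ * (e : G)⁻¹) * ((e : G) * δ * (e : G)⁻¹) by group, e1, hd]
    rw [hc, mul_assoc, mul_assoc, hsq δ hδZ.1, mul_one] at e3
    rw [e1, ← e3]
  -- commutators with an element over a three-cycle
  let Tr : G → G → Prop := fun e w => ∃ u ∈ WEm 2 E, w = e * u * e⁻¹ * u⁻¹
  have hTrW : ∀ e ∈ E, ∀ w, Tr e w → w ∈ WEm 2 E := by
    rintro e he _ ⟨u, hu, rfl⟩
    exact mul_mem ((cj_WE (le_normalizer he)).le (conj_mem_cj hu)) (inv_mem hu)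
  have hTrmul : ∀ e ∈ E, ∀ w v, Tr e w → Tr e v → Tr e (w * v) := by
    rintro e he _ _ ⟨u, hu, rfl⟩ ⟨u', hu', rfl⟩
    refine ⟨u * u', mul_mem hu hu', ?_⟩
    have hm := X.hW (le_normalizer he) (WE_le_W E hu')
    rw [show e * (u * u') * e⁻¹ * (u * u')⁻¹ = e * u * e⁻¹ * (e * u' * e⁻¹ * u'⁻¹ * u⁻¹) by group,
      h.W_commute (mul_mem hm (inv_mem (WE_le_W E hu'))) (inv_mem (WE_le_W E hu))]
    simp only [mul_assoc]
  have hTrZ : ∀ (e : ↥E), X.ρ e ^ 3 = 1 → ∀ w, Tr e w → w ∈ Zm 2 E → w = 1 := by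
    rintro e he _ ⟨u, hu, rfl⟩ hwZ
    have hu' := WE_le_W E hu
    rw [hthree e he u hu' (((X.eq_iff hu' (X.hW (le_normalizer e.2) hu')).2 (by
      rw [h.W_commute (inv_mem hu') (X.hW (le_normalizer e.2) hu')]; exact hwZ)).symm), mul_inv_cancel]
  have hTrρ : ∀ (e e' : ↥E), X.ρ e = X.ρ e' → ∀ w, Tr e w → Tr e' w := by
    rintro e e' hee _ ⟨u, hu, rfl⟩
    refine ⟨u, hu, ?_⟩
    have := hQfix _ (mul_mem (inv_mem e'.2) e.2) (fun v hv => by
      rw [show (e' : G)⁻¹ * (e : G) = ((e'⁻¹ * e : ↥E) : G) by simp, X.equiv _ v hv, _root_.map_mul,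
        map_inv, hee, inv_mul_cancel, pa_one]) u (WE_le_W E hu)
    have e2 : (e : G) * u * (e : G)⁻¹ = (e' : G) * u * (e' : G)⁻¹ := by
      conv_rhs => rw [← this]
      group
    rw [e2]
  have hTrinv : ∀ (e : ↥E) w, Tr e w → Tr (e⁻¹ : ↥E) w := by
    rintro e _ ⟨u, hu, rfl⟩
    have hu' : (e : G) * u * (e : G)⁻¹ ∈ WEm 2 E := (cj_WE (le_normalizer e.2)).le (conj_mem_cj hu)
    refine ⟨(e : G) * u * (e : G)⁻¹, hu', ?_⟩
    rw [Subgroup.coe_inv, show (e : G)⁻¹ * ((e : G) * u * (e : G)⁻¹) * (e : G)⁻¹⁻¹ = u by group]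
    have h1 := mul_mem hu' (inv_mem hu)
    calc (e : G) * u * (e : G)⁻¹ * u⁻¹ = ((e : G) * u * (e : G)⁻¹ * u⁻¹)⁻¹ :=
          eq_inv_of_mul_eq_one_left (hsq _ (WE_le_W E h1))
      _ = _ := by group
  -- lifts of vectors of weight two
  let Lf : Fin n → Fin n → G → Prop := fun a b w => ∃ c, c ≠ a ∧ c ≠ b ∧
    ∃ e : ↥E, X.ρ e = cyc a b c ∧ Tr e w ∧ X.f w = ed a b
  have hLuniq : ∀ a b w w', a ≠ b → Lf a b w → Lf a b w' → w = w' := by
    rintro a b w w' hab ⟨c, hca, hcb, e, he, hw, hfw⟩ ⟨d, hda, hdb, e', he', hw', hfw'⟩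
    have key : ∀ v v', Tr e v → Tr e v' → X.f v = X.f v' → v = v' := fun v v' hv hv' hf => by
      have h3 : X.ρ e ^ 3 = 1 := by rw [he]; exact cyc_pow_three hab hca.symm hcb.symm
      have hv'' : Tr e v⁻¹ := by
        have : v⁻¹ = v := inv_eq_of_mul_eq_one_right (hsq v (WE_le_W E (hTrW _ e.2 v hv)))
        rwa [this]
      exact inv_mul_eq_one.1 (hTrZ e h3 _ (hTrmul _ e.2 _ _ hv'' hv')
        ((X.eq_iff (WE_le_W E (hTrW _ e.2 v hv)) (WE_le_W E (hTrW _ e.2 v' hv'))).1 hf))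
    rcases eq_or_ne c d with rfl | hcd
    · exact key w w' hw (hTrρ e' e (he'.trans he.symm) w' hw') (hfw.trans hfw'.symm)
    obtain ⟨k, hka, hkb, hkc, hkd⟩ := exists_fifth (n := n) (by
      have hsub : ({a, b, c, d} : Finset (Fin n)) ⊆ Finset.univ := Finset.subset_univ _
      have h4 := Finset.card_le_card hsub
      rw [Finset.card_univ, Fintype.card_fin,
        Finset.card_insert_of_notMem (by simp [hab, hca.symm, hda.symm]),
        Finset.card_insert_of_notMem (by simp [hcb.symm, hdb.symm]),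
        Finset.card_insert_of_notMem (by simp [hcd]), Finset.card_singleton] at h4
      rcases X.hn with ⟨m, rfl⟩
      omega) a b c d
    obtain ⟨y, hy⟩ := X.range.ge (cyc_mem hcd hkc.symm hkd.symm)
    have hy3 : X.ρ y ^ 3 = 1 := by rw [hy]; exact cyc_pow_three hcd hkc.symm hkd.symm
    have hfix : (y : G) * w * (y : G)⁻¹ = w := hthree y hy3 w (WE_le_W E (hTrW _ e.2 w hw)) (by
      rw [X.equiv y w (WE_le_W E (hTrW _ e.2 w hw)), hfw, hy, pa_ed,
        cyc_other hca.symm hda.symm hka.symm, cyc_other hcb.symm hdb.symm hkb.symm])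
    have hconj : X.ρ (y * e * y⁻¹) = cyc a b d := by
      rw [_root_.map_mul, _root_.map_mul, map_inv, hy, he, mul_inv_eq_iff_eq_mul]
      show cyc c d k * cyc a b c = cyc a b d * cyc c d k
      ext i
      simp only [Equiv.Perm.mul_apply]
      rcases eq_or_ne i a with rfl | i1
      · rw [cyc_a hab hcb.symm, cyc_other hcb.symm hdb.symm hkb.symm,
          cyc_other hca.symm hda.symm hka.symm, cyc_a hab hdb.symm]
      rcases eq_or_ne i b with rfl | i2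
      · rw [cyc_b, cyc_a hcd hkd.symm, cyc_other hcb.symm hdb.symm hkb.symm, cyc_b]
      rcases eq_or_ne i c with rfl | i3
      · rw [cyc_c hca.symm hcb.symm, cyc_other hca.symm hda.symm hka.symm, cyc_a hcd hkd.symm,
          cyc_c hda.symm hdb.symm]
      rw [cyc_other i1 i2 i3]
      rcases eq_or_ne i d with rfl | i4
      · rw [cyc_b, cyc_other hka hkb hkd]
      rcases eq_or_ne i k with rfl | i5
      · rw [cyc_c hkc.symm hkd.symm, cyc_other hca hcb hcd]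
      rw [cyc_other i3 i4 i5, cyc_other i1 i2 i4]
    have hTr' : Tr (y * e * y⁻¹ : ↥E) w := by
      obtain ⟨u, hu, hwu⟩ := hw
      refine ⟨(y : G) * u * (y : G)⁻¹, (cj_WE (le_normalizer y.2)).le (conj_mem_cj hu), ?_⟩
      rw [← hfix, hwu]
      simp only [Subgroup.coe_mul, Subgroup.coe_inv]
      group
    have h3 : X.ρ e' ^ 3 = 1 := by rw [he']; exact cyc_pow_three hab hda.symm hdb.symm
    have h1 := hTrρ (y * e * y⁻¹) e' (hconj.trans he'.symm) w hTr'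
    have hv'' : Tr e' w⁻¹ := by
      have : w⁻¹ = w := inv_eq_of_mul_eq_one_right (hsq w (WE_le_W E (hTrW _ e.2 w hw)))
      rwa [this]
    exact inv_mul_eq_one.1 (hTrZ e' h3 _ (hTrmul _ e'.2 _ _ hv'' hw')
      ((X.eq_iff (WE_le_W E (hTrW _ e.2 w hw)) (WE_le_W E (hTrW _ e'.2 w' hw'))).1
        (hfw.trans hfw'.symm)))
  -- every edge of a triangle has a lift among the commutators of its three-cycle
  have hexists : ∀ a b c, a ≠ b → a ≠ c → b ≠ c → ∀ e : ↥E, X.ρ e = cyc a b c →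
      (∃ w, Tr e w ∧ X.f w = ed a b) ∧ ∃ w, Tr e w ∧ X.f w = ed a c := by
    intro a b c hab hac hbc e he
    have hmk : ∀ v, Ev v → ∃ w, Tr e w ∧ X.f w = pa (cyc a b c) v + v := by
      intro v hv
      obtain ⟨u, hu, rfl⟩ := X.surj v hv
      refine ⟨_, ⟨u, hu, rfl⟩, ?_⟩
      rw [X.map_mul _ (X.hW (le_normalizer e.2) (WE_le_W E hu)) _ (inv_mem (WE_le_W E hu)),
        X.equiv e u (WE_le_W E hu), he, X.f_inv (WE_le_W E hu)]
    refine ⟨?_, ?_⟩
    · obtain ⟨w, hw, hfw⟩ := hmk _ (ev_ed b c)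
      refine ⟨w, hw, ?_⟩
      rw [hfw, pa_ed, cyc_b, cyc_c hac hbc, ed_comm c a, ed_comm b c, ed_comm a c, ed_add]
    · obtain ⟨w, hw, hfw⟩ := hmk _ (ev_ed a b)
      refine ⟨w, hw, ?_⟩
      rw [hfw, pa_ed, cyc_a hab hbc, cyc_b, ed_comm a b, add_comm, ed_add]
  have hLex : ∀ a b, a ≠ b → ∃ w, Lf a b w := fun a b hab => by
    obtain ⟨c, hca, hcb⟩ := exists_third X.hn3 a b
    obtain ⟨e, he⟩ := X.range.ge (cyc_mem hab hca.symm hcb.symm)
    obtain ⟨⟨w, hw, hfw⟩, -⟩ := hexists a b c hab hca.symm hcb.symm e he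
    exact ⟨w, c, hca, hcb, e, he, hw, hfw⟩
  have htri : ∀ a b c, a ≠ b → a ≠ c → b ≠ c → ∀ w v r, Lf a b w → Lf a c v → Lf b c r →
      w * v = r := by
    intro a b c hab hac hbc w v r hw hv hr
    obtain ⟨e, he⟩ := X.range.ge (cyc_mem hab hac hbc)
    obtain ⟨⟨w', hw', hfw'⟩, ⟨v', hv', hfv'⟩⟩ := hexists a b c hab hac hbc e he
    have h1 : Lf a b w' := ⟨c, hac.symm, hbc.symm, e, he, hw', hfw'⟩
    have h2 : Lf a c v' := by
      refine ⟨b, hab.symm, hbc, e⁻¹, ?_, hTrinv e v' hv', hfv'⟩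
      rw [map_inv, he, cyc_inv hab hac hbc, cyc_rotate hab.symm hbc hac]
    have hww := WE_le_W E (hTrW _ e.2 _ hw')
    have hvv := WE_le_W E (hTrW _ e.2 _ hv')
    have h3 : Lf b c (w' * v') := by
      refine ⟨a, hab, hac, e, ?_, hTrmul _ e.2 _ _ hw' hv', ?_⟩
      · rw [he, cyc_rotate hab hac hbc]
      · rw [X.map_mul _ hww _ hvv, hfw', hfv', ed_add]
    rw [hLuniq a b w w' hab hw h1, hLuniq a c v v' hac hv h2, hLuniq b c r _ hbc hr h3]
  obtain ⟨a₀⟩ : Nonempty (Fin n) := ⟨⟨0, X.hn.pos⟩⟩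
  have hWl : ∀ l : Fin n, ∃ w ∈ WEm 2 E, (l ≠ a₀ → Lf a₀ l w) ∧ (l = a₀ → w = 1) := fun l => by
    rcases eq_or_ne l a₀ with rfl | hl
    · exact ⟨1, one_mem _, fun h => absurd rfl h, fun _ => rfl⟩
    · obtain ⟨w, hw⟩ := hLex a₀ l hl.symm
      obtain ⟨c, -, -, e, -, hT, -⟩ := id hw
      exact ⟨w, hTrW _ e.2 w hT, fun _ => hw, fun h => absurd h hl⟩
  choose wl hwlE hwl hwl1 using hWl
  letI : CommGroup ↥(WEm 2 E) :=
    { (inferInstance : Group ↥(WEm 2 E)) with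
      mul_comm := fun a b => Subtype.ext (h.W_commute (WE_le_W E a.2) (WE_le_W E b.2)) }
  let s : Vec n → ↥(WEm 2 E) := fun v => ∏ l, (⟨wl l, hwlE l⟩ : ↥(WEm 2 E)) ^ (v l).val
  have hwsq : ∀ l, (⟨wl l, hwlE l⟩ : ↥(WEm 2 E)) * ⟨wl l, hwlE l⟩ = 1 := fun l =>
    Subtype.ext (hsq _ (WE_le_W E (hwlE l)))
  have hsadd : ∀ v w, s (v + w) = s v * s w := fun v w => by
    show ∏ l, _ = (∏ l, _) * ∏ l, _
    rw [← Finset.prod_mul_distrib]
    refine Finset.prod_congr rfl fun l _ => ?_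
    rw [Pi.add_apply]
    rcases zmod_two (v l) with x | x <;> rcases zmod_two (w l) with y | y <;> rw [x, y]
    · simp
    · simp
    · simp
    · simp [show (1 : ZMod 2) + 1 = 0 from rfl, ZMod.val_one, hwsq l]
  have hs0 : s 0 = 1 := by
    have := hsadd 0 0
    rw [add_zero] at this
    exact left_eq_mul.1 this
  have hsed : ∀ a b w, a ≠ b → Lf a b w → (s (ed a b) : G) = w := by
    intro a b w hab hw
    have hse : s (ed a b) = ⟨wl a, hwlE a⟩ * ⟨wl b, hwlE b⟩ := by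
      show ∏ l, _ = _
      rw [Fintype.prod_eq_mul a b hab fun l hl => by rw [ed_eq_zero hl.1 hl.2]; simp]
      rw [ed_left hab, ed_right hab]
      simp [ZMod.val_one]
    rw [hse, Subgroup.coe_mul]
    show wl a * wl b = w
    rcases eq_or_ne a a₀ with rfl | ha
    · rw [hwl1 a rfl, one_mul]
      exact hLuniq a b _ w hab (hwl b hab.symm) hw
    rcases eq_or_ne b a₀ with rfl | hb
    · rw [hwl1 b rfl, mul_one]
      have h1 := hwl a ha
      obtain ⟨w', hw'⟩ := hLex b a hab.symm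
      -- the lift does not depend on the order
      obtain ⟨c, hca, hcb, e, he, hT, hf⟩ := h1
      refine hLuniq a b _ w hab ?_ hw
      refine ⟨c, hcb, hca, e⁻¹, ?_, hTrinv e _ hT, by rw [hf, ed_comm]⟩
      rw [map_inv, he, cyc_inv hab.symm hca.symm hcb.symm]
    · exact htri a₀ a b ha.symm hb.symm hab _ _ w (hwl a ha) (hwl b hb) hw
  have hfs : ∀ v, Ev v → X.f (s v) = v := fun v hv => by
    refine ev_induction a₀ (P := fun v => X.f (s v) = v) ?_ (fun x y _ _ h1 h2 => ?_)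
      (fun l hl => ?_) hv
    · rw [hs0, Subgroup.coe_one, (X.zero 1 (one_mem _)).2 (one_mem _)]
    · rw [hsadd, Subgroup.coe_mul, X.map_mul _ (WE_le_W E (s x).2) _ (WE_le_W E (s y).2), h1, h2]
    · obtain ⟨w, hw⟩ := hLex l a₀ hl
      rw [hsed l a₀ w hl hw]
      obtain ⟨c, -, -, e, -, -, hf⟩ := hw
      exact hf
  let M : Subgroup G :=
    { carrier := {w | ∃ v, Ev v ∧ w = s v}
      mul_mem' := by
        rintro _ _ ⟨v, hv, rfl⟩ ⟨w, hw, rfl⟩
        exact ⟨v + w, ev_add hv hw, by rw [hsadd, Subgroup.coe_mul]⟩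
      one_mem' := ⟨0, ev_zero, by rw [hs0]; rfl⟩
      inv_mem' := by
        rintro _ ⟨v, hv, rfl⟩
        refine ⟨v, hv, inv_eq_of_mul_eq_one_right ?_⟩
        exact hsq _ (WE_le_W E (s v).2) }
  have hequiv : ∀ (e : ↥E) v, Ev v → (e : G) * (s v : G) * (e : G)⁻¹ = s (pa (X.ρ e) v) := by
    intro e v hv
    refine ev_induction a₀ (P := fun v => (e : G) * (s v : G) * (e : G)⁻¹ = s (pa (X.ρ e) v)) ?_
      (fun x y _ _ h1 h2 => ?_) (fun l hl => ?_) hv
    · rw [show pa (X.ρ e) (0 : Vec n) = 0 from rfl, hs0]; simp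
    · rw [pa_add, hsadd, hsadd, Subgroup.coe_mul, Subgroup.coe_mul, ← h1, ← h2]; group
    · obtain ⟨w, hw⟩ := hLex l a₀ hl
      rw [hsed l a₀ w hl hw, pa_ed]
      obtain ⟨c, hcl, hc0, e₁, he₁, hT, hf⟩ := hw
      set σ := X.ρ e
      have hinj := σ.injective
      refine (hsed (σ l) (σ a₀) _ (hinj.ne hl) ⟨σ c, hinj.ne hcl, hinj.ne hc0, e * e₁ * e⁻¹, ?_, ?_, ?_⟩).symm
      · rw [_root_.map_mul, _root_.map_mul, map_inv, he₁, mul_inv_eq_iff_eq_mul]
        show σ * cyc l a₀ c = cyc (σ l) (σ a₀) (σ c) * σ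
        ext i
        simp only [Equiv.Perm.mul_apply]
        rcases eq_or_ne i l with rfl | i1
        · rw [cyc_a hl hc0.symm, cyc_a (hinj.ne hl) (hinj.ne hc0.symm)]
        rcases eq_or_ne i a₀ with rfl | i2
        · rw [cyc_b, cyc_b]
        rcases eq_or_ne i c with rfl | i3
        · rw [cyc_c hcl.symm hc0.symm, cyc_c (hinj.ne hcl.symm) (hinj.ne hc0.symm)]
        rw [cyc_other i1 i2 i3, cyc_other (hinj.ne i1) (hinj.ne i2) (hinj.ne i3)]
      · obtain ⟨u, hu, rfl⟩ := hT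
        refine ⟨(e : G) * u * (e : G)⁻¹, (cj_WE (le_normalizer e.2)).le (conj_mem_cj hu), ?_⟩
        simp only [Subgroup.coe_mul, Subgroup.coe_inv]
        group
      · rw [X.equiv e w (WE_le_W E (hTrW _ e₁.2 w hT)), hf, pa_ed]
  have hWE : WEm 2 E ≤ M := by
    conv_lhs => rw [← h.WE_comm]
    rw [Subgroup.commutator_le]
    intro w hw e he
    have hv := X.even w (WE_le_W E hw)
    set m := (s (X.f w) : G)
    have hmM : m ∈ M := ⟨_, hv, rfl⟩
    set z := m⁻¹ * w with hz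
    have hzZ : z ∈ Zm 2 E := (X.eq_iff (WE_le_W E (s _).2) (WE_le_W E hw)).1 (hfs _ hv)
    have hem : e * m⁻¹ * e⁻¹ ∈ M := by
      have := inv_mem (show e * m * e⁻¹ ∈ M from ⟨_, ev_pa _ hv, hequiv ⟨e, he⟩ _ hv⟩)
      rwa [show (e * m * e⁻¹)⁻¹ = e * m⁻¹ * e⁻¹ by group] at this
    rw [commutatorElement_def, show w * e * w⁻¹ * e⁻¹ = m * ((z * e) * z⁻¹ * m⁻¹ * e⁻¹) by
      rw [hz]; group, h.Z_commute hzZ he, mul_inv_cancel_right]
    exact mul_mem hmM hem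
  refine (Subgroup.eq_bot_iff_forall _).2 fun x hx => ?_
  obtain ⟨v, hv, rfl⟩ := hWE hx.1
  have := hfs v hv
  rw [(X.zero _ (WE_le_W E (s v).2)).2 hx.2] at this
  rw [← this, hs0]
  rfl

end PData

end CfsgLib.BlockPerm
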