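import Cfsg.Agent.LocalB.BlockModules
import Cfsg.Agent.Classical.Transvections
import Cfsg.Agent.Classical.SylowTwoSL
import Cfsg.Agent.Invol.SL2Factors

/-!
The derived group `R` of `SL₂(F)` on the natural module `F²`: central involution, commutant,
invariant forms, isometries, odd normalized subgroups, generation by elements of two-power order.
-/

set_option autoImplicit false
set_option linter.style.haveILetI false
set_option linter.unusedSectionVars false

namespace CfsgLib.BlockSL2

open Matrix CfsgLib.BlockModule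
open scoped commutatorElement

variable {F : Type*} [Field F]

abbrev R (F : Type*) [Field F] : Subgroup (SL F) := commutator (SL F)

/-- The condition under which the commutant of `R` on `F²` is `F`: all cases but `|F| = 2`. -/
def Good (F : Type*) [Field F] : Prop := (∃ t : F, t ≠ 0 ∧ t * t ≠ 1) ∨ (3 : F) = 0

theorem small_cases (h : ¬ ∃ t : F, t ≠ 0 ∧ t * t ≠ 1) (x : F) : x = 0 ∨ x = 1 ∨ x = -1 := by
  push Not at h
  rcases eq_or_ne x 0 with h0 | h0
  · exact Or.inl h0
  · exact Or.inr (mul_self_eq_one_iff.1 (h x h0))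

theorem good_of_two_ne (h2 : (2 : F) ≠ 0) : Good F := by
  by_cases h : ∃ t : F, t ≠ 0 ∧ t * t ≠ 1
  · exact Or.inl h
  · refine Or.inr ?_
    rcases small_cases h 2 with e | e | e
    · exact absurd e h2
    · exact absurd (show (1 : F) = 0 by linear_combination e) one_ne_zero
    · linear_combination e

theorem R_eq_top (h : ∃ t : F, t ≠ 0 ∧ t * t ≠ 1) : R F = ⊤ := by
  obtain ⟨t, ht, ht2⟩ := h
  exact CfsgLib.Linear.commutator_SL_eq_top (Or.inr ⟨t, ht, by rwa [sq]⟩)

theorem normal_R : (R F).Normal := inferInstance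

theorem mulVec_mul (r s : SL F) (v : Fin 2 → F) :
    ((r * s : SL F) : Matrix (Fin 2) (Fin 2) F).mulVec v =
      (r : Matrix (Fin 2) (Fin 2) F).mulVec ((s : Matrix (Fin 2) (Fin 2) F).mulVec v) := by
  rw [Matrix.SpecialLinearGroup.coe_mul, Matrix.mulVec_mulVec]

theorem up_mulVec (x : F) (v : Fin 2 → F) :
    (up x : Matrix (Fin 2) (Fin 2) F).mulVec v = ![v 0 + x * v 1, v 1] := by
  funext i; fin_cases i <;> simp [coe_up, Matrix.mulVec, dotProduct, Fin.sum_univ_two]

theorem lo_mulVec (x : F) (v : Fin 2 → F) :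
    (lo x : Matrix (Fin 2) (Fin 2) F).mulVec v = ![v 0, x * v 0 + v 1] := by
  funext i; fin_cases i <;> simp [coe_lo, Matrix.mulVec, dotProduct, Fin.sum_univ_two]

/-- `J` -/
def jj : SL F := ⟨!![0, -1; 1, 0], by simp [Matrix.det_fin_two]⟩

/-- `X` -/
def xx (h3 : (3 : F) = 0) : SL F :=
  ⟨!![1, 1; 1, -1], by simp [Matrix.det_fin_two]; linear_combination -h3⟩

theorem coe_jj : ((jj : SL F) : Matrix (Fin 2) (Fin 2) F) = !![0, -1; 1, 0] := rfl

theorem coe_xx (h3 : (3 : F) = 0) :
    ((xx h3 : SL F) : Matrix (Fin 2) (Fin 2) F) = !![1, 1; 1, -1] := rfl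

theorem jj_mulVec (v : Fin 2 → F) :
    (jj : SL F).1.mulVec v = ![-v 1, v 0] := by
  funext i; fin_cases i <;> simp [coe_jj, Matrix.mulVec, dotProduct, Fin.sum_univ_two]

theorem xx_mulVec (h3 : (3 : F) = 0) (v : Fin 2 → F) :
    (xx h3).1.mulVec v = ![v 0 + v 1, v 0 - v 1] := by
  funext i; fin_cases i <;> simp [coe_xx, Matrix.mulVec, dotProduct, Fin.sum_univ_two, sub_eq_add_neg]

theorem comm_up_lo_eq (h3 : (3 : F) = 0) : (⁅up (1 : F), lo (1 : F)⁆ : SL F) = jj := by
  rw [commutatorElement_def, up_inv, lo_inv]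
  refine Subtype.ext ?_
  ext i j
  fin_cases i <;> fin_cases j <;>
    simp [coe_jj, Matrix.SpecialLinearGroup.coe_mul, coe_up, coe_lo, Matrix.mul_apply, Fin.sum_univ_two]
  all_goals linear_combination h3

theorem jj_mem (hG : Good F) : (jj : SL F) ∈ R F := by
  rcases hG with h | h3
  · rw [R_eq_top h]; trivial
  · rw [← comm_up_lo_eq h3, R, commutator_def]
    exact Subgroup.commutator_mem_commutator (Subgroup.mem_top _) (Subgroup.mem_top _)

theorem xx_mem (h3 : (3 : F) = 0) : xx h3 ∈ R F := by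
  have e : xx h3 = up 1 * jj * (up 1)⁻¹ := by
    rw [up_inv]
    refine Subtype.ext ?_
    ext i j
    fin_cases i <;> fin_cases j <;>
      simp [coe_xx, coe_jj, Matrix.SpecialLinearGroup.coe_mul, coe_up, Matrix.mul_apply, Fin.sum_univ_two]
    all_goals linear_combination h3
  rw [e]
  exact normal_R.conj_mem _ (jj_mem (Or.inr h3)) _

theorem up_mem_R (h : ∃ t : F, t ≠ 0 ∧ t * t ≠ 1) (x : F) : up x ∈ R F := by
  rw [R_eq_top h]; trivial

theorem lo_mem_R (h : ∃ t : F, t ≠ 0 ∧ t * t ≠ 1) (x : F) : lo x ∈ R F := by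
  rw [R_eq_top h]; trivial

/-- `-1` is a member of `R`. -/
theorem neg_one_mem (hG : Good F) : (-1 : SL F) ∈ R F := by
  have e : (-1 : SL F) = jj * jj := by
    refine Subtype.ext ?_
    ext i j
    fin_cases i <;> fin_cases j <;>
      simp [coe_jj, Matrix.SpecialLinearGroup.coe_mul, Matrix.mul_apply, Fin.sum_univ_two]
  rw [e]
  exact mul_mem (jj_mem hG) (jj_mem hG)

theorem neg_one_mulVec (v : Fin 2 → F) :
    ((-1 : SL F) : Matrix (Fin 2) (Fin 2) F).mulVec v = -v := by
  simp [Matrix.neg_mulVec]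

theorem vec_decomp (v : Fin 2 → F) : v = ![v 0, 0] + ![0, v 1] := by
  funext i; fin_cases i <;> simp

/-- The commutant of `R` on `F²` consists of the scalars. -/
theorem commutant (hG : Good F) (f : (Fin 2 → F) →+ (Fin 2 → F))
    (hf : ∀ r ∈ R F, ∀ v, f ((r : Matrix (Fin 2) (Fin 2) F).mulVec v) =
      (r : Matrix (Fin 2) (Fin 2) F).mulVec (f v)) :
    ∃ c : F, ∀ v, f v = c • v := by
  by_cases hbig : ∃ t : F, t ≠ 0 ∧ t * t ≠ 1
  · have hu : ∀ x : F, ∀ v : Fin 2 → F, f ![v 0 + x * v 1, v 1] = ![f v 0 + x * f v 1, f v 1] :=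
      fun x v => by rw [← up_mulVec, hf _ (up_mem_R hbig x), up_mulVec]
    have hl : ∀ x : F, ∀ v : Fin 2 → F, f ![v 0, x * v 0 + v 1] = ![f v 0, x * f v 0 + f v 1] :=
      fun x v => by rw [← lo_mulVec, hf _ (lo_mem_R hbig x), lo_mulVec]
    have h1 : ∀ a : F, f ![a, 0] 1 = 0 := fun a => by
      have := congrFun (hu 1 ![a, 0]) 0
      simpa using this
    have h2 : ∀ b : F, f ![0, b] 0 = 0 := fun b => by
      have := congrFun (hl 1 ![0, b]) 1
      simpa using this
    have h3 : ∀ x b : F, f ![x * b, 0] 0 = x * f ![0, b] 1 := fun x b => by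
      have h := congrFun (hu x ![0, b]) 0
      simp [h2] at h
      rw [← h, show (![x * b, b] : Fin 2 → F) = ![x * b, 0] + ![0, b] by
        funext i; fin_cases i <;> simp, map_add]
      simp [h2]
    set c := f ![0, 1] 1 with hc
    have hd : ∀ b : F, f ![0, b] 1 = c * b := fun b => by
      have e1 := h3 1 b
      have e2 := h3 b 1
      rw [one_mul] at e1
      rw [mul_one] at e2
      linear_combination e2 - e1
    refine ⟨c, fun v => ?_⟩
    conv_lhs => rw [vec_decomp v, map_add]
    have e := h3 (v 0) 1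
    rw [mul_one] at e
    funext i
    fin_cases i
    · simp [h2, e, hc]; ring
    · simp [h1, hd]
  · have h3 : (3 : F) = 0 := hG.resolve_left hbig
    set a := f ![1, 0] with ha
    have hJ := hf _ (jj_mem hG) ![1, 0]
    rw [jj_mulVec, jj_mulVec] at hJ
    have hb : f ![0, 1] = ![-a 1, a 0] := by simpa using hJ
    have hX := hf _ (xx_mem h3) ![1, 0]
    rw [xx_mulVec, xx_mulVec] at hX
    rw [show (![(![(1 : F), 0] : Fin 2 → F) 0 + (![(1 : F), 0] : Fin 2 → F) 1,
        (![(1 : F), 0] : Fin 2 → F) 0 - (![(1 : F), 0] : Fin 2 → F) 1] : Fin 2 → F) =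
        ![1, 0] + ![0, 1] by funext i; fin_cases i <;> simp, map_add, ← ha, hb] at hX
    have hX0 : a 0 + -a 1 = a 0 + a 1 := by simpa using congrFun hX 0
    have ha1 : a 1 = 0 := by linear_combination hX0 + a 1 * h3
    refine ⟨a 0, fun v => ?_⟩
    have hsm : ∀ x : F, ∀ w, f (x • w) = x • f w := by
      intro x w
      rcases small_cases hbig x with rfl | rfl | rfl
      · simp
      · simp
      · simp
    conv_lhs => rw [vec_decomp v, show (![v 0, 0] : Fin 2 → F) = v 0 • ![1, 0] by
      funext i; fin_cases i <;> simp, show (![0, v 1] : Fin 2 → F) = v 1 • ![0, 1] by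
      funext i; fin_cases i <;> simp, map_add, hsm, hsm, ← ha, hb]
    funext i
    fin_cases i <;> simp [ha1] <;> ring

/-- The determinant of two vectors. -/
def det2 (v w : Fin 2 → F) : F := v 0 * w 1 - v 1 * w 0

theorem det2_mulVec (r : SL F) (v w : Fin 2 → F) :
    det2 ((r : Matrix (Fin 2) (Fin 2) F).mulVec v) ((r : Matrix (Fin 2) (Fin 2) F).mulVec w) =
      det2 v w := by
  have h : (r : Matrix (Fin 2) (Fin 2) F) 0 0 * r.1 1 1 - r.1 0 1 * r.1 1 0 = 1 := by
    rw [← Matrix.det_fin_two]; exact r.2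
  simp only [det2, Matrix.mulVec, dotProduct, Fin.sum_univ_two]
  linear_combination (v 0 * w 1 - v 1 * w 0) * h

/-- A biadditive `R`-invariant form factors through the determinant. -/
theorem invariant_form (hG : Good F) {A : Type*} [AddCommGroup A]
    (B : (Fin 2 → F) →+ (Fin 2 → F) →+ A)
    (hB : ∀ r ∈ R F, ∀ v w, B ((r : Matrix (Fin 2) (Fin 2) F).mulVec v)
      ((r : Matrix (Fin 2) (Fin 2) F).mulVec w) = B v w) :
    ∃ h : F →+ A, ∀ v w, B v w = h (det2 v w) := by
  let h : F →+ A :=
    AddMonoidHom.mk' (fun a => B ![a, 0] ![0, 1]) fun a b => by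
      show B ![a + b, 0] ![0, 1] = B ![a, 0] ![0, 1] + B ![b, 0] ![0, 1]
      rw [← AddMonoidHom.add_apply, ← map_add]
      simp
  refine ⟨h, ?_⟩
  suffices H : ∀ a b : F, B ![a, 0] ![b, 0] = 0 ∧ B ![0, a] ![0, b] = 0 ∧
      B ![a, 0] ![0, b] = h (a * b) ∧ B ![0, b] ![a, 0] = -h (a * b) by
    intro v w
    conv_lhs => rw [vec_decomp v, vec_decomp w]
    simp only [map_add, AddMonoidHom.add_apply]
    rw [(H (v 0) (w 0)).1, (H (v 1) (w 1)).2.1, (H (v 0) (w 1)).2.2.1, (H (w 0) (v 1)).2.2.2,
      det2, map_sub, mul_comm (w 0) (v 1)]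
    abel
  by_cases hbig : ∃ t : F, t ≠ 0 ∧ t * t ≠ 1
  · have hu : ∀ x : F, ∀ v w, B ![v 0 + x * v 1, v 1] ![w 0 + x * w 1, w 1] = B v w := fun x v w => by
      rw [← up_mulVec, ← up_mulVec, hB _ (up_mem_R hbig x)]
    have hl : ∀ x : F, ∀ v w, B ![v 0, x * v 0 + v 1] ![w 0, x * w 0 + w 1] = B v w := fun x v w => by
      rw [← lo_mulVec, ← lo_mulVec, hB _ (lo_mem_R hbig x)]
    have h00 : ∀ a b : F, B ![a, 0] ![b, 0] = 0 := fun a b => by
      have := hu b ![a, 0] ![0, 1]
      simp at this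
      rw [show (![b, 1] : Fin 2 → F) = ![b, 0] + ![0, 1] by funext i; fin_cases i <;> simp,
        map_add] at this
      simpa using this
    have h11 : ∀ a b : F, B ![0, a] ![0, b] = 0 := fun a b => by
      have := hl b ![1, 0] ![0, 1]
      simp at this
      have := hl a ![1, 0] ![0, b]
      simp at this
      rw [show (![1, a] : Fin 2 → F) = ![1, 0] + ![0, a] by funext i; fin_cases i <;> simp,
        map_add] at this
      simpa using this
    have hswap : ∀ s a b : F, B ![0, a] ![s * b, 0] = -B ![s * a, 0] ![0, b] := fun s a b => by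
      have := hu s ![0, a] ![0, b]
      simp at this
      rw [show (![s * a, a] : Fin 2 → F) = ![s * a, 0] + ![0, a] by funext i; fin_cases i <;> simp,
        show (![s * b, b] : Fin 2 → F) = ![s * b, 0] + ![0, b] by funext i; fin_cases i <;> simp,
        ] at this
      simp only [map_add, AddMonoidHom.add_apply, h00, h11] at this
      simp at this
      exact eq_neg_of_add_eq_zero_left this
    have hmul : ∀ a b : F, B ![a, 0] ![0, b] = h (a * b) := fun a b => by
      have e1 := hswap 1 a b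
      rw [one_mul, one_mul] at e1
      have e2 := hswap b a 1
      rw [mul_one] at e2
      have : B ![a, 0] ![0, b] = B ![b * a, 0] ![0, 1] := neg_injective (e1.symm.trans e2)
      rw [this, mul_comm]; rfl
    refine fun a b => ⟨h00 a b, h11 a b, hmul a b, ?_⟩
    have e := hswap 1 b a
    rw [one_mul, one_mul] at e
    rw [e, hmul, mul_comm]
  · have h3 : (3 : F) = 0 := hG.resolve_left hbig
    have hsmall := small_cases hbig
    have hsl : ∀ x : F, ∀ v w, B (x • v) w = B v (x • w) := by
      intro x v w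
      rcases hsmall x with rfl | rfl | rfl <;> simp
    have hj : ∀ v w, B ![-v 1, v 0] ![-w 1, w 0] = B v w := fun v w => by
      rw [← jj_mulVec, ← jj_mulVec, hB _ (jj_mem hG)]
    have hx : ∀ v w, B ![v 0 + v 1, v 0 - v 1] ![w 0 + w 1, w 0 - w 1] = B v w := fun v w => by
      rw [← xx_mulVec h3, ← xx_mulVec h3, hB _ (xx_mem h3)]
    have e00 : B ![0, 1] ![0, 1] = B ![1, 0] ![1, 0] := by simpa using hj ![1, 0] ![1, 0]
    have e01 : B ![0, 1] ![1, 0] = -B ![1, 0] ![0, 1] := by
      have := hj ![1, 0] ![0, 1]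
      simp at this
      rw [show (![-1, 0] : Fin 2 → F) = -![1, 0] by simp, map_neg] at this
      rw [← this, neg_neg]
    have ex := hx ![1, 0] ![1, 0]
    simp at ex
    rw [show (![1, 1] : Fin 2 → F) = ![1, 0] + ![0, 1] by simp] at ex
    simp only [map_add, AddMonoidHom.add_apply, e00, e01] at ex
    have hb : B ![1, 0] ![1, 0] = 0 := by
      generalize B ![1, 0] ![1, 0] = u at ex
      generalize B ![1, 0] ![0, 1] = v at ex
      have : u + (u + (v + -v)) = u + 0 := by rw [add_zero]; convert ex using 1; abel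
      simpa using this
    have l0 : ∀ a : F, (![a, 0] : Fin 2 → F) = a • ![1, 0] := fun a => by
      funext i; fin_cases i <;> simp
    have l1 : ∀ a : F, (![0, a] : Fin 2 → F) = a • ![0, 1] := fun a => by
      funext i; fin_cases i <;> simp
    intro a b
    have hh : B (a • ![1, 0]) (b • ![0, 1]) = h (a * b) := by
      show _ = B ![a * b, 0] ![0, 1]
      rw [← hsl b, smul_smul, mul_comm, l0 (a * b)]
    refine ⟨?_, ?_, ?_, ?_⟩
    · rw [l0 a, l0 b, hsl, smul_smul]
      rcases hsmall (a * b) with e | e | e <;>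
        simp only [e, neg_smul, one_smul, zero_smul, map_zero, map_neg, AddMonoidHom.neg_apply, hb,
          neg_zero]
    · rw [l1 a, l1 b, hsl, smul_smul]
      rcases hsmall (a * b) with e | e | e <;>
        simp only [e, neg_smul, one_smul, zero_smul, map_zero, map_neg, AddMonoidHom.neg_apply, e00, hb,
          neg_zero]
    · rw [l0 a, l1 b, hh]
    · rw [l1 b, l0 a, hsl, smul_smul]
      show _ = -B ![a * b, 0] ![0, 1]
      rw [l0 (a * b), mul_comm b a]
      rcases hsmall (a * b) with e | e | e <;>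
        simp only [e, neg_smul, one_smul, zero_smul, map_zero, map_neg, AddMonoidHom.neg_apply,
          AddMonoidHom.zero_apply, e01, neg_neg, neg_zero]

/-- An additive bijection of `F²` preserving the determinant is in `SL₂(F)`. -/
theorem exists_of_isometry (g : (Fin 2 → F) →+ (Fin 2 → F))
    (hbij : Function.Surjective g) (hg : ∀ v w, det2 (g v) (g w) = det2 v w) :
    ∃ m : SL F, ∀ v, g v = (m : Matrix (Fin 2) (Fin 2) F).mulVec v := by
  have hsep : ∀ x : Fin 2 → F, (∀ u, det2 x u = 0) → x = 0 := fun x hx => by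
    funext i
    fin_cases i
    · simpa [det2] using hx ![0, 1]
    · simpa [det2] using hx ![-1, 0]
  have hsmul : ∀ (a : F) (v : Fin 2 → F), g (a • v) = a • g v := fun a v => by
    rw [← sub_eq_zero]
    refine hsep _ fun u => ?_
    obtain ⟨w, rfl⟩ := hbij u
    have e1 : det2 (g (a • v) - a • g v) (g w) =
        det2 (g (a • v)) (g w) - a * det2 (g v) (g w) := by simp [det2]; ring
    rw [e1, hg, hg]
    simp [det2]; ring
  set x := g ![1, 0] with hx
  set y := g ![0, 1] with hy
  have hd : x 0 * y 1 - x 1 * y 0 = 1 := by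
    have h := hg ![1, 0] ![0, 1]
    rw [← hx, ← hy] at h
    simpa [det2] using h
  refine ⟨⟨!![x 0, y 0; x 1, y 1], by rw [Matrix.det_fin_two]; simp; linear_combination hd⟩,
    fun v => ?_⟩
  rw [vec_decomp v, show (![v 0, 0] : Fin 2 → F) = v 0 • ![1, 0] by simp,
    show (![0, v 1] : Fin 2 → F) = v 1 • ![0, 1] by simp, map_add, hsmul, hsmul, ← hx, ← hy]
  funext i
  fin_cases i <;> simp [Matrix.mulVec, dotProduct, Fin.sum_univ_two] <;> ring

/-- A linear map of `p`-power order in characteristic `p` acts quadratically on `F²`. -/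
theorem quadratic_of_pow {p : ℕ} [Fact p.Prime] [CharP F p] {M : Matrix (Fin 2) (Fin 2) F} {k : ℕ}
    (h : M ^ p ^ k = 1) : (M - 1) * (M - 1) = 0 := by
  have hn : IsNilpotent (M - 1) := by
    refine ⟨p ^ k, ?_⟩
    haveI : CharP (Matrix (Fin 2) (Fin 2) F) p := Matrix.charP p
    rw [sub_pow_char_pow_of_commute _ _ (Commute.one_right M), h, one_pow, sub_self]
  have htr : Matrix.trace (M - 1) = 0 := (Matrix.isNilpotent_trace_of_isNilpotent hn).eq_zero
  have hdet : Matrix.det (M - 1) = 0 := by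
    obtain ⟨m, hm⟩ := hn
    have : IsNilpotent (Matrix.det (M - 1)) := ⟨m, by
      rw [← Matrix.det_pow, hm]
      rcases m with _ | m
      · exact absurd hm (by simp)
      · exact Matrix.det_zero⟩
    exact this.eq_zero
  rw [Matrix.trace_fin_two] at htr
  rw [Matrix.det_fin_two] at hdet
  set N := M - 1
  ext i j
  fin_cases i <;> fin_cases j <;> simp [Matrix.mul_apply, Fin.sum_univ_two]
  · linear_combination N 0 0 * htr - hdet
  · linear_combination N 0 1 * htr
  · linear_combination N 1 0 * htr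
  · linear_combination N 1 1 * htr - hdet

section finite

variable [Fintype F]

theorem card_three (h2 : (2 : F) ≠ 0) (h : ¬ ∃ t : F, t ≠ 0 ∧ t * t ≠ 1) : Fintype.card F = 3 := by
  classical
  have h11 : (1 : F) ≠ -1 := fun e => h2 (by linear_combination e)
  rw [← Finset.card_univ, show (Finset.univ : Finset F) = {0, 1, -1} from
    (Finset.eq_univ_iff_forall.2 fun x => by simpa using small_cases h x).symm]
  rw [Finset.card_insert_of_notMem (by simp), Finset.card_insert_of_notMem (by simpa using h11),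
    Finset.card_singleton]

theorem isPGroup_R_of_small (h2 : (2 : F) ≠ 0) (h : ¬ ∃ t : F, t ≠ 0 ∧ t * t ≠ 1) :
    IsPGroup 2 ↥(R F) := by
  obtain ⟨Q, hQn, hQi, ⟨e⟩⟩ := CfsgLib.Linear.SylowTwoSL.exists_normal_quaternion (card_three h2 h)
  haveI := hQn
  haveI : Fact (Nat.Prime 3) := ⟨Nat.prime_three⟩
  have hcyc : IsCyclic (SL F ⧸ Q) := isCyclic_of_prime_card (p := 3) hQi
  letI := hcyc.commGroup
  have hle : R F ≤ Q := Subgroup.Normal.quotient_commutative_iff_commutator_le.1 inferInstance
  have hQp : IsPGroup 2 ↥Q := by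
    refine IsPGroup.of_card (n := 3) ?_
    rw [Nat.card_congr e.toEquiv, Nat.card_eq_fintype_card, QuaternionGroup.card]; norm_num
  exact hQp.to_le hle

theorem orderOf_two_eq (h2 : (2 : F) ≠ 0) {g : SL F} (hg : orderOf g = 2) : g = -1 := by
  have hodd : Odd (Fintype.card F) := by
    rw [Nat.odd_iff, ← FiniteField.even_card_iff_char_two.not.trans Nat.mod_two_ne_zero]
    intro hc
    haveI := ringChar.charP F
    exact h2 (by rw [← Nat.cast_two]; exact (CharP.cast_eq_zero_iff F (ringChar F) 2).2 (by rw [hc]))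
  have h1 : g ≠ 1 := fun e => by rw [e, orderOf_one] at hg; omega
  have hsq : g * g = 1 := by
    have := pow_orderOf_eq_one g
    rwa [hg, pow_two] at this
  have hm : (-1 : SL F) ≠ 1 := CfsgLib.SL2Factors.neg_one_ne_one h2
  rw [CfsgLib.Linear.SylowTwoSL.eq_neg_one hodd h1 hsq,
    ← CfsgLib.Linear.SylowTwoSL.eq_neg_one hodd hm (by simp)]

theorem even_psl (h : ∃ t : F, t ≠ 0 ∧ t * t ≠ 1) :
    2 ∣ Nat.card (Matrix.ProjectiveSpecialLinearGroup (Fin 2) F) := by
  set π := QuotientGroup.mk' (Subgroup.center (SL F))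
  have hne : π jj ≠ 1 := by
    intro e
    have hc := (QuotientGroup.eq_one_iff _).1 e
    have := congrArg (fun r : SL F => (r : Matrix (Fin 2) (Fin 2) F) 0 0)
      (Subgroup.mem_center_iff.1 hc (up 1))
    simp [coe_jj, Matrix.SpecialLinearGroup.coe_mul, coe_up, Matrix.mul_apply, Fin.sum_univ_two] at this
  have hj : (jj : SL F) * jj ∈ Subgroup.center (SL F) := by
    rw [Subgroup.mem_center_iff]
    intro g
    refine Subtype.ext ?_
    ext i j
    fin_cases i <;> fin_cases j <;>
      simp [coe_jj, Matrix.SpecialLinearGroup.coe_mul, Matrix.mul_apply, Fin.sum_univ_two]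
  have h2 : orderOf (π jj) = 2 := orderOf_eq_prime (by
    rw [pow_two, ← map_mul]; exact (QuotientGroup.eq_one_iff _).2 hj) hne
  have e := orderOf_dvd_natCard (π jj)
  rw [h2] at e
  exact e

/-- An odd order subgroup normalized by `R` is trivial. -/
theorem eq_bot_of_odd (h2 : (2 : F) ≠ 0) (N : Subgroup (SL F)) (hodd : Odd (Nat.card N))
    (hN : ∀ r ∈ R F, ∀ g ∈ N, r * g * r⁻¹ ∈ N) : N = ⊥ := by
  have hm : (-1 : SL F) ≠ 1 := CfsgLib.SL2Factors.neg_one_ne_one h2
  have hcentral : ∀ g ∈ N, g ∈ Subgroup.center (SL F) → g = 1 := fun g hg hc => by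
    rcases CfsgLib.SL2Factors.central_eq hc with e | e
    · exact e
    · exfalso
      have h := Subgroup.orderOf_dvd_natCard N hg
      rw [e, orderOf_eq_prime (p := 2) (by simp) hm] at h
      exact Nat.not_even_iff_odd.2 hodd (even_iff_two_dvd.2 h)
  by_cases hbig : ∃ t : F, t ≠ 0 ∧ t * t ≠ 1
  · haveI : N.Normal := ⟨fun g hg r => hN r (by rw [R_eq_top hbig]; trivial) g hg⟩
    obtain ⟨t, ht, ht2⟩ := hbig
    haveI := CfsgLib.Linear.isSimpleGroup_PSL (ι := Fin 2) (F := F)
      (Or.inr ⟨t, ht, by rwa [sq]⟩)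
    set π := QuotientGroup.mk' (Subgroup.center (SL F))
    haveI : (N.map π).Normal := Subgroup.Normal.map inferInstance π (QuotientGroup.mk'_surjective _)
    rcases IsSimpleGroup.eq_bot_or_eq_top_of_normal (N.map π) inferInstance with e | e
    · refine (Subgroup.eq_bot_iff_forall N).2 fun g hg => hcentral g hg ?_
      rw [← QuotientGroup.eq_one_iff]
      exact Subgroup.mem_bot.1 (e.le (Subgroup.mem_map_of_mem π hg))
    · exfalso
      have hdvd := Subgroup.card_map_dvd (H := N) π
      rw [e, Subgroup.card_top] at hdvd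
      exact Nat.not_even_iff_odd.2 hodd (even_iff_two_dvd.2
        ((even_psl ⟨t, ht, ht2⟩).trans hdvd))
  · refine (Subgroup.eq_bot_iff_forall N).2 fun g hg => hcentral g hg ?_
    have h3 : (3 : F) = 0 := (good_of_two_ne h2).resolve_left hbig
    -- `g` commutes with `R`
    have hcom : ∀ r ∈ R F, r * g = g * r := fun r hr => by
      set c := r * g * r⁻¹ * g⁻¹ with hc
      have hcN : c ∈ N := mul_mem (hN r hr g hg) (inv_mem hg)
      have hcR : c ∈ R F := by
        rw [hc, show r * g * r⁻¹ * g⁻¹ = r * (g * r⁻¹ * g⁻¹) by group]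
        exact mul_mem hr (normal_R.conj_mem _ (inv_mem hr) g)
      obtain ⟨k, hk⟩ := IsPGroup.iff_orderOf.1 (isPGroup_R_of_small h2 hbig) ⟨c, hcR⟩
      rw [Subgroup.orderOf_mk] at hk
      have ho : Odd (2 ^ k) := hk ▸ hodd.of_dvd_nat (Subgroup.orderOf_dvd_natCard N hcN)
      have hk0 : k = 0 := by
        by_contra hk0
        exact Nat.not_even_iff_odd.2 ho (Nat.even_pow.2 ⟨even_two, hk0⟩)
      rw [hk0, pow_zero, orderOf_eq_one_iff, hc, mul_inv_eq_one, mul_inv_eq_iff_eq_mul] at hk
      exact hk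
    obtain ⟨c, hc⟩ := commutant (good_of_two_ne h2)
      (Matrix.mulVecLin (g : Matrix (Fin 2) (Fin 2) F)).toAddMonoidHom (fun r hr v => by
        simp only [LinearMap.toAddMonoidHom_coe, Matrix.mulVecLin_apply]
        rw [← mulVec_mul, ← mulVec_mul, hcom r hr])
    rw [Subgroup.mem_center_iff]
    intro s
    refine Subtype.ext (Matrix.mulVec_injective ?_)
    funext v
    have hc' : ∀ v, (g : Matrix (Fin 2) (Fin 2) F).mulVec v = c • v := fun v => by simpa using hc v
    rw [mulVec_mul, mulVec_mul, hc', hc', Matrix.mulVec_smul]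

/-- `R` is generated by its elements of two-power order. -/
theorem R_le_of_two (h2 : (2 : F) ≠ 0) (H : Subgroup (SL F))
    (hH : ∀ r ∈ R F, (∃ k : ℕ, r ^ 2 ^ k = 1) → r ∈ H) : R F ≤ H := by
  by_cases hbig : ∃ t : F, t ≠ 0 ∧ t * t ≠ 1
  · set H0 := Subgroup.normalClosure ({jj} : Set (SL F)) with hH0
    have hj4 : (jj : SL F) ^ 4 = 1 := by
      refine Subtype.ext ?_
      rw [show (4 : ℕ) = 2 * 2 from rfl, pow_mul, pow_two, pow_two]
      ext i j
      fin_cases i <;> fin_cases j <;>
        simp [coe_jj, Matrix.SpecialLinearGroup.coe_mul, Matrix.mul_apply, Fin.sum_univ_two]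
    have hle : H0 ≤ H := by
      rw [hH0, Subgroup.normalClosure, Subgroup.closure_le]
      intro x hx
      obtain ⟨a, ha, hax⟩ := Group.mem_conjugatesOfSet_iff.1 hx
      obtain rfl : a = jj := ha
      obtain ⟨c, rfl⟩ := isConj_iff.1 hax
      exact hH _ (by rw [R_eq_top hbig]; trivial) ⟨2, by
        rw [conj_pow, show (2 ^ 2 : ℕ) = 4 from rfl, hj4, mul_one, mul_inv_cancel]⟩
    refine le_trans ?_ hle
    obtain ⟨t, ht, ht2⟩ := hbig
    haveI := CfsgLib.Linear.isSimpleGroup_PSL (ι := Fin 2) (F := F)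
      (Or.inr ⟨t, ht, by rwa [sq]⟩)
    set π := QuotientGroup.mk' (Subgroup.center (SL F))
    haveI : (H0.map π).Normal :=
      Subgroup.Normal.map inferInstance π (QuotientGroup.mk'_surjective _)
    have hjm : (jj : SL F) ∈ H0 := Subgroup.subset_normalClosure rfl
    rcases IsSimpleGroup.eq_bot_or_eq_top_of_normal (H0.map π) inferInstance with e | e
    · exfalso
      have hc := (QuotientGroup.eq_one_iff _).1
        (Subgroup.mem_bot.1 (e.le (Subgroup.mem_map_of_mem π hjm)))
      have := congrArg (fun r : SL F => (r : Matrix (Fin 2) (Fin 2) F) 0 0)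
        (Subgroup.mem_center_iff.1 hc (up 1))
      simp [coe_jj, Matrix.SpecialLinearGroup.coe_mul, coe_up, Matrix.mul_apply, Fin.sum_univ_two]
        at this
    · intro g _
      obtain ⟨h, hh, hhg⟩ : π g ∈ H0.map π := e ▸ Subgroup.mem_top _
      have hc : h⁻¹ * g ∈ Subgroup.center (SL F) := (QuotientGroup.eq (s := Subgroup.center (SL F))).1 hhg
      have hz : h⁻¹ * g ∈ H0 := by
        rcases CfsgLib.SL2Factors.central_eq hc with e' | e'
        · rw [e']; exact one_mem _
        · rw [e', show (-1 : SL F) = jj * jj by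
            refine Subtype.ext ?_
            ext i j
            fin_cases i <;> fin_cases j <;>
              simp [coe_jj, Matrix.SpecialLinearGroup.coe_mul, Matrix.mul_apply, Fin.sum_univ_two]]
          exact mul_mem hjm hjm
      simpa using mul_mem hh hz
  · intro r hr
    obtain ⟨k, hk⟩ := isPGroup_R_of_small h2 hbig ⟨r, hr⟩
    exact hH r hr ⟨k, congrArg Subtype.val hk⟩

end finite

end CfsgLib.BlockSL2
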