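import Cfsg.Agent.LocalB.BlockSL2
import Cfsg.Agent.LocalB.BaumannBlock
import Cfsg.Agent.LocalB.CharP
import Cfsg.Agent.Coprime.Basic

/-!
Sections carrying a natural module, offenders on a natural module, and small group-theoretic tools
for the study of blocks.
-/

set_option autoImplicit false
set_option linter.style.haveILetI false
set_option linter.unusedSectionVars false

namespace CfsgLib.BlockSection

open Subgroup CfsgLib.Functor CfsgLib.BlockSL2 CfsgLib.BlockModule
open scoped CfsgLib.Functor commutatorElement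

variable {G : Type*} [Group G] [Finite G]

/-! ### Tools -/

/-- In a subgroup of odd order normalized by the involution `z`, every involution `u * z` is
conjugate to `z`. -/
theorem exists_conj_invol {U : Subgroup G} (hodd : Odd (Nat.card U)) {z : G} (hz : z * z = 1)
    {u : G} (hu : u ∈ U) (h : u * z * (u * z) = 1) : ∃ r ∈ U, r * z * r⁻¹ = u * z := by
  obtain ⟨m, hm⟩ := exists_pow_eq_self_of_coprime (x := u) (n := 2)
    (Nat.coprime_two_left.2 (hodd.of_dvd_nat (orderOf_dvd_natCard U hu)))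
  refine ⟨u ^ m, pow_mem hu m, ?_⟩
  have hzi : z⁻¹ = z := inv_eq_of_mul_eq_one_right hz
  have h1 : z * u * z⁻¹ = u⁻¹ := by
    rw [hzi]
    exact (inv_eq_of_mul_eq_one_right (by rw [← h]; group)).symm
  have h2 : z * (u ^ m) * z⁻¹ = (u ^ m)⁻¹ := by rw [← conj_pow, h1, inv_pow]
  have h3 : z * (u ^ m)⁻¹ = u ^ m * z := by
    have : z * (u ^ m)⁻¹ * z⁻¹ = u ^ m := by
      rw [show z * (u ^ m)⁻¹ * z⁻¹ = (z * u ^ m * z⁻¹)⁻¹ by group, h2, inv_inv]
    rw [← this, inv_mul_cancel_right, this]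
  rw [mul_assoc, h3, ← mul_assoc, ← pow_two, ← pow_mul, mul_comm, pow_mul, hm]

/-- A coset of an odd subgroup invariant under an involution contains a fixed element. -/
theorem exists_fixed_coset {U : Subgroup G} (hodd : Odd (Nat.card U)) {z : G} (hz : z * z = 1)
    {x : G} (hx : x⁻¹ * (z * x * z) ∈ U) : ∃ u ∈ U, z * (x * u) = (x * u) * z := by
  obtain ⟨r, hr, hr'⟩ := exists_conj_invol hodd hz hx (by
    rw [show x⁻¹ * (z * x * z) * z = x⁻¹ * z * x * (z * z) by group, hz, mul_one,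
      show x⁻¹ * z * x * (x⁻¹ * z * x) = x⁻¹ * (z * z) * x by group, hz, mul_one, inv_mul_cancel])
  refine ⟨r, hr, ?_⟩
  rw [show x⁻¹ * (z * x * z) * z = x⁻¹ * z * x * (z * z) by group, hz, mul_one] at hr'
  calc z * (x * r) = x * (x⁻¹ * z * x) * r := by group
    _ = x * (r * z * r⁻¹) * r := by rw [hr']
    _ = x * r * z := by group

/-- An element of `p'`-order stabilizing `Φ(P) ≤ K ≤ P` centralizes the `p`-group `P`. -/
theorem commute_of_stab_frattini {p : ℕ} [Fact p.Prime] {P : Subgroup G} (hP : IsPGroup p ↥P)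
    {w : G} (hwP : w ∈ normalizer (P : Set G)) (hw : (orderOf w).Coprime p) {K : Subgroup G}
    (hK : K ≤ P) (h1 : ∀ x ∈ P, w * x * w⁻¹ * x⁻¹ ∈ K)
    (h2 : ∀ k ∈ K, w * k * w⁻¹ * k⁻¹ ∈ (frattini ↥P).map P.subtype) :
    ∀ x ∈ P, Commute w x := by
  set Φ := (frattini ↥P).map P.subtype with hΦ
  have hmemΦ : ∀ y (hy : y ∈ P), y ∈ Φ ↔ (⟨y, hy⟩ : ↥P) ∈ frattini ↥P := fun y hy =>
    ⟨fun h => by obtain ⟨v, hv, hv'⟩ := h; rwa [show (⟨y, hy⟩ : ↥P) = v from Subtype.ext hv'.symm],
      fun h => ⟨_, h, rfl⟩⟩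
  have hΦP : Φ ≤ P := map_subtype_le _
  have hΦn : ∀ g ∈ P, ∀ y ∈ Φ, g * y * g⁻¹ ∈ Φ := fun g hg y hy => by
    have h := (inferInstance : (frattini ↥P).Normal).conj_mem _ ((hmemΦ y (hΦP hy)).1 hy) ⟨g, hg⟩
    exact ⟨_, h, rfl⟩
  have hwΦ : ∀ y ∈ Φ, w * y * w⁻¹ ∈ Φ := fun y hy => by
    have hchar := Subgroup.characteristic_iff_map_eq.1 (frattini_characteristic (G := ↥P))
      ⟨{ toFun := fun v => ⟨w * v * w⁻¹, (mem_normalizer_iff.1 hwP v).1 v.2⟩
         invFun := fun v => ⟨w⁻¹ * v * w, by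
           have := (mem_normalizer_iff.1 (inv_mem hwP) v).1 v.2
           rwa [inv_inv] at this⟩
         left_inv := fun v => Subtype.ext (by simp [mul_assoc])
         right_inv := fun v => Subtype.ext (by simp [mul_assoc]) },
        fun a b => Subtype.ext (by
          show w * ((a : G) * b) * w⁻¹ = w * a * w⁻¹ * (w * b * w⁻¹)
          group)⟩
    obtain ⟨v, hv, rfl⟩ := hy
    exact ⟨_, hchar.le ⟨v, hv, rfl⟩, rfl⟩
  have hwn : ∀ x ∈ P, w⁻¹ ^ 0 * x * w ^ 0 ∈ P := fun x hx => by simpa using hx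
  have key : ∀ x ∈ P, w * x * w⁻¹ * x⁻¹ ∈ Φ := by
    intro x hx
    set k := w * x * w⁻¹ * x⁻¹ with hk
    have hkK : k ∈ K := h1 x hx
    have hkP : k ∈ P := hK hkK
    have step : ∀ n : ℕ, (k ^ n)⁻¹ * (w ^ n * x * (w ^ n)⁻¹ * x⁻¹) ∈ Φ := by
      intro n
      induction n with
      | zero => simp
      | succ n ih =>
        -- `w` fixes `k ^ n` modulo `Φ`
        have hd : (k ^ n)⁻¹ * (w * k ^ n * w⁻¹) ∈ Φ := by
          have h := h2 _ (pow_mem hkK n)
          have := hΦn _ (inv_mem (pow_mem hkP n)) _ h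
          simpa [mul_assoc] using this
        set φ := (k ^ n)⁻¹ * (w ^ n * x * (w ^ n)⁻¹ * x⁻¹) with hφ
        have hφ' : w * φ * w⁻¹ ∈ Φ := hwΦ _ ih
        have e : (k ^ (n + 1))⁻¹ * (w ^ (n + 1) * x * (w ^ (n + 1))⁻¹ * x⁻¹) =
            k⁻¹ * ((k ^ n)⁻¹ * (w * k ^ n * w⁻¹) * (w * φ * w⁻¹)) * k⁻¹⁻¹ := by
          rw [hφ, pow_succ w, pow_succ k, show w ^ n * w = w * w ^ n from (Commute.pow_self w n).eq,
            _root_.mul_inv_rev (k ^ n) k]
          rw [show w * ((k ^ n)⁻¹ * (w ^ n * x * (w ^ n)⁻¹ * x⁻¹)) * w⁻¹ =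
            (w * k ^ n * w⁻¹)⁻¹ * (w * (w ^ n * x * (w ^ n)⁻¹) * w⁻¹) * (w * x⁻¹ * w⁻¹) by group]
          rw [hk]
          group
        rw [e]
        exact hΦn _ (inv_mem hkP) _ (mul_mem hd hφ')
    have h := step (orderOf w)
    rw [pow_orderOf_eq_one, one_mul, inv_one, mul_one, mul_inv_cancel, mul_one] at h
    have hkpow : k ^ orderOf w ∈ Φ := by rw [← inv_mem_iff]; exact h
    have hkp : k ^ p ∈ Φ := (hmemΦ _ (pow_mem hkP p)).2
      ((CfsgLib.PGroupBasic.commutator_pow_le_frattini hP).2 ⟨k, hkP⟩)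
    have := Subgroup.zpow_mem Φ hkpow (Nat.gcdA (orderOf w) p)
    have h' := Subgroup.zpow_mem Φ hkp (Nat.gcdB (orderOf w) p)
    have hg := Nat.gcd_eq_gcd_ab (orderOf w) p
    rw [hw.gcd_eq_one] at hg
    have := mul_mem this h'
    rwa [← zpow_natCast, ← zpow_natCast, ← zpow_mul, ← zpow_mul, ← zpow_add, ← hg,
      Nat.cast_one, zpow_one] at this
  intro x hx
  letI : MulDistribMulAction (zpowers w) ↥P :=
    { smul := fun a v => ⟨(a : G) * v * (a : G)⁻¹,
        (mem_normalizer_iff.1 (zpowers_le.2 hwP a.2) v).1 v.2⟩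
      one_smul := fun v => Subtype.ext (by show (1 : G) * v * (1 : G)⁻¹ = v; group)
      mul_smul := fun a b v => Subtype.ext (by
        show (a : G) * b * v * ((a : G) * b)⁻¹ = a * ((b : G) * v * (b : G)⁻¹) * (a : G)⁻¹
        group)
      smul_mul := fun a v v' => Subtype.ext (by
        show (a : G) * ((v : G) * v') * (a : G)⁻¹ =
          a * v * (a : G)⁻¹ * ((a : G) * v' * (a : G)⁻¹)
        group)
      smul_one := fun a => Subtype.ext (by show (a : G) * 1 * (a : G)⁻¹ = 1; group) }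
  obtain ⟨m, hm⟩ := IsPGroup.iff_card.1 hP
  have hcop : (Nat.card (zpowers w)).Coprime (Nat.card ↥P) := by
    rw [Nat.card_zpowers, hm]; exact hw.pow_right m
  have hfix := CfsgLib.Coprime.smul_eq_self_of_trivial_mod_frattini (G := ↥P) (A := zpowers w) hcop
    (fun a v => by
      obtain ⟨a, ha⟩ := a
      obtain ⟨n, rfl⟩ := mem_powers_iff_mem_zpowers.2 ha
      dsimp only
      refine (hmemΦ _ (((⟨(v : G)⁻¹, inv_mem v.2⟩ : ↥P) *
        ⟨w ^ n * v * (w ^ n)⁻¹, (mem_normalizer_iff.1 (pow_mem hwP n) v).1 v.2⟩ : ↥P)).2).1 ?_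
      show (v : G)⁻¹ * (w ^ n * v * (w ^ n)⁻¹) ∈ Φ
      induction n with
      | zero => simp
      | succ n ih =>
        have e : (v : G)⁻¹ * (w ^ (n + 1) * v * (w ^ (n + 1))⁻¹) =
            (v : G)⁻¹ * (w * v * w⁻¹ * (v : G)⁻¹) * (v : G) *
              (w * ((v : G)⁻¹ * (w ^ n * v * (w ^ n)⁻¹)) * w⁻¹) := by
          rw [pow_succ w, show w ^ n * w = w * w ^ n from (Commute.pow_self w n).eq]; group
        rw [e]
        refine mul_mem ?_ (hwΦ _ (ih (pow_mem (mem_zpowers w) n)))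
        have := hΦn _ (inv_mem v.2) _ (key v v.2)
        rwa [inv_inv] at this)
    ⟨w, mem_zpowers w⟩ ⟨x, hx⟩
  exact mul_inv_eq_iff_eq_mul.1 (congrArg Subtype.val hfix)

/-! ### Sections -/

variable {F : Type*} [Field F]

/-- `E` acts on `U / U₀` as `R` on `F²`. -/
structure Sec (E U U₀ : Subgroup G) (F : Type*) [Field F] where
  ρ : ↥E →* SL F
  range : ρ.range = R F
  f : G → (Fin 2 → F)
  map_mul : ∀ a ∈ U, ∀ b ∈ U, f (a * b) = f a + f b
  surj : ∀ v, ∃ a ∈ U, f a = v
  zero : ∀ a ∈ U, (f a = 0 ↔ a ∈ U₀)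
  equiv : ∀ (e : ↥E), ∀ a ∈ U,
    f ((e : G) * a * (e : G)⁻¹) = (ρ e : Matrix (Fin 2) (Fin 2) F).mulVec (f a)
  norm : E ≤ normalizer (U : Set G)
  le : U₀ ≤ U

theorem exists_sec {E U U₀ : Subgroup G}
    (h : Cfsg.ActsAsSL2OnSection F (commutator (SL F)) E U U₀) : Nonempty (Sec E U U₀ F) := by
  classical
  obtain ⟨hEU, hle, ρ, ψ, hR, hψ, hker, hact⟩ := h
  refine ⟨{ ρ := ρ, range := hR, norm := hEU, le := hle
            f := fun a => if h : a ∈ U then Multiplicative.toAdd (ψ ⟨a, h⟩) else 0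
            map_mul := fun a ha b hb => ?_
            surj := fun v => ?_
            zero := fun a ha => ?_
            equiv := fun e a ha => ?_ }⟩
  · rw [dif_pos ha, dif_pos hb, dif_pos (mul_mem ha hb), ← toAdd_mul, ← map_mul]; rfl
  · obtain ⟨u, hu⟩ := hψ (Multiplicative.ofAdd v)
    exact ⟨u, u.2, by rw [dif_pos u.2, hu, toAdd_ofAdd]⟩
  · rw [dif_pos ha]
    exact ⟨fun h => (hker ⟨a, ha⟩).1 (Multiplicative.toAdd.injective h),
      fun h => by rw [(hker ⟨a, ha⟩).2 h, toAdd_one]⟩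
  · obtain ⟨w, hw, hwv⟩ := hact e ⟨a, ha⟩
    rw [dif_pos ha, dif_pos (hw ▸ w.2)]
    rw [← hwv]
    exact congrArg (fun v => Multiplicative.toAdd (ψ v)) (Subtype.ext hw.symm)

namespace Sec

variable {E U U₀ : Subgroup G} (S : Sec E U U₀ F)

theorem map_one : S.f 1 = 0 := (S.zero 1 (one_mem _)).2 (one_mem _)

theorem map_inv {a : G} (ha : a ∈ U) : S.f a⁻¹ = - S.f a := by
  have h := S.map_mul a ha a⁻¹ (inv_mem ha)
  rw [mul_inv_cancel, S.map_one] at h
  exact (neg_eq_of_add_eq_zero_right h.symm).symm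

theorem eq_iff {a b : G} (ha : a ∈ U) (hb : b ∈ U) : S.f a = S.f b ↔ a⁻¹ * b ∈ U₀ := by
  rw [← S.zero _ (mul_mem (inv_mem ha) hb), S.map_mul _ (inv_mem ha) _ hb, S.map_inv ha,
    neg_add_eq_zero]

theorem map_mul_zero {a w : G} (ha : a ∈ U) (hw : w ∈ U₀) : S.f (a * w) = S.f a := by
  rw [S.map_mul _ ha _ (S.le hw), (S.zero _ (S.le hw)).2 hw, add_zero]

include S in
theorem conj_mem {e a : G} (he : e ∈ E) (ha : a ∈ U) : e * a * e⁻¹ ∈ U :=
  (mem_normalizer_iff.1 (S.norm he) a).1 ha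

theorem map_comm {e : ↥E} {a : G} (ha : a ∈ U) :
    S.f ((e : G) * a * (e : G)⁻¹ * a⁻¹) =
      (S.ρ e : Matrix (Fin 2) (Fin 2) F).mulVec (S.f a) - S.f a := by
  rw [S.map_mul _ (S.conj_mem e.2 ha) _ (inv_mem ha), S.equiv e a ha, S.map_inv ha, sub_eq_add_neg]

theorem rho_eq_one (e : ↥E)
    (h : ∀ a ∈ U, (e : G) * a * (e : G)⁻¹ * a⁻¹ ∈ U₀) : S.ρ e = 1 := by
  refine Subtype.ext (Matrix.mulVec_injective ?_)
  funext v
  obtain ⟨a, ha, rfl⟩ := S.surj v
  have := (S.zero _ (mul_mem (S.conj_mem e.2 ha) (inv_mem ha))).2 (h a ha)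
  rw [S.map_comm ha, sub_eq_zero] at this
  rw [this, Matrix.SpecialLinearGroup.coe_one, Matrix.one_mulVec]

theorem exists_pre (r : SL F) (hr : r ∈ R F) : ∃ e : ↥E, S.ρ e = r := S.range.ge hr

variable {x y : G}

/-- The map induced by an element normalizing both terms of the section. -/
noncomputable def act (x : G) (v : Fin 2 → F) : Fin 2 → F := S.f (x * (S.surj v).choose * x⁻¹)

theorem act_apply (hU : x ∈ normalizer (U : Set G)) (hU₀ : x ∈ normalizer (U₀ : Set G))
    {a : G} (ha : a ∈ U) : S.act x (S.f a) = S.f (x * a * x⁻¹) := by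
  obtain ⟨hb, hb'⟩ := (S.surj (S.f a)).choose_spec
  unfold act
  generalize (S.surj (S.f a)).choose = b at hb hb'
  rw [S.eq_iff ((mem_normalizer_iff.1 hU b).1 hb) ((mem_normalizer_iff.1 hU a).1 ha),
    show (x * b * x⁻¹)⁻¹ * (x * a * x⁻¹) = x * (b⁻¹ * a) * x⁻¹ by group]
  exact (mem_normalizer_iff.1 hU₀ _).1 ((S.eq_iff hb ha).1 hb')

theorem act_add (hU : x ∈ normalizer (U : Set G)) (hU₀ : x ∈ normalizer (U₀ : Set G))
    (v w : Fin 2 → F) : S.act x (v + w) = S.act x v + S.act x w := by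
  obtain ⟨a, ha, rfl⟩ := S.surj v
  obtain ⟨b, hb, rfl⟩ := S.surj w
  rw [← S.map_mul a ha b hb, S.act_apply hU hU₀ ha, S.act_apply hU hU₀ hb,
    S.act_apply hU hU₀ (mul_mem ha hb),
    ← S.map_mul _ ((mem_normalizer_iff.1 hU a).1 ha) _ ((mem_normalizer_iff.1 hU b).1 hb)]
  congr 1; group

/-- `act x` as an additive homomorphism. -/
noncomputable def actHom (hU : x ∈ normalizer (U : Set G)) (hU₀ : x ∈ normalizer (U₀ : Set G)) :
    (Fin 2 → F) →+ (Fin 2 → F) :=
  AddMonoidHom.mk' (S.act x) (S.act_add hU hU₀)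

theorem act_mul (hU : x ∈ normalizer (U : Set G)) (hU₀ : x ∈ normalizer (U₀ : Set G))
    (hyU : y ∈ normalizer (U : Set G)) (hyU₀ : y ∈ normalizer (U₀ : Set G))
    (v : Fin 2 → F) : S.act (x * y) v = S.act x (S.act y v) := by
  obtain ⟨a, ha, rfl⟩ := S.surj v
  rw [S.act_apply (mul_mem hU hyU) (mul_mem hU₀ hyU₀) ha, S.act_apply hyU hyU₀ ha,
    S.act_apply hU hU₀ ((mem_normalizer_iff.1 hyU a).1 ha)]
  congr 1; group

theorem act_one (v : Fin 2 → F) : S.act 1 v = v := by
  obtain ⟨a, ha, rfl⟩ := S.surj v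
  rw [S.act_apply (one_mem _) (one_mem _) ha]
  congr 1; group

theorem act_surjective (hU : x ∈ normalizer (U : Set G)) (hU₀ : x ∈ normalizer (U₀ : Set G)) :
    Function.Surjective (S.act x) := fun v =>
  ⟨S.act x⁻¹ v, by
    rw [← S.act_mul hU hU₀ (inv_mem hU) (inv_mem hU₀), mul_inv_cancel, S.act_one]⟩

theorem act_of_mem (e : ↥E) (hU₀ : (e : G) ∈ normalizer (U₀ : Set G)) (v : Fin 2 → F) :
    S.act (e : G) v = (S.ρ e : Matrix (Fin 2) (Fin 2) F).mulVec v := by
  obtain ⟨a, ha, rfl⟩ := S.surj v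
  rw [S.act_apply (S.norm e.2) hU₀ ha, S.equiv e a ha]

theorem act_eq_id (hU : x ∈ normalizer (U : Set G)) (hU₀ : x ∈ normalizer (U₀ : Set G))
    (h : ∀ a ∈ U, x * a * x⁻¹ * a⁻¹ ∈ U₀) (v : Fin 2 → F) : S.act x v = v := by
  obtain ⟨a, ha, rfl⟩ := S.surj v
  have hm := (mem_normalizer_iff.1 hU a).1 ha
  rw [S.act_apply hU hU₀ ha, eq_comm, ← sub_eq_zero, ← neg_eq_zero, neg_sub, sub_eq_add_neg,
    ← S.map_inv ha, ← S.map_mul _ hm _ (inv_mem ha), S.zero _ (mul_mem hm (inv_mem ha))]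
  exact h a ha

theorem act_conj (hU : x ∈ normalizer (U : Set G)) (hU₀ : x ∈ normalizer (U₀ : Set G))
    (e : ↥E) (hxe : x * (e : G) * x⁻¹ ∈ E) (v : Fin 2 → F) :
    S.act x ((S.ρ e : Matrix (Fin 2) (Fin 2) F).mulVec v) =
      (S.ρ ⟨_, hxe⟩ : Matrix (Fin 2) (Fin 2) F).mulVec (S.act x v) := by
  obtain ⟨a, ha, rfl⟩ := S.surj v
  rw [← S.equiv e a ha, S.act_apply hU hU₀ (S.conj_mem e.2 ha), S.act_apply hU hU₀ ha,
    ← S.equiv ⟨_, hxe⟩ _ ((mem_normalizer_iff.1 hU a).1 ha)]
  congr 1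
  show x * ((e : G) * a * (e : G)⁻¹) * x⁻¹ = x * e * x⁻¹ * (x * a * x⁻¹) * (x * e * x⁻¹)⁻¹
  group

/-- An element normalizing `E` and the section acts semilinearly. -/
theorem exists_semilinear (hG : Good F) (hU : x ∈ normalizer (U : Set G))
    (hU₀ : x ∈ normalizer (U₀ : Set G)) (hE : x ∈ normalizer (E : Set G)) :
    ∃ σ : F → F, ∀ (c : F) (v : Fin 2 → F), S.act x (c • v) = σ c • S.act x v := by
  have h : ∀ c : F, ∃ d : F, ∀ v, S.act x (c • v) = d • S.act x v := fun c => by
    obtain ⟨d, hd⟩ := commutant hG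
      (AddMonoidHom.mk' (fun v => S.act x (c • S.act x⁻¹ v)) fun v w => by
        rw [S.act_add (inv_mem hU) (inv_mem hU₀), smul_add, S.act_add hU hU₀])
      fun r hr v => by
        obtain ⟨e, rfl⟩ := S.exists_pre r hr
        have hxe : x⁻¹ * (e : G) * (x⁻¹)⁻¹ ∈ E :=
          (mem_normalizer_iff.1 (inv_mem hE) e).1 e.2
        show S.act x (c • S.act x⁻¹ _) = Matrix.mulVec _ (S.act x (c • S.act x⁻¹ v))
        rw [S.act_conj (inv_mem hU) (inv_mem hU₀) e hxe, ← Matrix.mulVec_smul]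
        have hxx : x * (x⁻¹ * (e : G) * (x⁻¹)⁻¹) * x⁻¹ ∈ E := by
          simp [mul_assoc]
        rw [S.act_conj hU hU₀ ⟨_, hxe⟩ hxx]
        rw [show (⟨x * (x⁻¹ * (e : G) * (x⁻¹)⁻¹) * x⁻¹, hxx⟩ : ↥E) = e from Subtype.ext (by
          show x * (x⁻¹ * (e : G) * (x⁻¹)⁻¹) * x⁻¹ = e
          group)]
    refine ⟨d, fun v => ?_⟩
    have := hd (S.act x v)
    simp only [AddMonoidHom.mk'_apply] at this
    rwa [← S.act_mul (inv_mem hU) (inv_mem hU₀) hU hU₀, inv_mul_cancel, S.act_one] at this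
  choose σ hσ using h
  exact ⟨σ, hσ⟩

/-- The kernel of `ρ` on a block. -/
theorem rho_eq_one_iff [Fintype F] {p : ℕ}
    (hiso : Nonempty (↥E ⧸ Cfsg.pCore p ↥E ≃* ↥(R F)))
    (htriv : ∀ q ∈ Cfsg.pCoreOf p E, ∀ a ∈ U, q * a * q⁻¹ * a⁻¹ ∈ U₀) (e : ↥E) :
    S.ρ e = 1 ↔ (e : G) ∈ Cfsg.pCoreOf p E := by
  obtain ⟨i⟩ := hiso
  have hle : Cfsg.pCore p ↥E ≤ S.ρ.ker := fun u hu => S.rho_eq_one u (htriv _ ⟨u, hu, rfl⟩)
  have heq : Cfsg.pCore p ↥E = S.ρ.ker := by
    refine eq_of_le_of_card_le' hle ?_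
    have h1 : Nat.card (↥E ⧸ Cfsg.pCore p ↥E) = Nat.card (↥E ⧸ S.ρ.ker) := by
      rw [Nat.card_congr i.toEquiv,
        Nat.card_congr (QuotientGroup.quotientKerEquivRange S.ρ).toEquiv, S.range]
    have h2 := (Cfsg.pCore p ↥E).card_eq_card_quotient_mul_card_subgroup
    rw [S.ρ.ker.card_eq_card_quotient_mul_card_subgroup, ← h1] at h2
    exact (Nat.eq_of_mul_eq_mul_left Nat.card_pos h2).le
  rw [← MonoidHom.mem_ker, ← heq]
  exact ⟨fun h => ⟨e, h, rfl⟩, fun ⟨u, hu, hue⟩ => Subtype.ext hue ▸ hu⟩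

end Sec

/-! ### Offenders on a natural module -/

theorem span_of_indep [Fintype F] (u v : Fin 2 → F)
    (h : ∀ a b : F, a • u + b • v = 0 → a = 0 ∧ b = 0) :
    ∀ w, ∃ a b : F, w = a • u + b • v := by
  have hinj : Function.Injective (fun c : Fin 2 → F => c 0 • u + c 1 • v) := fun c d hcd => by
    have := h (c 0 - d 0) (c 1 - d 1) (by
      rw [sub_smul, sub_smul, sub_add_sub_comm]; exact sub_eq_zero.2 hcd)
    funext i
    fin_cases i
    · exact sub_eq_zero.1 this.1
    · exact sub_eq_zero.1 this.2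
  intro w
  obtain ⟨c, hc⟩ := (Finite.injective_iff_surjective.1 hinj) w
  exact ⟨c 0, c 1, hc.symm⟩

/-- A nilpotent `F`-linear map of `F²` has a one-dimensional kernel containing its image, unless it
is zero. -/
theorem exists_frame [Fintype F] (N : (Fin 2 → F) →+ (Fin 2 → F))
    (hlin : ∀ (c : F) v, N (c • v) = c • N v) {m : ℕ} (hm : ∀ v, (N^[m]) v = 0)
    (hne : ∃ v, N v ≠ 0) :
    ∃ u v₀, N v₀ = u ∧ N u = 0 ∧ u ≠ 0 ∧ (∀ w, ∃ a b : F, w = a • u + b • v₀) ∧
      ∀ w, N (N w) = 0 := by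
  obtain ⟨v, hv⟩ := hne
  have hex : ∃ j, (N^[j]) (N v) = 0 := ⟨m, hm _⟩
  classical
  set j := Nat.find hex with hj
  have hj0 : j ≠ 0 := fun h0 => hv (by simpa [hj ▸ h0] using Nat.find_spec hex)
  obtain ⟨i, hi⟩ := Nat.exists_eq_succ_of_ne_zero hj0
  set u := (N^[i]) (N v) with hu
  have hNu : N u = 0 := by
    rw [hu, ← Function.iterate_succ_apply' N i, ← hi]; exact Nat.find_spec hex
  have hu0 : u ≠ 0 := Nat.find_min hex (by omega)
  set v₀ := (N^[i]) v with hv₀
  have hNv : N v₀ = u := by rw [hv₀, hu, ← Function.iterate_succ_apply' N i, Function.iterate_succ_apply]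
  have hspan := span_of_indep u v₀ fun a b hab => by
    have hb : b = 0 := by
      have := congrArg N hab
      rw [map_add, hlin, hlin, hNu, hNv, smul_zero, zero_add, map_zero] at this
      exact (smul_eq_zero.1 this).resolve_right hu0
    rw [hb, zero_smul, add_zero] at hab
    exact ⟨(smul_eq_zero.1 hab).resolve_right hu0, hb⟩
  refine ⟨u, v₀, hNv, hNu, hu0, hspan, fun w => ?_⟩
  obtain ⟨a, b, rfl⟩ := hspan w
  rw [map_add, hlin, hlin, hNu, hNv, smul_zero, zero_add, hlin, hNu, smul_zero]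

/-- A linear map of `p`-power order acts quadratically on `F²`. -/
theorem quadratic_of_iterate [Fintype F] {p : ℕ} [Fact p.Prime] (hp : (p : F) = 0)
    (g : (Fin 2 → F) →+ (Fin 2 → F)) (hlin : ∀ (c : F) v, g (c • v) = c • g v)
    {k : ℕ} (hk : ∀ v, (g^[p ^ k]) v = v) :
    ∀ v, g (g v - v) = g v - v := by
  let L : Module.End F (Fin 2 → F) :=
    { toFun := g, map_add' := g.map_add, map_smul' := fun c v => hlin c v }
  haveI : CharP F p := (CharP.charP_iff_prime_eq_zero Fact.out).2 hp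
  haveI : CharP (Module.End F (Fin 2 → F)) p :=
    charP_of_injective_algebraMap (algebraMap F (Module.End F (Fin 2 → F))).injective p
  have hL : L ^ p ^ k = 1 := LinearMap.ext fun v => by
    rw [Module.End.pow_apply, Module.End.one_apply]; exact hk v
  have hnil : (L - 1) ^ p ^ k = 0 := by
    rw [sub_pow_char_pow_of_commute _ _ (Commute.one_right L), hL, one_pow, sub_self]
  set N : (Fin 2 → F) →+ (Fin 2 → F) := g - AddMonoidHom.id _ with hN
  have hiter : ∀ (n : ℕ) v, (N^[n]) v = ((L - 1) ^ n) v := by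
    intro n
    induction n with
    | zero => intro v; rfl
    | succ n ih =>
      intro v
      rw [Function.iterate_succ_apply', ih, pow_succ', Module.End.mul_apply]
      rfl
  intro v
  by_cases hne : ∃ v, N v ≠ 0
  · obtain ⟨-, -, -, -, -, -, hsq⟩ := exists_frame N (fun c v => by
      show g (c • v) - c • v = c • (g v - v)
      rw [hlin, smul_sub]) (m := p ^ k) (fun v => by rw [hiter, hnil]; rfl) hne
    exact sub_eq_zero.1 (hsq v)
  · push Not at hne
    have := hne v
    exact sub_eq_zero.1 (hne (g v - v))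

theorem end_mul_apply {V : Type*} [AddCommGroup V] (f g : AddMonoid.End V) (v : V) :
    (f * g) v = f (g v) := rfl

/-- An offender on `F²` by commuting semilinear maps of order `p` is linear. -/
theorem linear_of_offender [Fintype F] {p : ℕ} [Fact p.Prime] (hp : (p : F) = 0) {A : Type*}
    [CommGroup A] [Finite A] (g : A →* AddMonoid.End (Fin 2 → F)) (hexp : ∀ a : A, a ^ p = 1)
    (hsemi : ∀ a, ∃ σ : F → F, ∀ (c : F) v, g a (c • v) = σ c • g a v)
    (hcard : Fintype.card F * Fintype.card F * Nat.card g.ker ≤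
      Nat.card A * Nat.card {v : Fin 2 → F // ∀ a, g a v = v}) :
    ∀ a (c : F) v, g a (c • v) = c • g a v := by
  classical
  by_contra hcon
  push Not at hcon
  obtain ⟨a₀, c₀, v₁, hv₁⟩ := hcon
  choose σ hσ using hsemi
  have hinv : ∀ a v, g a⁻¹ (g a v) = v := fun a v => by
    rw [← end_mul_apply, ← map_mul, inv_mul_cancel, map_one]; rfl
  have hinj : ∀ a v, g a v = 0 → v = 0 := fun a v h => by
    rw [← hinv a v, h, map_zero]
  obtain ⟨e, he⟩ : ∃ e : Fin 2 → F, e ≠ 0 := ⟨![1, 0], fun h => one_ne_zero (congrFun h 0)⟩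
  have hcancel : ∀ a (c d : F), c • g a e = d • g a e → c = d := fun a c d h => by
    rw [← sub_eq_zero, ← sub_smul, smul_eq_zero] at h
    exact sub_eq_zero.1 (h.resolve_right fun h' => he (hinj a e h'))
  have hσadd : ∀ a c d, σ a (c + d) = σ a c + σ a d := fun a c d => hcancel a _ _ (by
    rw [← hσ, add_smul, map_add, hσ, hσ, add_smul])
  have hσmul : ∀ a c d, σ a (c * d) = σ a c * σ a d := fun a c d => hcancel a _ _ (by
    rw [← hσ, mul_smul, hσ, hσ, mul_smul])
  have hσone : ∀ a, σ a 1 = 1 := fun a => hcancel a _ _ (by rw [← hσ, one_smul, one_smul])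
  have hσ0 : ∀ a c, σ a c = 0 → c = 0 := fun a c h => by
    have h' := hσ a c e
    rw [h, zero_smul] at h'
    exact (smul_eq_zero.1 (hinj a _ h')).resolve_right he
  have hσcomp : ∀ a b c, σ (a * b) c = σ a (σ b c) := fun a b c => hcancel (a * b) _ _ (by
    rw [← hσ, map_mul, end_mul_apply, end_mul_apply, hσ, hσ])
  have hσker : ∀ a b, (∀ c, σ a c = σ b c) → ∀ c, σ (a⁻¹ * b) c = c := fun a b h c => by
    rw [hσcomp, ← h, ← hσcomp, inv_mul_cancel]
    exact hcancel 1 _ _ (by rw [← hσ, map_one]; rfl)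
  let gh : A → ((Fin 2 → F) →+ (Fin 2 → F)) := fun a => g a
  -- the linear part
  let A₁ : Subgroup A :=
    { carrier := {a | ∀ c, σ a c = c}
      mul_mem' := fun {a b} ha hb c => by rw [hσcomp, hb, ha]
      one_mem' := fun c => hcancel 1 _ _ (by rw [← hσ, map_one]; rfl)
      inv_mem' := fun {a} ha c => by
        conv_lhs => rw [← ha c]
        rw [← hσcomp, inv_mul_cancel]
        exact hcancel 1 _ _ (by rw [← hσ, map_one]; rfl) }
  have hA₁ : ∀ a ∈ A₁, ∀ (c : F) v, g a (c • v) = c • g a v := fun a ha c v => by rw [hσ, ha]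
  have ha₀ : ∃ c, σ a₀ c ≠ c := ⟨c₀, fun h => hv₁ (by rw [hσ, h])⟩
  -- the field automorphisms involved are fewer than `q`
  obtain ⟨ω, hω⟩ := IsCyclic.exists_generator (α := Fˣ)
  have hidx : A₁.index < Fintype.card F := by
    have hfac : ∀ a b, σ a ω = σ b ω → ∀ c, σ a c = σ b c := by
      intro a b h c
      rcases eq_or_ne c 0 with rfl | hc
      · have h0 : ∀ a, σ a 0 = 0 := fun a => by simpa using hσadd a 0 0
        rw [h0, h0]
      · obtain ⟨n, hn⟩ := mem_powers_iff_mem_zpowers.2 (hω (Units.mk0 c hc))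
        have hn' : c = (ω : F) ^ n := by
          have := congrArg Units.val hn
          simpa using this.symm
        rw [hn']
        clear hn hn'
        induction n with
        | zero => rw [pow_zero, hσone, hσone]
        | succ n ih => rw [pow_succ, hσmul, hσmul, ih, h]
    rw [Subgroup.index, ← Nat.card_eq_fintype_card (α := F)]
    refine lt_of_le_of_lt (Nat.card_le_card_of_injective
      (fun q : A ⧸ A₁ => (⟨σ q.out ω, fun h => ω.ne_zero (hσ0 _ _ h)⟩ : {c : F // c ≠ 0}))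
      fun q q' h => ?_) ?_
    · rw [← QuotientGroup.out_eq' q, ← QuotientGroup.out_eq' q']
      exact QuotientGroup.eq.2 (hσker _ _ (hfac _ _ (congrArg Subtype.val h)))
    · rw [Nat.card_eq_fintype_card, Nat.card_eq_fintype_card]
      exact Fintype.card_subtype_lt (x := (0 : F)) fun h => h rfl
  -- the fixed field
  obtain ⟨c₁, hc₁⟩ := ha₀
  let F₀ : AddSubgroup F :=
    { carrier := {c | σ a₀ c = c}
      add_mem' := fun {a b} (ha : σ a₀ a = a) (hb : σ a₀ b = b) => by
        show σ a₀ (a + b) = a + b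
        rw [hσadd, ha, hb]
      zero_mem' := by
        show σ a₀ 0 = 0
        simpa using hσadd a₀ 0 0
      neg_mem' := fun {a} (ha : σ a₀ a = a) => by
        show σ a₀ (-a) = -a
        have h := hσadd a₀ a (-a)
        rw [add_neg_cancel, ha, show σ a₀ 0 = 0 by simpa using hσadd a₀ 0 0] at h
        exact (neg_eq_of_add_eq_zero_right h.symm).symm }
  have hF₀ : Nat.card F₀ * Nat.card F₀ ≤ Fintype.card F := by
    rw [← Nat.card_prod, ← Nat.card_eq_fintype_card]
    refine Nat.card_le_card_of_injective (fun x : F₀ × F₀ => (x.1 : F) + x.2 * c₁) ?_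
    rintro ⟨a, b⟩ ⟨a', b'⟩ h
    have h'' : (a : F) + b * c₁ = a' + b' * c₁ := h
    have h' : ((a : F) - a') + ((b : F) - b') * c₁ = 0 := by
      linear_combination h''
    have hb : (b : F) - b' = 0 := by
      by_contra hb
      refine hc₁ ?_
      have e := congrArg (σ a₀) h'
      rw [hσadd, hσmul, show σ a₀ 0 = 0 by simpa using hσadd a₀ 0 0,
        show σ a₀ ((a : F) - a') = (a : F) - a' from F₀.sub_mem a.2 a'.2,
        show σ a₀ ((b : F) - b') = (b : F) - b' from F₀.sub_mem b.2 b'.2] at e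
      exact mul_left_cancel₀ hb (by linear_combination e - h')
    rw [hb, zero_mul, add_zero, sub_eq_zero] at h'
    exact Prod.ext (Subtype.ext h') (Subtype.ext (sub_eq_zero.1 hb))
  set Fix := {v : Fin 2 → F // ∀ a, g a v = v}
  have hline : ∀ v₂ : Fin 2 → F, v₂ ≠ 0 → g a₀ v₂ = v₂ →
      ∀ c : F, g a₀ (c • v₂) = c • v₂ → c ∈ F₀ := fun v₂ hne hfix c hc => by
    rw [hσ, hfix, ← sub_eq_zero, ← sub_smul, smul_eq_zero] at hc
    exact sub_eq_zero.1 (hc.resolve_right hne)
  have hbound : Nat.card A * Nat.card Fix <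
      Fintype.card F * Fintype.card F * Nat.card g.ker := by
    have hA : Nat.card A = Nat.card A₁ * A₁.index := (Subgroup.card_mul_index A₁).symm
    have hker : g.ker ≤ A₁ := fun a (ha : g a = 1) c => hcancel a _ _ (by
      rw [← hσ, ha]; rfl)
    by_cases hA₁ne : ∃ b ∈ A₁, g b ≠ 1
    · obtain ⟨b, hb, hb1⟩ := hA₁ne
      set N : (Fin 2 → F) →+ (Fin 2 → F) := gh b - AddMonoidHom.id _
      have hlinN : ∀ (c : F) v, N (c • v) = c • N v := fun c v => by
        show g b (c • v) - c • v = c • (g b v - v)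
        rw [hA₁ b hb, smul_sub]
      have hquad : ∀ b ∈ A₁, ∀ v, g b (g b v - v) = g b v - v := fun b hb =>
        quadratic_of_iterate (p := p) hp (gh b) (hA₁ b hb) (k := 1)
          fun v => by
            show (⇑(g b))^[p ^ 1] v = v
            rw [pow_one, ← AddMonoid.End.coe_pow, ← map_pow, hexp, map_one]; rfl
      obtain ⟨u, v₀, hNv, hNu, hu0, hspan, -⟩ := exists_frame N hlinN (m := 2)
        (fun v => sub_eq_zero.2 (hquad b hb v)) (by
          by_contra hne
          push Not at hne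
          exact hb1 (AddMonoidHom.ext fun v => sub_eq_zero.1 (hne v)))
      have hkerN : ∀ w, N w = 0 → ∃ c : F, w = c • u := fun w hw => by
        obtain ⟨a, b', rfl⟩ := hspan w
        rw [map_add, hlinN, hlinN, hNu, hNv, smul_zero, zero_add, smul_eq_zero] at hw
        exact ⟨a, by rw [hw.resolve_right hu0, zero_smul, add_zero]⟩
      have hFix : Nat.card Fix ≤ Nat.card F₀ := by
        by_cases hex : ∃ v : Fix, (v : Fin 2 → F) ≠ 0
        · obtain ⟨⟨v, hv⟩, hv0⟩ := hex
          obtain ⟨d, hd⟩ := hkerN v (sub_eq_zero.2 (hv b))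
          have hd0 : d ≠ 0 := by rintro rfl; exact hv0 (hd.trans (zero_smul F u))
          have hv' : ∀ w : Fix, ∃ c : F₀, (w : Fin 2 → F) = (c : F) • v := fun ⟨w, hw⟩ => by
            obtain ⟨e', he'⟩ := hkerN w (sub_eq_zero.2 (hw b))
            have hwv : w = (e' * d⁻¹) • v := by
              rw [hd, he', smul_smul, mul_assoc, inv_mul_cancel₀ hd0, mul_one]
            exact ⟨⟨e' * d⁻¹, hline v hv0 (hv a₀) _ (by rw [← hwv]; exact hw a₀)⟩, hwv⟩
          choose c hc using hv'
          exact Nat.card_le_card_of_injective c fun w w' h =>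
            Subtype.ext (by rw [hc, hc, h])
        · push Not at hex
          haveI : Subsingleton Fix := ⟨fun w w' => Subtype.ext (by rw [hex, hex])⟩
          rw [Nat.card_eq_one_iff_unique.2 ⟨inferInstance, ⟨⟨0, fun a => map_zero _⟩⟩⟩]
          exact Nat.card_pos
      -- linear elements are multiples of `N`
      have hmult : ∀ b' : A₁, ∃ t : F₀, ∀ v, g (b' : A) v - v = (t : F) • N v := by
        rintro ⟨b', hb'⟩
        set N' : (Fin 2 → F) →+ (Fin 2 → F) :=
          gh b' - AddMonoidHom.id _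
        have hlinN' : ∀ (c : F) v, N' (c • v) = c • N' v := fun c v => by
          show g b' (c • v) - c • v = c • (g b' v - v)
          rw [hA₁ b' hb', smul_sub]
        have hcom : ∀ v, N' (N v) = N (N' v) := fun v => by
          show g b' (g b v - v) - (g b v - v) = g b (g b' v - v) - (g b' v - v)
          rw [map_sub, map_sub, ← end_mul_apply, ← end_mul_apply, ← map_mul,
            ← map_mul, mul_comm]
          abel
        obtain ⟨t, s, hts⟩ := hspan (N' v₀)
        have hu' : N' u = s • u := by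
          rw [← hNv, hcom, hts, map_add, hlinN, hlinN, hNu, hNv, smul_zero, zero_add]
        have hs : s = 0 := by
          have hsq' : N' (N' u) = 0 := sub_eq_zero.2 (hquad b' hb' u)
          rw [hu', hlinN', hu', smul_smul, smul_eq_zero] at hsq'
          exact mul_self_eq_zero.1 (hsq'.resolve_right hu0)
        rw [hs, zero_smul, add_zero] at hts
        have hall : ∀ v, g b' v - v = t • N v := fun v => by
          obtain ⟨a, c, rfl⟩ := hspan v
          show N' (a • u + c • v₀) = t • N (a • u + c • v₀)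
          rw [map_add, map_add, hlinN', hlinN', hlinN, hlinN, hu', hs, hts, hNu, hNv, zero_smul,
            smul_zero, zero_add, zero_add, smul_smul, smul_smul, mul_comm]
        refine ⟨⟨t, ?_⟩, hall⟩
        -- `t` is fixed by the field automorphism of `a₀`
        obtain ⟨w, hw⟩ : ∃ w, g a₀ w = v₀ := ⟨g a₀⁻¹ v₀, by
          rw [← end_mul_apply, ← map_mul, mul_inv_cancel, map_one]; rfl⟩
        have hcomm : ∀ (c : A) x, g a₀ (g c x - x) = g c (g a₀ x) - g a₀ x := fun c x => by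
          rw [map_sub, ← end_mul_apply, ← map_mul, mul_comm, map_mul,
            end_mul_apply]
        have e1 := hcomm b' w
        rw [hall w, hσ, hw, hall v₀] at e1
        have e2 : g a₀ (N w) = u := (hcomm b w).trans (by rw [hw]; exact hNv)
        rw [e2, hNv, ← sub_eq_zero, ← sub_smul, smul_eq_zero] at e1
        exact sub_eq_zero.1 (e1.resolve_right hu0)
      choose t ht using hmult
      have hA₁card : Nat.card A₁ ≤ Nat.card g.ker * Nat.card F₀ := by
        rw [(g.ker.subgroupOf A₁).card_eq_card_quotient_mul_card_subgroup, mul_comm,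
          Nat.card_congr (subgroupOfEquivOfLe hker).toEquiv]
        refine Nat.mul_le_mul_left _ (Nat.card_le_card_of_injective
          (fun q : ↥A₁ ⧸ g.ker.subgroupOf A₁ => t q.out) fun q q' h => ?_)
        rw [← QuotientGroup.out_eq' q, ← QuotientGroup.out_eq' q']
        refine QuotientGroup.eq.2 (Subgroup.mem_subgroupOf.2 ?_)
        rw [MonoidHom.mem_ker, Subgroup.coe_mul, Subgroup.coe_inv, map_mul]
        refine AddMonoidHom.ext fun v => ?_
        show g (q.out : A)⁻¹ (g (q'.out : A) v) = v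
        have h1 := ht q.out v
        rw [show t q.out = t q'.out from h, ← ht q'.out v] at h1
        rw [← sub_left_injective h1]
        exact hinv _ v
      calc Nat.card A * Nat.card Fix ≤ Nat.card g.ker * Nat.card F₀ * A₁.index * Nat.card F₀ := by
            rw [hA]; gcongr
        _ = Nat.card g.ker * A₁.index * (Nat.card F₀ * Nat.card F₀) := by ring
        _ ≤ Nat.card g.ker * A₁.index * Fintype.card F := Nat.mul_le_mul_left _ hF₀
        _ < Nat.card g.ker * Fintype.card F * Fintype.card F := by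
            refine Nat.mul_lt_mul_of_pos_right ?_ Fintype.card_pos
            exact Nat.mul_lt_mul_of_pos_left hidx Nat.card_pos
        _ = Fintype.card F * Fintype.card F * Nat.card g.ker := by ring
    · push Not at hA₁ne
      have hA₁eq : A₁ = g.ker := le_antisymm (fun b hb => hA₁ne b hb) hker
      have hFix : Nat.card Fix ≤ Fintype.card F := by
        refine le_trans ?_ hF₀
        by_cases hex : ∃ v : Fix, (v : Fin 2 → F) ≠ 0
        · obtain ⟨⟨v, hv⟩, hv0⟩ := hex
          by_cases hex2 : ∃ w : Fix, ∀ c : F, (w : Fin 2 → F) ≠ c • v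
          · obtain ⟨⟨w, hw⟩, hwv⟩ := hex2
            have hindep : ∀ a b : F, a • v + b • w = 0 → a = 0 ∧ b = 0 := fun a b hab => by
              by_cases hb : b = 0
              · rw [hb, zero_smul, add_zero] at hab
                exact ⟨(smul_eq_zero.1 hab).resolve_right hv0, hb⟩
              · refine absurd ?_ (hwv (-a * b⁻¹))
                show w = _
                rw [add_eq_zero_iff_eq_neg] at hab
                rw [neg_mul, neg_smul, mul_comm, mul_smul, ← smul_neg, hab, neg_neg, smul_smul,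
                  inv_mul_cancel₀ hb, one_smul]
            have hrep : ∀ x : Fix, ∃ c : F₀ × F₀,
                (x : Fin 2 → F) = (c.1 : F) • v + (c.2 : F) • w := fun ⟨x, hx⟩ => by
              obtain ⟨a, b, rfl⟩ := span_of_indep v w hindep x
              have h := hx a₀
              rw [map_add, hσ, hσ, hv, hw] at h
              have := hindep (σ a₀ a - a) (σ a₀ b - b) (by
                rw [sub_smul, sub_smul, sub_add_sub_comm]; exact sub_eq_zero.2 h)
              exact ⟨(⟨a, sub_eq_zero.1 this.1⟩, ⟨b, sub_eq_zero.1 this.2⟩), rfl⟩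
            choose c hc using hrep
            rw [← Nat.card_prod]
            exact Nat.card_le_card_of_injective c fun x x' h => Subtype.ext (by rw [hc, hc, h])
          · push Not at hex2
            have hrep : ∀ x : Fix, ∃ c : F₀, (x : Fin 2 → F) = (c : F) • v := fun x => by
              obtain ⟨c, hc⟩ := hex2 x
              exact ⟨⟨c, hline v hv0 (hv a₀) c (by rw [← hc]; exact x.2 a₀)⟩, hc⟩
            choose c hc using hrep
            exact (Nat.card_le_card_of_injective c fun x x' h =>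
              Subtype.ext (by rw [hc, hc, h])).trans (Nat.le_mul_of_pos_left _ Nat.card_pos)
        · push Not at hex
          haveI : Subsingleton Fix := ⟨fun w w' => Subtype.ext (by rw [hex, hex])⟩
          rw [Nat.card_eq_one_iff_unique.2 ⟨inferInstance, ⟨⟨0, fun a => map_zero _⟩⟩⟩]
          exact Nat.mul_pos Nat.card_pos Nat.card_pos
      calc Nat.card A * Nat.card Fix ≤ Nat.card g.ker * A₁.index * Fintype.card F := by
            rw [hA, hA₁eq]; exact Nat.mul_le_mul_left _ hFix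
        _ < Nat.card g.ker * Fintype.card F * Fintype.card F := by
            refine Nat.mul_lt_mul_of_pos_right ?_ Fintype.card_pos
            exact Nat.mul_lt_mul_of_pos_left hidx Nat.card_pos
        _ = Fintype.card F * Fintype.card F * Nat.card g.ker := by ring
  exact absurd hcard (not_le.2 hbound)

end CfsgLib.BlockSection
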