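import Cfsg.Agent.LocalB.BlockCore

/-!
Fixed points on `W_E` modulo `Z` and counting through a section map.
-/

set_option autoImplicit false
set_option linter.style.haveILetI false
set_option linter.unusedSectionVars false

namespace CfsgLib.BlockTop

open Subgroup CfsgLib.Functor CfsgLib.BlockModule CfsgLib.BlockBasic CfsgLib.BlockCore
open scoped CfsgLib.Functor commutatorElement

universe u

variable {G : Type u} [Group G] [Finite G] {p : ℕ} [hp : Fact p.Prime] {E : Subgroup G}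
  (h : Facts p E)

/-- The elements of `W_E` fixed by `A` modulo `Z`. -/
def Fx (h : Facts p E) (A : Subgroup G) : Subgroup G where
  carrier := {w | w ∈ WEm p E ∧ ∀ a ∈ A, a * w * a⁻¹ * w⁻¹ ∈ Zm p E}
  mul_mem' {w v} hw hv := ⟨mul_mem hw.1 hv.1, fun a ha => by
    have h2 := hv.2 a ha
    have hwE : w ∈ E := h.W_le_E (WE_le_W E hw.1)
    rw [show a * (w * v) * a⁻¹ * (w * v)⁻¹ =
      (a * w * a⁻¹ * w⁻¹) * (w * (a * v * a⁻¹ * v⁻¹) * w⁻¹) by group, h.Z_fix h2 hwE]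
    exact mul_mem (hw.2 a ha) h2⟩
  one_mem' := ⟨one_mem _, fun a _ => by simp⟩
  inv_mem' {w} hw := ⟨inv_mem hw.1, fun a ha => by
    have h2 := inv_mem (hw.2 a ha)
    have hwE : w⁻¹ ∈ E := inv_mem (h.W_le_E (WE_le_W E hw.1))
    rw [← h.Z_fix h2 hwE, inv_inv] at h2
    rwa [show w⁻¹ * (a * w * a⁻¹ * w⁻¹)⁻¹ * w = a * w⁻¹ * a⁻¹ * w⁻¹⁻¹ by group] at h2⟩

theorem mem_Fx {A : Subgroup G} {w : G} :
    w ∈ Fx h A ↔ w ∈ WEm p E ∧ ∀ a ∈ A, a * w * a⁻¹ * w⁻¹ ∈ Zm p E := Iff.rfl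

theorem Fx_le (A : Subgroup G) : Fx h A ≤ WEm p E := fun _ hw => hw.1

theorem inf_Z_le_Fx {A : Subgroup G} (hA : A ≤ normalizer (E : Set G)) :
    WEm p E ⊓ Zm p E ≤ Fx h A := fun w hw =>
  ⟨hw.1, fun a ha => mul_mem ((mem_normalizer_iff.1 (h.norm_Z (hA ha)) w).1 hw.2) (inv_mem hw.2)⟩

theorem inf_centralizer_le_Fx (A : Subgroup G) :
    WEm p E ⊓ centralizer (A : Set G) ≤ Fx h A := fun w hw => ⟨hw.1, fun a ha => by
  rw [mem_centralizer_iff.1 hw.2 a ha, mul_inv_cancel_right, mul_inv_cancel]; exact one_mem _⟩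

theorem Fx_anti {A B : Subgroup G} (hAB : A ≤ B) : Fx h B ≤ Fx h A :=
  fun _ hw => ⟨hw.1, fun a ha => hw.2 a (hAB ha)⟩

variable {X : Type*} [AddCommGroup X] (f : G → X)
  (hadd : ∀ a ∈ WEm p E, ∀ b ∈ WEm p E, f (a * b) = f a + f b)
  (hker : ∀ a ∈ WEm p E, (f a = 0 ↔ a ∈ Zm p E))

include hadd hker

theorem f_inv {a : G} (ha : a ∈ WEm p E) : f a⁻¹ = - f a := by
  have h1 := hadd a ha _ (inv_mem ha)
  rw [mul_inv_cancel, (hker 1 (one_mem _)).2 (one_mem _)] at h1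
  exact (neg_eq_of_add_eq_zero_right h1.symm).symm

theorem f_eq_iff {a b : G} (ha : a ∈ WEm p E) (hb : b ∈ WEm p E) :
    f a = f b ↔ a⁻¹ * b ∈ Zm p E := by
  rw [← hker _ (mul_mem (inv_mem ha) hb), hadd _ (inv_mem ha) _ hb, f_inv f hadd hker ha,
    neg_add_eq_zero]

theorem card_mul_le_card (P : X → Prop) [Finite X] (hsurj : ∀ x, P x → ∃ a ∈ WEm p E, f a = x) :
    Nat.card ↥(WEm p E ⊓ Zm p E) * Nat.card {x // P x} ≤ Nat.card ↥(WEm p E) := by
  rw [← Nat.card_prod]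
  choose s hs hfs using hsurj
  refine Nat.card_le_card_of_injective (fun q => (⟨(q.1 : G) * s q.2 q.2.2,
    mul_mem q.1.2.1 (hs _ _)⟩ : ↥(WEm p E))) ?_
  rintro ⟨c, x⟩ ⟨c', x'⟩ e
  have e' : (c : G) * s x x.2 = (c' : G) * s x' x'.2 := congrArg Subtype.val e
  have hx : x = x' := by
    refine Subtype.ext ?_
    have := congrArg f e'
    rwa [hadd _ c.2.1 _ (hs _ _), hadd _ c'.2.1 _ (hs _ _), (hker _ c.2.1).2 c.2.2,
      (hker _ c'.2.1).2 c'.2.2, zero_add, zero_add, hfs, hfs] at this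
  subst hx
  exact Prod.ext (Subtype.ext (mul_right_cancel e')) rfl

theorem card_le_mul [Finite X] (M : Subgroup G) (hM : M ≤ WEm p E) (P : X → Prop)
    (hP : ∀ a ∈ M, P (f a)) :
    Nat.card ↥M ≤ Nat.card ↥(WEm p E ⊓ Zm p E) * Nat.card {x // P x} := by
  classical
  let Y := {x // ∃ a ∈ M, f a = x}
  have hs : ∀ x : Y, ∃ a ∈ M, f a = x := fun x => x.2
  choose s hsM hfs using hs
  refine le_trans (b := Nat.card (↥(WEm p E ⊓ Zm p E) × Y)) ?_ ?_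
  · refine Nat.card_le_card_of_injective (fun a : ↥M =>
      ((⟨(s ⟨f a, a, a.2, rfl⟩)⁻¹ * a, Subgroup.mem_inf.2
        ⟨mul_mem (inv_mem (hM (hsM _))) (hM a.2),
          (f_eq_iff f hadd hker (hM (hsM _)) (hM a.2)).1 (hfs ⟨f a, a, a.2, rfl⟩)⟩⟩ :
            ↥(WEm p E ⊓ Zm p E)), (⟨f a, a, a.2, rfl⟩ : Y))) fun a b e => ?_
    have e1 := congrArg (fun q => ((q.1 : ↥(WEm p E ⊓ Zm p E)) : G)) e
    have e2 := congrArg Prod.snd e
    dsimp only at e1 e2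
    rw [e2] at e1
    exact Subtype.ext (mul_left_cancel e1)
  · rw [Nat.card_prod]
    refine Nat.mul_le_mul_left _ (Nat.card_le_card_of_injective
      (fun x : Y => (⟨x, by obtain ⟨a, ha, hfa⟩ := x.2; exact hfa ▸ hP a ha⟩ : {x // P x}))
      fun a b e => Subtype.ext (congrArg (fun z : {x // P x} => (z : X)) e))

end CfsgLib.BlockTop
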