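import Cfsg.Agent.LocalB.BlockPerm
import Cfsg.Agent.LocalB.BlockLinear
import Cfsg.Agent.LocalB.BlockNorm

/-!
The two types of blocks, and what `J(T')` and `B(T')` do to `W_E`.
-/

set_option autoImplicit false
set_option linter.style.haveILetI false
set_option linter.unusedSectionVars false

namespace CfsgLib.BlockTypes

open Subgroup CfsgLib.Functor CfsgLib.BlockModule CfsgLib.BlockBasic CfsgLib.BlockCore
  CfsgLib.BlockTop CfsgLib.BlockPerm CfsgLib.BlockLinear CfsgLib.BlockSL2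
  CfsgLib.BlockLinearSL CfsgLib.BlockSection
open scoped CfsgLib.Functor commutatorElement

universe u

variable {G : Type u} [Group G] [Finite G] {p : ℕ} [hp : Fact p.Prime]

/-- A block is of permutation type, or of linear (possibly exceptional) type. -/
theorem block_cases {T E : Subgroup G} (hE : Cfsg.IsBaumannBlock p T E) :
    (p = 2 ∧ ∃ n, Nonempty (PData E n)) ∨
      ∃ (F : Type) (_ : Field F) (_ : Fintype F), Nonempty (LData p E F) := by
  rcases hE.2.2.2.2 with ⟨F, iF, iFt, n, hcard, -, hW, -⟩ | ⟨hp2, m, -, hW, hQ⟩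
  · exact Or.inr ⟨F, iF, iFt, exists_ldata hE hcard hW⟩
  · subst hp2
    exact Or.inl ⟨rfl, _, exists_pdata hE hW hQ⟩

/-- The bound that elementary abelian groups acting on `W_E` obey. -/
structure TopFacts (p : ℕ) [Fact p.Prime] (E : Subgroup G) : Prop where
  facts : Facts p E
  bound : ∀ A : Subgroup G, A ≤ normalizer (E : Set G) → Cfsg.IsElementaryAbelian p A →
    Nat.card A * Nat.card ↥(Fx facts A) ≤ Nat.card ↥(WEm p E) * Nat.card ↥(A ⊓ Cm p E)
  four : 4 * Nat.card ↥(WEm p E ⊓ Zm p E) ≤ Nat.card ↥(WEm p E)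

theorem topFacts {T E : Subgroup G} (hE : Cfsg.IsBaumannBlock p T E) : TopFacts p E := by
  refine ⟨facts_of_block hE, fun A hA hel => ?_, ?_⟩
  · rcases block_cases hE with ⟨rfl, n, ⟨X⟩⟩ | ⟨F, iF, iFt, ⟨X⟩⟩
    · exact X.bound hA hel
    · exact X.bound hA hel
  · rcases block_cases hE with ⟨rfl, n, ⟨X⟩⟩ | ⟨F, iF, iFt, ⟨X⟩⟩
    · exact X.card_four
    · exact X.card_four

theorem cj_Fx {E : Subgroup G} (h : Facts p E) {g : G} (hg : g ∈ normalizer (E : Set G))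
    {J : Subgroup G} (hgJ : g ∈ normalizer (J : Set G)) : g ⋆ Fx h J = Fx h J := by
  refine eq_of_le_of_card_le' (cj_le_iff.2 fun w hw => ⟨(cj_WE hg).le (conj_mem_cj hw.1),
    fun a ha => ?_⟩) (card_cj _ _).ge
  have ha' : g⁻¹ * a * g⁻¹⁻¹ ∈ J := (mem_normalizer_iff.1 (inv_mem hgJ) a).1 ha
  have h1 := (mem_normalizer_iff.1 (h.norm_Z hg) _).1 (hw.2 _ ha')
  rwa [show g * (g⁻¹ * a * g⁻¹⁻¹ * w * (g⁻¹ * a * g⁻¹⁻¹)⁻¹ * w⁻¹) * g⁻¹ =
    a * (g * w * g⁻¹) * a⁻¹ * (g * w * g⁻¹)⁻¹ by group] at h1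

theorem WE_el (E : Subgroup G) : Cfsg.IsElementaryAbelian p (WEm p E) :=
  CfsgLib.Thompson.elab_mono CfsgLib.Baumann.exponent_omegaOneCenter (WE_le_W E)

section

variable (hG : centralizer (Cfsg.pCore p G : Set G) ≤ Cfsg.pCore p G) {T : Sylow p G}
  {E : Subgroup G} (hE : Cfsg.IsBaumannBlock p (T : Subgroup G) E) (T' : Sylow p G)

include hG hE

theorem WE_le_sylow : WEm p E ≤ (T' : Subgroup G) := fun _ hx =>
  CfsgLib.Fitting.pCore_le_sylow T'
    (CfsgLib.Thompson.omegaOne_le _ (WE_le_O hG (CfsgLib.Baumann.blk_of_isBaumannBlock hE) hx)).1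

theorem fx_le_centralizer {A : Subgroup G} (hA : A ∈ CfsgLib.Thompson.maxIn p (T' : Subgroup G))
    (hAN : A ≤ normalizer (E : Set G)) :
    Fx (facts_of_block hE) A ≤ centralizer (A : Set G) ∧
      Nat.card ↥(WEm p E) * Nat.card ↥(A ⊓ Cm p E) ≤
        Nat.card A * Nat.card ↥(Fx (facts_of_block hE) A) := by
  set h := facts_of_block hE
  have hoff := CfsgLib.BlockExc.offender_card hA (WE_el (p := p) E) (WE_le_sylow hG hE T')
  have hle := inf_centralizer_le_Fx h (E := E) A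
  have hb := (topFacts hE).bound A hAN hA.2.1
  have hoff' := hoff.trans (Nat.mul_le_mul_left _ (Subgroup.card_le_of_le hle))
  have heq : Nat.card A * Nat.card ↥(Fx h A) ≤
      Nat.card A * Nat.card ↥(WEm p E ⊓ centralizer (A : Set G)) := hb.trans hoff
  have := eq_of_le_of_card_le' hle (Nat.le_of_mul_le_mul_left heq Nat.card_pos)
  exact ⟨this.ge.trans inf_le_right, hoff'⟩

variable (hJ : Cfsg.thompsonSubgroupOf p (T' : Subgroup G) ≤ normalizer (E : Set G))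

include hJ

theorem fx_J_le_centralizer_J :
    Fx (facts_of_block hE) (Cfsg.thompsonSubgroupOf p (T' : Subgroup G)) ≤
      centralizer (Cfsg.thompsonSubgroupOf p (T' : Subgroup G) : Set G) := by
  rw [CfsgLib.Thompson.thompsonSubgroupOf_eq] at hJ ⊢
  intro w hw
  have key : sSup (CfsgLib.Thompson.maxIn p (T' : Subgroup G)) ≤ centralizer {w} :=
    sSup_le fun A hA a ha => mem_centralizer_singleton_iff.2 <| by
      have hAN : A ≤ normalizer (E : Set G) := (le_sSup hA).trans hJ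
      have h1 := (fx_le_centralizer hG hE T' hA hAN).1 (Fx_anti _ (le_sSup hA) hw)
      exact mem_centralizer_iff.1 h1 a ha
  exact mem_centralizer_iff.2 fun a ha => mem_centralizer_singleton_iff.1 (key ha)

theorem fx_J_le_centralizer_B :
    Fx (facts_of_block hE) (Cfsg.thompsonSubgroupOf p (T' : Subgroup G)) ≤
      centralizer (Cfsg.baumannSubgroupOf p (T' : Subgroup G) : Set G) := by
  intro w hw
  have hwp : w ^ p = 1 := (WE_el (p := p) E).2 w hw.1
  have hwC := fx_J_le_centralizer_J hG hE T' hJ hw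
  obtain ⟨A, hA⟩ := CfsgLib.Thompson.exists_maxIn (p := p) (T' : Subgroup G)
  have hAJ : A ≤ Cfsg.thompsonSubgroupOf p (T' : Subgroup G) := by
    rw [CfsgLib.Thompson.thompsonSubgroupOf_eq]; exact le_sSup hA
  have hwA : w ∈ A := by
    have hsup : Cfsg.IsElementaryAbelian p (zpowers w ⊔ A) :=
      CfsgLib.Thompson.elab_sup (CfsgLib.Thompson.elab_zpowers hwp) hA.2.1
        (zpowers_le.2 (mem_centralizer_iff.2 fun a ha => mem_centralizer_iff.1 hwC a (hAJ ha)))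
    have heq := eq_of_le_of_card_le' (le_sup_right : A ≤ zpowers w ⊔ A)
      (hA.2.2 _ (sup_le (zpowers_le.2 (WE_le_sylow hG hE T' hw.1)) hA.1) hsup)
    exact heq.ge (mem_sup_left (mem_zpowers w))
  refine mem_centralizer_iff.2 fun b hb => ?_
  refine (mem_centralizer_iff.1 hb.2 w ?_).symm
  exact CfsgLib.Thompson.mem_omegaOne ⟨hAJ hwA, hwC⟩ hwp

theorem fx_J_not_le_Z :
    ¬ Fx (facts_of_block hE) (Cfsg.thompsonSubgroupOf p (T' : Subgroup G)) ≤ Zm p E := by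
  set h := facts_of_block hE
  have hne : ¬ WEm p E ≤ Zm p E := fun hle => h.ne (h.W_eq.le.trans (sup_le hle le_rfl))
  have hWn : normalizer (E : Set G) ≤ normalizer (WEm p E : Set G) := fun g hg =>
    mem_normalizer_iff_cj.2 (cj_WE hg)
  obtain ⟨w, hw, hwZ, hfix⟩ := exists_fixed_mod
    (T'.2.to_le (CfsgLib.Thompson.thompsonSubgroupOf_le _))
    (CfsgLib.Thompson.elab_isPGroup (WE_el (p := p) E)) hne (hJ.trans hWn)
    (fun g hg => h.norm_Z (hJ hg))
    (fun g hg => h.norm_Z (le_normalizer (h.W_le_E (WE_le_W E hg))))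
  exact fun hle => hwZ (hle ⟨hw, hfix⟩)

/-- `B(T')` acts as elements of a linear block that is not tiny. -/
theorem baumann_EC {F : Type} [Field F] [Fintype F] (X : LData p E F)
    (hbig : ∃ t : F, t ≠ 0 ∧ t * t ≠ 1)
    (hB : Cfsg.baumannSubgroupOf p (T' : Subgroup G) ≤ normalizer (E : Set G)) :
    ∀ b ∈ Cfsg.baumannSubgroupOf p (T' : Subgroup G), ∃ e ∈ E, e⁻¹ * b ∈ Cm p E := by
  intro b hb
  set J := Cfsg.thompsonSubgroupOf p (T' : Subgroup G) with hJdef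
  let L : Subgroup G :=
    { carrier := {g | g ∈ normalizer (E : Set G) ∧ Lin (X.S.act g)}
      mul_mem' := fun h1 h2 => ⟨mul_mem h1.1 h2.1, X.lin_mul h1.1 h2.1 h1.2 h2.2⟩
      one_mem' := ⟨one_mem _, fun c v => by rw [X.S.act_one, X.S.act_one]⟩
      inv_mem' := fun h1 => ⟨inv_mem h1.1, X.lin_inv h1.1 h1.2⟩ }
  have hJL : J ≤ L := by
    rw [hJdef, CfsgLib.Thompson.thompsonSubgroupOf_eq]
    refine sSup_le fun A hA => ?_
    have hAN : A ≤ normalizer (E : Set G) := le_trans (le_sSup hA)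
      (le_trans (CfsgLib.Thompson.thompsonSubgroupOf_eq (p := p) (T' : Subgroup G)).ge hJ)
    exact fun a ha => ⟨hAN ha,
      X.lin_of_offender hAN hA.2.1 (fx_le_centralizer hG hE T' hA hAN).2 a ha⟩
  obtain ⟨w, hw, hwZ⟩ := SetLike.not_le_iff_exists.1 (fx_J_not_le_Z hG hE T' hJ)
  have hu : X.S.f w ≠ 0 := fun h0 => hwZ ((X.S.zero w (WE_le_W E hw.1)).1 h0)
  obtain ⟨k, hk⟩ := T'.2 ⟨b, CfsgLib.Baumann.baumann_le _ hb⟩
  refine X.fix_line_mem_EC hbig (hB hb) (congrArg Subtype.val hk) hu fun c => ?_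
  obtain ⟨w', hw', hwv⟩ := X.surj_WE (c • X.S.f w)
  have hfix : w' ∈ Fx (facts_of_block hE) J := ⟨hw', fun a ha => by
    refine X.mem_Z_of_fixed (hJ ha) (WE_le_W E hw') ?_
    rw [hwv, (hJL ha).2, X.fixed_of_mem_Z (hJ ha) (WE_le_W E hw.1) (hw.2 a ha)]⟩
  rw [← hwv]
  refine X.fixed_of_mem_Z (hB hb) (WE_le_W E hw') ?_
  rw [← mem_centralizer_iff.1 (fx_J_le_centralizer_B hG hE T' hJ hfix) b hb |>.symm,
    mul_inv_cancel_right, mul_inv_cancel]
  exact one_mem _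

end

/-- A diagonal element with respect to a basis. -/
theorem exists_scale {F : Type} [Field F] {u v₀ : Fin 2 → F} (hne : det2 u v₀ ≠ 0) {t : F}
    (ht : t ≠ 0) : ∃ m : SL F, (m : Matrix (Fin 2) (Fin 2) F).mulVec u = t • u := by
  let d := det2 u v₀
  let g : (Fin 2 → F) →+ (Fin 2 → F) :=
    AddMonoidHom.mk' (fun v => (det2 v v₀ / d * t) • u + (det2 u v / d * t⁻¹) • v₀) fun v w => by
      funext i
      simp only [det2, Pi.add_apply, Pi.smul_apply, smul_eq_mul]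
      ring
  have hgu : g u = t • u := by
    show (det2 u v₀ / d * t) • u + (det2 u u / d * t⁻¹) • v₀ = t • u
    rw [div_self hne, one_mul, show det2 u u = 0 by simp only [det2]; ring, zero_div, zero_mul,
      zero_smul, add_zero]
  have hiso : ∀ v w, det2 (g v) (g w) = det2 v w := by
    intro v w
    show det2 ((det2 v v₀ / d * t) • u + (det2 u v / d * t⁻¹) • v₀)
      ((det2 w v₀ / d * t) • u + (det2 u w / d * t⁻¹) • v₀) = _
    have e1 : ∀ (a b a' b' : F), det2 (a • u + b • v₀) (a' • u + b' • v₀) =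
        (a * b' - b * a') * d := fun a b a' b' => by
      simp only [d, det2, Pi.add_apply, Pi.smul_apply, smul_eq_mul]; ring
    have e2 : det2 v w * d = det2 v v₀ * det2 u w - det2 u v * det2 w v₀ := by
      simp only [d, det2]; ring
    have hd : d ≠ 0 := hne
    rw [e1, eq_comm, eq_div_iff_mul_eq hd |>.2 e2]
    field_simp
  have hsurj : Function.Surjective g := by
    intro y
    refine ⟨(det2 y v₀ / d * t⁻¹) • u + (det2 u y / d * t) • v₀, ?_⟩
    funext i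
    have e1 : ∀ (a b : F), det2 (a • u + b • v₀) v₀ = a * d ∧
        det2 u (a • u + b • v₀) = b * d := fun a b => by
      constructor <;> · simp only [d, det2, Pi.add_apply, Pi.smul_apply, smul_eq_mul]; ring
    show ((det2 _ v₀ / d * t) • u + (det2 u _ / d * t⁻¹) • v₀) i = y i
    rw [(e1 _ _).1, (e1 _ _).2]
    have hd : d ≠ 0 := hne
    simp only [Pi.add_apply, Pi.smul_apply, smul_eq_mul]
    field_simp
    fin_cases i <;> simp only [d, det2, Fin.zero_eta, Fin.mk_one] <;> ring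
  obtain ⟨m, hm⟩ := exists_of_isometry g hsurj hiso
  exact ⟨m, by rw [← hm u, hgu]⟩

section

variable (hG : centralizer (Cfsg.pCore p G : Set G) ≤ Cfsg.pCore p G) {T : Sylow p G}
  {E : Subgroup G} (hE : Cfsg.IsBaumannBlock p (T : Subgroup G) E) (T' : Sylow p G)
  (hJ : Cfsg.thompsonSubgroupOf p (T' : Subgroup G) ≤ normalizer (E : Set G))

include hG hE hJ

theorem exists_D {F : Type} [Field F] [Fintype F] (X : LData p E F)
    (hbig : ∃ t : F, t ≠ 0 ∧ t * t ≠ 1)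
    (hJne : ⁅WEm p E, Cfsg.thompsonSubgroupOf p (T' : Subgroup G)⁆ ≠ ⊥)
    (D : Subgroup G)
    (hD : D = ⁅Fx (facts_of_block hE) (Cfsg.thompsonSubgroupOf p (T' : Subgroup G)),
      E ⊓ normalizer
        (Fx (facts_of_block hE) (Cfsg.thompsonSubgroupOf p (T' : Subgroup G)) : Set G)⁆) :
    D ≠ ⊥ ∧ ∀ x ∈ D, x ∈ Zm p E → x = 1 := by
  classical
  set h := facts_of_block hE
  set J := Cfsg.thompsonSubgroupOf p (T' : Subgroup G) with hJdef
  set M := Fx h J with hM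
  obtain ⟨A, hA, hAne⟩ : ∃ A ∈ CfsgLib.Thompson.maxIn p (T' : Subgroup G), ¬ A ≤ Cm p E := by
    by_contra hno
    push Not at hno
    refine hJne ?_
    rw [commutator_comm, commutator_eq_bot_iff_le_centralizer, hJdef,
      CfsgLib.Thompson.thompsonSubgroupOf_eq]
    exact sSup_le hno
  have hAJ : A ≤ J := by
    rw [hJdef, CfsgLib.Thompson.thompsonSubgroupOf_eq]; exact le_sSup hA
  have hAN : A ≤ normalizer (E : Set G) := hAJ.trans hJ
  obtain ⟨hMA', hoff⟩ := fx_le_centralizer hG hE T' hA hAN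
  have hlin := X.lin_of_offender hAN hA.2.1 hoff
  obtain ⟨u, v₀, τ, hu, hspan, hact, hline⟩ := X.frame_of_linear hAN hA.2.1 hlin hAne
  have hMle : M ≤ Fx h A := Fx_anti h hAJ
  have htop : ∀ w ∈ Fx h A, ∃ c : F, X.S.f w = c • u := fun w hw =>
    hline _ fun a ha => X.fixed_of_mem_Z (hAN ha) (WE_le_W E hw.1) (hw.2 a ha)
  have hAu : ∀ a ∈ A, ∀ x : F, X.S.act a (x • u) = x • u := fun a ha x => by
    have := hact a ha x 0
    rwa [mul_zero, add_zero, zero_smul, add_zero] at this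
  -- the fixed points of `A` and of `J` agree
  let L : Subgroup G :=
    { carrier := {g | g ∈ normalizer (E : Set G) ∧ Lin (X.S.act g)}
      mul_mem' := fun h1 h2 => ⟨mul_mem h1.1 h2.1, X.lin_mul h1.1 h2.1 h1.2 h2.2⟩
      one_mem' := ⟨one_mem _, fun c v => by rw [X.S.act_one, X.S.act_one]⟩
      inv_mem' := fun h1 => ⟨inv_mem h1.1, X.lin_inv h1.1 h1.2⟩ }
  have hJL : J ≤ L := by
    rw [hJdef, CfsgLib.Thompson.thompsonSubgroupOf_eq]
    refine sSup_le fun B hB => ?_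
    have hBJ : B ≤ J := by
      rw [hJdef, CfsgLib.Thompson.thompsonSubgroupOf_eq]; exact le_sSup hB
    exact fun a ha => ⟨hJ (hBJ ha), X.lin_of_offender (hBJ.trans hJ) hB.2.1
      (fx_le_centralizer hG hE T' hB (hBJ.trans hJ)).2 a ha⟩
  obtain ⟨w₀, hw₀, hw₀Z⟩ := SetLike.not_le_iff_exists.1 (fx_J_not_le_Z hG hE T' hJ)
  obtain ⟨c₀, hc₀⟩ := htop w₀ (hMle hw₀)
  have hc₀ne : c₀ ≠ 0 := fun h0 =>
    hw₀Z ((X.S.zero w₀ (WE_le_W E hw₀.1)).1 (by rw [hc₀, h0, zero_smul]))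
  have hJu : ∀ a ∈ J, ∀ x : F, X.S.act a (x • u) = x • u := fun a ha x => by
    have h1 := X.fixed_of_mem_Z (hJ ha) (WE_le_W E hw₀.1) (hw₀.2 a ha)
    rw [hc₀] at h1
    have h2 := (hJL ha).2 (x / c₀) (c₀ • u)
    rwa [h1, smul_smul, div_mul_cancel₀ x hc₀ne] at h2
  have hMA : Fx h A ≤ M := fun w hw => by
    obtain ⟨c, hc⟩ := htop w hw
    exact ⟨hw.1, fun a ha => X.mem_Z_of_fixed (hJ ha) (WE_le_W E hw.1)
      (by rw [hc]; exact hJu a ha c)⟩
  have hMeq : M = Fx h A := le_antisymm hMle hMA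
  -- a scalar on the line
  obtain ⟨t, ht0, ht1⟩ := hbig
  have hbig' : ∃ t : F, t ≠ 0 ∧ t * t ≠ 1 := ⟨t, ht0, ht1⟩
  have ht : t ≠ 1 := fun e => ht1 (by rw [e, one_mul])
  have hdet : det2 u v₀ ≠ 0 := fun h0 => by
    refine hu (funext fun i => ?_)
    have hz : ∀ w : Fin 2 → F, det2 u w = 0 := fun w => by
      obtain ⟨x, y, rfl⟩ := hspan w
      simp only [det2, Pi.add_apply, Pi.smul_apply, smul_eq_mul] at h0 ⊢
      linear_combination y * h0
    fin_cases i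
    · simpa [det2] using hz ![0, 1]
    · simpa [det2] using hz ![-1, 0]
  obtain ⟨m, hm⟩ := exists_scale hdet ht0
  obtain ⟨η, hη⟩ := X.S.exists_pre m (by rw [R_eq_top hbig']; trivial)
  have hEN : ∀ {g : G}, g ∈ E → g ∈ normalizer (E : Set G) := fun {_} hg => le_normalizer hg
  have hηN := hEN η.2
  have hηu : ∀ c : F, X.S.act (η : G) (c • u) = (t * c) • u := fun c => by
    rw [X.S.act_of_mem η (X.nZ hηN), hη, Matrix.mulVec_smul, hm, smul_smul, mul_comm c t]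
  have hconjW : ∀ {g : G}, g ∈ normalizer (E : Set G) → ∀ {w}, w ∈ WEm p E →
      g * w * g⁻¹ ∈ WEm p E := fun {_} hg {w} hw => (cj_WE hg).le (conj_mem_cj hw)
  -- elements of `E` keeping the line normalize `M`
  have hηM : ∀ w ∈ M, (η : G) * w * (η : G)⁻¹ ∈ M := fun w hw => by
    refine hMA ⟨hconjW hηN hw.1, fun a ha =>
      X.mem_Z_of_fixed (hAN ha) (WE_le_W E (hconjW hηN hw.1)) ?_⟩
    obtain ⟨c, hc⟩ := htop w (hMle hw)
    rw [← X.S.act_apply (X.nW hηN) (X.nZ hηN) (WE_le_W E hw.1), hc, hηu]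
    exact hAu a ha _
  have hMel : Cfsg.IsElementaryAbelian p M := CfsgLib.Thompson.elab_mono (WE_el E) (Fx_le h J)
  have hMc : ∀ {a b : G}, a ∈ M → b ∈ M → a * b = b * a := fun {_ _} ha hb =>
    CfsgLib.Thompson.elab_commute hMel ha hb
  let δ : G → G := fun w => (η : G) * w * (η : G)⁻¹ * w⁻¹
  have hδM : ∀ w ∈ M, δ w ∈ M := fun w hw => mul_mem (hηM w hw) (inv_mem hw)
  have hδmul : ∀ a ∈ M, ∀ b ∈ M, δ (a * b) = δ a * δ b := fun a ha b hb => by
    show (η : G) * (a * b) * (η : G)⁻¹ * (a * b)⁻¹ = _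
    rw [show (η : G) * (a * b) * (η : G)⁻¹ * (a * b)⁻¹ = (η : G) * a * (η : G)⁻¹ *
      (((η : G) * b * (η : G)⁻¹ * b⁻¹) * a⁻¹) by group, hMc (hδM b hb) (inv_mem ha), ← mul_assoc]
  let Dh : Subgroup G :=
    { carrier := {x | ∃ w ∈ M, x = δ w}
      one_mem' := ⟨1, one_mem _, by simp [δ]⟩
      mul_mem' := by
        rintro _ _ ⟨a, ha, rfl⟩ ⟨b, hb, rfl⟩
        exact ⟨a * b, mul_mem ha hb, (hδmul a ha b hb).symm⟩
      inv_mem' := by
        rintro _ ⟨a, ha, rfl⟩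
        refine ⟨a⁻¹, inv_mem ha, (eq_inv_of_mul_eq_one_left ?_).symm⟩
        rw [← hδmul _ (inv_mem ha) a ha, inv_mul_cancel]
        simp [δ] }
  have hfδ : ∀ w ∈ M, ∀ c : F, X.S.f w = c • u → X.S.f (δ w) = ((t - 1) * c) • u :=
    fun w hw c hc => by
      have hwW := WE_le_W E hw.1
      show X.S.f ((η : G) * w * (η : G)⁻¹ * w⁻¹) = _
      rw [X.S.map_mul _ (X.hW hηN hwW) _ (inv_mem hwW), X.S.map_inv hwW,
        ← X.S.act_apply (X.nW hηN) (X.nZ hηN) hwW, hc, hηu, ← sub_eq_add_neg, ← sub_smul,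
        sub_mul, one_mul]
  have hDhZ : ∀ x ∈ Dh, x ∈ Zm p E → x = 1 := by
    rintro _ ⟨w, hw, rfl⟩ hxZ
    obtain ⟨c, hc⟩ := htop w (hMle hw)
    have h1 := (X.S.zero _ (WE_le_W E (hδM w hw).1)).2 hxZ
    rw [hfδ w hw c hc, smul_eq_zero, mul_eq_zero] at h1
    have hc0 : c = 0 := (h1.resolve_right hu).resolve_left (sub_ne_zero.2 ht)
    have hwZ : w ∈ Zm p E := (X.S.zero w (WE_le_W E hw.1)).1 (by rw [hc, hc0, zero_smul])
    show (η : G) * w * (η : G)⁻¹ * w⁻¹ = 1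
    rw [h.Z_fix hwZ η.2, mul_inv_cancel]
  have hηM' : (η : G) ∈ E ⊓ normalizer (M : Set G) := Subgroup.mem_inf.2 ⟨η.2,
    mem_normalizer_iff_cj.2 (eq_of_le_of_card_le' (cj_le_iff.2 hηM) (card_cj _ _).ge)⟩
  subst hD
  refine ⟨fun hbot => ?_, fun x hx hxZ => hDhZ x ?_ hxZ⟩
  · have h1 := commutator_mem_commutator hw₀ hηM'
    rw [hbot, mem_bot] at h1
    have h2 : δ w₀ = 1 := by
      show (η : G) * w₀ * (η : G)⁻¹ * w₀⁻¹ = 1
      rw [commutatorElement_eq_one_iff_mul_comm.1 h1 |>.symm, mul_inv_cancel_right, mul_inv_cancel]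
    have h3 := hfδ w₀ hw₀ c₀ hc₀
    rw [h2, X.S.map_one, eq_comm, smul_eq_zero, mul_eq_zero] at h3
    exact hc₀ne ((h3.resolve_right hu).resolve_left (sub_ne_zero.2 ht))
  · suffices hle : ⁅M, E ⊓ normalizer (M : Set G)⁆ ≤ Dh from hle hx
    rw [Subgroup.commutator_le]
    intro w hw e he
    have heN := hEN he.1
    have heM : ∀ y ∈ M, e * y * e⁻¹ ∈ M := fun y hy => (mem_normalizer_iff.1 he.2 y).1 hy
    -- `e` commutes with `η` on the line, up to an element centralizing `M`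
    have hDconj : ∀ y ∈ Dh, e * y * e⁻¹ ∈ Dh := by
      rintro _ ⟨y, hy, rfl⟩
      refine ⟨e * y * e⁻¹, heM y hy, ?_⟩
      set x := (η : G)⁻¹ * e * (η : G) * e⁻¹ with hx
      have hxE : x ∈ E := mul_mem (mul_mem (mul_mem (inv_mem η.2) he.1) η.2) (inv_mem he.1)
      obtain ⟨s, hs⟩ : ∃ s : F, X.S.act e u = s • u := by
        obtain ⟨w', hw', hwv⟩ := X.surj_WE u
        have hw'M : w' ∈ M := hMA ⟨hw', fun a ha => X.mem_Z_of_fixed (hAN ha) (WE_le_W E hw')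
          (by rw [hwv]; simpa using hAu a ha 1)⟩
        obtain ⟨c, hc⟩ := htop _ (hMle (heM w' hw'M))
        exact ⟨c, by rw [← hc, ← hwv, X.S.act_apply (X.nW heN) (X.nZ heN) (WE_le_W E hw')]⟩
      have hes : ∀ c : F, X.S.act e (c • u) = (s * c) • u := fun c => by
        rw [X.S.act_of_mem ⟨e, he.1⟩ (X.nZ heN), Matrix.mulVec_smul,
          ← X.S.act_of_mem ⟨e, he.1⟩ (X.nZ heN), hs, smul_smul, mul_comm c s]
      have hs0 : s ≠ 0 := fun h0 => by
        have h1 : X.S.act e u = X.S.act e 0 := by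
          rw [hs, h0, zero_smul]; exact ((X.hom heN).map_zero).symm
        have h2 := congrArg (X.S.act e⁻¹) h1
        rw [← X.S.act_mul (X.nW (inv_mem heN)) (X.nZ (inv_mem heN)) (X.nW heN) (X.nZ heN),
          ← X.S.act_mul (X.nW (inv_mem heN)) (X.nZ (inv_mem heN)) (X.nW heN) (X.nZ heN),
          inv_mul_cancel, X.S.act_one, X.S.act_one] at h2
        exact hu h2
      have hcomm : ∀ c : F, X.S.act ((η : G) * x) (c • u) = X.S.act (e * η * e⁻¹) (c • u) := by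
        intro c; rw [hx, ← mul_assoc, ← mul_assoc, ← mul_assoc, mul_inv_cancel, one_mul]
      have hee : ∀ c : F, X.S.act (e * η * e⁻¹) (c • u) = (t * c) • u := fun c => by
        have hei := inv_mem heN
        rw [show c • u = X.S.act e ((s⁻¹ * c) • u) by
            rw [hes, ← mul_assoc, mul_inv_cancel₀ hs0, one_mul],
          ← X.S.act_mul (X.nW (mul_mem (mul_mem heN hηN) hei))
            (X.nZ (mul_mem (mul_mem heN hηN) hei)) (X.nW heN) (X.nZ heN),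
          inv_mul_cancel_right, X.S.act_mul (X.nW heN) (X.nZ heN) (X.nW hηN) (X.nZ hηN), hηu, hes,
          show s * (t * (s⁻¹ * c)) = t * c by field_simp]
      have hxu : ∀ c : F, X.S.act x (c • u) = c • u := fun c => by
        have h1 := hcomm c
        rw [hee, X.S.act_mul (X.nW hηN) (X.nZ hηN) (X.nW (hEN hxE)) (X.nZ (hEN hxE)), ← hηu] at h1
        have h2 := congrArg (X.S.act (η : G)⁻¹) h1
        rwa [← X.S.act_mul (X.nW (inv_mem hηN)) (X.nZ (inv_mem hηN)) (X.nW hηN) (X.nZ hηN),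
          ← X.S.act_mul (X.nW (inv_mem hηN)) (X.nZ (inv_mem hηN)) (X.nW hηN) (X.nZ hηN),
          inv_mul_cancel, X.S.act_one, X.S.act_one] at h2
      obtain ⟨a, haA, hax⟩ := X.mem_AC_of_fix hAN hA.2.1 hAne hoff hxE fun q hq => by
        obtain ⟨c, hc⟩ := htop q hq
        exact X.mem_Z_of_fixed (hEN hxE) (WE_le_W E hq.1) (by rw [hc]; exact hxu c)
      have hxM : ∀ q ∈ M, x * q * x⁻¹ = q := fun q hq => by
        have h1 : q * (a⁻¹ * x) = a⁻¹ * x * q := mem_centralizer_iff.1 hax q hq.1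
        have h2 : a * q = q * a := mem_centralizer_iff.1 (hMA' (hMle hq)) a haA
        rw [mul_inv_eq_iff_eq_mul]
        calc x * q = a * (a⁻¹ * x * q) := by group
          _ = a * q * (a⁻¹ * x) := by rw [← h1, mul_assoc]
          _ = q * x := by rw [h2]; group
      show e * ((η : G) * y * (η : G)⁻¹ * y⁻¹) * e⁻¹ =
        (η : G) * (e * y * e⁻¹) * (η : G)⁻¹ * (e * y * e⁻¹)⁻¹
      calc e * ((η : G) * y * (η : G)⁻¹ * y⁻¹) * e⁻¹ =
            (η : G) * (x * (e * y * e⁻¹) * x⁻¹) * (η : G)⁻¹ * (e * y * e⁻¹)⁻¹ := by rw [hx]; group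
        _ = _ := by rw [hxM _ (heM y hy)]
    obtain ⟨c, hc⟩ := htop w (hMle hw)
    obtain ⟨y, hy, hyv⟩ : ∃ y ∈ M, X.S.f y = ((t - 1)⁻¹ * c) • u := by
      obtain ⟨y, hy, hyv⟩ := X.surj_WE (((t - 1)⁻¹ * c) • u)
      exact ⟨y, hMA ⟨hy, fun a ha => X.mem_Z_of_fixed (hAN ha) (WE_le_W E hy)
        (by rw [hyv]; exact hAu a ha _)⟩, hyv⟩
    have hz : (δ y)⁻¹ * w ∈ Zm p E := by
      rw [← X.S.eq_iff (WE_le_W E (hδM y hy).1) (WE_le_W E hw.1), hfδ y hy _ hyv, hc,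
        ← mul_assoc, mul_inv_cancel₀ (sub_ne_zero.2 ht), one_mul]
    set z := (δ y)⁻¹ * w with hz'
    have e1 : ⁅w, e⁆ = δ y * (e * δ y * e⁻¹)⁻¹ := by
      rw [show w = δ y * z by rw [hz']; group, commutatorElement_def,
        show δ y * z * e * (δ y * z)⁻¹ * e⁻¹ = δ y * (z * e * z⁻¹) * (δ y)⁻¹ * e⁻¹ by group,
        h.Z_commute hz he.1, mul_inv_cancel_right]
      group
    rw [e1]
    exact mul_mem ⟨y, hy, rfl⟩ (inv_mem (hDconj _ ⟨y, hy, rfl⟩))

/-- A fixed point outside `Z` on `W_E`. -/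
theorem exists_fixed (hJne : ⁅WEm p E, Cfsg.thompsonSubgroupOf p (T' : Subgroup G)⁆ ≠ ⊥)
    {S : Subgroup G} (hS : IsPGroup p ↥S) (hSE : S ≤ normalizer (E : Set G))
    (hSJ : S ≤ normalizer (Cfsg.thompsonSubgroupOf p (T' : Subgroup G) : Set G)) :
    ∃ x ∈ WEm p E, x ∉ Zm p E ∧ ∀ s ∈ S, s * x * s⁻¹ = x := by
  set h := facts_of_block hE
  set J := Cfsg.thompsonSubgroupOf p (T' : Subgroup G)
  set M := Fx h J with hM
  have hSM : S ≤ normalizer (M : Set G) := fun g hg =>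
    mem_normalizer_iff_cj.2 (cj_Fx h (hSE hg) (hSJ hg))
  have hMel : Cfsg.IsElementaryAbelian p M := CfsgLib.Thompson.elab_mono (WE_el E) (Fx_le h J)
  have hbot : ∀ K : Subgroup G, K ≤ normalizer ((⊥ : Subgroup G) : Set G) := fun _ =>
    le_normalizer_of_normal
  have key : ∀ D : Subgroup G, D ≤ M → D ≠ ⊥ → S ≤ normalizer (D : Set G) →
      (∀ x ∈ D, x ∈ Zm p E → x = 1) → ∃ x ∈ WEm p E, x ∉ Zm p E ∧ ∀ s ∈ S, s * x * s⁻¹ = x := by
    intro D hDM hD hSD hDZ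
    obtain ⟨x, hx, hx1, hfix⟩ := exists_fixed_mod hS
      ((CfsgLib.Thompson.elab_isPGroup hMel).to_le hDM) (fun hle => hD (le_bot_iff.1 hle)) hSD
      (hbot S) (hbot D)
    exact ⟨x, (hDM hx).1, fun hxZ => hx1 (mem_bot.2 (hDZ x hx hxZ)), fun s hs =>
      mul_inv_eq_one.1 (mem_bot.1 (hfix s hs))⟩
  by_cases hz : WEm p E ⊓ Zm p E = ⊥
  · refine key M le_rfl ?_ hSM fun x hx hxZ =>
      mem_bot.1 (hz.le (Subgroup.mem_inf.2 ⟨hx.1, hxZ⟩))
    intro e
    exact fx_J_not_le_Z hG hE T' hJ (hM ▸ e ▸ bot_le)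
  rcases block_cases hE with ⟨rfl, n, ⟨X⟩⟩ | ⟨F, iF, iFt, ⟨X⟩⟩
  · exact absurd X.WE_inf_Z hz
  by_cases hbig : ∃ t : F, t ≠ 0 ∧ t * t ≠ 1
  swap
  · exact absurd (X.WE_inf_Z (Or.inr hbig)) hz
  obtain ⟨hD, hDZ⟩ := exists_D hG hE T' hJ X hbig hJne _ rfl
  refine key _ (CfsgLib.Baumann.commutator_le_self_of_normalizer inf_le_right) hD ?_ hDZ
  intro g hg
  rw [mem_normalizer_iff_cj, cj_commutator, cj_inf, cj_normalizer, mem_normalizer_iff_cj.1 (hSE hg),
    mem_normalizer_iff_cj.1 (hSM hg)]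

end

end CfsgLib.BlockTypes
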