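import Cfsg.Agent.LocalB.ChermakDelgado
import Cfsg.Agent.Solvable.PGroupBasic

/-!
In a finite nilpotent group some minimal centrally large subgroup is normalized by the Thompson
subgroup (generated by the abelian subgroups of largest order) and by every minimal centrally large
subgroup.
-/

set_option autoImplicit false
set_option linter.unusedSectionVars false
set_option linter.unusedVariables false
set_option linter.style.haveILetI false

namespace CfsgLib.LocalB.CD

open Subgroup Pointwise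
open scoped commutatorElement

variable {G : Type*} [Group G]

/-- the conjugate subgroup `g H g⁻¹` -/
abbrev cj (g : G) (H : Subgroup G) : Subgroup G := H.map (MulAut.conj g).toMonoidHom

theorem mem_cj {g x : G} {H : Subgroup G} : x ∈ cj g H ↔ g⁻¹ * x * g ∈ H := by
  rw [mem_map_equiv, MulAut.conj_symm_apply]

theorem cj_cj (g h : G) (H : Subgroup G) : cj g (cj h H) = cj (g * h) H := by
  ext x
  simp only [mem_cj, mul_inv_rev, mul_assoc]

theorem cj_C (g : G) (H : Subgroup G) : C (cj g H) = cj g (C H) := by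
  ext x
  rw [mem_cj, mem_centralizer_iff, mem_centralizer_iff]
  constructor
  · intro h y hy
    have h3 : g * y * g⁻¹ * x = x * (g * y * g⁻¹) := h (g * y * g⁻¹) ⟨y, hy, rfl⟩
    calc y * (g⁻¹ * x * g) = g⁻¹ * (g * y * g⁻¹ * x) * g := by group
      _ = g⁻¹ * (x * (g * y * g⁻¹)) * g := by rw [h3]
      _ = g⁻¹ * x * g * y := by group
  · rintro h _ ⟨y, hy, rfl⟩
    simp only [MulEquiv.coe_toMonoidHom, MulAut.conj_apply]
    calc g * y * g⁻¹ * x = g * (y * (g⁻¹ * x * g)) * g⁻¹ := by group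
      _ = g * (g⁻¹ * x * g * y) * g⁻¹ := by rw [h y hy]
      _ = x * (g * y * g⁻¹) := by group

theorem cj_eq_self {g : G} {H : Subgroup G} (h : g ∈ normalizer (H : Set G)) : cj g H = H :=
  mem_normalizer_iff_map_conj_eq.1 h

variable [Finite G]

theorem card_cj (g : G) (H : Subgroup G) : Nat.card (cj g H) = Nat.card H :=
  card_map_of_injective (f := (MulAut.conj g).toMonoidHom) (MulAut.conj g).injective

theorem m_cj (g : G) (H : Subgroup G) : m (cj g H) = m H := by
  unfold m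
  rw [cj_C, card_cj, card_cj]

theorem Large.cj' {H : Subgroup G} (hH : Large H) (g : G) : Large (cj g H) :=
  hH.congr (m_cj g H).ge

theorem mem_normalizer_of_cj_le {g : G} {H : Subgroup G} (h : cj g H ≤ H) :
    g ∈ normalizer (H : Set G) :=
  mem_normalizer_iff_map_conj_eq.2 (Subgroup.eq_of_le_of_card_ge h (card_cj g H).ge)

theorem le_normalizer_C {K H : Subgroup G} (h : K ≤ normalizer (H : Set G)) :
    K ≤ normalizer (C H : Set G) := fun g hg => mem_normalizer_of_cj_le (by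
  rw [← cj_C, cj_eq_self (h hg)])

theorem large_sSup (s : Set (Subgroup G)) (hs : s.Nonempty) (h : ∀ H ∈ s, Large H) :
    Large (sSup s) := by
  obtain ⟨H0, hH0⟩ := hs
  obtain ⟨M, ⟨hM, hMs⟩, hmax⟩ := Set.Finite.exists_maximal
    (s := {M : Subgroup G | Large M ∧ M ≤ sSup s}) (Set.toFinite _) ⟨H0, h _ hH0, le_sSup hH0⟩
  have : sSup s = M := le_antisymm
    (sSup_le fun K hK => le_sup_right.trans (hmax (y := M ⊔ K) ⟨hM.sup (h K hK), sup_le hMs (le_sSup hK)⟩ le_sup_left))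
    hMs
  exact this ▸ hM

theorem large_sInf (s : Set (Subgroup G)) (hs : s.Nonempty) (h : ∀ H ∈ s, Large H) :
    Large (sInf s) := by
  obtain ⟨H0, hH0⟩ := hs
  obtain ⟨M, ⟨hM, hMs⟩, hmin⟩ := Set.Finite.exists_minimal
    (s := {M : Subgroup G | Large M ∧ sInf s ≤ M}) (Set.toFinite _) ⟨H0, h _ hH0, sInf_le hH0⟩
  have : sInf s = M := le_antisymm hMs
    (le_sInf fun K hK => (hmin (y := M ⊓ K) ⟨hM.inf (h K hK), le_inf hMs (sInf_le hK)⟩ inf_le_left).trans
      inf_le_right)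
  exact this ▸ hM

/-- A nilpotent group acting on `U / Z` fixes a nontrivial element. -/
theorem exists_central_mod [Group.IsNilpotent G] {U Z Γ : Subgroup G} (hZU : Z ≤ U) (hne : U ≠ Z)
    (hUZ : U ≤ normalizer (Z : Set G)) (hΓU : Γ ≤ normalizer (U : Set G))
    (hΓZ : Γ ≤ normalizer (Z : Set G)) :
    ∃ x ∈ U, x ∉ Z ∧ ∀ g ∈ Γ, g * x * g⁻¹ * x⁻¹ ∈ Z := by
  set L := Γ ⊔ U
  have hLU : L ≤ normalizer (U : Set G) := sup_le hΓU le_normalizer
  have hLZ : L ≤ normalizer (Z : Set G) := sup_le hΓZ hUZ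
  haveI : (Z.subgroupOf L).Normal :=
    (normal_subgroupOf_iff_le_normalizer (hZU.trans le_sup_right)).2 hLZ
  haveI : (U.subgroupOf L).Normal := (normal_subgroupOf_iff_le_normalizer le_sup_right).2 hLU
  set q := QuotientGroup.mk' (Z.subgroupOf L)
  haveI : ((U.subgroupOf L).map q).Normal := Normal.map inferInstance q (QuotientGroup.mk'_surjective _)
  have hne' : (U.subgroupOf L).map q ≠ ⊥ := by
    intro h
    refine hne (le_antisymm (fun u hu => ?_) hZU)
    have h1 : q ⟨u, mem_sup_right hu⟩ ∈ (U.subgroupOf L).map q := ⟨_, hu, rfl⟩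
    rw [h, mem_bot] at h1
    exact (QuotientGroup.eq_one_iff (N := Z.subgroupOf L) _).1 h1
  obtain ⟨⟨y, hy⟩, hy1⟩ := (Subgroup.ne_bot_iff_exists_ne_one).1
    (CfsgLib.PGroupBasic.inf_center_ne_bot _ hne')
  obtain ⟨⟨u, hu, huy⟩, hyc⟩ := Subgroup.mem_inf.1 hy
  refine ⟨u, hu, fun huZ => hy1 (Subtype.ext ?_), fun g hg => ?_⟩
  · show y = 1
    rw [← huy]
    exact (QuotientGroup.eq_one_iff (N := Z.subgroupOf L) _).2 huZ
  · have h1 := mem_center_iff.1 hyc (q ⟨g, mem_sup_left hg⟩)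
    rw [← huy, ← map_mul, ← map_mul] at h1
    have h2 : q (⟨g, mem_sup_left hg⟩ * u * (⟨g, mem_sup_left hg⟩)⁻¹ * u⁻¹) = 1 := by
      rw [map_mul, map_mul, map_inv, map_inv, h1, map_mul]
      group
    exact (QuotientGroup.eq_one_iff (N := Z.subgroupOf L) _).1 h2

/-- For `H` centrally large, normalized by every abelian subgroup of largest order and minimal as
such, `H` is minimal centrally large. -/
theorem minimal_of_minimal_invariant [Group.IsNilpotent G] {H : Subgroup G} (hH : CL H)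
    (hJ : Cfsg.thompsonSubgroupA G ≤ normalizer (H : Set G))
    (hmin : ∀ K ≤ H, CL K → Cfsg.thompsonSubgroupA G ≤ normalizer (K : Set G) → K = H) :
    Cfsg.IsMinimalCentrallyLarge H := by
  set J := Cfsg.thompsonSubgroupA G
  by_contra hnot
  set Z₀ := C H with hZ₀
  have hCZ : C Z₀ = H := hH.1.centralizer.2
  have hZH : Z₀ ≤ H := hH.2
  have hJZ : J ≤ normalizer (Z₀ : Set G) := le_normalizer_C hJ
  have hHZ : H ≤ normalizer (Z₀ : Set G) := le_normalizer_C le_normalizer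
  -- the family of large abelian subgroups strictly above `Z₀`
  let 𝓣 : Subgroup G → Prop := fun T => Large T ∧ T ≤ C T ∧ Z₀ ≤ T ∧ T ≠ Z₀
  have hT0 : ∃ T, 𝓣 T := by
    obtain ⟨Q, hQH, hQ⟩ := exists_minimal_le hH
    have hQc := isCentrallyLarge_iff.1 hQ.1
    refine ⟨C Q, hQc.1.centralizer.1, ?_, C_antitone hQH, fun h => hnot ?_⟩
    · rw [hQc.1.centralizer.2]; exact hQc.2
    · have : Q = H := by rw [← hQc.1.centralizer.2, h, hCZ]
      exact this ▸ hQ
  -- maximal set of abelian subgroups of largest order with a common invariant member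
  let 𝓝 : Set (Subgroup G) := {N | N ≤ J ∧ (∃ s ⊆ Cfsg.maxAbelianSubgroups G, N = sSup s) ∧
    ∃ T, 𝓣 T ∧ N ≤ normalizer (T : Set G)}
  obtain ⟨N, ⟨hNJ, ⟨s, hs, hNs⟩, T₁, hT₁⟩, hNmax⟩ := Set.Finite.exists_maximal (s := 𝓝) (Set.toFinite _)
    ⟨⊥, bot_le, ⟨∅, Set.empty_subset _, sSup_empty.symm⟩, hT0.choose, hT0.choose_spec, bot_le⟩
  -- N is proper in J
  have hNJne : N ≠ J := by
    intro h
    obtain ⟨hT1l, hT1a, hT1z, hT1ne⟩ := hT₁.1
    have hK : C T₁ ≤ H := hCZ ▸ C_antitone hT1z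
    have hKc : CL (C T₁) := ⟨hT1l.centralizer.1, by rw [hT1l.centralizer.2]; exact hT1a⟩
    have e := hmin _ hK hKc (le_normalizer_C (h ▸ hT₁.2))
    exact hT1ne (by rw [← hT1l.centralizer.2, e])
  -- an abelian subgroup of largest order normalizing N and not in N
  obtain ⟨A, hA, hAN, hAnN⟩ : ∃ A ∈ Cfsg.maxAbelianSubgroups G,
      A ≤ normalizer (N : Set G) ∧ ¬ A ≤ N := by
    set L := J ⊓ normalizer (N : Set G)
    by_cases hL : L = J
    · by_contra hno
      push Not at hno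
      refine hNJne (le_antisymm hNJ (sSup_le fun A hA => hno A hA ?_))
      exact (le_sSup hA : A ≤ J).trans (hL.ge.trans inf_le_right)
    · have hnc : NormalizerCondition J := Group.normalizerCondition_of_isNilpotent
      have hlt := hnc (L.subgroupOf J) (lt_top_iff_ne_top.2 fun h => hL
        (le_antisymm inf_le_left (subgroupOf_eq_top.1 h)))
      obtain ⟨g, hg, hgL⟩ := SetLike.exists_of_lt hlt
      rw [mem_subgroupOf] at hgL
      by_contra hno
      push Not at hno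
      refine hgL (mem_inf.2 ⟨g.2, mem_normalizer_of_cj_le ?_⟩)
      rw [hNs, cj, map_le_iff_le_comap]
      refine sSup_le fun B hB => map_le_iff_le_comap.1 ?_
      have hBL : cj (g : G) B ≤ L := by
        intro x hx
        obtain ⟨b, hb, rfl⟩ := hx
        have hbN : b ∈ N := hNs ▸ le_sSup hB hb
        have hbL : (⟨b, hNJ hbN⟩ : J) ∈ L.subgroupOf J :=
          mem_inf.2 ⟨hNJ hbN, le_normalizer hbN⟩
        exact (mem_normalizer_iff.1 hg _).1 hbL
      have hBm : cj (g : G) B ∈ Cfsg.maxAbelianSubgroups G :=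
        C_eq_self_of_card (hs hB) (comm_of_le_C (by
          rw [cj_C]; exact map_mono (le_C_of_comm (hs hB).1))) (card_cj _ _).ge
      exact (hno _ hBm (hBL.trans inf_le_right)).trans hNs.le
  have hAJ : A ≤ J := le_sSup hA
  -- a minimal N-invariant member
  obtain ⟨T, ⟨hT, hTN⟩, hTmin⟩ := Set.Finite.exists_minimal
    (s := {T : Subgroup G | 𝓣 T ∧ N ≤ normalizer (T : Set G)}) (Set.toFinite _) ⟨T₁, hT₁⟩
  -- nothing in 𝓣 is invariant under N and A
  have hnone : ∀ T', 𝓣 T' → N ≤ normalizer (T' : Set G) → A ≤ normalizer (T' : Set G) → False := by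
    intro T' hT' hN' hA'
    have hmem : N ⊔ A ∈ 𝓝 := ⟨sup_le hNJ hAJ, ⟨insert A s, Set.insert_subset hA hs,
      by rw [sSup_insert, hNs, sup_comm]⟩, T', hT', sup_le hN' hA'⟩
    exact hAnN (le_sup_right.trans (hNmax hmem le_sup_left))
  obtain ⟨hTl, hTa, hTz, hTne⟩ := hT
  set Q := C T with hQ
  have hQH : Q ≤ H := hCZ ▸ C_antitone hTz
  have hQc : CL Q := ⟨hTl.centralizer.1, by rw [hQ, hTl.centralizer.2]; exact hTa⟩
  have hcjN : ∀ a ∈ normalizer (N : Set G), ∀ K : Subgroup G, N ≤ normalizer (K : Set G) →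
      N ≤ normalizer (cj a K : Set G) := by
    intro a ha K hK n hn
    refine mem_normalizer_of_cj_le (le_of_eq ?_)
    have hn' : a⁻¹ * n * a ∈ N := by
      have := (mem_normalizer_iff.1 (inv_mem ha) n).1 hn
      simpa using this
    rw [cj_cj, show n * a = a * (a⁻¹ * n * a) by group, ← cj_cj, cj_eq_self (hK hn')]
  have hZcj : ∀ a ∈ A, cj a Z₀ = Z₀ := fun a ha => cj_eq_self (hJZ (hAJ ha))
  -- some element of A moves T
  obtain ⟨a, ha, haT⟩ : ∃ a ∈ A, T ⊓ cj a T = Z₀ := by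
    by_contra hno
    push Not at hno
    refine hnone T ⟨hTl, hTa, hTz, hTne⟩ hTN fun a ha => ?_
    have hmem : T ⊓ cj a T ∈ {T : Subgroup G | 𝓣 T ∧ N ≤ normalizer (T : Set G)} := by
      refine ⟨⟨hTl.inf (hTl.cj' a), inf_le_left.trans (hTa.trans (C_antitone inf_le_left)),
        le_inf hTz ((hZcj a ha).ge.trans (map_mono hTz)), hno a ha⟩, fun n hn =>
          mem_normalizer_of_cj_le ?_⟩
      rw [cj, map_inf _ _ _ (MulAut.conj n).injective]
      exact le_of_eq (congrArg₂ (· ⊓ ·) (cj_eq_self (hTN hn))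
        (cj_eq_self (hcjN a (hAN ha) T hTN hn)))
    have h1 := (hTmin hmem inf_le_left).trans inf_le_right
    exact mem_normalizer_iff_map_conj_eq.2 (Subgroup.eq_of_le_of_card_ge h1 (card_cj a T).le).symm
  -- the join of the conjugates
  set U := sSup ((fun b => cj b T) '' (A : Set G)) with hUdef
  have hTcU : ∀ b ∈ A, cj b T ≤ U := fun b hb => le_sSup ⟨b, hb, rfl⟩
  have hTU : T ≤ U := by
    refine le_trans (le_of_eq ?_) (hTcU 1 (one_mem A))
    ext x; simp [mem_cj]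
  have hUl : Large U := large_sSup _ ⟨_, 1, one_mem A, rfl⟩ (by rintro _ ⟨b, -, rfl⟩; exact hTl.cj' b)
  have hUA : A ≤ normalizer (U : Set G) := fun c hc => mem_normalizer_of_cj_le (by
    rw [hUdef, cj, map_le_iff_le_comap]
    refine sSup_le ?_
    rintro _ ⟨b, hb, rfl⟩
    refine map_le_iff_le_comap.1 ?_
    show cj c (cj b T) ≤ _
    rw [cj_cj]
    exact le_sSup ⟨c * b, mul_mem hc hb, rfl⟩)
  have hUN : N ≤ normalizer (U : Set G) := fun n hn => mem_normalizer_of_cj_le (by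
    rw [hUdef, cj, map_le_iff_le_comap]
    refine sSup_le ?_
    rintro _ ⟨b, hb, rfl⟩
    refine map_le_iff_le_comap.1 ?_
    show cj n (cj b T) ≤ _
    rw [cj_eq_self (hcjN b (hAN hb) T hTN hn)]
    exact le_sSup ⟨b, hb, rfl⟩)
  have hUH : U ≤ H := by
    refine sSup_le ?_
    rintro _ ⟨b, hb, rfl⟩
    exact (map_mono (hTa.trans hQH)).trans (cj_eq_self (hJ (hAJ hb))).le
  -- the centre of U is Z₀
  have hUC : U ⊓ C U = Z₀ := by
    by_contra h
    refine hnone (U ⊓ C U) ⟨hUl.inf hUl.centralizer.1, inf_le_right.trans (C_antitone inf_le_left),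
      le_inf (hTz.trans hTU) (C_antitone hUH), h⟩ ?_ ?_
    · intro n hn
      refine mem_normalizer_of_cj_le ?_
      rw [cj, map_inf _ _ _ (MulAut.conj n).injective]
      exact le_of_eq (congrArg₂ (· ⊓ ·) (cj_eq_self (hUN hn)) (cj_eq_self (le_normalizer_C hUN hn)))
    · intro n hn
      refine mem_normalizer_of_cj_le ?_
      rw [cj, map_inf _ _ _ (MulAut.conj n).injective]
      exact le_of_eq (congrArg₂ (· ⊓ ·) (cj_eq_self (hUA hn)) (cj_eq_self (le_normalizer_C hUA hn)))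
  have hHset : (H : Set G) = (U : Set G) * (C U : Set G) := by
    rw [← (large_pair hUl hUl.centralizer.1).2.2.1, ← hCZ, ← hUC, hUl.C_inf hUl.centralizer.1,
      hUl.centralizer.2, sup_comm]
  have hCUQ : C U ≤ Q := C_antitone hTU
  -- H = Q (A ⊓ H)
  obtain ⟨hQAset, -, hB⟩ := cl_sup_abelian hQc hA
  obtain ⟨-, -, hB₀⟩ := cl_sup_abelian hH hA
  rw [hQ, hTl.centralizer.2, ← hQ] at hB
  rw [← hZ₀] at hB₀
  set B := (Q ⊓ A) ⊔ T with hBdef
  set B₀ := (H ⊓ A) ⊔ Z₀ with hB₀def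
  have hHQA : H ≤ Q ⊔ A := by
    rw [← hCZ, ← haT, hTl.C_inf (hTl.cj' a), cj_C]
    refine sup_le le_sup_left ?_
    rintro _ ⟨q, hq, rfl⟩
    exact mul_mem (mul_mem (mem_sup_right ha) (mem_sup_left hq)) (inv_mem (mem_sup_right ha))
  -- Q ⊓ A centralizes U
  have hEU : Q ⊓ A ≤ C U := by
    rw [le_C_iff]
    refine sSup_le ?_
    rintro _ ⟨b, hb, rfl⟩
    rw [le_C_iff]
    show Q ⊓ A ≤ C (cj b T)
    intro e he
    rw [cj_C, mem_cj]
    have hc : b * e = e * b := mem_centralizer_iff.1 (le_C_of_comm hA.1 he.2) b hb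
    rw [mul_assoc, ← hc, inv_mul_cancel_left]
    exact he.1
  have hBeq : C B = B := C_eq_self hB
  -- U ⊓ Q = T
  have hUQ : U ⊓ Q = T := by
    refine le_antisymm (fun x hx => ?_) (le_inf hTU hTa)
    have hxB : x ∈ B := by
      rw [← hBeq, hBdef, C_sup]
      exact ⟨(le_C_iff.1 hEU) hx.1, hx.2⟩
    have hxB' : x ∈ ((Q ⊓ A : Subgroup G) : Set G) * (T : Set G) := by
      rw [← Subgroup.coe_mul_of_left_le_normalizer_right _ _
        ((inf_le_left.trans (le_of_eq hQ)).trans (centralizer_le_normalizer _))]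
      exact hxB
    obtain ⟨e, he, t, ht, rfl⟩ := hxB'
    have heU : e ∈ U := (Subgroup.mul_mem_cancel_right U (hTU ht)).1 hx.1
    have : e ∈ U ⊓ C U := ⟨heU, hEU he⟩
    rw [hUC] at this
    exact mul_mem (hTz this) ht
  set S := B₀ ⊓ U with hSdef
  -- elements of A ⊓ H split
  have hsplit : ∀ s ∈ H ⊓ A, ∃ w ∈ S, ∃ v ∈ C U, s = v * w := by
    intro s hs'
    obtain ⟨w, hw, v, hv, hwv'⟩ := (Set.ext_iff.1 hHset s).1 hs'.1
    have hwv : w * v = s := hwv'
    have hcomm : w * v = v * w := mem_centralizer_iff.1 hv w hw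
    have hvB : v ∈ B := by
      rw [← hBeq, hBdef, C_sup]
      refine ⟨mem_centralizer_iff.2 fun e he => ?_, C_antitone hTU hv⟩
      have h1 : e * (w * v) = w * v * e := by
        rw [hwv]; exact mem_centralizer_iff.1 (le_C_of_comm hA.1 hs'.2) e he.2
      have h2 : e * w = w * e := (mem_centralizer_iff.1 (hEU he) w hw).symm
      have h3 : w * (e * v) = w * (v * e) := by
        rw [← mul_assoc, ← h2, mul_assoc, h1, mul_assoc]
      exact mul_left_cancel h3
    have hvB' : v ∈ ((Q ⊓ A : Subgroup G) : Set G) * (T : Set G) := by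
      rw [← Subgroup.coe_mul_of_left_le_normalizer_right _ _
        ((inf_le_left.trans (le_of_eq hQ)).trans (centralizer_le_normalizer _))]
      exact hvB
    obtain ⟨e, he, t, ht, rfl⟩ := hvB'
    have htZ : t ∈ U ⊓ C U :=
      ⟨hTU ht, (Subgroup.mul_mem_cancel_left _ (hEU he)).1 hv⟩
    rw [hUC] at htZ
    have hvB₀ : e * t ∈ B₀ :=
      mul_mem (mem_sup_left ⟨hQH he.1, he.2⟩) (mem_sup_right htZ)
    refine ⟨w, ⟨?_, hw⟩, e * t, hv, by rw [← hwv, hcomm]⟩
    refine (Subgroup.mul_mem_cancel_right _ hvB₀).1 ?_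
    show w * (e * t) ∈ B₀
    rw [show w * (e * t) = s from hwv]
    exact mem_sup_left hs'
  have hUTS : ∀ x ∈ U, x ∈ (T : Set G) * (S : Set G) := by
    intro x hx
    have hxH := hUH hx
    have hx' : x ∈ (Q : Set G) * (A : Set G) := hQAset ▸ hHQA hxH
    obtain ⟨q, hq, s, hs', rfl⟩ := hx'
    have hsH : s ∈ H := (Subgroup.mul_mem_cancel_left H (hQH hq)).1 hxH
    obtain ⟨w, hw, v, hv, rfl⟩ := hsplit s ⟨hsH, hs'⟩
    have hqv : q * v ∈ U ⊓ Q := ⟨by
      have : q * (v * w) * w⁻¹ ∈ U := mul_mem hx (inv_mem hw.2)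
      simpa [mul_assoc] using this, mul_mem hq (hCUQ hv)⟩
    rw [hUQ] at hqv
    exact ⟨q * v, hqv, w, hw, by simp [mul_assoc]⟩
  -- A fixes B₀ modulo Z₀
  have hfix : ∀ b ∈ A, ∀ x ∈ B₀, b * x * b⁻¹ * x⁻¹ ∈ Z₀ := by
    intro b hb x hx
    rw [hB₀def, ← SetLike.mem_coe, Subgroup.coe_mul_of_left_le_normalizer_right _ _
      (inf_le_left.trans hHZ)] at hx
    obtain ⟨c, hc, z, hz, rfl⟩ := hx
    have hbc : b * c * b⁻¹ = c := by
      rw [mem_centralizer_iff.1 (le_C_of_comm hA.1 hc.2) b hb, mul_inv_cancel_right]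
    have h1 : b * z * b⁻¹ * z⁻¹ ∈ Z₀ :=
      mul_mem ((mem_normalizer_iff.1 (hJZ (hAJ hb)) z).1 hz) (inv_mem hz)
    have h2 := (mem_normalizer_iff.1 (hHZ hc.1) _).1 h1
    have : b * (c * z) * b⁻¹ * (c * z)⁻¹ = c * (b * z * b⁻¹ * z⁻¹) * c⁻¹ := by
      calc b * (c * z) * b⁻¹ * (c * z)⁻¹ = (b * c * b⁻¹) * (b * z * b⁻¹) * z⁻¹ * c⁻¹ := by group
        _ = c * (b * z * b⁻¹) * z⁻¹ * c⁻¹ := by rw [hbc]
        _ = _ := by group
    rw [this]
    exact h2
  -- T ⊓ S = Z₀
  have hTS : T ⊓ S = Z₀ := by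
    refine le_antisymm (fun x hx => ?_) (le_inf hTz (le_inf le_sup_right (hTz.trans hTU)))
    have h1 := hfix a⁻¹ (inv_mem ha) x hx.2.1
    have h2 : a⁻¹ * x * a ∈ T := by
      have := mul_mem (hTz h1) hx.1
      simpa [mul_assoc] using this
    have : x ∈ T ⊓ cj a T := ⟨hx.1, mem_cj.2 h2⟩
    rwa [haT] at this
  -- counting
  have hTCU : T ⊓ C U = Z₀ :=
    le_antisymm ((inf_le_inf_right _ hTU).trans hUC.le) (le_inf hTz (C_antitone hUH))
  have hSCU : S ⊓ C U = Z₀ :=
    le_antisymm ((inf_le_inf_right _ inf_le_right).trans hUC.le)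
      (le_inf (le_inf le_sup_right (hTz.trans hTU)) (C_antitone hUH))
  have hUset : (U : Set G) = (T : Set G) * (S : Set G) :=
    Set.Subset.antisymm hUTS ((mul_subset_sup T S).trans (sup_le hTU inf_le_right))
  have hQset : (Q : Set G) = (T : Set G) * (C U : Set G) := by
    refine Set.Subset.antisymm (fun q hq => ?_) ((mul_subset_sup _ _).trans (sup_le hTa hCUQ))
    obtain ⟨w, hw, v, hv, rfl⟩ := (Set.ext_iff.1 hHset q).1 (hQH hq)
    refine ⟨w, ?_, v, hv, rfl⟩
    rw [← hUQ]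
    exact ⟨hw, (Subgroup.mul_mem_cancel_right Q (hCUQ hv)).1 hq⟩
  have e1 := ncard_mul T S
  rw [← hUset, hTS, ← Nat.card_coe_set_eq] at e1
  have e2 := ncard_mul T (C U)
  rw [← hQset, hTCU, ← Nat.card_coe_set_eq] at e2
  have e3 := ncard_mul S (C U)
  rw [hSCU] at e3
  have hSab : S ≤ C S :=
    (inf_le_left.trans (le_C_of_comm hB₀.1)).trans (C_antitone inf_le_left)
  have hle : ((S : Set G) * (C U : Set G)).ncard ≤ Nat.card (C S) :=
    (ncard_mul_le S (C U)).trans (card_le_of_le (sup_le hSab (C_antitone inf_le_right)))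
  have hmTU : m T = m U := le_antisymm (hUl T) (hTl U)
  have hSl : Large S := by
    refine hTl.congr ?_
    have hz : 0 < Nat.card Z₀ := Nat.card_pos
    unfold m at hmTU ⊢
    rw [← hQ] at hmTU ⊢
    simp only [SetLike.coe_sort_coe] at e1 e2
    have hST : Nat.card S = Nat.card T := by
      apply Nat.eq_of_mul_eq_mul_left (Nat.mul_pos (Nat.card_pos (α := T)) (Nat.card_pos (α := C U)))
      calc Nat.card T * Nat.card (C U) * Nat.card S
          = (Nat.card T * Nat.card S) * Nat.card (C U) := by ring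
        _ = (Nat.card U * Nat.card (C U)) * Nat.card Z₀ := by rw [← e1]; ring
        _ = (Nat.card T * Nat.card Q) * Nat.card Z₀ := by rw [hmTU]
        _ = Nat.card T * (Nat.card Q * Nat.card Z₀) := by ring
        _ = Nat.card T * Nat.card (C U) * Nat.card T := by rw [e2]; ring
    apply Nat.le_of_mul_le_mul_right (c := Nat.card Z₀) ?_ hz
    calc Nat.card T * Nat.card Q * Nat.card Z₀ = Nat.card T * (Nat.card Q * Nat.card Z₀) := by ring
      _ = Nat.card T * (Nat.card T * Nat.card (C U)) := by rw [e2]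
      _ = Nat.card S * (Nat.card S * Nat.card (C U)) := by rw [hST]
      _ = Nat.card S * (((S : Set G) * (C U : Set G)).ncard * Nat.card Z₀) := by rw [e3]
      _ ≤ Nat.card S * (Nat.card (C S) * Nat.card Z₀) :=
          Nat.mul_le_mul_left _ (Nat.mul_le_mul_right _ hle)
      _ = Nat.card S * Nat.card (C S) * Nat.card Z₀ := by ring
  -- a point of U fixed modulo Z₀ by N and A
  have hUne : U ≠ Z₀ := fun h => hTne (le_antisymm (hTU.trans h.le) hTz)
  obtain ⟨x, hxU, hxZ, hxfix⟩ := exists_central_mod (Γ := N ⊔ A) (hTz.trans hTU) hUne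
    (hUH.trans hHZ) (sup_le hUN hUA) ((sup_le hNJ hAJ).trans hJZ)
  have hxS : x ∈ S := by
    obtain ⟨t, ht, w, hw, rfl⟩ := hUTS x hxU
    refine mul_mem ?_ hw
    have h1 := hxfix a⁻¹ (mem_sup_right (inv_mem ha))
    have h2 := hfix a⁻¹ (inv_mem ha) w hw.1
    rw [inv_inv] at h1 h2
    have htH : t ∈ H := hUH (hTU ht)
    -- conjugate back into T
    have h3 : a⁻¹ * t * a * t⁻¹ ∈ Z₀ := by
      replace h1 : a⁻¹ * (t * w) * a * (t * w)⁻¹ ∈ Z₀ := h1
      have hu : a⁻¹ * (t * w) * a * (t * w)⁻¹ =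
          (a⁻¹ * t * a * t⁻¹) * (t * (a⁻¹ * w * a * w⁻¹) * t⁻¹) := by group
      rw [hu] at h1
      exact (Subgroup.mul_mem_cancel_right Z₀ ((mem_normalizer_iff.1 (hHZ htH) _).1 h2)).1 h1
    have h4 : a⁻¹ * t * a ∈ T := by
      have := mul_mem (hTz h3) ht
      simpa [mul_assoc] using this
    have h5 : t ∈ T ⊓ cj a T := ⟨ht, mem_cj.2 h4⟩
    rw [haT] at h5
    exact ⟨mem_sup_right h5, hTU ht⟩
  -- the intersection of the N-conjugates of S
  set S' := sInf ((fun n => cj n S) '' (N : Set G)) with hS'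
  have hS'S : S' ≤ S := by
    refine (sInf_le ⟨1, one_mem N, rfl⟩ : S' ≤ cj 1 S).trans (le_of_eq ?_)
    ext y; simp [mem_cj]
  refine hnone S' ⟨large_sInf _ ⟨_, 1, one_mem N, rfl⟩ (by rintro _ ⟨n, -, rfl⟩; exact hSl.cj' n),
    hS'S.trans (hSab.trans (C_antitone hS'S)), ?_, ?_⟩ ?_ ?_
  · refine le_sInf ?_
    rintro _ ⟨n, hn, rfl⟩
    exact (cj_eq_self (hJZ (hNJ hn))).ge.trans (map_mono (le_inf le_sup_right (hTz.trans hTU)))
  · intro h
    refine hxZ (h ▸ ?_)
    rw [hS', Subgroup.mem_sInf]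
    rintro _ ⟨n, hn, rfl⟩
    rw [mem_cj]
    have h1 := hxfix n⁻¹ (mem_sup_left (inv_mem hn))
    rw [inv_inv] at h1
    have := mul_mem ((le_inf le_sup_right (hTz.trans hTU) : Z₀ ≤ S) h1) hxS
    rw [show n⁻¹ * x * n * x⁻¹ * x = n⁻¹ * x * n by group] at this
    exact this
  · intro k hk
    refine mem_normalizer_of_cj_le (le_sInf ?_)
    rintro _ ⟨n, hn, rfl⟩
    refine (map_mono (sInf_le ⟨k⁻¹ * n, mul_mem (inv_mem hk) hn, rfl⟩) :
      cj k S' ≤ cj k (cj (k⁻¹ * n) S)).trans (le_of_eq ?_)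
    show cj k (cj (k⁻¹ * n) S) = cj n S
    rw [cj_cj, mul_inv_cancel_left]
  · intro c hc
    have hSA : c ∈ normalizer (S : Set G) := by
      refine mem_normalizer_of_cj_le ?_
      rw [cj, map_inf _ _ _ (MulAut.conj c).injective]
      refine inf_le_inf ?_ (cj_eq_self (hUA hc)).le
      rintro _ ⟨y, hy, rfl⟩
      have h1 := hfix c hc y hy
      have h2 : c * y * c⁻¹ * y⁻¹ * y ∈ B₀ := mul_mem (mem_sup_right h1) hy
      simpa using h2
    refine mem_normalizer_of_cj_le (le_sInf ?_)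
    rintro _ ⟨n, hn, rfl⟩
    have hn' : c⁻¹ * n * c ∈ N := by
      have := (mem_normalizer_iff.1 (inv_mem (hAN hc)) n).1 hn
      simpa using this
    refine (map_mono (sInf_le ⟨c⁻¹ * n * c, hn', rfl⟩) :
      cj c S' ≤ cj c (cj (c⁻¹ * n * c) S)).trans (le_of_eq ?_)
    show cj c (cj (c⁻¹ * n * c) S) = cj n S
    rw [cj_cj, show c * (c⁻¹ * n * c) = n * c by group, ← cj_cj, cj_eq_self hSA]

/-- Some minimal centrally large subgroup is normalized by the Thompson subgroup. -/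
theorem exists_minimal_invariant [Group.IsNilpotent G] :
    ∃ Q : Subgroup G, Cfsg.IsMinimalCentrallyLarge Q ∧
      Cfsg.thompsonSubgroupA G ≤ normalizer (Q : Set G) := by
  have hjn : (Cfsg.centrallyLargeJoin G).Normal := normalizer_eq_top_iff.1 (eq_top_iff.2 fun g _ => by
    refine mem_normalizer_of_cj_le ?_
    show cj g (sSup {R : Subgroup G | Cfsg.IsCentrallyLarge R}) ≤ _
    rw [cj, map_le_iff_le_comap]
    refine sSup_le fun R hR => map_le_iff_le_comap.1 (le_sSup (isCentrallyLarge_iff.2 ?_))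
    have hR' := isCentrallyLarge_iff.1 hR
    exact ⟨hR'.1.cj' g, by rw [cj_C]; exact map_mono hR'.2⟩)
  obtain ⟨H, ⟨hH, hHJ⟩, hHmin⟩ := Set.Finite.exists_minimal
    (s := {H : Subgroup G | CL H ∧ Cfsg.thompsonSubgroupA G ≤ normalizer (H : Set G)}) (Set.toFinite _)
    ⟨_, cl_join, le_top.trans (normalizer_eq_top_iff.2 hjn).ge⟩
  exact ⟨H, minimal_of_minimal_invariant hH hHJ (fun K hK hKc hKJ =>
    le_antisymm hK (hHmin ⟨hKc, hKJ⟩ hK)), hHJ⟩

/-- The minimal centrally large subgroups lie in `Q J` for such a `Q`. -/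
theorem minimalJoin_le_sup {Q : Subgroup G} (hQ : Cfsg.IsMinimalCentrallyLarge Q) :
    Cfsg.minimalCentrallyLargeJoin G ≤ Q ⊔ Cfsg.thompsonSubgroupA G := by
  refine sSup_le fun R hR => ?_
  have hRc := isCentrallyLarge_iff.1 hR.1
  rw [← minimal_eq hR (isCentrallyLarge_iff.1 hQ.1)]
  refine sup_le (inf_le_right.trans le_sup_left) (le_sup_of_le_right ?_)
  obtain ⟨A, hA, hAmax⟩ := Set.Finite.exists_maximalFor (fun A : Subgroup G => Nat.card A)
    {A : Subgroup G | IsMulCommutative A} (Set.toFinite _)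
    ⟨⊥, show IsMulCommutative (⊥ : Subgroup G) from inferInstance⟩
  have hAm : A ∈ Cfsg.maxAbelianSubgroups G := ⟨hA, fun B hB => (le_total (Nat.card B) (Nat.card A)).elim id
    (fun h => hAmax hB h)⟩
  exact le_sup_right.trans (le_sSup (cl_sup_abelian hRc hAm).2.2)

end CfsgLib.LocalB.CD
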