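import Cfsg.Prelude.Def_DStar
import Cfsg.Agent.ZJ.ReplacementMain
import Cfsg.Agent.LocalB.Embedded

/-! The subgroup `D*` of a `p`-group. -/

set_option autoImplicit false
set_option linter.unusedVariables false
set_option linter.unusedSectionVars false

namespace CfsgLib.LocalB.DStar

open Subgroup CfsgLib.LocalB
open scoped commutatorElement

variable {G : Type*} [Group G]

/-- `⁅⁅W, W⁆, W⁆ = ⊥`. -/
def ClassTwo (W : Subgroup G) : Prop := ⁅⁅W, W⁆, W⁆ = ⊥

theorem ClassTwo.mono {W V : Subgroup G} (h : ClassTwo W) (hV : V ≤ W) : ClassTwo V :=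
  le_bot_iff.1 ((commutator_mono (commutator_mono hV hV) hV).trans h.le)

/-- The members of the family behind `D*(P)`, inside the ambient group. -/
def Fam (P A : Subgroup G) : Prop :=
  A ≤ P ∧ IsMulCommutative A ∧ ∀ x ∈ P, ClassTwo (A ⊔ zpowers x) → ∀ a ∈ A, a * x = x * a

theorem comm {A : Subgroup G} (h : IsMulCommutative A) {a b : G} (ha : a ∈ A) (hb : b ∈ A) :
    a * b = b * a :=
  congrArg Subtype.val (h.1.comm ⟨a, ha⟩ ⟨b, hb⟩)

theorem fam_top_iff {A : Subgroup G} : Fam ⊤ A ↔ A ∈ Cfsg.dStarFamily G :=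
  ⟨fun h => ⟨h.2.1, fun x hx => h.2.2 x trivial hx⟩, fun h => ⟨le_top, h.1, fun x _ hx => h.2 x hx⟩⟩

theorem classTwo_map_iff {P : Subgroup G} (W : Subgroup P) :
    ClassTwo (W.map P.subtype) ↔ ClassTwo W := by
  unfold ClassTwo
  rw [← map_commutator, ← map_commutator, map_eq_bot_iff_of_injective _ P.subtype_injective]

theorem fam_subgroupOf {P A : Subgroup G} (h : Fam P A) : A.subgroupOf P ∈ Cfsg.dStarFamily P := by
  refine ⟨⟨⟨fun a b => Subtype.ext (Subtype.ext (comm h.2.1 a.2 b.2))⟩⟩, fun x hx a ha => ?_⟩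
  refine Subtype.ext (h.2.2 x x.2 ?_ a ha)
  have e : (A.subgroupOf P ⊔ zpowers x).map P.subtype = A ⊔ zpowers (x : G) := by
    rw [Subgroup.map_sup, map_subgroupOf_eq_of_le h.1, MonoidHom.map_zpowers]; rfl
  exact e ▸ (classTwo_map_iff _).2 hx

theorem fam_map {P : Subgroup G} {A : Subgroup P} (h : A ∈ Cfsg.dStarFamily P) :
    Fam P (A.map P.subtype) := by
  refine ⟨map_subtype_le _, ⟨⟨?_⟩⟩, fun x hx hcl a ha => ?_⟩
  · rintro ⟨_, a, ha, rfl⟩ ⟨_, b, hb, rfl⟩
    exact Subtype.ext (congrArg (fun u : P => (u : G)) (comm h.1 ha hb) : (a : G) * b = b * a)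
  · obtain ⟨a, ha, rfl⟩ := ha
    refine congrArg Subtype.val (h.2 ⟨x, hx⟩ ?_ a ha)
    refine (classTwo_map_iff _).1 ?_
    rwa [Subgroup.map_sup, MonoidHom.map_zpowers]

theorem Fam.mono {P P' A : Subgroup G} (h : Fam P A) (hA : A ≤ P') (hP : P' ≤ P) : Fam P' A :=
  ⟨hA, h.2.1, fun x hx => h.2.2 x (hP hx)⟩

theorem Fam.map_equiv {H : Type*} [Group H] (e : G ≃* H) {P A : Subgroup G} (h : Fam P A) :
    Fam (P.map e.toMonoidHom) (A.map e.toMonoidHom) := by
  refine ⟨map_mono h.1, ⟨⟨?_⟩⟩, ?_⟩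
  · rintro ⟨_, a, ha, rfl⟩ ⟨_, b, hb, rfl⟩
    exact Subtype.ext (by
      show e.toMonoidHom a * e.toMonoidHom b = e.toMonoidHom b * e.toMonoidHom a
      rw [← map_mul, ← map_mul, comm h.2.1 ha hb])
  · rintro _ ⟨x, hx, rfl⟩ hcl _ ⟨a, ha, rfl⟩
    rw [← map_mul, ← map_mul, h.2.2 x hx ?_ a ha]
    rw [← MonoidHom.map_zpowers, ← Subgroup.map_sup] at hcl
    unfold ClassTwo at hcl ⊢
    rw [← map_commutator, ← map_commutator, map_eq_bot_iff_of_injective _ e.injective] at hcl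
    exact hcl

theorem Fam.conj {P A : Subgroup G} (h : Fam P A) (g : G) :
    Fam (P.map (MulAut.conj g).toMonoidHom) (A.map (MulAut.conj g).toMonoidHom) :=
  h.map_equiv (MulAut.conj g)

theorem commutator_le_of_normalize {X Y : Subgroup G} (hX : IsMulCommutative X) (hY : IsMulCommutative Y)
    (h1 : X ≤ normalizer (Y : Set G)) (h2 : Y ≤ normalizer (X : Set G)) : ⁅X ⊔ Y, X ⊔ Y⁆ ≤ X := by
  refine commutator_le.2 fun u hu v hv => ?_
  rw [← SetLike.mem_coe, coe_mul_of_left_le_normalizer_right _ _ h1] at hu hv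
  obtain ⟨a, ha, b, hb, rfl⟩ := hu
  obtain ⟨a', ha', b', hb', rfl⟩ := hv
  have e : ⁅a * b, a' * b'⁆ = a * (b * a' * b⁻¹) * (b' * a⁻¹ * b'⁻¹) * a'⁻¹ := by
    have h3 : b * b' * b⁻¹ = b' := by rw [comm hY hb hb', mul_inv_cancel_right]
    calc ⁅a * b, a' * b'⁆ = a * (b * a' * b⁻¹) * ((b * b' * b⁻¹) * a⁻¹ * b'⁻¹) * a'⁻¹ := by
          rw [commutatorElement_def]; group
      _ = _ := by rw [h3]
  rw [e]
  exact mul_mem (mul_mem (mul_mem ha ((mem_normalizer_iff.1 (h2 hb) _).1 ha'))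
    ((mem_normalizer_iff.1 (h2 hb') _).1 (X.inv_mem ha))) (X.inv_mem ha')

theorem classTwo_sup {X Y : Subgroup G} (hX : IsMulCommutative X) (hY : IsMulCommutative Y)
    (h1 : X ≤ normalizer (Y : Set G)) (h2 : Y ≤ normalizer (X : Set G)) : ClassTwo (X ⊔ Y) := by
  unfold ClassTwo
  have hx := commutator_le_of_normalize hX hY h1 h2
  have hy : ⁅X ⊔ Y, X ⊔ Y⁆ ≤ Y := by
    rw [sup_comm]; exact commutator_le_of_normalize hY hX h2 h1
  rw [eq_bot_iff]
  refine commutator_le.2 fun z hz w hw => ?_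
  rw [mem_bot, commutatorElement_eq_one_iff_mul_comm]
  rw [← SetLike.mem_coe, coe_mul_of_left_le_normalizer_right _ _ h1] at hw
  obtain ⟨a, ha, b, hb, rfl⟩ := hw
  rw [← mul_assoc, comm hX (hx hz) ha, mul_assoc, comm hY (hy hz) hb, ← mul_assoc]

theorem Fam.comm_of_normalize {P A B : Subgroup G} (hA : Fam P A) (hB : IsMulCommutative B) (hBP : B ≤ P)
    (h1 : A ≤ normalizer (B : Set G)) (h2 : B ≤ normalizer (A : Set G)) :
    ∀ a ∈ A, ∀ b ∈ B, a * b = b * a := fun a ha b hb =>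
  hA.2.2 b (hBP hb) ((classTwo_sup hA.2.1 hB h1 h2).mono (sup_le_sup_left (zpowers_le.2 hb) A)) a ha

theorem Fam.sup {P A B : Subgroup G} (hA : Fam P A) (hB : Fam P B)
    (h : ∀ a ∈ A, ∀ b ∈ B, a * b = b * a) : Fam P (A ⊔ B) := by
  have hcen : ∀ (x : G), (∀ a ∈ A, a * x = x * a) → (∀ b ∈ B, b * x = x * b) →
      A ⊔ B ≤ centralizer ({x} : Set G) := fun x h1 h2 =>
    sup_le (fun a ha => mem_centralizer_singleton_iff.2 (h1 a ha))
      (fun b hb => mem_centralizer_singleton_iff.2 (h2 b hb))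
  refine ⟨sup_le hA.1 hB.1, ⟨⟨fun u v => Subtype.ext ?_⟩⟩, fun x hx hcl a ha => ?_⟩
  · have h1 : A ⊔ B ≤ centralizer ((A ⊔ B : Subgroup G) : Set G) := by
      rw [le_centralizer_iff]
      refine sup_le ?_ ?_ <;> rw [le_centralizer_iff] <;> refine sup_le ?_ ?_
      · exact fun y hy => mem_centralizer_iff.2 fun z hz => comm hA.2.1 hz hy
      · exact fun y hy => mem_centralizer_iff.2 fun z hz => h z hz y hy
      · exact fun y hy => mem_centralizer_iff.2 fun z hz => (h y hy z hz).symm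
      · exact fun y hy => mem_centralizer_iff.2 fun z hz => comm hB.2.1 hz hy
    exact mem_centralizer_iff.1 (h1 v.2) u u.2
  · exact mem_centralizer_singleton_iff.1 (hcen x
      (fun a ha => hA.2.2 x hx (hcl.mono (sup_le_sup_right le_sup_left _)) a ha)
      (fun b hb => hB.2.2 x hx (hcl.mono (sup_le_sup_right le_sup_right _)) b hb) ha)

variable [Finite G] {p : ℕ} [hp : Fact p.Prime]

theorem fam_bot (P : Subgroup G) : Fam P ⊥ :=
  ⟨bot_le, ⟨⟨fun a b => Subsingleton.elim _ _⟩⟩, fun x _ _ a ha => by rw [mem_bot.1 ha]; simp⟩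

/-- The family has a greatest member, and it is normal. -/
theorem exists_greatest {P : Subgroup G} (hP : IsPGroup p P) :
    ∃ M, Fam P M ∧ P ≤ normalizer (M : Set G) ∧ ∀ A, Fam P A → A ≤ M := by
  have hnormal : ∀ M, Fam P M → (∀ A, Fam P A → M ≤ A → A ≤ M) → P ≤ normalizer (M : Set G) := by
    intro M hM hmax
    by_contra hne
    set N := P ⊓ normalizer (M : Set G) with hN
    obtain ⟨u, huP, huN, huN'⟩ := exists_mem_normalizer_not_mem hP (inf_le_left : N ≤ P)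
      (fun e => hne (e ▸ inf_le_right))
    apply huN'
    refine ⟨huP, ?_⟩
    set M' := M.map (MulAut.conj u).toMonoidHom with hM'
    have hPu : P.map (MulAut.conj u).toMonoidHom = P :=
      map_conj_eq_of_mem_normalizer (le_normalizer huP)
    have hNu : N.map (MulAut.conj u).toMonoidHom = N := map_conj_eq_of_mem_normalizer huN
    have hMN : M ≤ N := le_inf hM.1 le_normalizer
    have hM'fam : Fam P M' := hPu ▸ hM.conj u
    have hM'N : M' ≤ N := hNu ▸ map_mono hMN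
    have h2 : N ≤ normalizer (M' : Set G) := by
      rw [← hNu]
      exact (map_mono inf_le_right).trans (le_normalizer_map _)
    have hcomm := hM.comm_of_normalize hM'fam.2.1 hM'fam.1 (hMN.trans h2) (hM'N.trans inf_le_right)
    have hle := hmax _ (hM.sup hM'fam hcomm) le_sup_left
    exact mem_normalizer_of_map_conj_eq (Subgroup.eq_of_le_of_card_ge (le_sup_right.trans hle)
      (card_map_conj M u).ge)
  obtain ⟨M, hM⟩ := (Set.toFinite {A : Subgroup G | Fam P A}).exists_maximal ⟨⊥, fam_bot P⟩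
  obtain ⟨hMF, hMmax⟩ := hM
  have hMn := hnormal M hMF fun A hA h => hMmax hA h
  refine ⟨M, hMF, hMn, fun A hA => ?_⟩
  obtain ⟨A', hA'⟩ := (Set.toFinite {B : Subgroup G | Fam P B ∧ A ≤ B}).exists_maximal ⟨A, hA, le_rfl⟩
  obtain ⟨⟨hA'F, hAA'⟩, hA'max⟩ := hA'
  have hA'n := hnormal A' hA'F fun B hB h => hA'max ⟨hB, hAA'.trans h⟩ h
  have hc := hMF.comm_of_normalize hA'F.2.1 hA'F.1 (hMF.1.trans hA'n) (hA'F.1.trans hMn)
  exact hAA'.trans (le_sup_right.trans (hMmax (hMF.sup hA'F hc) le_sup_left))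

theorem dStarOf_spec {P : Subgroup G} (hP : IsPGroup p P) :
    Fam P (Cfsg.dStarOf P) ∧ P ≤ normalizer (Cfsg.dStarOf P : Set G) ∧
      ∀ A, Fam P A → A ≤ Cfsg.dStarOf P := by
  obtain ⟨M, hM, hn, hle⟩ := exists_greatest hP
  have e : Cfsg.dStarOf P = M := by
    refine le_antisymm ?_ ?_
    · rw [Cfsg.dStarOf, map_le_iff_le_comap]
      exact sSup_le fun A hA => map_le_iff_le_comap.1 (hle _ (fam_map hA))
    · rw [Cfsg.dStarOf, ← map_subgroupOf_eq_of_le hM.1]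
      exact map_mono (le_sSup (fam_subgroupOf hM))
  rw [e]
  exact ⟨hM, hn, hle⟩

theorem dStar_spec (hG : IsPGroup p G) :
    Fam ⊤ (Cfsg.dStar G) ∧ (Cfsg.dStar G).Normal ∧ ∀ A, Fam ⊤ A → A ≤ Cfsg.dStar G := by
  obtain ⟨M, hM, hn, hle⟩ := exists_greatest (P := (⊤ : Subgroup G)) (hG.to_subgroup _)
  have e : Cfsg.dStar G = M :=
    le_antisymm (sSup_le fun A hA => hle A (fam_top_iff.2 hA)) (le_sSup (fam_top_iff.1 hM))
  rw [e]
  exact ⟨hM, normalizer_eq_top_iff.1 (top_le_iff.1 hn), hle⟩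

end CfsgLib.LocalB.DStar
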