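import Cfsg.Agent.LocalB.PGLPoints
import Cfsg.Prelude.Def_Transfer
import Mathlib.GroupTheory.Sylow
import Mathlib.GroupTheory.SpecificGroups.Cyclic
import Mathlib.LinearAlgebra.Matrix.Notation

/-!
Automizers of the maximal subgroups of an extraspecial Sylow subgroup of order `p³` and exponent `p`:
each automizer containing `SL₂(p)` gives a point of the projective line fixed by a large element of
the `p'`-group induced by the normalizer of the Sylow subgroup.
-/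

set_option autoImplicit false

namespace CfsgLib.LocalB.ExtraAut

open Matrix Subgroup
open scoped Pointwise
open scoped commutatorElement

variable {G : Type*} [Group G] {p : ℕ} [Fact p.Prime]

/-- `x` to a power in `ZMod p`. -/
def pw (x : G) (i : ZMod p) : G := x ^ i.val

theorem pw_natCast {x : G} (hx : x ^ p = 1) (i : ℕ) : pw x (i : ZMod p) = x ^ i := by
  rw [pw, ZMod.val_natCast, ← pow_mod_orderOf x (i % p), ← pow_mod_orderOf x i,
    Nat.mod_mod_of_dvd _ (orderOf_dvd_of_pow_eq_one hx)]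

theorem pw_zero (x : G) : pw x (0 : ZMod p) = 1 := by simp [pw]

theorem pw_one (x : G) : pw x (1 : ZMod p) = x := by simp [pw, ZMod.val_one]

theorem pw_add {x : G} (hx : x ^ p = 1) (i j : ZMod p) : pw x (i + j) = pw x i * pw x j := by
  rw [← ZMod.natCast_zmod_val i, ← ZMod.natCast_zmod_val j, ← Nat.cast_add, pw_natCast hx, pw_natCast hx,
    pw_natCast hx, pow_add]

theorem pw_mul {x : G} (hx : x ^ p = 1) (i j : ZMod p) : pw x (i * j) = pw (pw x i) j := by
  rw [← ZMod.natCast_zmod_val i, ← ZMod.natCast_zmod_val j, ← Nat.cast_mul, pw_natCast hx, pw_natCast hx,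
    pw_natCast (by rw [← pow_mul, mul_comm, pow_mul, hx, one_pow]), pow_mul]

theorem pw_neg {x : G} (hx : x ^ p = 1) (i : ZMod p) : pw x (-i) = (pw x i)⁻¹ :=
  eq_inv_of_mul_eq_one_left (by rw [← pw_add hx, neg_add_cancel, pw_zero])

theorem pw_conj (g x : G) (i : ZMod p) : g * pw x i * g⁻¹ = pw (g * x * g⁻¹) i := by
  rw [pw, pw, conj_pow]

theorem pw_mem {S : Subgroup G} {x : G} (hx : x ∈ S) (i : ZMod p) : pw x i ∈ S := S.pow_mem hx _

theorem pw_inj {x : G} (hx : x ^ p = 1) (hx1 : x ≠ 1) {i j : ZMod p} (h : pw x i = pw x j) : i = j := by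
  have ho : orderOf x = p := orderOf_eq_prime hx hx1
  unfold pw at h
  rw [pow_inj_mod, ho, Nat.mod_eq_of_lt (ZMod.val_lt i), Nat.mod_eq_of_lt (ZMod.val_lt j)] at h
  exact ZMod.val_injective p h

/-! ### coordinates -/

/-- The determinant of two columns. -/
def det2 (v w : Fin 2 → ZMod p) : ZMod p := v 0 * w 1 - v 1 * w 0

theorem det2_prop {v w : Fin 2 → ZMod p} (hv : v ≠ 0) (h : det2 v w = 0) : ∃ μ : ZMod p, w = μ • v := by
  unfold det2 at h
  by_cases h0 : v 0 = 0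
  · have h1 : v 1 ≠ 0 := fun h1 => hv (by ext i; fin_cases i <;> simp [h0, h1])
    refine ⟨w 1 / v 1, ?_⟩
    have hw : w 0 = 0 := by
      rw [h0, zero_mul, zero_sub, neg_eq_zero] at h
      exact (mul_eq_zero.1 h).resolve_left h1
    ext i
    fin_cases i
    · simp [h0, hw]
    · simp [h1]
  · refine ⟨w 0 / v 0, ?_⟩
    ext i
    fin_cases i
    · simp [h0]
    · have : w 1 * v 0 = w 0 * v 1 := by linear_combination h
      simp [h0]
      field_simp
      linear_combination this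

theorem det2_smul (μ : ZMod p) (v w : Fin 2 → ZMod p) : det2 (μ • v) w = μ * det2 v w := by
  simp [det2]; ring

/-- A symplectic coordinate system modulo the centre `⟨z⟩`. -/
structure Frame (P : Subgroup G) (p : ℕ) [Fact p.Prime] where
  z : G
  u0 : G
  u1 : G
  c : G → Fin 2 → ZMod p
  hexp : ∀ x ∈ P, x ^ p = 1
  z_mem : z ∈ P
  z_ne : z ≠ 1
  u0_mem : u0 ∈ P
  u1_mem : u1 ∈ P
  c_u0 : c u0 = ![1, 0]
  c_u1 : c u1 = ![0, 1]
  z_comm : ∀ x ∈ P, x * z = z * x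
  c_mul : ∀ x ∈ P, ∀ y ∈ P, c (x * y) = c x + c y
  comm : ∀ x ∈ P, ∀ y ∈ P, x * y * x⁻¹ * y⁻¹ = pw z (det2 (c x) (c y))
  c_ker : ∀ x ∈ P, c x = 0 → ∃ i : ZMod p, x = pw z i

variable {P : Subgroup G} (F : Frame P p)

theorem Frame.c_one : F.c 1 = 0 := by
  have h := F.c_mul 1 P.one_mem 1 P.one_mem
  rw [one_mul] at h
  simpa using h

theorem Frame.c_inv {x : G} (hx : x ∈ P) : F.c x⁻¹ = -F.c x := by
  have h := F.c_mul _ (P.inv_mem hx) _ hx
  rw [inv_mul_cancel, F.c_one] at h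
  exact eq_neg_of_add_eq_zero_left h.symm

theorem Frame.c_pow {x : G} (hx : x ∈ P) (i : ℕ) : F.c (x ^ i) = (i : ZMod p) • F.c x := by
  induction i with
  | zero => simp [F.c_one]
  | succ i ih => rw [pow_succ, F.c_mul _ (P.pow_mem hx i) _ hx, ih, Nat.cast_succ, add_smul, one_smul]

theorem Frame.c_pw {x : G} (hx : x ∈ P) (i : ZMod p) : F.c (pw x i) = i • F.c x := by
  rw [pw, F.c_pow hx, ZMod.natCast_zmod_val]

theorem Frame.c_z : F.c F.z = 0 := by
  have h0 := F.comm F.z F.z_mem F.u0 F.u0_mem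
  have h1 := F.comm F.z F.z_mem F.u1 F.u1_mem
  rw [← F.z_comm F.u0 F.u0_mem, mul_inv_cancel_right, mul_inv_cancel, F.c_u0] at h0
  rw [← F.z_comm F.u1 F.u1_mem, mul_inv_cancel_right, mul_inv_cancel, F.c_u1] at h1
  have e0 := pw_inj (F.hexp _ F.z_mem) F.z_ne ((pw_zero F.z).trans h0)
  have e1 := pw_inj (F.hexp _ F.z_mem) F.z_ne ((pw_zero F.z).trans h1)
  simp [det2] at e0 e1
  ext i; fin_cases i <;> simp [e0, e1]

theorem Frame.exists_c (v : Fin 2 → ZMod p) : ∃ x ∈ P, F.c x = v := by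
  refine ⟨pw F.u0 (v 0) * pw F.u1 (v 1), P.mul_mem (pw_mem F.u0_mem _) (pw_mem F.u1_mem _), ?_⟩
  rw [F.c_mul _ (pw_mem F.u0_mem _) _ (pw_mem F.u1_mem _), F.c_pw F.u0_mem, F.c_pw F.u1_mem, F.c_u0, F.c_u1]
  ext i; fin_cases i <;> simp

theorem Frame.eq_of_c {x y : G} (hx : x ∈ P) (hy : y ∈ P) (h : F.c x = F.c y) :
    ∃ i : ZMod p, y = x * pw F.z i := by
  obtain ⟨i, hi⟩ := F.c_ker (x⁻¹ * y) (P.mul_mem (P.inv_mem hx) hy)
    (by rw [F.c_mul _ (P.inv_mem hx) _ hy, F.c_inv hx, h, neg_add_cancel])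
  exact ⟨i, by rw [← hi, mul_inv_cancel_left]⟩

theorem Frame.mem_center {x : G} (hx : x ∈ P) (h : ∀ y ∈ P, x * y = y * x) : F.c x = 0 := by
  have h0 := F.comm x hx F.u0 F.u0_mem
  have h1 := F.comm x hx F.u1 F.u1_mem
  rw [h _ F.u0_mem, mul_inv_cancel_right, mul_inv_cancel, F.c_u0] at h0
  rw [h _ F.u1_mem, mul_inv_cancel_right, mul_inv_cancel, F.c_u1] at h1
  have e0 := pw_inj (F.hexp _ F.z_mem) F.z_ne ((pw_zero F.z).trans h0)
  have e1 := pw_inj (F.hexp _ F.z_mem) F.z_ne ((pw_zero F.z).trans h1)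
  simp [det2] at e0 e1
  ext i; fin_cases i <;> simp [e0, e1]

theorem conj_mem_of_normalizer {n x : G} (hn : n ∈ normalizer (P : Set G)) (hx : x ∈ P) : n * x * n⁻¹ ∈ P :=
  (mem_normalizer_iff.1 hn x).1 hx

/-- The matrix of a normalizing element. -/
def Frame.mat (n : G) : Matrix (Fin 2) (Fin 2) (ZMod p) :=
  Matrix.of fun i j => F.c (n * (![F.u0, F.u1] j) * n⁻¹) i

theorem Frame.conj_z {n : G} (hn : n ∈ normalizer (P : Set G)) : F.c (n * F.z * n⁻¹) = 0 := by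
  refine F.mem_center (conj_mem_of_normalizer hn F.z_mem) fun y hy => ?_
  have hy' : n⁻¹ * y * n ∈ P := by simpa using conj_mem_of_normalizer (inv_mem hn) hy
  calc n * F.z * n⁻¹ * y = n * (F.z * (n⁻¹ * y * n)) * n⁻¹ := by group
    _ = n * ((n⁻¹ * y * n) * F.z) * n⁻¹ := by rw [F.z_comm _ hy']
    _ = _ := by group

theorem Frame.mat_mulVec {n : G} (hn : n ∈ normalizer (P : Set G)) {x : G} (hx : x ∈ P) :
    F.mat n *ᵥ F.c x = F.c (n * x * n⁻¹) := by
  set x' := pw F.u0 (F.c x 0) * pw F.u1 (F.c x 1) with hx'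
  have hx'P : x' ∈ P := P.mul_mem (pw_mem F.u0_mem _) (pw_mem F.u1_mem _)
  have hc : F.c x' = F.c x := by
    rw [hx', F.c_mul _ (pw_mem F.u0_mem _) _ (pw_mem F.u1_mem _), F.c_pw F.u0_mem, F.c_pw F.u1_mem,
      F.c_u0, F.c_u1]
    ext i; fin_cases i <;> simp
  obtain ⟨i, hi⟩ := F.eq_of_c hx'P hx hc
  have h1 : n * x * n⁻¹ = n * x' * n⁻¹ * (n * pw F.z i * n⁻¹) := by rw [hi]; group
  rw [h1, F.c_mul _ (conj_mem_of_normalizer hn hx'P) _ (conj_mem_of_normalizer hn (pw_mem F.z_mem _)),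
    pw_conj, F.c_pw (conj_mem_of_normalizer hn F.z_mem), F.conj_z hn, smul_zero, add_zero,
    hx', show n * (pw F.u0 (F.c x 0) * pw F.u1 (F.c x 1)) * n⁻¹
      = n * pw F.u0 (F.c x 0) * n⁻¹ * (n * pw F.u1 (F.c x 1) * n⁻¹) by group,
    pw_conj, pw_conj, F.c_mul _ (pw_mem (conj_mem_of_normalizer hn F.u0_mem) _) _
      (pw_mem (conj_mem_of_normalizer hn F.u1_mem) _),
    F.c_pw (conj_mem_of_normalizer hn F.u0_mem), F.c_pw (conj_mem_of_normalizer hn F.u1_mem)]
  ext i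
  fin_cases i <;> simp [Frame.mat, Matrix.mulVec, dotProduct, Fin.sum_univ_two, mul_comm]

/-- The representation of the normalizer. -/
def Frame.matHom : normalizer (P : Set G) →* Matrix (Fin 2) (Fin 2) (ZMod p) where
  toFun n := F.mat n
  map_one' := by
    refine Matrix.ext fun i j => ?_
    fin_cases i <;> fin_cases j <;> simp [Frame.mat, F.c_u0, F.c_u1]
  map_mul' n m := by
    refine Matrix.ext_iff_mulVec.2 fun v => ?_
    obtain ⟨x, hx, rfl⟩ := F.exists_c v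
    rw [← Matrix.mulVec_mulVec, F.mat_mulVec (n * m : normalizer (P : Set G)).2 hx,
      F.mat_mulVec m.2 hx, F.mat_mulVec n.2 (conj_mem_of_normalizer m.2 hx)]
    congr 1
    simp [mul_assoc]

theorem Frame.det_mat {n : G} (hn : n ∈ normalizer (P : Set G)) {t : ZMod p}
    (ht : n * F.z * n⁻¹ = pw F.z t) : (F.mat n).det = t := by
  have hz := F.hexp _ F.z_mem
  have h0 := F.comm _ F.u0_mem _ F.u1_mem
  have h := F.comm _ (conj_mem_of_normalizer hn F.u0_mem) _ (conj_mem_of_normalizer hn F.u1_mem)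
  rw [show n * F.u0 * n⁻¹ * (n * F.u1 * n⁻¹) * (n * F.u0 * n⁻¹)⁻¹ * (n * F.u1 * n⁻¹)⁻¹
    = n * (F.u0 * F.u1 * F.u0⁻¹ * F.u1⁻¹) * n⁻¹ by group, h0, pw_conj, ht, ← pw_mul hz,
    F.c_u0, F.c_u1] at h
  have := pw_inj hz F.z_ne h
  simp [det2] at this
  rw [Matrix.det_fin_two, this]
  simp [Frame.mat]
  ring

/-! ### the subgroup `⟨z, a⟩` and its automizer -/

/-- The element `z^i a^j`. -/
def E (F : Frame P p) (a : G) (v : Fin 2 → ZMod p) : G := pw F.z (v 0) * pw a (v 1)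

/-- `M` is induced on `⟨z, a⟩` by some element. -/
def Real (F : Frame P p) (a : G) (M : Matrix (Fin 2) (Fin 2) (ZMod p)) : Prop :=
  ∃ g : G, ∀ v, g * E F a v * g⁻¹ = E F a (M *ᵥ v)

variable {F}

theorem Real.mul {a : G} {M N : Matrix (Fin 2) (Fin 2) (ZMod p)} (hM : Real F a M) (hN : Real F a N) :
    Real F a (M * N) := by
  obtain ⟨g, hg⟩ := hM
  obtain ⟨h, hh⟩ := hN
  refine ⟨g * h, fun v => ?_⟩
  rw [← Matrix.mulVec_mulVec, ← hg, ← hh]
  group

theorem Real.pow {a : G} {M : Matrix (Fin 2) (Fin 2) (ZMod p)} (hM : Real F a M) :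
    ∀ k : ℕ, Real F a (M ^ k)
  | 0 => ⟨1, fun v => by simp⟩
  | k + 1 => by rw [pow_succ]; exact (Real.pow hM k).mul hM

theorem real_of_values {a g : G} (hz : F.z ^ p = 1) (ha : a ^ p = 1) (hza : Commute F.z a) {M : Matrix (Fin 2) (Fin 2) (ZMod p)}
    (h0 : g * F.z * g⁻¹ = E F a (fun i => M i 0)) (h1 : g * a * g⁻¹ = E F a (fun i => M i 1)) :
    Real F a M := by
  refine ⟨g, fun v => ?_⟩
  have hc : ∀ i j : ZMod p, Commute (pw F.z i) (pw a j) := fun i j => hza.pow_pow _ _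
  have hE : ∀ (i : ZMod p) (w : Fin 2 → ZMod p), pw (E F a w) i = pw F.z (w 0 * i) * pw a (w 1 * i) := by
    intro i w
    rw [pw_mul hz, pw_mul ha]
    exact (hc _ _).mul_pow _
  show g * (pw F.z (v 0) * pw a (v 1)) * g⁻¹ = _
  rw [show g * (pw F.z (v 0) * pw a (v 1)) * g⁻¹ = g * pw F.z (v 0) * g⁻¹ * (g * pw a (v 1) * g⁻¹) by group,
    pw_conj, pw_conj, h0, h1, hE, hE]
  show _ = pw F.z ((M *ᵥ v) 0) * pw a ((M *ᵥ v) 1)
  simp only [Matrix.mulVec, dotProduct, Fin.sum_univ_two]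
  rw [pw_add hz, pw_add ha]
  simp only [mul_assoc]
  congr 1
  rw [← mul_assoc, ← (hc _ _).eq, mul_assoc]

variable (F)

theorem lower_pow (k : ZMod p) : ∀ n : ℕ, (!![1, 0; k, 1] : Matrix (Fin 2) (Fin 2) (ZMod p)) ^ n = !![1, 0; n * k, 1]
  | 0 => by simp [Matrix.one_fin_two]
  | n + 1 => by
    rw [pow_succ, lower_pow k n, Matrix.mul_fin_two]
    refine Matrix.ext fun i j => ?_
    fin_cases i <;> fin_cases j <;> simp <;> ring

theorem upper_pow (k : ZMod p) : ∀ n : ℕ, (!![1, k; 0, 1] : Matrix (Fin 2) (Fin 2) (ZMod p)) ^ n = !![1, n * k; 0, 1]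
  | 0 => by simp [Matrix.one_fin_two]
  | n + 1 => by
    rw [pow_succ, upper_pow k n, Matrix.mul_fin_two]
    refine Matrix.ext fun i j => ?_
    fin_cases i <;> fin_cases j <;> simp <;> ring

theorem real_diag {a : G} {k l : ZMod p} (hk : k ≠ 0) (hl : l ≠ 0) (hL : Real F a !![1, 0; k, 1])
    (hU : Real F a !![1, l; 0, 1]) {t : ZMod p} (ht : t ≠ 0) : Real F a !![t, 0; 0, t⁻¹] := by
  have hlow : ∀ x : ZMod p, Real F a !![1, 0; x, 1] := fun x => by
    have := hL.pow (x / k).val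
    rwa [lower_pow, ZMod.natCast_zmod_val, div_mul_cancel₀ x hk] at this
  have hup : ∀ x : ZMod p, Real F a !![1, x; 0, 1] := fun x => by
    have := hU.pow (x / l).val
    rwa [upper_pow, ZMod.natCast_zmod_val, div_mul_cancel₀ x hl] at this
  have hw : ∀ x : ZMod p, x ≠ 0 → Real F a !![0, x; -x⁻¹, 0] := fun x hx => by
    have := ((hup x).mul (hlow (-x⁻¹))).mul (hup x)
    rw [Matrix.mul_fin_two, Matrix.mul_fin_two] at this
    convert this using 1
    refine Matrix.ext fun i j => ?_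
    fin_cases i <;> fin_cases j <;> simp [hx]
  have := (hw t ht).mul (hw (-1) (neg_ne_zero.2 one_ne_zero))
  rw [Matrix.mul_fin_two] at this
  convert this using 1
  refine Matrix.ext fun i j => ?_
  fin_cases i <;> fin_cases j <;> simp

/-- An element of the normalizer of the Sylow subgroup with eigenvector `c a`. -/
theorem exists_diag [Finite G] (S : Sylow p G) (F : Frame (S : Subgroup G) p) {a : G}
    (ha : a ∈ (S : Subgroup G)) (ha0 : F.c a ≠ 0) {g : G} {k : ZMod p} (hk : k ≠ 0)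
    (hg1 : g * a * g⁻¹ = a) (hg2 : g * F.z * g⁻¹ = F.z * pw a k) {t : ZMod p} (ht : t ≠ 0) :
    ∃ n ∈ normalizer ((S : Subgroup G) : Set G), F.mat n *ᵥ F.c a = t⁻¹ • F.c a ∧ (F.mat n).det = t := by
  have hzp := F.hexp _ F.z_mem
  have hap := F.hexp _ ha
  have hza : Commute F.z a := (F.z_comm a ha).symm
  have hE10 : E F a (fun i => (![1, 0] : Fin 2 → ZMod p) i) = F.z := by simp [E, pw_one, pw_zero]
  -- an element of `S` not commuting with `a`
  obtain ⟨b, hb, hl⟩ : ∃ b ∈ (S : Subgroup G), det2 (F.c b) (F.c a) ≠ 0 := by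
    by_contra h
    push Not at h
    have h0 := h F.u0 F.u0_mem
    have h1 := h F.u1 F.u1_mem
    rw [F.c_u0] at h0; rw [F.c_u1] at h1
    simp [det2] at h0 h1
    exact ha0 (by ext i; fin_cases i <;> simp [h0, h1])
  have hconj : ∀ x ∈ (S : Subgroup G), x * a * x⁻¹ = pw F.z (det2 (F.c x) (F.c a)) * a := fun x hx => by
    rw [← F.comm x hx a ha, inv_mul_cancel_right]
  have hU : Real F a !![1, det2 (F.c b) (F.c a); 0, 1] := by
    refine real_of_values (g := b) hzp hap hza ?_ ?_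
    · rw [F.z_comm b hb, mul_inv_cancel_right]; simp [E, pw_one, pw_zero]
    · rw [hconj b hb]; simp [E, pw_one]
  have hL : Real F a !![1, 0; k, 1] := by
    refine real_of_values (g := g) hzp hap hza ?_ ?_
    · rw [hg2]; simp [E, pw_one]
    · rw [hg1]; simp [E, pw_one, pw_zero]
  obtain ⟨d, hd⟩ := real_diag F hk hl hL hU ht
  have hdz : d * F.z * d⁻¹ = pw F.z t := by
    have := hd ![1, 0]
    simpa [E, pw_one, pw_zero, Matrix.mulVec, dotProduct, Fin.sum_univ_two] using this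
  have hda : d * a * d⁻¹ = pw a t⁻¹ := by
    have := hd ![0, 1]
    simpa [E, pw_one, pw_zero, Matrix.mulVec, dotProduct, Fin.sum_univ_two] using this
  set C := centralizer ({F.z, a} : Set G) with hC
  have hCmem : ∀ {c : G}, c ∈ C ↔ c * F.z * c⁻¹ = F.z ∧ c * a * c⁻¹ = a := by
    intro c
    simp only [hC, mem_centralizer_iff, Set.mem_insert_iff, Set.mem_singleton_iff, forall_eq_or_imp, forall_eq,
      mul_inv_eq_iff_eq_mul]
    exact and_congr eq_comm eq_comm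
  have hSC : (S : Subgroup G) ≤ normalizer (C : Set G) := by
    suffices h : ∀ s ∈ (S : Subgroup G), ∀ c ∈ C, s * c * s⁻¹ ∈ C by
      intro s hs
      refine mem_normalizer_iff.2 fun c => ⟨h s hs c, fun hc => ?_⟩
      simpa [mul_assoc] using h s⁻¹ (inv_mem hs) _ hc
    intro s hs c hc
    obtain ⟨hcz, hca⟩ := hCmem.1 hc
    have hs' : s⁻¹ ∈ (S : Subgroup G) := inv_mem hs
    refine hCmem.2 ⟨?_, ?_⟩
    · have e1 : s⁻¹ * F.z * (s⁻¹)⁻¹ = F.z := by rw [F.z_comm _ hs', mul_inv_cancel_right]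
      calc s * c * s⁻¹ * F.z * (s * c * s⁻¹)⁻¹ = s * (c * (s⁻¹ * F.z * (s⁻¹)⁻¹) * c⁻¹) * s⁻¹ := by group
        _ = s * (s⁻¹ * F.z * (s⁻¹)⁻¹) * s⁻¹ := by rw [e1, hcz]
        _ = _ := by group
    · calc s * c * s⁻¹ * a * (s * c * s⁻¹)⁻¹ = s * (c * (s⁻¹ * a * (s⁻¹)⁻¹) * c⁻¹) * s⁻¹ := by group
        _ = s * (s⁻¹ * a * (s⁻¹)⁻¹) * s⁻¹ := by
          rw [hconj _ hs', show ∀ u : G, c * (u * a) * c⁻¹ = c * u * c⁻¹ * (c * a * c⁻¹) from fun u => by group,
            hca, pw_conj, hcz]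
        _ = _ := by group
  -- `d` moves `S` inside `S C`
  have hdS : (S : Subgroup G).map (MulAut.conj d).toMonoidHom ≤ (S : Subgroup G) ⊔ C := by
    rintro _ ⟨x, hx, rfl⟩
    simp only [MulEquiv.coe_toMonoidHom, MulAut.conj_apply]
    have e1 : d⁻¹ * F.z * d = pw F.z t⁻¹ := by
      have : d * pw F.z t⁻¹ * d⁻¹ = F.z := by
        rw [pw_conj, hdz, ← pw_mul hzp, mul_inv_cancel₀ ht, pw_one]
      calc d⁻¹ * F.z * d = d⁻¹ * (d * pw F.z t⁻¹ * d⁻¹) * d := by rw [this]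
        _ = _ := by group
    have e2 : d⁻¹ * a * d = pw a t := by
      have : d * pw a t * d⁻¹ = a := by
        rw [pw_conj, hda, ← pw_mul hap, inv_mul_cancel₀ ht, pw_one]
      calc d⁻¹ * a * d = d⁻¹ * (d * pw a t * d⁻¹) * d := by rw [this]
        _ = _ := by group
    set y := pw b (t * t * det2 (F.c x) (F.c a) / det2 (F.c b) (F.c a)) with hy
    have hyS : y ∈ (S : Subgroup G) := pw_mem hb _
    have hydet : det2 (F.c y) (F.c a) = t * t * det2 (F.c x) (F.c a) := by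
      rw [hy, F.c_pw hb, det2_smul, div_mul_cancel₀ _ hl]
    have hcC : y⁻¹ * (d * x * d⁻¹) ∈ C := by
      refine hCmem.2 ⟨?_, ?_⟩
      · calc y⁻¹ * (d * x * d⁻¹) * F.z * (y⁻¹ * (d * x * d⁻¹))⁻¹
            = y⁻¹ * (d * (x * (d⁻¹ * F.z * d) * x⁻¹) * d⁻¹) * y := by group
          _ = y⁻¹ * F.z * y := by
              rw [e1, pw_conj x, F.z_comm x hx, mul_inv_cancel_right, pw_conj, hdz, ← pw_mul hzp,
                mul_inv_cancel₀ ht, pw_one]
          _ = F.z := by rw [mul_assoc, ← F.z_comm y hyS, inv_mul_cancel_left]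
      · have e3 : d * (x * (d⁻¹ * a * d) * x⁻¹) * d⁻¹ = pw F.z (t * t * det2 (F.c x) (F.c a)) * a := by
          rw [e2, pw_conj, hconj x hx]
          have hcm : Commute (pw F.z (det2 (F.c x) (F.c a))) a := hza.pow_left _
          rw [show pw (pw F.z (det2 (F.c x) (F.c a)) * a) t = pw (pw F.z (det2 (F.c x) (F.c a))) t * pw a t
            from hcm.mul_pow _, ← pw_mul hzp,
            show ∀ u v : G, d * (u * v) * d⁻¹ = d * u * d⁻¹ * (d * v * d⁻¹) from fun u v => by group,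
            pw_conj, pw_conj, hdz, hda, ← pw_mul hzp, ← pw_mul hap, inv_mul_cancel₀ ht, pw_one]
          ring_nf
        calc y⁻¹ * (d * x * d⁻¹) * a * (y⁻¹ * (d * x * d⁻¹))⁻¹
            = y⁻¹ * (d * (x * (d⁻¹ * a * d) * x⁻¹) * d⁻¹) * y := by group
          _ = y⁻¹ * (y * a * y⁻¹) * y := by rw [e3, hconj y hyS, hydet]
          _ = a := by group
    have h3 := mul_mem_sup hyS hcC
    rwa [mul_inv_cancel_left] at h3
  obtain ⟨w, hw⟩ := MulAction.exists_smul_eq ↥((S : Subgroup G) ⊔ C)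
    ((d • S).subtype (show ((d • S : Sylow p G) : Subgroup G) ≤ _ from hdS))
    (S.subtype (le_sup_left : (S : Subgroup G) ≤ (S : Subgroup G) ⊔ C))
  have hSwd : ((w : G) * d) • S = S := by
    rw [mul_smul]
    exact Sylow.subtype_injective ((Sylow.smul_subtype _ w).symm.trans hw)
  have hwd : (w : G) * d ∈ normalizer ((S : Subgroup G) : Set G) := Sylow.smul_eq_iff_mem_normalizer.1 hSwd
  have hwmem : (w : G) ∈ ((S : Subgroup G) : Set G) * (C : Set G) := by
    rw [← Subgroup.coe_mul_of_left_le_normalizer_right _ _ hSC]; exact w.2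
  obtain ⟨q, hq, c, hc, hqc⟩ := hwmem
  have hn : c * d ∈ normalizer ((S : Subgroup G) : Set G) := by
    have h4 := mul_mem (inv_mem (Subgroup.le_normalizer hq)) hwd
    rwa [← hqc, mul_assoc q, inv_mul_cancel_left] at h4
  obtain ⟨hcz, hca⟩ := hCmem.1 hc
  refine ⟨c * d, hn, ?_, F.det_mat hn ?_⟩
  · rw [F.mat_mulVec hn ha, show c * d * a * (c * d)⁻¹ = c * (d * a * d⁻¹) * c⁻¹ by group, hda, pw_conj, hca,
      F.c_pw ha]
  · rw [show c * d * F.z * (c * d)⁻¹ = c * (d * F.z * d⁻¹) * c⁻¹ by group, hdz, pw_conj, hcz]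

end CfsgLib.LocalB.ExtraAut
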