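import Cfsg.Agent.Monster.ExtraBasics
import Mathlib.LinearAlgebra.GeneralLinearGroup.AlgEquiv
import Mathlib.LinearAlgebra.QuadraticForm.Basic
import Mathlib.Algebra.Central.End
import Mathlib.LinearAlgebra.FreeModule.Finite.Matrix

/-!
Extensions of an extraspecial 2-group of plus type realizing a group of isometries of its quotient
by the centre, inside the general linear group of its faithful representation over the field with
three elements.
-/

set_option autoImplicit false
set_option linter.style.haveILetI false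

namespace CfsgLib.ExtraOrth

open Finset

variable (n : ℕ)

/-- One Lagrangian. -/
abbrev Half : Type := Fin n → ZMod 2

/-- The quotient by the centre. -/
abbrev Pts : Type := Half n × Half n

/-- The representation space. -/
abbrev Rep : Type := Half n → ZMod 3

/-- The sign character. -/
def sgn (t : ZMod 2) : ZMod 3 := if t = 0 then 1 else -1

theorem sgn_zero : sgn 0 = 1 := rfl

theorem sgn_add (s t : ZMod 2) : sgn (s + t) = sgn s * sgn t := by revert s t; decide

theorem sgn_eq_one_iff (t : ZMod 2) : sgn t = 1 ↔ t = 0 := by revert t; decide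

theorem sgn_ne_zero (t : ZMod 2) : sgn t ≠ 0 := by revert t; decide

theorem sgn_mul_self (t : ZMod 2) : sgn t * sgn t = 1 := by revert t; decide

theorem sgn_injective : Function.Injective sgn := by unfold Function.Injective; decide

theorem sgn_surjective {c : ZMod 3} (hc : c ≠ 0) : ∃ t, sgn t = c := by revert c; decide

variable {n}

theorem two_cases (c : ZMod 2) : c = 0 ∨ c = 1 := by revert c; decide

/-- The cocycle. -/
def cocycle (u v : Pts n) : ZMod 2 := v.2 ⬝ᵥ u.1

/-- The operators. -/
def op (u : Pts n) : Module.End (ZMod 3) (Rep n) where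
  toFun f x := sgn (u.2 ⬝ᵥ x) * f (x + u.1)
  map_add' f g := by ext x; simp [mul_add]
  map_smul' c f := by ext x; simp [mul_left_comm]

theorem op_apply (u : Pts n) (f : Rep n) (x : Half n) : op u f x = sgn (u.2 ⬝ᵥ x) * f (x + u.1) := rfl

theorem op_mul (u v : Pts n) : op u * op v = sgn (cocycle u v) • op (u + v) := by
  refine LinearMap.ext fun f => funext fun x => ?_
  rw [Module.End.mul_apply, LinearMap.smul_apply, Pi.smul_apply, smul_eq_mul, op_apply, op_apply, op_apply,
    Prod.snd_add, Prod.fst_add, add_dotProduct, dotProduct_add, sgn_add, sgn_add, add_assoc, cocycle]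
  ring

theorem op_zero : op (0 : Pts n) = 1 := by
  refine LinearMap.ext fun f => funext fun x => ?_
  simp [op_apply, sgn_zero]

theorem sum_sgn_eq_zero {d : Half n} (hd : d ≠ 0) : ∑ x : Half n, sgn (d ⬝ᵥ x) = 0 := by
  obtain ⟨i, hi⟩ := Function.ne_iff.1 hd
  have hi1 : d i = 1 := by
    have : ∀ t : ZMod 2, t ≠ 0 → t = 1 := by decide
    exact this _ hi
  have e : ∀ x : Half n, sgn (d ⬝ᵥ (x + Pi.single i 1)) = -sgn (d ⬝ᵥ x) := fun x => by
    rw [dotProduct_add, dotProduct_single, hi1, one_mul]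
    have : ∀ a : ZMod 2, sgn (a + 1) = - sgn a := by decide
    exact this _
  have h := Equiv.sum_comp (Equiv.addRight (Pi.single i (1 : ZMod 2))) (fun x : Half n => sgn (d ⬝ᵥ x))
  simp only [Equiv.coe_addRight, e, Finset.sum_neg_distrib] at h
  revert h
  generalize ∑ x : Half n, sgn (d ⬝ᵥ x) = S
  revert S
  decide

theorem op_linearIndependent : LinearIndependent (ZMod 3) (op : Pts n → Module.End (ZMod 3) (Rep n)) := by
  rw [Fintype.linearIndependent_iff]
  rintro c hc ⟨a, b₀⟩
  have hx : ∀ x : Half n, ∑ b : Half n, c (a, b) * sgn (b ⬝ᵥ x) = 0 := by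
    intro x
    have h := congrFun (LinearMap.congr_fun hc (Pi.single (x + a) 1)) x
    simp only [LinearMap.coe_sum, Finset.sum_apply, LinearMap.smul_apply, Pi.smul_apply, smul_eq_mul, op_apply,
      LinearMap.zero_apply, Pi.zero_apply] at h
    rw [Fintype.sum_prod_type, Finset.sum_eq_single a] at h
    · simpa using h
    · intro a' _ ha'
      refine Finset.sum_eq_zero fun b _ => ?_
      rw [Pi.single_eq_of_ne (fun e => ha' (add_left_cancel e)), mul_zero, mul_zero]
    · exact fun h' => absurd (Finset.mem_univ a) h'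
  have h : ∑ x : Half n, sgn (b₀ ⬝ᵥ x) * ∑ b : Half n, c (a, b) * sgn (b ⬝ᵥ x) = 0 :=
    Finset.sum_eq_zero fun x _ => by rw [hx, mul_zero]
  simp only [Finset.mul_sum] at h
  rw [Finset.sum_comm, Finset.sum_eq_single b₀] at h
  · have e : ∀ x : Half n, sgn (b₀ ⬝ᵥ x) * (c (a, b₀) * sgn (b₀ ⬝ᵥ x)) = c (a, b₀) := fun x => by
      rw [mul_left_comm, sgn_mul_self, mul_one]
    rw [Finset.sum_congr rfl fun x _ => e x, Finset.sum_const, Finset.card_univ, nsmul_eq_mul] at h
    refine (mul_eq_zero.1 h).resolve_left ?_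
    rw [Fintype.card_fun, ZMod.card, Fintype.card_fin, Nat.cast_pow]
    exact pow_ne_zero _ (by decide)
  · intro b _ hb
    have e : ∀ x : Half n, sgn (b₀ ⬝ᵥ x) * (c (a, b) * sgn (b ⬝ᵥ x)) = c (a, b) * sgn ((b₀ + b) ⬝ᵥ x) := fun x => by
      rw [add_dotProduct, sgn_add]; ring
    rw [Finset.sum_congr rfl fun x _ => e x, ← Finset.mul_sum, sum_sgn_eq_zero, mul_zero]
    intro h'
    refine hb (funext fun i => ?_)
    have h2 : ∀ s t : ZMod 2, s + t = 0 → t = s := by decide
    exact h2 _ _ (congrFun h' i)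
  · exact fun h' => absurd (Finset.mem_univ b₀) h'

theorem op_span : Submodule.span (ZMod 3) (Set.range (op : Pts n → Module.End (ZMod 3) (Rep n))) = ⊤ := by
  refine op_linearIndependent.span_eq_top_of_card_eq_finrank' ?_
  rw [Fintype.card_prod, Module.finrank_linearMap, Module.finrank_pi]

theorem op_eq_smul {u v : Pts n} {c : ZMod 3} (h : op u = c • op v) : u = v := by
  by_contra hne
  classical
  have h2 := (Fintype.linearIndependent_iff.1 (op_linearIndependent (n := n)))
    (fun w => (if w = u then 1 else 0) - (if w = v then c else 0)) (by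
      simp only [sub_smul, ite_smul, one_smul, zero_smul, Finset.sum_sub_distrib, Finset.sum_ite_eq',
        Finset.mem_univ, if_true]
      rw [h, sub_self]) u
  simp [hne] at h2

theorem op_smul_eq {u v : Pts n} {s t : ZMod 2} (h : sgn s • op u = sgn t • op v) : u = v ∧ s = t := by
  have h1 : op u = (sgn s * sgn t) • op v := by
    rw [← smul_smul, ← h, smul_smul, sgn_mul_self, one_smul]
  obtain rfl := op_eq_smul h1
  refine ⟨rfl, sgn_injective ?_⟩
  have h2 : (sgn s - sgn t) • op u = 0 := (sub_smul (sgn s) (sgn t) (op u)).trans (sub_eq_zero.2 h)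
  rcases smul_eq_zero.1 h2 with h3 | h3
  · exact sub_eq_zero.1 h3
  · exact absurd h3 (op_linearIndependent.ne_zero u)

/-- An isometry of the standard form lifts to an automorphism of the algebra, hence to an operator. -/
theorem exists_intertwiner (g : Pts n ≃ₗ[ZMod 2] Pts n) (hg : ∀ u, (g u).2 ⬝ᵥ (g u).1 = u.2 ⬝ᵥ u.1) :
    ∃ T : (Module.End (ZMod 3) (Rep n))ˣ, ∀ u, ∃ s : ZMod 2,
      (T : Module.End (ZMod 3) (Rep n)) * op u = sgn s • (op (g u) * T) := by
  classical
  set δ : Pts n → Pts n → ZMod 2 := fun u v => cocycle (g u) (g v) - cocycle u v with hδ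
  have hdiag : ∀ u, δ u u = 0 := fun u => sub_eq_zero.2 (hg u)
  have hl : ∀ u u' v, δ (u + u') v = δ u v + δ u' v := fun u u' v => by
    simp only [hδ, cocycle, map_add, Prod.fst_add, dotProduct_add]; ring
  have hr : ∀ u v v', δ u (v + v') = δ u v + δ u v' := fun u v v' => by
    simp only [hδ, cocycle, map_add, Prod.snd_add, add_dotProduct]; ring
  have hsymm : ∀ u v, δ u v = δ v u := fun u v => by
    have h := hdiag (u + v)
    rw [hl, hr, hr, hdiag, hdiag] at h
    have h2 : ∀ a b : ZMod 2, 0 + a + (b + 0) = 0 → a = b := by decide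
    exact h2 _ _ h
  -- a function with that coboundary
  set β : LinearMap.BilinForm (ZMod 2) (Pts n) := LinearMap.mk₂ (ZMod 2) δ hl
    (fun c u v => by rcases two_cases c with rfl | rfl <;> simp [hδ, cocycle]) hr
    (fun c u v => by rcases two_cases c with rfl | rfl <;> simp [hδ, cocycle])
  have hγ : ∃ γ : Pts n → ZMod 2, ∀ u v, δ u v = γ (u + v) - γ u - γ v := by
    obtain ⟨m, bas⟩ : ∃ m, Nonempty (Module.Basis (Fin m) (ZMod 2) (Pts n)) :=
      ⟨_, ⟨Module.finBasis (ZMod 2) (Pts n)⟩⟩
    obtain ⟨bas⟩ := bas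
    refine ⟨fun u => ∑ i, ∑ j, if i < j then bas.repr u i * bas.repr u j * δ (bas i) (bas j) else 0, fun u v => ?_⟩
    have h1 : δ u v = ∑ i, ∑ j, bas.repr u i * bas.repr v j * δ (bas i) (bas j) := by
      have h := LinearMap.BilinForm.sum_repr_mul_repr_mul (B := β) bas u v
      show β u v = _
      rw [← h, Finsupp.sum_fintype _ _ (by simp)]
      refine Finset.sum_congr rfl fun i _ => ?_
      rw [Finsupp.sum_fintype _ _ (by simp)]
      exact Finset.sum_congr rfl fun j _ => by simp [β, mul_assoc]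
    rw [h1]
    simp only [map_add, Finsupp.add_apply, ← Finset.sum_sub_distrib]
    have hswap : ∀ (F : Fin m → Fin m → ZMod 2), (∀ i, F i i = 0) → ∑ i, ∑ j, F i j =
        ∑ i, ∑ j, if i < j then F i j + F j i else 0 := by
      intro F hF
      have e : ∀ i j : Fin m, F i j = (if i < j then F i j else 0) + (if j < i then F i j else 0) := fun i j => by
        rcases lt_trichotomy i j with h | h | h
        · simp [h, h.asymm]
        · subst h; simp [hF]
        · simp [h, h.asymm]
      conv_lhs => enter [2, i, 2, j]; rw [e i j]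
      simp only [Finset.sum_add_distrib]
      conv_lhs => arg 2; rw [Finset.sum_comm]
      simp only [← Finset.sum_add_distrib]
      refine Finset.sum_congr rfl fun i _ => Finset.sum_congr rfl fun j _ => ?_
      by_cases h : i < j <;> simp [h]
    rw [hswap _ (fun i => by simp [hdiag])]
    refine Finset.sum_congr rfl fun i _ => Finset.sum_congr rfl fun j _ => ?_
    by_cases h : i < j
    · simp only [if_pos h, hsymm (bas j) (bas i)]
      ring
    · simp [h]
  obtain ⟨γ, hγ⟩ := hγ
  let bE : Module.Basis (Pts n) (ZMod 3) (Module.End (ZMod 3) (Rep n)) :=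
    Module.Basis.mk op_linearIndependent op_span.ge
  have hbE : ∀ u, bE u = op u := fun u => Module.Basis.mk_apply _ _ u
  set Φ : Module.End (ZMod 3) (Rep n) →ₗ[ZMod 3] Module.End (ZMod 3) (Rep n) :=
    bE.constr (ZMod 3) fun u => sgn (γ u) • op (g u) with hΦ
  have hΦu : ∀ u, Φ (op u) = sgn (γ u) • op (g u) := fun u => by rw [hΦ, ← hbE, Module.Basis.constr_basis]
  have hmul : ∀ X Y, Φ (X * Y) = Φ X * Φ Y := by
    have h : (LinearMap.mul (ZMod 3) (Module.End (ZMod 3) (Rep n))).compr₂ Φ =
        (LinearMap.mul (ZMod 3) (Module.End (ZMod 3) (Rep n))).compl₁₂ Φ Φ := by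
      refine bE.ext fun u => bE.ext fun v => ?_
      simp only [LinearMap.compr₂_apply, LinearMap.compl₁₂_apply, LinearMap.mul_apply', hbE]
      rw [op_mul, map_smul, hΦu, hΦu, hΦu, smul_mul_smul_comm, op_mul, ← map_add g, smul_smul, smul_smul,
        ← sgn_add, ← sgn_add, ← sgn_add]
      congr 2
      have := hγ u v
      simp only [hδ] at this
      have h2 : ∀ a b c d e : ZMod 2, a - b = c - d - e → b + c = d + e + a := by decide
      exact h2 _ _ _ _ _ this
    exact fun X Y => LinearMap.congr_fun (LinearMap.congr_fun h X) Y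
  have hγ0 : γ 0 = 0 := by
    have h := hγ 0 0
    rw [hdiag, add_zero] at h
    have h2 : ∀ a : ZMod 2, 0 = a - a - a → a = 0 := by decide
    exact h2 _ h
  have hone : Φ 1 = 1 := by rw [← op_zero, hΦu, map_zero, hγ0, sgn_zero, one_smul]
  have hsurj : Function.Surjective Φ := by
    rw [← LinearMap.range_eq_top, eq_top_iff, ← op_span, Submodule.span_le]
    rintro _ ⟨v, rfl⟩
    refine ⟨sgn (γ (g.symm v)) • op (g.symm v), ?_⟩
    rw [map_smul, hΦu, g.apply_symm_apply, smul_smul, sgn_mul_self, one_smul]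
  let A := AlgEquiv.ofBijective (AlgHom.ofLinearMap Φ hone hmul)
    ⟨LinearMap.injective_iff_surjective.2 hsurj, hsurj⟩
  obtain ⟨T, hT⟩ := A.eq_linearEquivConjAlgEquiv
  refine ⟨LinearMap.GeneralLinearGroup.ofLinearEquiv T, fun u => ⟨γ u, ?_⟩⟩
  have h := AlgEquiv.congr_fun hT (op u)
  rw [LinearEquiv.conjAlgEquiv_apply] at h
  have h2 : A (op u) = sgn (γ u) • op (g u) := hΦu u
  rw [h2] at h
  rw [← smul_mul_assoc, h]
  refine LinearMap.ext fun f => ?_
  show T (op u f) = T (op u (T.symm (T f)))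
  rw [LinearEquiv.symm_apply_apply]

/-- Hyperbolic coordinates for a form of plus type. -/
theorem exists_coords {U : Type*} [AddCommGroup U] [Module (ZMod 2) U] [Module.Finite (ZMod 2) U]
    (hn : Module.finrank (ZMod 2) U = 2 * n) (q : QuadraticForm (ZMod 2) U)
    (hnd : (QuadraticMap.polarBilin q).Nondegenerate)
    (hplus : ∃ W : Submodule (ZMod 2) U, Module.finrank (ZMod 2) ↥W = n ∧ ∀ w ∈ W, q w = 0) :
    ∃ e : Pts n ≃ₗ[ZMod 2] U, ∀ u, q (e u) = u.2 ⬝ᵥ u.1 := by
  classical
  obtain ⟨W, hW, hqW⟩ := hplus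
  let w := Module.finBasisOfFinrankEq (ZMod 2) W hW
  set B := QuadraticMap.polarBilin q with hB
  have hBp : ∀ x y, q (x + y) = q x + q y + B x y := fun x y => by
    rw [hB, QuadraticMap.polarBilin_apply_apply, QuadraticMap.polar]; ring
  have hBs : ∀ x y, B x y = B y x := fun x y => by
    rw [hB, QuadraticMap.polarBilin_apply_apply, QuadraticMap.polarBilin_apply_apply, QuadraticMap.polar_comm]
  have hww : ∀ x ∈ W, ∀ y ∈ W, B x y = 0 := fun x hx y hy => by
    have h := hBp x y
    rw [hqW x hx, hqW y hy, hqW _ (W.add_mem hx hy)] at h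
    simpa using h.symm
  set Φ : U →ₗ[ZMod 2] Half n := LinearMap.pi fun i => B.flip (w i : U)
  have hΦ : ∀ u i, Φ u i = B u (w i) := fun u i => rfl
  have hΦs : Function.Surjective Φ := by
    rw [← LinearMap.dualMap_injective_iff, injective_iff_map_eq_zero]
    intro l hl
    refine LinearMap.ext fun x => ?_
    have hsum : ∑ i, l (Pi.single i 1) • (w i : U) = 0 := by
      refine hnd.2 _ fun u => ?_
      have h1 := LinearMap.congr_fun hl u
      rw [LinearMap.dualMap_apply, LinearMap.pi_apply_eq_sum_univ l (Φ u), LinearMap.zero_apply] at h1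
      rw [map_sum]
      rw [← h1]
      refine Finset.sum_congr rfl fun i _ => ?_
      rw [map_smul, hΦ, smul_eq_mul, smul_eq_mul, mul_comm]
      congr 1
      congr 1
      ext j
      simp [Pi.single_apply, eq_comm]
    have hli := (w.linearIndependent.map' W.subtype W.ker_subtype)
    have h0 := Fintype.linearIndependent_iff.1 hli (fun i => l (Pi.single i 1)) hsum
    rw [LinearMap.pi_apply_eq_sum_univ l x, LinearMap.zero_apply]
    refine Finset.sum_eq_zero fun i _ => ?_
    have : (fun j => if i = j then (1 : ZMod 2) else 0) = Pi.single i 1 := by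
      ext j; simp [Pi.single_apply, eq_comm]
    rw [this, h0 i, smul_zero]
  choose c hc using fun i => hΦs (Pi.single i 1)
  have hcw : ∀ i j, B (c i) (w j) = if j = i then 1 else 0 := fun i j => by
    rw [← hΦ, hc, Pi.single_apply]
  set φ : Fin n → U := fun i => q (c i) • (w i : U) + ∑ j ∈ Finset.univ.filter (· < i), B (c i) (c j) • (w j : U)
  have hφW : ∀ i, φ i ∈ W := fun i =>
    W.add_mem (W.smul_mem _ (w i).2) (W.sum_mem fun j _ => W.smul_mem _ (w j).2)
  have hBφ : ∀ k i, B (c k) (φ i) = (if i = k then q (c i) else 0) + if k < i then B (c i) (c k) else 0 := by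
    intro k i
    simp only [φ, map_add, map_smul, map_sum, smul_eq_mul, hcw, mul_ite, mul_one, mul_zero]
    rw [Finset.sum_ite_eq']
    simp
  set d : Fin n → U := fun i => c i + φ i
  have hdw : ∀ i j, B (d i) (w j) = if j = i then 1 else 0 := fun i j => by
    simp only [d, map_add, LinearMap.add_apply, hcw, hww _ (hφW i) _ (w j).2, add_zero]
  have h2 : ∀ a : ZMod 2, a + a = 0 := by decide
  have hdq : ∀ i, q (d i) = 0 := fun i => by
    simp only [d, hBp, hqW _ (hφW i), add_zero, hBφ, if_true, lt_irrefl, if_false, h2]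
  have hdd : ∀ i k, k < i → B (d i) (d k) = 0 := fun i k hk => by
    simp only [d, map_add, LinearMap.add_apply, hww _ (hφW i) _ (hφW k), add_zero]
    rw [hBs (φ i) (c k), hBφ, hBφ, if_neg hk.ne', if_neg hk.ne, if_pos hk, if_neg hk.asymm]
    simp [h2]
  have hdd' : ∀ i k, i ≠ k → B (d i) (d k) = 0 := fun i k hik => by
    rcases lt_or_gt_of_ne hik with h | h
    · rw [hBs]; exact hdd k i h
    · exact hdd i k h
  let e₀ : Pts n →ₗ[ZMod 2] U :=
    (Fintype.linearCombination (ZMod 2) d).coprod (Fintype.linearCombination (ZMod 2) fun i => (w i : U))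
  have he₀ : ∀ u : Pts n, e₀ u = (∑ i, u.1 i • d i) + ∑ i, u.2 i • (w i : U) := fun u => rfl
  have hBsum : ∀ (a : Half n) k, B (∑ i, a i • d i) (w k) = a k := fun a k => by
    simp [map_sum, LinearMap.sum_apply, hdw]
  have hinj : Function.Injective e₀ := by
    rw [injective_iff_map_eq_zero]
    rintro ⟨a, b⟩ h
    rw [he₀] at h
    have hv : ∑ i, b i • (w i : U) ∈ W := W.sum_mem fun i _ => W.smul_mem _ (w i).2
    have ha : a = 0 := funext fun k => by
      have h1 := congrArg (fun x => B x (w k)) h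
      simp only [map_add, LinearMap.add_apply, hBsum, hww _ hv _ (w k).2, add_zero, map_zero, LinearMap.zero_apply] at h1
      exact h1
    subst ha
    have hb : b = 0 := funext fun k => by
      simp only [Pi.zero_apply, zero_smul, Finset.sum_const_zero, zero_add] at h
      exact Fintype.linearIndependent_iff.1 (w.linearIndependent.map' W.subtype W.ker_subtype) b h k
    rw [hb]
    rfl
  refine ⟨LinearEquiv.ofBijective e₀ ⟨hinj, ?_⟩, fun u => ?_⟩
  · refine (LinearMap.injective_iff_surjective_of_finrank_eq_finrank ?_).1 hinj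
    rw [Module.finrank_prod, Module.finrank_pi, Fintype.card_fin, hn, two_mul]
  · show q (e₀ u) = _
    rw [he₀, hBp, hqW _ (W.sum_mem fun i _ => W.smul_mem _ (w i).2), add_zero]
    have hq0 : ∀ s : Finset (Fin n), q (∑ i ∈ s, u.1 i • d i) = 0 := by
      intro s
      induction s using Finset.induction_on with
      | empty => simp
      | @insert a s ha ih =>
        rw [Finset.sum_insert ha, hBp, ih, QuadraticMap.map_smul, hdq, smul_zero, zero_add, zero_add, map_sum]
        exact Finset.sum_eq_zero fun i hi => by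
          simp [hdd' a i (fun e => ha (e ▸ hi))]
    rw [hq0, zero_add]
    simp [map_sum, LinearMap.sum_apply, hdw, dotProduct, mul_comm]

/-- The extension. -/
theorem exists_extension {K : Type*} [Group K] {U : Type*} [AddCommGroup U] [Module (ZMod 2) U]
    [Module.Finite (ZMod 2) U] (hn1 : 1 ≤ n) (hn : Module.finrank (ZMod 2) U = 2 * n)
    (ρ : Representation (ZMod 2) K U) (hρ : Function.Injective ρ) (q : QuadraticForm (ZMod 2) U)
    (hq : ∀ (k : K) (u : U), q (ρ k u) = q u) (hnd : (QuadraticMap.polarBilin q).Nondegenerate)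
    (hplus : ∃ W : Submodule (ZMod 2) U, Module.finrank (ZMod 2) ↥W = n ∧ ∀ w ∈ W, q w = 0) :
    ∃ (R : Type) (_ : Group R) (_ : Finite R) (Q : Subgroup R) (hN : Q.Normal) (e : R ⧸ Q ≃* K)
      (χ : ↥Q →* Multiplicative U), Cfsg.IsExtraspecial 2 ↥Q ∧ Nat.card ↥Q = 2 ^ (2 * n + 1) ∧
      Function.Surjective χ ∧ χ.ker = Subgroup.center ↥Q ∧
      (∀ (r : R) (a : ↥Q), χ ⟨r * a * r⁻¹, hN.conj_mem (a : R) a.2 r⟩ =
        Multiplicative.ofAdd (ρ (e (r : R ⧸ Q)) (Multiplicative.toAdd (χ a)))) ∧
      ∀ a : ↥Q, a * a = 1 ↔ q (Multiplicative.toAdd (χ a)) = 0 := by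
  classical
  obtain ⟨ec, hec⟩ := exists_coords hn q hnd hplus
  set act : K → Pts n → Pts n := fun k u => ec.symm (ρ k (ec u)) with hact
  have hactmul : ∀ k k' u, act (k * k') u = act k (act k' u) := fun k k' u => by
    simp [hact, map_mul, Module.End.mul_apply]
  have hactone : ∀ u, act 1 u = u := fun u => by simp [hact]
  have hactinj : ∀ k k', (∀ u, act k u = act k' u) → k = k' := fun k k' h => hρ (LinearMap.ext fun u => by
    have := h (ec.symm u)
    simpa [hact] using this)
  let R₀ : Subgroup (Module.End (ZMod 3) (Rep n))ˣ :=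
    { carrier := {g | ∃ k : K, ∀ u, ∃ s : ZMod 2,
        (g : Module.End (ZMod 3) (Rep n)) * op u = sgn s • (op (act k u) * g)}
      one_mem' := ⟨1, fun u => ⟨0, by simp [hactone, sgn_zero]⟩⟩
      mul_mem' := by
        rintro a b ⟨k, hk⟩ ⟨k', hk'⟩
        refine ⟨k * k', fun u => ?_⟩
        obtain ⟨s, hs⟩ := hk' u
        obtain ⟨t, ht⟩ := hk (act k' u)
        refine ⟨s + t, ?_⟩
        rw [Units.val_mul, mul_assoc, hs, mul_smul_comm, ← mul_assoc, ht, smul_mul_assoc, smul_smul, ← sgn_add,
          mul_assoc, hactmul]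
      inv_mem' := by
        rintro a ⟨k, hk⟩
        refine ⟨k⁻¹, fun u => ?_⟩
        obtain ⟨s, hs⟩ := hk (act k⁻¹ u)
        rw [← hactmul, mul_inv_cancel, hactone] at hs
        refine ⟨s, ?_⟩
        have h := congrArg (fun X => (↑a⁻¹ : Module.End (ZMod 3) (Rep n)) * X * ↑a⁻¹) hs
        simp only [mul_smul_comm, smul_mul_assoc, mul_assoc, Units.mul_inv, mul_one] at h
        rw [← mul_assoc, Units.inv_mul, one_mul] at h
        rw [h, smul_smul, sgn_mul_self, one_smul] }
  choose kOf hkOf using fun r : R₀ => r.2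
  have kuniq : ∀ (r : R₀) (k : K), (∀ u, ∃ s : ZMod 2, ((r : (Module.End (ZMod 3) (Rep n))ˣ) :
      Module.End (ZMod 3) (Rep n)) * op u = sgn s • (op (act k u) * (r : (Module.End (ZMod 3) (Rep n))ˣ))) →
      k = kOf r := by
    intro r k h
    refine hactinj _ _ fun u => ?_
    obtain ⟨s, hs⟩ := h u
    obtain ⟨t, ht⟩ := hkOf r u
    rw [hs, ← smul_mul_assoc, ← smul_mul_assoc] at ht
    exact (op_smul_eq ((r : (Module.End (ZMod 3) (Rep n))ˣ).isUnit.mul_left_injective ht)).1
  let π : R₀ →* K := MonoidHom.mk' kOf (fun a b => (kuniq (a * b) (kOf a * kOf b) fun u => by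
    obtain ⟨s, hs⟩ := hkOf b u
    obtain ⟨t, ht⟩ := hkOf a (act (kOf b) u)
    refine ⟨s + t, ?_⟩
    rw [Subgroup.coe_mul, Units.val_mul, mul_assoc, hs, mul_smul_comm, ← mul_assoc, ht, smul_mul_assoc,
      smul_smul, ← sgn_add, mul_assoc, hactmul]).symm)
  have hπ : ∀ r, π r = kOf r := fun r => rfl
  have hπs : Function.Surjective π := by
    intro k
    let g : Pts n ≃ₗ[ZMod 2] Pts n :=
      LinearEquiv.ofLinear (ec.symm.toLinearMap ∘ₗ ρ k ∘ₗ ec.toLinearMap)
        (ec.symm.toLinearMap ∘ₗ ρ k⁻¹ ∘ₗ ec.toLinearMap)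
        (LinearMap.ext fun u => by
          show act k (act k⁻¹ u) = u
          rw [← hactmul, mul_inv_cancel, hactone])
        (LinearMap.ext fun u => by
          show act k⁻¹ (act k u) = u
          rw [← hactmul, inv_mul_cancel, hactone])
    obtain ⟨T, hT⟩ := exists_intertwiner g fun u => by
      rw [← hec, ← hec]
      show q (ec (ec.symm (ρ k (ec u)))) = _
      rw [ec.apply_symm_apply, hq]
    exact ⟨⟨T, k, hT⟩, (kuniq ⟨T, k, hT⟩ k hT).symm⟩
  -- the signed operators
  have h2 : ∀ a : ZMod 2, a + a = 0 := by decide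
  have hvv : ∀ v : Pts n, v + v = 0 := fun v => Prod.ext (funext fun i => h2 _) (funext fun i => h2 _)
  have hopunit : ∀ (t : ZMod 2) (v : Pts n), IsUnit (sgn t • op v) := fun t v => by
    refine ⟨⟨sgn t • op v, sgn (t + cocycle v v) • op v, ?_, ?_⟩, rfl⟩
    · rw [smul_mul_smul_comm, op_mul, smul_smul, hvv, op_zero, ← sgn_add, ← sgn_add,
        (show ∀ a b : ZMod 2, a + (a + b) + b = 0 by decide), sgn_zero, one_smul]
    · rw [smul_mul_smul_comm, op_mul, smul_smul, hvv, op_zero, ← sgn_add, ← sgn_add,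
        (show ∀ a b : ZMod 2, a + b + a + b = 0 by decide), sgn_zero, one_smul]
  have hmemR : ∀ (t : ZMod 2) (v : Pts n), ∃ r : R₀, ((r : (Module.End (ZMod 3) (Rep n))ˣ) :
      Module.End (ZMod 3) (Rep n)) = sgn t • op v ∧ π r = 1 := by
    intro t v
    obtain ⟨w, hw⟩ := hopunit t v
    have h : ∀ u, ∃ s : ZMod 2, (w : Module.End (ZMod 3) (Rep n)) * op u = sgn s • (op (act 1 u) * w) := by
      intro u
      refine ⟨cocycle v u + cocycle u v, ?_⟩
      rw [hw, hactone, smul_mul_assoc, mul_smul_comm, op_mul, op_mul, smul_smul, smul_smul, smul_smul, add_comm u v,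
        ← sgn_add, ← sgn_add, ← sgn_add]
      congr 2
      have h4 : ∀ a b c : ZMod 2, c + a = a + b + c + b := by decide
      exact h4 _ _ _
    exact ⟨⟨w, 1, h⟩, hw, (kuniq ⟨w, 1, h⟩ 1 h).symm⟩
  have hker : ∀ r : π.ker, ∃ (t : ZMod 2) (v : Pts n), (((r : R₀) : (Module.End (ZMod 3) (Rep n))ˣ) :
      Module.End (ZMod 3) (Rep n)) = sgn t • op v := by
    rintro ⟨r, hr⟩
    set g : Module.End (ZMod 3) (Rep n) := ((r : (Module.End (ZMod 3) (Rep n))ˣ) : Module.End (ZMod 3) (Rep n)) with hg
    have hr1 : kOf r = 1 := hr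
    have hex : ∀ u, ∃ s : ZMod 2, g * op u = sgn s • (op u * g) := fun u => by
      obtain ⟨s, hs⟩ := hkOf r u
      rw [hr1, hactone] at hs
      exact ⟨s, hs⟩
    choose s hs using hex
    have hgu : IsUnit g := (r : (Module.End (ZMod 3) (Rep n))ˣ).isUnit
    have hadd : ∀ u u', s (u + u') = s u + s u' := by
      intro u u'
      have h1 : g * (op u * op u') = sgn (s u + s u') • ((op u * op u') * g) := by
        rw [← mul_assoc, hs, smul_mul_assoc, mul_assoc, hs, mul_smul_comm, smul_smul, ← sgn_add, mul_assoc]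
      rw [op_mul, mul_smul_comm, hs, smul_mul_assoc, smul_smul, smul_smul, ← smul_mul_assoc, ← smul_mul_assoc] at h1
      have h3 := (op_smul_eq (u := u + u') (v := u + u')
        (s := s (u + u') + cocycle u u') (t := s u + s u' + cocycle u u') ?_).2
      · exact add_right_cancel h3
      · rw [sgn_add, sgn_add (s u + s u'), mul_comm (sgn (s (u + u')))]
        exact hgu.mul_left_injective h1
    let sl : Pts n →ₗ[ZMod 2] ZMod 2 := (AddMonoidHom.mk' s hadd).toZModLinearMap 2
    set v : Pts n := (fun i => sl (0, Pi.single i 1), fun i => sl (Pi.single i 1, 0)) with hv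
    have hsv : ∀ u : Pts n, s u = cocycle v u + cocycle u v := by
      intro u
      have e : ∀ (l : Half n →ₗ[ZMod 2] ZMod 2) (x : Half n), l x = x ⬝ᵥ fun i => l (Pi.single i 1) := fun l x => by
        rw [LinearMap.pi_apply_eq_sum_univ l x]
        refine Finset.sum_congr rfl fun i _ => ?_
        rw [smul_eq_mul]
        congr 2
        ext j; simp [Pi.single_apply, eq_comm]
      have e2 : s u = sl (u.1, 0) + sl (0, u.2) := by
        rw [← map_add, Prod.mk_add_mk, add_zero, zero_add]; rfl
      rw [e2, show sl (u.1, 0) = (sl ∘ₗ LinearMap.inl (ZMod 2) (Half n) (Half n)) u.1 from rfl,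
        show sl (0, u.2) = (sl ∘ₗ LinearMap.inr (ZMod 2) (Half n) (Half n)) u.2 from rfl, e, e, add_comm]
      simp only [cocycle, hv]
      rw [dotProduct_comm u.1]
      rfl
    obtain ⟨w, hw⟩ := hopunit 0 v
    rw [sgn_zero, one_smul] at hw
    have hcent : g * op v ∈ Subalgebra.center (ZMod 3) (Module.End (ZMod 3) (Rep n)) := by
      rw [Subalgebra.mem_center_iff]
      have hcomm : ∀ u, op u * (g * op v) = (g * op v) * op u := by
        intro u
        have h1 : op v * op u = sgn (s u) • (op u * op v) := by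
          rw [op_mul, op_mul, smul_smul, add_comm u v, ← sgn_add, hsv]
          congr 2
          have h4 : ∀ a b : ZMod 2, a = a + b + b := by decide
          exact h4 _ _
        rw [mul_assoc g, h1, mul_smul_comm, ← mul_assoc g (op u), hs u, smul_mul_assoc, smul_smul, sgn_mul_self,
          one_smul, mul_assoc]
      intro X
      have hX : X ∈ Submodule.span (ZMod 3) (Set.range (op : Pts n → Module.End (ZMod 3) (Rep n))) :=
        op_span ▸ Submodule.mem_top
      induction hX using Submodule.span_induction with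
      | mem y hy => obtain ⟨u, rfl⟩ := hy; exact hcomm u
      | zero => rw [zero_mul, mul_zero]
      | add y z _ _ hy hz => rw [add_mul, mul_add, hy, hz]
      | smul c y _ hy => rw [smul_mul_assoc, mul_smul_comm, hy]
    rw [Algebra.IsCentral.center_eq_bot, Algebra.mem_bot] at hcent
    obtain ⟨c, hc⟩ := hcent
    rw [Algebra.algebraMap_eq_smul_one] at hc
    have hgv : g = (c * sgn (cocycle v v)) • op v := by
      have h5 : g * op v * op v = c • op v := by rw [← hc, smul_mul_assoc, one_mul]
      rw [mul_assoc, op_mul, hvv, op_zero, mul_smul_comm, mul_one] at h5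
      rw [mul_comm, ← smul_smul, ← h5, smul_smul, sgn_mul_self, one_smul]
    have hc0 : c * sgn (cocycle v v) ≠ 0 := fun e => by
      rw [e, zero_smul] at hgv
      exact hgu.ne_zero hgv
    obtain ⟨t, ht⟩ := sgn_surjective hc0
    exact ⟨t, v, by rw [ht]; exact hgv⟩
  choose tOf vOf hvOf using hker
  have huniq : ∀ (r : π.ker) t v, (((r : R₀) : (Module.End (ZMod 3) (Rep n))ˣ) :
      Module.End (ZMod 3) (Rep n)) = sgn t • op v → vOf r = v ∧ tOf r = t := fun r t v h =>
    op_smul_eq ((hvOf r).symm.trans h)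
  have hval : ∀ a b : π.ker, vOf (a * b) = vOf a + vOf b ∧ tOf (a * b) = tOf a + tOf b + cocycle (vOf a) (vOf b) :=
    fun a b => huniq _ _ _ (by
      rw [Subgroup.coe_mul, Subgroup.coe_mul, Units.val_mul, hvOf a, hvOf b, smul_mul_smul_comm, op_mul, smul_smul,
        ← sgn_add, ← sgn_add])
  let χ : π.ker →* Multiplicative U := MonoidHom.mk' (fun a => Multiplicative.ofAdd (ec (vOf a))) fun a b => by
    rw [(hval a b).1, map_add, ofAdd_add]
  have hbij : Function.Bijective (fun a : π.ker => (tOf a, vOf a)) := by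
    refine ⟨fun a b h => ?_, fun ⟨t, v⟩ => ?_⟩
    · obtain ⟨ht, hv⟩ := Prod.ext_iff.1 h
      refine Subtype.ext (Subtype.ext (Units.ext ?_))
      rw [hvOf a, hvOf b]
      simp only at ht hv
      rw [ht, hv]
    · obtain ⟨r, hr, hr1⟩ := hmemR t v
      obtain ⟨h1, h3⟩ := huniq ⟨r, hr1⟩ t v hr
      exact ⟨⟨r, hr1⟩, Prod.ext h3 h1⟩
  have hone : tOf 1 = 0 ∧ vOf 1 = 0 := by
    obtain ⟨h1, h3⟩ := huniq 1 0 0 (by simp [sgn_zero, op_zero])
    exact ⟨h3, h1⟩
  have hchi : ∀ a : π.ker, χ a = 1 ↔ vOf a = 0 := fun a => by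
    show Multiplicative.ofAdd (ec (vOf a)) = 1 ↔ _
    rw [ofAdd_eq_one, LinearEquiv.map_eq_zero_iff]
  have hcomm_iff : ∀ a b : π.ker, a * b = b * a ↔ cocycle (vOf a) (vOf b) = cocycle (vOf b) (vOf a) := by
    intro a b
    constructor
    · intro h
      have := (hval a b).2
      rw [h, (hval b a).2, add_comm (tOf b)] at this
      exact (add_left_cancel this).symm
    · intro h
      refine hbij.1 (Prod.ext ?_ ?_)
      · show tOf (a * b) = tOf (b * a)
        rw [(hval a b).2, (hval b a).2, h, add_comm (tOf a)]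
      · show vOf (a * b) = vOf (b * a)
        rw [(hval a b).1, (hval b a).1, add_comm]
  have hsurjv : ∀ v, ∃ a : π.ker, vOf a = v := fun v => by
    obtain ⟨a, ha⟩ := hbij.2 (0, v)
    exact ⟨a, congrArg Prod.snd ha⟩
  have hcen : ∀ a : π.ker, a ∈ Subgroup.center π.ker ↔ vOf a = 0 := by
    intro a
    constructor
    · intro h
      refine Prod.ext (funext fun i => ?_) (funext fun i => ?_)
      · obtain ⟨b, hb⟩ := hsurjv (0, Pi.single i 1)
        have := (hcomm_iff b a).1 (Subgroup.mem_center_iff.1 h b)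
        rw [hb] at this
        simpa [cocycle] using this.symm
      · obtain ⟨b, hb⟩ := hsurjv (Pi.single i 1, 0)
        have := (hcomm_iff b a).1 (Subgroup.mem_center_iff.1 h b)
        rw [hb] at this
        simpa [cocycle] using this
    · intro h
      refine Subgroup.mem_center_iff.2 fun b => (hcomm_iff b a).2 ?_
      simp [h, cocycle]
  have hcard : Nat.card π.ker = 2 ^ (2 * n + 1) := by
    rw [Nat.card_eq_of_bijective _ hbij, Nat.card_prod, Nat.card_prod, Nat.card_fun, Nat.card_zmod, Nat.card_fin]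
    ring
  haveI : Fact (Nat.Prime 2) := ⟨Nat.prime_two⟩
  haveI : Finite (Module.End (ZMod 3) (Rep n)) := Finite.of_injective _ DFunLike.coe_injective
  refine ⟨R₀, inferInstance, inferInstance, π.ker, inferInstance,
    QuotientGroup.quotientKerEquivOfSurjective π hπs, χ, ?_, hcard, ?_, ?_, ?_, ?_⟩
  · refine Monster.isExtraspecial_of (IsPGroup.of_card hcard) ?_ (fun a b => ?_) (fun a => ?_) ?_
    · have hb : Function.Bijective (fun a : Subgroup.center π.ker => tOf a) := by
        refine ⟨fun a b h => Subtype.ext (hbij.1 (Prod.ext h ?_)), fun t => ?_⟩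
        · show vOf a = vOf b
          rw [(hcen a).1 a.2, (hcen b).1 b.2]
        · obtain ⟨a, ha⟩ := hbij.2 (t, 0)
          exact ⟨⟨a, (hcen a).2 (congrArg Prod.snd ha)⟩, congrArg Prod.fst ha⟩
      rw [Nat.card_eq_of_bijective _ hb, Nat.card_zmod]
    · refine (hcen _).2 ((hchi _).1 ?_)
      simp only [map_mul, map_inv]
      rw [mul_comm (χ a) (χ b), mul_inv_cancel_right, mul_inv_cancel]
    · refine (hcen _).2 ?_
      rw [(hval a a).1, hvv]
    · have hne : NeZero n := ⟨by omega⟩
      obtain ⟨a, ha⟩ := hsurjv (Pi.single 0 1, 0)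
      obtain ⟨b, hb⟩ := hsurjv (0, Pi.single 0 1)
      refine ⟨a, b, fun h => ?_⟩
      have h1 := (hcomm_iff a b).1 h
      rw [ha, hb] at h1
      simp [cocycle] at h1
  · intro u
    obtain ⟨a, ha⟩ := hsurjv (ec.symm u.toAdd)
    exact ⟨a, show Multiplicative.ofAdd (ec (vOf a)) = u by simp [ha]⟩
  · ext a
    rw [MonoidHom.mem_ker, hchi, hcen]
  · intro r a
    have hconj : vOf ⟨r * a * r⁻¹, (inferInstance : π.ker.Normal).conj_mem (a : R₀) a.2 r⟩ = act (π r) (vOf a) := by
      obtain ⟨s, hs⟩ := hkOf r (vOf a)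
      refine (huniq _ (tOf a + s) _ ?_).1
      show ((r : (Module.End (ZMod 3) (Rep n))ˣ) : Module.End (ZMod 3) (Rep n)) * ((a : R₀) : (Module.End (ZMod 3) (Rep n))ˣ) * ((r : (Module.End (ZMod 3) (Rep n))ˣ)⁻¹ : (Module.End (ZMod 3) (Rep n))ˣ) = _
      rw [hvOf a, mul_smul_comm, hs, smul_smul, smul_mul_assoc, mul_assoc, Units.mul_inv, mul_one, sgn_add, hπ]
    show Multiplicative.ofAdd (ec (vOf _)) = _
    rw [hconj]
    congr 1
    show ec (ec.symm (ρ (π r) (ec (vOf a)))) = _
    rw [ec.apply_symm_apply]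
    rfl
  · intro a
    rw [show (Multiplicative.toAdd (χ a)) = ec (vOf a) from rfl, hec]
    constructor
    · intro h
      have h1 := (hval a a).2
      rw [h, hone.1, h2, zero_add] at h1
      exact h1.symm
    · intro h
      refine hbij.1 (Prod.ext ?_ ?_)
      · show tOf (a * a) = tOf 1
        rw [(hval a a).2, hone.1, h2, zero_add]
        exact h
      · show vOf (a * a) = vOf 1
        rw [(hval a a).1, hone.2, hvv]

end CfsgLib.ExtraOrth
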