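import Cfsg.Agent.LocalB.ExtraAutomizer
import Mathlib.FieldTheory.IsAlgClosed.AlgebraicClosure
import Mathlib.GroupTheory.PGroup

/-!
The points of the projective line attached to the maximal subgroups of an extraspecial Sylow subgroup
of order `p³` with automizer containing `SL₂(p)`.
-/

set_option autoImplicit false

namespace CfsgLib.LocalB.ExtraAut

open Matrix Subgroup CfsgLib.Dickson

variable {G : Type*} [Group G] [Finite G] {p : ℕ} [Fact p.Prime]

theorem isComm_of_card_dvd_sq {H : Subgroup G} (hH : Nat.card H ∣ p ^ 2) (x y : G) (hx : x ∈ H) (hy : y ∈ H) :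
    x * y = y * x := by
  obtain ⟨i, hi, he⟩ := (Nat.dvd_prime_pow (Fact.out : p.Prime)).1 hH
  suffices h : ∀ a b : H, a * b = b * a from congrArg Subtype.val (h ⟨x, hx⟩ ⟨y, hy⟩)
  interval_cases i
  · intro a b
    have := (Nat.card_eq_one_iff_unique.1 (he.trans (pow_zero p))).1
    exact Subsingleton.elim _ _
  · haveI := isCyclic_of_prime_card (he.trans (pow_one p))
    exact fun a b => (IsCyclic.commutative (α := H)).is_comm.comm a b
  · exact IsPGroup.commutative_of_card_eq_prime_sq he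

/-- The coordinate system exists. -/
theorem exists_frame (S : Sylow p G) (hE : Cfsg.IsExtraspecial p ↥S) (hcard : Nat.card S = p ^ 3)
    (hexp : Monoid.exponent ↥S = p) : Nonempty (Frame (S : Subgroup G) p) := by
  classical
  have hpp : p.Prime := Fact.out
  set P := (S : Subgroup G)
  have hx : ∀ x ∈ P, x ^ p = 1 := fun x hx => by
    have := Monoid.pow_exponent_eq_one (⟨x, hx⟩ : ↥S)
    rw [hexp] at this
    exact congrArg Subtype.val this
  obtain ⟨a0, ha0, b0, hb0, hne⟩ : ∃ a ∈ P, ∃ b ∈ P, a * b ≠ b * a := by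
    by_contra h
    push Not at h
    have : Subgroup.center ↥S = ⊤ := eq_top_iff.2 fun x _ =>
      Subgroup.mem_center_iff.2 fun y => Subtype.ext (h y y.2 x x.2)
    have h2 := hE.2
    rw [this, Subgroup.card_top] at h2
    exact absurd (hcard.symm.trans h2) (Nat.ne_of_gt (by simpa using Nat.pow_lt_pow_right hpp.one_lt (by norm_num : 1 < 3)))
  set z := a0 * b0 * a0⁻¹ * b0⁻¹ with hz
  have hzP : z ∈ P := P.mul_mem (P.mul_mem (P.mul_mem ha0 hb0) (P.inv_mem ha0)) (P.inv_mem hb0)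
  have hz1 : z ≠ 1 := fun h => hne (by rwa [hz, mul_inv_eq_one, mul_inv_eq_iff_eq_mul] at h)
  -- the centre is the commutator subgroup
  have hcen : ∀ x ∈ P, ∀ y ∈ P, ∀ (hm : x * y * x⁻¹ * y⁻¹ ∈ P), (⟨_, hm⟩ : ↥S) ∈ Subgroup.center ↥S := by
    intro x hx y hy hm
    rw [← hE.1.2.2]
    exact Subgroup.commutator_mem_commutator (Subgroup.mem_top (⟨x, hx⟩ : ↥S)) (Subgroup.mem_top (⟨y, hy⟩ : ↥S))
  have hzc : ∀ x ∈ P, x * z = z * x := fun x hx =>
    congrArg Subtype.val (Subgroup.mem_center_iff.1 (hcen a0 ha0 b0 hb0 hzP) ⟨x, hx⟩)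
  have hzpw : ∀ w : ↥S, w ∈ Subgroup.center ↥S → ∃ i : ZMod p, (w : G) = pw z i := by
    intro w hw
    have hzz : (⟨z, hzP⟩ : ↥S) ∈ Subgroup.center ↥S := hcen a0 ha0 b0 hb0 hzP
    have hne' : (⟨⟨z, hzP⟩, hzz⟩ : Subgroup.center ↥S) ≠ 1 := fun h =>
      hz1 (congrArg Subtype.val (congrArg Subtype.val h))
    have htop := zpowers_eq_top_of_prime_card hE.2 hne'
    have hmem : (⟨w, hw⟩ : Subgroup.center ↥S) ∈ zpowers (⟨⟨z, hzP⟩, hzz⟩ : Subgroup.center ↥S) := htop ▸ mem_top _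
    rw [← mem_powers_iff_mem_zpowers] at hmem
    obtain ⟨i, hi⟩ := hmem
    refine ⟨(i : ZMod p), ?_⟩
    rw [pw_natCast (hx z hzP)]
    exact (congrArg Subtype.val (congrArg Subtype.val hi)).symm
  have hk : ∀ x ∈ P, ∀ y ∈ P, ∃ i : ZMod p, x * y * x⁻¹ * y⁻¹ = pw z i := fun x hx' y hy' =>
    hzpw ⟨_, P.mul_mem (P.mul_mem (P.mul_mem hx' hy') (P.inv_mem hx')) (P.inv_mem hy')⟩ (hcen x hx' y hy' _)
  let κ : G → G → ZMod p := fun x y => Classical.epsilon fun i => x * y * x⁻¹ * y⁻¹ = pw z i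
  have hκ : ∀ x ∈ P, ∀ y ∈ P, x * y * x⁻¹ * y⁻¹ = pw z (κ x y) := fun x hx' y hy' =>
    Classical.epsilon_spec (hk x hx' y hy')
  have hκ' : ∀ {x y : G} {i : ZMod p}, x ∈ P → y ∈ P → x * y * x⁻¹ * y⁻¹ = pw z i → κ x y = i :=
    fun hx' hy' h => pw_inj (hx z hzP) hz1 ((hκ _ hx' _ hy').symm.trans h)
  have hzw : ∀ x ∈ P, ∀ i : ZMod p, x * pw z i = pw z i * x := fun x hx' i =>
    (show Commute x z from hzc x hx').pow_right _
  have hadd : ∀ x ∈ P, ∀ x' ∈ P, ∀ y ∈ P, κ (x * x') y = κ x y + κ x' y := by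
    intro x hx1 x' hx2 y hy
    refine hκ' (P.mul_mem hx1 hx2) hy ?_
    calc x * x' * y * (x * x')⁻¹ * y⁻¹ = x * (x' * y * x'⁻¹ * y⁻¹) * (y * x⁻¹ * y⁻¹) := by group
      _ = x * pw z (κ x' y) * (y * x⁻¹ * y⁻¹) := by rw [hκ x' hx2 y hy]
      _ = pw z (κ x' y) * (x * y * x⁻¹ * y⁻¹) := by rw [hzw x hx1]; group
      _ = pw z (κ x y + κ x' y) := by rw [hκ x hx1 y hy, ← pw_add (hx z hzP), add_comm]
  have hswap : ∀ x ∈ P, ∀ y ∈ P, κ y x = -κ x y := by
    intro x hx1 y hy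
    refine hκ' hy hx1 ?_
    rw [pw_neg (hx z hzP), ← hκ x hx1 y hy]
    group
  let c : G → Fin 2 → ZMod p := fun x => ![κ x b0, κ a0 x]
  have hadd' : ∀ x ∈ P, ∀ y ∈ P, ∀ y' ∈ P, κ x (y * y') = κ x y + κ x y' := by
    intro x hx1 y hy y' hy'
    rw [hswap _ (P.mul_mem hy hy') x hx1, hadd y hy y' hy' x hx1, hswap x hx1 y hy, hswap x hx1 y' hy']
    ring
  have hκ1 : ∀ y ∈ P, κ 1 y = 0 := fun y hy => hκ' P.one_mem hy (by simp [pw_zero])
  have hκs : ∀ x ∈ P, κ x x = 0 := fun x hx1 => hκ' hx1 hx1 (by rw [pw_zero]; group)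
  have hab : κ a0 b0 = 1 := hκ' ha0 hb0 (by rw [pw_one])
  have hba : κ b0 a0 = -1 := by rw [hswap a0 ha0 b0 hb0, hab]
  have hgen : closure ({a0, b0} : Set G) = P := by
    have hle : closure ({a0, b0} : Set G) ≤ P := (closure_le _).2 (by
      rintro _ (rfl | rfl)
      exacts [ha0, hb0])
    refine Subgroup.eq_of_le_of_card_ge hle ?_
    have hdvd := Subgroup.card_dvd_of_le hle
    rw [show Nat.card P = p ^ 3 from hcard] at hdvd ⊢
    obtain ⟨i, hi, he⟩ := (Nat.dvd_prime_pow hpp).1 hdvd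
    by_contra hlt
    have hi2 : i ≤ 2 := by
      by_contra h3
      rw [show i = 3 by omega] at he
      exact hlt he.ge
    exact hne (isComm_of_card_dvd_sq (by rw [he]; exact pow_dvd_pow p hi2) a0 b0
      (subset_closure (Or.inl rfl)) (subset_closure (Or.inr rfl)))
  have key : ∀ x ∈ P, ∀ y ∈ P, κ x y = det2 (c x) (c y) := by
    intro x hx1 y hy
    have hy' : y ∈ closure ({a0, b0} : Set G) := hgen.symm ▸ hy
    induction hy' using closure_induction with
    | mem w hw =>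
      rcases hw with rfl | rfl
      · simp [c, det2, hab, hκs _ ha0, hswap _ hx1 _ ha0]
      · simp [c, det2, hab, hκs _ hb0]
    | one =>
      rw [hswap 1 P.one_mem x hx1]
      simp [c, det2, hκ1 x hx1, hκ1 b0 hb0, hswap 1 P.one_mem a0 ha0, hκ1 a0 ha0]
    | mul u v hu hv ihu ihv =>
      have hu' : u ∈ P := hgen ▸ hu
      have hv' : v ∈ P := hgen ▸ hv
      rw [hadd' x hx1 u hu' v hv', ihu hu', ihv hv']
      simp [c, det2, hadd u hu' v hv' b0 hb0, hadd' a0 ha0 u hu' v hv']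
      ring
    | inv u hu ih =>
      have hu' : u ∈ P := hgen ▸ hu
      have h0 : ∀ w ∈ P, κ w u⁻¹ = -κ w u := fun w hw => by
        have h := hadd' w hw u⁻¹ (P.inv_mem hu') u hu'
        rw [inv_mul_cancel, hswap 1 P.one_mem w hw, hκ1 w hw, neg_zero] at h
        exact eq_neg_of_add_eq_zero_left h.symm
      have h0' : κ u⁻¹ b0 = -κ u b0 := by
        rw [hswap b0 hb0 u⁻¹ (P.inv_mem hu'), h0 b0 hb0, hswap b0 hb0 u hu']
      rw [h0 x hx1, ih hu']
      simp [c, det2, h0', h0 a0 ha0]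
      ring
  refine ⟨⟨z, a0, b0, c, hx, hzP, hz1, ha0, hb0, ?_, ?_, hzc, ?_, ?_, ?_⟩⟩
  · simp [c, hab, hκs a0 ha0]
  · simp [c, hab, hκs b0 hb0]
  · intro x hx1 y hy
    ext i; fin_cases i
    · simp [c, hadd x hx1 y hy b0 hb0]
    · simp [c, hadd' a0 ha0 x hx1 y hy]
  · intro x hx1 y hy
    rw [hκ x hx1 y hy, key x hx1 y hy]
  · intro x hx1 hc
    refine hzpw ⟨x, hx1⟩ (Subgroup.mem_center_iff.2 fun y => Subtype.ext ?_)
    have h : x * y * x⁻¹ * (y : G)⁻¹ = 1 := by
      rw [hκ x hx1 y y.2, key x hx1 y y.2, hc, show det2 0 (c y) = 0 by simp [det2], pw_zero]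
    rw [mul_inv_eq_one, mul_inv_eq_iff_eq_mul] at h
    exact h.symm

section Rep

open scoped Classical

variable (S : Sylow p G) (F : Frame (S : Subgroup G) p)

/-- The field. -/
abbrev KK (p : ℕ) [Fact p.Prime] : Type := AlgebraicClosure (ZMod p)

/-- The action of the normalizer as `GL₂(p)`. -/
noncomputable def rho0 : normalizer ((S : Subgroup G) : Set G) →* GL (Fin 2) (ZMod p) :=
  F.matHom.toHomUnits

theorem coe_rho0 (n : normalizer ((S : Subgroup G) : Set G)) :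
    (rho0 S F n : Matrix (Fin 2) (Fin 2) (ZMod p)) = F.mat n := rfl

/-- The action on the projective line. -/
noncomputable def rho : normalizer ((S : Subgroup G) : Set G) →* PGL2 (KK p) :=
  Matrix.ProjGenLinGroup.mk.comp ((Matrix.GeneralLinearGroup.map (algebraMap (ZMod p) (KK p))).comp (rho0 S F))

theorem not_dvd_card_range : ¬ p ∣ Nat.card (rho S F).range := by
  set N := normalizer ((S : Subgroup G) : Set G)
  have hSker : (S : Subgroup G).subgroupOf N ≤ (rho S F).ker := by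
    intro s hs
    have h : rho0 S F s = 1 := by
      refine Units.ext ?_
      rw [coe_rho0, Units.val_one]
      refine Matrix.ext_iff_mulVec.2 fun v => ?_
      obtain ⟨x, hx, rfl⟩ := F.exists_c v
      have hsS : (s : G) ∈ (S : Subgroup G) := mem_subgroupOf.1 hs
      rw [F.mat_mulVec s.2 hx, one_mulVec, F.c_mul _ ((S : Subgroup G).mul_mem hsS hx) _ ((S : Subgroup G).inv_mem hsS),
        F.c_mul _ hsS _ hx, F.c_inv hsS]
      abel
    rw [MonoidHom.mem_ker, rho, MonoidHom.comp_apply, MonoidHom.comp_apply, h, map_one, map_one]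
  have h1 : (rho S F).ker.index = Nat.card (rho S F).range := Subgroup.index_ker _
  intro hd
  rw [← h1] at hd
  have h2 := hd.trans (Subgroup.index_dvd_of_le hSker)
  exact S.not_dvd_index (h2.trans (Subgroup.relIndex_dvd_index_of_le (Subgroup.le_normalizer)))

/-- The point of a column. -/
noncomputable def pt (v : Fin 2 → ZMod p) : OnePoint (KK p) :=
  if v 1 = 0 then OnePoint.infty else ((algebraMap (ZMod p) (KK p) (v 0 / v 1) : KK p) : OnePoint (KK p))

theorem pt_inj {v w : Fin 2 → ZMod p} (hv : v ≠ 0) (h : pt v = pt w) : det2 v w = 0 := by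
  unfold pt at h
  by_cases h1 : v 1 = 0 <;> by_cases h2 : w 1 = 0 <;> simp [h1, h2] at h
  · simp [det2, h1, h2]
  · rw [← map_div₀, ← map_div₀] at h
    have h3 := (algebraMap (ZMod p) (KK p)).injective h
    rw [div_eq_div_iff h1 h2] at h3
    simp [det2]
    linear_combination h3

theorem smul_pt {g : GL (Fin 2) (ZMod p)} {v : Fin 2 → ZMod p} {l : ZMod p} (hv : v ≠ 0) (hl : l ≠ 0)
    (h : (g : Matrix (Fin 2) (Fin 2) (ZMod p)) *ᵥ v = l • v) :
    Matrix.ProjGenLinGroup.mk (Matrix.GeneralLinearGroup.map (algebraMap (ZMod p) (KK p)) g) • pt v = pt v := by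
  set φ := algebraMap (ZMod p) (KK p)
  have h0 := congrFun h 0
  have h1 := congrFun h 1
  simp [Matrix.mulVec, dotProduct, Fin.sum_univ_two] at h0 h1
  rw [mk_smul_eq]
  unfold pt
  by_cases hv1 : v 1 = 0
  · have hv0 : v 0 ≠ 0 := fun e => hv (by ext i; fin_cases i <;> simp [e, hv1])
    rw [if_pos hv1, OnePoint.smul_infty_eq_self_iff]
    rw [hv1, mul_zero, add_zero, mul_zero] at h1
    simp [(mul_eq_zero.1 h1).resolve_right hv0]
  · rw [if_neg hv1, OnePoint.smul_some_eq_ite]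
    have e1 : (g : Matrix (Fin 2) (Fin 2) (ZMod p)) 1 0 * (v 0 / v 1) + (g : Matrix (Fin 2) (Fin 2) (ZMod p)) 1 1 = l := by
      field_simp
      linear_combination h1
    have e0 : (g : Matrix (Fin 2) (Fin 2) (ZMod p)) 0 0 * (v 0 / v 1) + (g : Matrix (Fin 2) (Fin 2) (ZMod p)) 0 1
        = l * (v 0 / v 1) := by
      field_simp
      linear_combination h0
    have f1 := congrArg φ e1
    have f0 := congrArg φ e0
    rw [map_add, map_mul] at f1 f0
    rw [map_mul] at f0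
    simp only [Matrix.GeneralLinearGroup.map_apply]
    have hφl : φ l ≠ 0 := (map_ne_zero φ).2 hl
    rw [f1, f0, if_neg hφl, mul_comm, mul_div_assoc, div_self hφl, mul_one]

theorem dvd_orderOf {g : GL (Fin 2) (ZMod p)} {v : Fin 2 → ZMod p} (hv : v ≠ 0) {t : ZMod p}
    (ht : t ≠ 0) (hgen : ∀ j : ℕ, t ^ j = 1 → p - 1 ∣ j)
    (h : (g : Matrix (Fin 2) (Fin 2) (ZMod p)) *ᵥ v = t⁻¹ • v)
    (hdet : (g : Matrix (Fin 2) (Fin 2) (ZMod p)).det = t) :
    p - 1 ∣ 3 * orderOf (Matrix.ProjGenLinGroup.mk (Matrix.GeneralLinearGroup.map (algebraMap (ZMod p) (KK p)) g)) := by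
  set φ := algebraMap (ZMod p) (KK p)
  set n := orderOf (Matrix.ProjGenLinGroup.mk (Matrix.GeneralLinearGroup.map φ g))
  have h1 : Matrix.ProjGenLinGroup.mk (Matrix.GeneralLinearGroup.map φ (g ^ n)) = 1 := by
    rw [map_pow, map_pow, pow_orderOf_eq_one]
  rw [Matrix.ProjGenLinGroup.mk_eq_one, Matrix.GeneralLinearGroup.center_eq_range_scalar] at h1
  obtain ⟨u, hu⟩ := h1
  have hentry : ∀ i j, φ ((g ^ n : GL (Fin 2) (ZMod p)) i j) = if i = j then (u : KK p) else 0 := by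
    intro i j
    rw [← Matrix.GeneralLinearGroup.map_apply (f := φ), ← hu, Matrix.GeneralLinearGroup.coe_scalar]
    simp [Matrix.diagonal_apply]
  set A := ((g ^ n : GL (Fin 2) (ZMod p)) : Matrix (Fin 2) (Fin 2) (ZMod p))
  have h01 : A 0 1 = 0 := φ.injective (by rw [map_zero]; simpa using hentry 0 1)
  have h10 : A 1 0 = 0 := φ.injective (by rw [map_zero]; simpa using hentry 1 0)
  have h11 : A 1 1 = A 0 0 := φ.injective (by rw [hentry 1 1, hentry 0 0]; simp)
  have hAv : A *ᵥ v = (t⁻¹) ^ n • v := by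
    simp only [A, Units.val_pow_eq_pow_val]
    clear_value n
    clear hentry hu h01 h10 h11
    induction n with
    | zero => simp
    | succ k ih => rw [pow_succ, ← Matrix.mulVec_mulVec, h, Matrix.mulVec_smul, ih, smul_smul, pow_succ']
  have hlam : A 0 0 = (t⁻¹) ^ n := by
    by_cases h0 : v 0 = 0
    · have hv1 : v 1 ≠ 0 := fun e => hv (by ext i; fin_cases i <;> simp [e, h0])
      have := congrFun hAv 1
      simp [Matrix.mulVec, dotProduct, Fin.sum_univ_two, h10, h11] at this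
      rw [this.resolve_right hv1, inv_pow]
    · have := congrFun hAv 0
      simp [Matrix.mulVec, dotProduct, Fin.sum_univ_two, h01] at this
      rw [this.resolve_right h0, inv_pow]
  have hAdet : A.det = t ^ n := by rw [← hdet]; simp [A, Matrix.det_pow]
  rw [Matrix.det_fin_two, h01, h11, hlam, zero_mul, sub_zero, ← pow_add, inv_pow] at hAdet
  apply hgen
  have h3 : t ^ (n + n) * t ^ n = 1 := by rw [← hAdet, mul_inv_cancel₀ (pow_ne_zero _ ht)]
  rw [show 3 * n = n + n + n by ring, pow_add]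
  exact h3

/-- An element attached to a maximal subgroup with automizer containing `SL₂(p)`. -/
theorem exists_point {a : G} (ha : a ∈ (S : Subgroup G)) (ha0 : F.c a ≠ 0) {g : G} {k : ZMod p} (hk : k ≠ 0)
    (hg1 : g * a * g⁻¹ = a) (hg2 : g * F.z * g⁻¹ = F.z * pw a k) :
    ∃ h ∈ (rho S F).range, p - 1 ∣ 3 * orderOf h ∧ h • pt (F.c a) = pt (F.c a) := by
  obtain ⟨u, hu⟩ := IsCyclic.exists_generator (α := (ZMod p)ˣ)
  have hord : orderOf u = p - 1 := by
    rw [orderOf_eq_card_of_forall_mem_zpowers hu, Nat.card_units, Nat.card_zmod]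
  obtain ⟨n, hn, h1, h2⟩ := exists_diag S F ha ha0 hk hg1 hg2 (t := (u : ZMod p)) u.ne_zero
  refine ⟨rho S F ⟨n, hn⟩, ⟨_, rfl⟩, dvd_orderOf (g := rho0 S F ⟨n, hn⟩) ha0 u.ne_zero (fun j hj => ?_) h1 h2,
    smul_pt (g := rho0 S F ⟨n, hn⟩) ha0 (inv_ne_zero u.ne_zero) h1⟩
  rw [← hord]
  exact orderOf_dvd_of_pow_eq_one (Units.ext (by simpa using hj))

end Rep

end CfsgLib.LocalB.ExtraAut

namespace CfsgLib.LocalB.ExtraAut

open Matrix Subgroup CfsgLib.Dickson

variable {G : Type*} [Group G] [Finite G] {p : ℕ} [Fact p.Prime] (S : Sylow p G)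
  (F : Frame (S : Subgroup G) p)

theorem E_mem {A : Subgroup G} {a : G} (hz : F.z ∈ A) (ha : a ∈ A) (v : Fin 2 → ZMod p) : E F a v ∈ A :=
  A.mul_mem (pw_mem hz _) (pw_mem ha _)

theorem E_add {a : G} (ha : a ∈ (S : Subgroup G)) (v w : Fin 2 → ZMod p) :
    E F a (v + w) = E F a v * E F a w := by
  have hc : ∀ i j : ZMod p, Commute (pw F.z i) (pw a j) := fun i j =>
    (show Commute F.z a from (F.z_comm a ha).symm).pow_pow _ _
  simp only [E, Pi.add_apply, pw_add (F.hexp _ F.z_mem), pw_add (F.hexp _ ha)]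
  rw [mul_assoc, ← mul_assoc (pw F.z (w 0)), (hc _ _).eq]
  group

theorem E_inj {a : G} (ha : a ∈ (S : Subgroup G)) (ha0 : F.c a ≠ 0) {v w : Fin 2 → ZMod p}
    (h : E F a v = E F a w) : v = w := by
  have hc : ∀ v : Fin 2 → ZMod p, F.c (E F a v) = v 1 • F.c a := fun v => by
    rw [E, F.c_mul _ (pw_mem F.z_mem _) _ (pw_mem ha _), F.c_pw F.z_mem, F.c_pw ha, F.c_z, smul_zero, zero_add]
  have h1 : v 1 = w 1 := smul_left_injective _ ha0 (show v 1 • F.c a = w 1 • F.c a by rw [← hc, ← hc, h])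
  simp only [E, h1] at h
  have h0 := pw_inj (F.hexp _ F.z_mem) F.z_ne (mul_right_cancel h)
  ext i; fin_cases i <;> assumption

/-- An abelian subgroup of order `p²` of the Sylow subgroup. -/
theorem exists_gen {A : Subgroup G} (hA : A ≤ (S : Subgroup G)) (hcard : Nat.card A = p ^ 2) :
    F.z ∈ A ∧ ∃ a ∈ A, F.c a ≠ 0 ∧ (∀ x ∈ A, ∃ v, E F a v = x) ∧
      ∀ y ∈ (S : Subgroup G), det2 (F.c a) (F.c y) = 0 → y ∈ A := by
  classical
  have hpp : p.Prime := Fact.out
  obtain ⟨a, ha, ha0⟩ : ∃ a ∈ A, F.c a ≠ 0 := by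
    by_contra h
    push Not at h
    have hle : A ≤ zpowers F.z := fun x hx => by
      obtain ⟨i, rfl⟩ := F.c_ker x (hA hx) (h x hx)
      exact pow_mem (mem_zpowers _) _
    have h2 := Subgroup.card_le_of_le hle
    rw [hcard, Nat.card_zpowers, orderOf_eq_prime (F.hexp _ F.z_mem) F.z_ne] at h2
    have h3 : p * 2 ≤ p ^ 2 := by rw [pow_two]; exact Nat.mul_le_mul_left p hpp.two_le
    have h4 := hpp.pos
    omega
  have hdet : ∀ x ∈ A, ∃ μ : ZMod p, F.c x = μ • F.c a := fun x hx => by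
    refine det2_prop ha0 (pw_inj (F.hexp _ F.z_mem) F.z_ne ?_)
    rw [← F.comm a (hA ha) x (hA hx), pw_zero,
      isComm_of_card_dvd_sq (p := p) (by rw [hcard]) a x ha hx]
    group
  have hsurj : ∀ x ∈ A, ∃ v, E F a v = x := fun x hx => by
    obtain ⟨μ, hμ⟩ := hdet x hx
    obtain ⟨i, hi⟩ := F.eq_of_c (pw_mem (hA ha) μ) (hA hx) (by rw [F.c_pw (hA ha), hμ])
    refine ⟨![i, μ], ?_⟩
    rw [hi]
    exact ((show Commute F.z a from (F.z_comm a (hA ha)).symm).pow_pow _ _).eq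
  -- the map is onto `A` by counting
  let f : A → (Fin 2 → ZMod p) := fun x => (hsurj x x.2).choose
  have hf : ∀ x : A, E F a (f x) = x := fun x => (hsurj x x.2).choose_spec
  have hfb : Function.Bijective f := by
    refine (Nat.bijective_iff_injective_and_card f).2 ⟨fun x y h => Subtype.ext ?_, ?_⟩
    · rw [← hf x, ← hf y, h]
    · rw [hcard, Nat.card_fun, Nat.card_zmod, Nat.card_eq_fintype_card, Fintype.card_fin]
  have hz : F.z ∈ A := by
    obtain ⟨x, hx⟩ := hfb.2 ![1, 0]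
    have h5 := hf x
    rw [hx] at h5
    simp [E, pw_one, pw_zero] at h5
    exact h5 ▸ x.2
  refine ⟨hz, a, ha, ha0, hsurj, fun y hy hd => ?_⟩
  obtain ⟨μ, hμ⟩ := det2_prop ha0 hd
  obtain ⟨i, hi⟩ := F.eq_of_c (pw_mem (hA ha) μ) hy (by rw [F.c_pw (hA ha), hμ])
  rw [hi]
  exact A.mul_mem (pw_mem ha _) (pw_mem hz _)

/-- The transvection hypothesis gives a realising element. -/
theorem exists_move {A : Subgroup G} (hA : A ≤ (S : Subgroup G)) (hz : F.z ∈ A) {a : G} (ha : a ∈ A)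
    (ha0 : F.c a ≠ 0) (hsurj : ∀ x ∈ A, ∃ v, E F a v = x)
    (hSL : ∀ φ : MulAut ↥A, orderOf φ = p → ∃ g : G, ∀ x : ↥A, (φ x : G) = g * (x : G) * g⁻¹) :
    ∃ g : G, g * a * g⁻¹ = a ∧ g * F.z * g⁻¹ = F.z * pw a (1 : ZMod p) := by
  let T : (Fin 2 → ZMod p) → (Fin 2 → ZMod p) := fun v => ![v 0, v 0 + v 1]
  let e : (Fin 2 → ZMod p) ≃ A := Equiv.ofBijective (fun v => ⟨E F a v, E_mem S F hz ha v⟩)
    ⟨fun v w h => E_inj S F (hA ha) ha0 (congrArg Subtype.val h),
     fun x => by obtain ⟨v, hv⟩ := hsurj x x.2; exact ⟨v, Subtype.ext hv⟩⟩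
  have hadd : ∀ v w, e (v + w) = e v * e w := fun v w => Subtype.ext (E_add S F (hA ha) v w)
  let Te : (Fin 2 → ZMod p) ≃ (Fin 2 → ZMod p) :=
    { toFun := T
      invFun := fun v => ![v 0, v 1 - v 0]
      left_inv := fun v => by ext i; fin_cases i <;> simp [T]
      right_inv := fun v => by ext i; fin_cases i <;> simp [T] }
  let φ : MulAut ↥A :=
    { toEquiv := e.symm.trans (Te.trans e)
      map_mul' := fun x y => by
        obtain ⟨v, rfl⟩ := e.surjective x
        obtain ⟨w, rfl⟩ := e.surjective y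
        rw [← hadd]
        simp only [Equiv.toFun_as_coe, Equiv.trans_apply, Equiv.symm_apply_apply]
        rw [← hadd]
        congr 1
        ext i; fin_cases i <;> simp [Te, T]; ring }
  have hφ : ∀ v, φ (e v) = e (T v) := fun v => by
    show e (Te (e.symm (e v))) = _
    rw [Equiv.symm_apply_apply]; rfl
  have hpow : ∀ (j : ℕ) v, (φ ^ j) (e v) = e ![v 0, (j : ZMod p) * v 0 + v 1] := by
    intro j
    induction j with
    | zero => intro v; simp; ext i; fin_cases i <;> simp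
    | succ j ih =>
      intro v
      rw [pow_succ, MulAut.mul_apply, hφ, ih]
      congr 1
      ext i; fin_cases i <;> simp [T]; ring
  have hord : orderOf φ = p := by
    refine orderOf_eq_prime ?_ ?_
    · refine MulEquiv.ext fun x => ?_
      obtain ⟨v, rfl⟩ := e.surjective x
      rw [hpow]
      simp
      ext i; fin_cases i <;> simp
    · intro h
      have h1 := MulEquiv.congr_fun h (e ![1, 0])
      rw [hφ, MulAut.one_apply] at h1
      have h2 := congrFun (e.injective h1) 1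
      simp [T] at h2
  obtain ⟨g, hg⟩ := hSL φ hord
  refine ⟨g, ?_, ?_⟩
  · have := hg (e ![0, 1])
    rw [hφ] at this
    simpa [e, E, T, pw_one, pw_zero] using this.symm
  · have := hg (e ![1, 0])
    rw [hφ] at this
    simpa [e, E, T, pw_one, pw_zero] using this.symm

/-- When all non-identity elements are conjugate, every maximal subgroup has the transvections. -/
theorem exists_move_of_conj (hconj : ∀ x y : ↥S, x ≠ 1 → y ≠ 1 → ∃ g : G, g * (x : G) * g⁻¹ = (y : G))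
    {a : G} (ha : a ∈ (S : Subgroup G)) (ha0 : F.c a ≠ 0) :
    ∃ g : G, ∃ k : ZMod p, k ≠ 0 ∧ g * a * g⁻¹ = a ∧ g * F.z * g⁻¹ = F.z * pw a k := by
  have hne : a ≠ 1 := fun h => ha0 (by rw [h, F.c_one])
  obtain ⟨g0, hg0⟩ := hconj ⟨a, ha⟩ ⟨F.z, F.z_mem⟩ (fun h => hne (congrArg Subtype.val h))
    (fun h => F.z_ne (congrArg Subtype.val h))
  change g0 * a * g0⁻¹ = F.z at hg0
  set C := centralizer ({a} : Set G) with hC
  have hS' : ((g0⁻¹ • S : Sylow p G) : Subgroup G) ≤ C := by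
    rintro _ ⟨x, hx, rfl⟩
    rw [hC, mem_centralizer_iff]
    intro w hw
    rw [Set.mem_singleton_iff] at hw
    rw [hw]
    simp only [MulDistribMulAction.toMonoidEnd_apply, MulDistribMulAction.toMonoidHom_apply, MulAut.smul_def,
      MulAut.conj_apply, inv_inv]
    rw [show a = g0⁻¹ * F.z * g0 by rw [← hg0]; group]
    calc g0⁻¹ * F.z * g0 * (g0⁻¹ * x * g0) = g0⁻¹ * (F.z * x) * g0 := by group
      _ = g0⁻¹ * (x * F.z) * g0 := by rw [F.z_comm x hx]
      _ = _ := by group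
  set A := closure ({F.z, a} : Set G) with hA
  have hAC : A ≤ C := (closure_le _).2 (by
    rintro _ (rfl | rfl) <;> rw [SetLike.mem_coe, hC, mem_centralizer_iff]
    · rintro w rfl; exact F.z_comm w ha
    · rintro w rfl; rfl)
  have hAS : A ≤ (S : Subgroup G) := (closure_le _).2 (by
    rintro _ (rfl | rfl)
    exacts [F.z_mem, ha])
  obtain ⟨R, hR⟩ := ((S.2.to_le hAS).comap_of_injective C.subtype C.subtype_injective).exists_le_sylow
  obtain ⟨y, hy⟩ := MulAction.exists_smul_eq C ((g0⁻¹ • S).subtype hS') R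
  rw [Sylow.smul_subtype] at hy
  set R' : Sylow p G := ((y : G) * g0⁻¹) • S with hR'
  have hmem : ∀ x ∈ (S : Subgroup G), (y : G) * g0⁻¹ * x * ((y : G) * g0⁻¹)⁻¹ ∈ (R' : Subgroup G) :=
    fun x hx => ⟨x, hx, rfl⟩
  have hzR : F.z ∈ (R' : Subgroup G) := by
    have h1 : (⟨F.z, hAC (subset_closure (Or.inl rfl))⟩ : C) ∈ (R : Subgroup C) :=
      hR (mem_comap.2 (subset_closure (Or.inl rfl)))
    rw [← hy] at h1
    rw [hR', mul_smul]
    exact h1
  set n := (y : G) * g0⁻¹ with hn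
  have hna : n * F.z * n⁻¹ = a := by
    have hy2 : a * (y : G) = y * a := mem_centralizer_iff.1 y.2 a rfl
    rw [hn, show (y : G) * g0⁻¹ * F.z * ((y : G) * g0⁻¹)⁻¹ = y * (g0⁻¹ * F.z * g0) * (y : G)⁻¹ by group,
      show g0⁻¹ * F.z * g0 = a by rw [← hg0]; group, ← hy2, mul_inv_cancel_right]
  obtain ⟨z', hz', hzz⟩ : ∃ z' ∈ (S : Subgroup G), n * z' * n⁻¹ = F.z := by
    obtain ⟨x, hx, he⟩ := hzR
    exact ⟨x, hx, he⟩
  have hc' : F.c z' ≠ 0 := by
    intro h
    obtain ⟨i, hi⟩ := F.c_ker z' hz' h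
    rw [hi, pw_conj, hna] at hzz
    apply ha0
    have h2 := congrArg F.c hzz
    rw [F.c_pw ha, F.c_z] at h2
    rcases smul_eq_zero.1 h2 with h3 | h3
    · rw [h3, pw_zero] at hzz
      exact absurd hzz.symm F.z_ne
    · exact h3
  obtain ⟨w, hw, hdet⟩ : ∃ w ∈ (S : Subgroup G), det2 (F.c z') (F.c w) ≠ 0 := by
    by_contra h
    push Not at h
    have h0 := h F.u0 F.u0_mem
    have h1 := h F.u1 F.u1_mem
    rw [F.c_u0] at h0; rw [F.c_u1] at h1
    simp [det2] at h0 h1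
    exact hc' (by ext i; fin_cases i <;> simp [h0, h1])
  refine ⟨n * w * n⁻¹, det2 (F.c w) (F.c z'), ?_, ?_, ?_⟩
  · intro h
    apply hdet
    unfold det2 at h ⊢
    linear_combination -h
  · rw [← hna, show n * w * n⁻¹ * (n * F.z * n⁻¹) * (n * w * n⁻¹)⁻¹ = n * (w * F.z * w⁻¹) * n⁻¹ by group,
      F.z_comm w hw, mul_inv_cancel_right]
  · conv_lhs => rw [← hzz]
    rw [show n * w * n⁻¹ * (n * z' * n⁻¹) * (n * w * n⁻¹)⁻¹
        = n * (w * z' * w⁻¹ * z'⁻¹) * n⁻¹ * (n * z' * n⁻¹) by group, F.comm w hw z' hz', pw_conj, hna, hzz]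
    exact ((show Commute F.z a from (F.z_comm a ha).symm).pow_right _).eq.symm

theorem order_ge_six {m : ℕ} (hm : 0 < m) (h : p - 1 ∣ 3 * m) (hp : 17 ≤ p ∨ p = 11) : 6 ≤ m := by
  have := Nat.le_of_dvd (by omega) h
  rcases hp with hp | hp
  · omega
  · subst hp; omega

end CfsgLib.LocalB.ExtraAut
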