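import Mathlib.Logic.Basic
import Mathlib.Data.Fintype.Prod
import Mathlib.Data.Fintype.Basic

/-!
A coordinate model of the extraspecial group of order 128 of plus type, with two automorphisms
which commute and square to 1 modulo inner automorphisms, but have no such representatives.
-/

set_option autoImplicit false

namespace CfsgLib.LocalB.ES

/-- Coordinates of `x₁^a₁ y₁^b₁ x₂^a₂ y₂^b₂ x₃^a₃ y₃^b₃ z^c`. -/
abbrev M : Type := ((Bool × Bool) × (Bool × Bool) × (Bool × Bool)) × Bool

def mul : M → M → M
  | (((a1, b1), (a2, b2), (a3, b3)), c), (((a1', b1'), (a2', b2'), (a3', b3')), c') =>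
    (((xor a1 a1', xor b1 b1'), (xor a2 a2', xor b2 b2'), (xor a3 a3', xor b3 b3')),
      xor (xor c c') (xor (b1 && a1') (xor (b2 && a2') (b3 && a3'))))

def om : M → M → Bool
  | (((a1, b1), (a2, b2), (a3, b3)), _), (((a1', b1'), (a2', b2'), (a3', b3')), _) =>
    xor (xor (b1 && a1') (xor (b2 && a2') (b3 && a3'))) (xor (b1' && a1) (xor (b2' && a2) (b3' && a3)))

def cen (c : Bool) : M := (((false, false), (false, false), (false, false)), c)

/-- conjugation by `m` -/
def conjM (m x : M) : M := (x.1, xor x.2 (om m x))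

def gX1 : M := (((true, false), (false, false), (false, false)), false)
def gY1 : M := (((false, true), (false, false), (false, false)), false)
def gX2 : M := (((false, false), (true, false), (false, false)), false)
def gY2 : M := (((false, false), (false, true), (false, false)), false)
def gX3 : M := (((false, false), (false, false), (true, false)), false)
def gY3 : M := (((false, false), (false, false), (false, true)), false)

def alpha : M → M
  | (((a1, b1), (a2, b2), (a3, b3)), c) =>
    (((b1, a1), (xor a2 b3, b2), (xor a3 b2, b3)), xor c (xor (a1 && b1) (b2 && b3)))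

def beta : M → M
  | (((a1, b1), (a2, b2), (a3, b3)), c) =>
    (((xor a1 b2, xor b1 b2), (xor (xor a1 b1) (xor a2 b2), b2), (a3, b3)), xor c (b1 && b2))

theorem mul_eq_mul_cen (m x : M) : mul m x = mul (mul x m) (cen (om m x)) := by
  obtain ⟨⟨⟨a1, b1⟩, ⟨a2, b2⟩, a3, b3⟩, c⟩ := m
  obtain ⟨⟨⟨a1', b1'⟩, ⟨a2', b2'⟩, a3', b3'⟩, c'⟩ := x
  simp [mul, om, cen, Bool.xor_comm, Bool.xor_assoc, Bool.xor_left_comm]

theorem conjM_eq (m x : M) : conjM m x = mul x (cen (om m x)) := by
  obtain ⟨⟨⟨a1, b1⟩, ⟨a2, b2⟩, a3, b3⟩, c⟩ := m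
  obtain ⟨⟨⟨a1', b1'⟩, ⟨a2', b2'⟩, a3', b3'⟩, c'⟩ := x
  simp [conjM, mul, om, cen]

theorem alpha_mul : ∀ m x : M, alpha (mul m x) = mul (alpha m) (alpha x) := by decide +kernel

theorem beta_mul : ∀ m x : M, beta (mul m x) = mul (beta m) (beta x) := by decide +kernel

theorem alpha_alpha : ∀ x, alpha (alpha x) = x := by decide +kernel

theorem beta_beta : ∀ x, beta (beta x) = conjM gX2 x := by decide +kernel

theorem alpha_beta : ∃ m, ∀ x, alpha (beta x) = conjM m (beta (alpha x)) := by decide +kernel

def gens : List M := [gX1, gY1, gX2, gY2, gX3, gY3]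

/-- No representatives of the two classes are commuting involutions. -/
theorem key : ∀ v1 : (Bool × Bool) × (Bool × Bool) × (Bool × Bool),
    gens.all (fun g => decide (conjM (v1, false) (alpha (conjM (v1, false) (alpha g))) = g)) = true →
    ∀ v2 : (Bool × Bool) × (Bool × Bool) × (Bool × Bool),
    gens.all (fun g => decide (conjM (v2, false) (beta (conjM (v2, false) (beta g))) = g)) = true →
    gens.all (fun g => decide (conjM (v1, false) (alpha (conjM (v2, false) (beta g))) =
        conjM (v2, false) (beta (conjM (v1, false) (alpha g))))) = false := by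
  decide +kernel

theorem conjM_eq_conjM (v : (Bool × Bool) × (Bool × Bool) × (Bool × Bool)) (c : Bool) (x : M) :
    conjM (v, c) x = conjM (v, false) x := by
  obtain ⟨⟨a1, b1⟩, ⟨a2, b2⟩, a3, b3⟩ := v
  obtain ⟨⟨⟨a1', b1'⟩, ⟨a2', b2'⟩, a3', b3'⟩, c'⟩ := x
  rfl

end CfsgLib.LocalB.ES
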