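import Mathlib
import Cfsg.Prelude.Def_Transfer
import Cfsg.Prelude.Def_KGroupFacts
import Cfsg.Agent.LocalB.ExtraspecialModel

/-!
Embedding the coordinate model into an extraspecial 2-group with a large elementary abelian
subgroup, and the non-splitting of its automorphism group over the inner automorphisms.
-/

set_option autoImplicit false
open Cfsg

namespace CfsgLib.LocalB.ES

variable {Q : Type*} [Group Q]

/-- The situation inside which a hyperbolic pair is peeled off. -/
structure Frame (z : Q) (R F : Subgroup Q) : Prop where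
  F_le : F ≤ R
  z_mem : z ∈ F
  F_comm : ∀ a ∈ F, ∀ b ∈ F, a * b = b * a
  F_sq : ∀ a ∈ F, a * a = 1
  R_cent : ∀ r ∈ R, (∀ s ∈ R, r * s = s * r) → r = 1 ∨ r = z

/-- Hypotheses on the distinguished central involution. -/
structure Centre (z : Q) : Prop where
  ne_one : z ≠ 1
  sq : z * z = 1
  comm : ∀ q : Q, z * q = q * z
  commut : ∀ a b : Q, a * b = b * a ∨ a * b = b * a * z
  sq_mem : ∀ q : Q, q * q = 1 ∨ q * q = z

theorem Centre.ne_of_twist {z : Q} (hz : Centre z) {a b : Q} (h : a * b = b * a * z) :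
    a * b ≠ b * a := by
  intro e
  rw [e] at h
  exact hz.ne_one (by simpa using h.symm)

/-- A hyperbolic pair. -/
structure Pair (z x y : Q) : Prop where
  x_sq : x * x = 1
  y_sq : y * y = 1
  yx : y * x = x * y * z

theorem exists_pair [Finite Q] {z : Q} {R F : Subgroup Q} (hz : Centre z) (h : Frame z R F)
    (hF : 4 ≤ Nat.card F) :
    ∃ x y : Q, Pair z x y ∧ x ∈ R ∧ y ∈ R ∧
      ∃ R' F' : Subgroup Q, Frame z R' F' ∧ Nat.card F ≤ 2 * Nat.card F' ∧
        (∀ r ∈ R', r ∈ R ∧ r * x = x * r ∧ r * y = y * r) ∧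
        (∀ r ∈ R, ∃ a b : Bool, ∃ r' ∈ R', r = cond a x 1 * cond b y 1 * r') := by
  classical
  obtain ⟨x, hxF, hx1, hxz⟩ : ∃ x ∈ F, x ≠ 1 ∧ x ≠ z := by
    by_contra hne
    push Not at hne
    have hsub : (F : Set Q) ⊆ ({1, z} : Set Q) := by
      intro f hf
      by_cases h1 : f = 1
      · simp [h1]
      · simp [hne f hf h1]
    have := Set.ncard_le_ncard hsub (Set.toFinite _)
    rw [← Nat.card_coe_set_eq] at this
    have h2 : ({1, z} : Set Q).ncard ≤ 2 := (Set.ncard_insert_le _ _).trans (by simp)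
    have : Nat.card F ≤ 2 := le_trans this h2
    omega
  have hxR := h.F_le hxF
  obtain ⟨y0, hy0R, hy0⟩ : ∃ y ∈ R, x * y ≠ y * x := by
    by_contra hne
    push Not at hne
    rcases h.R_cent x hxR hne with h1 | h1
    · exact hx1 h1
    · exact hxz h1
  have hy0x : y0 * x = x * y0 * z := (hz.commut y0 x).resolve_left (fun e => hy0 e.symm)
  have hxsq := h.F_sq x hxF
  obtain ⟨y, hyR, hysq, hyx⟩ : ∃ y ∈ R, y * y = 1 ∧ y * x = x * y * z := by
    rcases hz.sq_mem y0 with h1 | h1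
    · exact ⟨y0, hy0R, h1, hy0x⟩
    · refine ⟨y0 * x, R.mul_mem hy0R hxR, ?_, ?_⟩
      · have e1 : x * y0 = y0 * x * z := by
          rw [hy0x, mul_assoc, hz.sq, mul_one]
        calc y0 * x * (y0 * x) = y0 * (x * y0) * x := by simp only [mul_assoc]
          _ = y0 * y0 * (x * x) * z := by
              rw [e1]
              simp only [mul_assoc]
              rw [← hz.comm x]
          _ = 1 := by rw [h1, hxsq, mul_one, hz.sq]
      · rw [mul_assoc, hxsq, mul_one, ← mul_assoc, mul_assoc x y0 x, hy0x, ← mul_assoc,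
          ← mul_assoc, hxsq, one_mul, mul_assoc, hz.sq, mul_one]
  have hpair : Pair z x y := ⟨hxsq, hysq, hyx⟩
  let R' : Subgroup Q := R ⊓ Subgroup.centralizer ({x, y} : Set Q)
  let F' : Subgroup Q := F ⊓ Subgroup.centralizer ({y} : Set Q)
  have memR' : ∀ r, r ∈ R' ↔ r ∈ R ∧ r * x = x * r ∧ r * y = y * r := by
    intro r
    simp only [R', Subgroup.mem_inf, Subgroup.mem_centralizer_iff, Set.mem_insert_iff,
      Set.mem_singleton_iff, forall_eq_or_imp, forall_eq]
    constructor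
    · rintro ⟨a, b, c⟩; exact ⟨a, b.symm, c.symm⟩
    · rintro ⟨a, b, c⟩; exact ⟨a, b.symm, c.symm⟩
  have memF' : ∀ r, r ∈ F' ↔ r ∈ F ∧ r * y = y * r := by
    intro r
    simp only [F', Subgroup.mem_inf, Subgroup.mem_centralizer_iff, Set.mem_singleton_iff, forall_eq]
    constructor
    · rintro ⟨a, b⟩; exact ⟨a, b.symm⟩
    · rintro ⟨a, b⟩; exact ⟨a, b.symm⟩
  have hdec : ∀ r ∈ R, ∃ a b : Bool, ∃ r' ∈ R', r = cond a x 1 * cond b y 1 * r' := by
    intro r hr
    refine ⟨decide (r * y ≠ y * r), decide (r * x ≠ x * r),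
      (cond (decide (r * y ≠ y * r)) x 1 * cond (decide (r * x ≠ x * r)) y 1)⁻¹ * r, ?_, by group⟩
    set a := decide (r * y ≠ y * r) with ha
    set b := decide (r * x ≠ x * r) with hb
    set p := cond a x 1 * cond b y 1 with hp
    have hpR : p ∈ R := R.mul_mem (by cases a <;> simp [hxR, R.one_mem])
      (by cases b <;> simp [hyR, R.one_mem])
    have hpx : p * x = x * p * cond b z 1 := by
      rw [hp]
      cases a <;> cases b <;> simp [mul_assoc, hyx]
    have hxy : x * y = y * x * z := by rw [hyx, mul_assoc, hz.sq, mul_one]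
    have hpy : p * y = y * p * cond a z 1 := by
      rw [hp]
      cases a <;> cases b <;> simp [mul_assoc, hysq]
      · rw [hxy, mul_assoc]
      · rw [← mul_assoc x y z, ← hyx, ← mul_assoc, hysq, one_mul]
    have hrx : r * x = x * r * cond b z 1 := by
      by_cases e : r * x = x * r
      · simp [hb, e]
      · simpa [hb, e] using (hz.commut r x).resolve_left e
    have hry : r * y = y * r * cond a z 1 := by
      by_cases e : r * y = y * r
      · simp [ha, e]
      · simpa [ha, e] using (hz.commut r y).resolve_left e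
    have key : ∀ g : Q, ∀ c : Bool, p * g = g * p * cond c z 1 → r * g = g * r * cond c z 1 →
        p⁻¹ * r * g = g * (p⁻¹ * r) := by
      intro g c h1 h2
      apply mul_left_cancel (a := p)
      rw [show p * (p⁻¹ * r * g) = r * g by group, h2, ← mul_assoc, h1]
      cases c
      · simp [mul_assoc]
      · simp only [cond_true, mul_assoc]
        rw [hz.comm (p⁻¹ * r), ← mul_assoc p, ← mul_assoc p p⁻¹, mul_inv_cancel, one_mul]
    exact (memR' _).2 ⟨R.mul_mem (R.inv_mem hpR) hr, key x b hpx hrx, key y a hpy hry⟩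
  refine ⟨x, y, hpair, hxR, hyR, R', F', ⟨?_, ?_, ?_, ?_, ?_⟩, ?_, fun r hr => (memR' r).1 hr, hdec⟩
  · intro f hf
    exact (memR' f).2 ⟨h.F_le ((memF' f).1 hf).1, h.F_comm f ((memF' f).1 hf).1 x hxF,
      ((memF' f).1 hf).2⟩
  · exact (memF' z).2 ⟨h.z_mem, hz.comm y⟩
  · exact fun a ha b hb => h.F_comm a ((memF' a).1 ha).1 b ((memF' b).1 hb).1
  · exact fun a ha => h.F_sq a ((memF' a).1 ha).1
  · intro r hr hall
    obtain ⟨hrR, hrx, hry⟩ := (memR' r).1 hr
    refine h.R_cent r hrR fun s hs => ?_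
    obtain ⟨a, b, s', hs', rfl⟩ := hdec s hs
    have c1 : Commute r (cond a x 1) := by cases a <;> simp [Commute, SemiconjBy, hrx]
    have c2 : Commute r (cond b y 1) := by cases b <;> simp [Commute, SemiconjBy, hry]
    exact (c1.mul_right c2).mul_right (hall s' hs')
  · have hmul : ∀ f ∈ F, f ∉ F' → f * x ∈ F' := by
      intro f hf hnf
      refine (memF' _).2 ⟨F.mul_mem hf hxF, ?_⟩
      have hfy : f * y = y * f * z := (hz.commut f y).resolve_left fun e => hnf ((memF' f).2 ⟨hf, e⟩)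
      have hxy : x * y = y * x * z := by rw [hyx, mul_assoc, hz.sq, mul_one]
      rw [mul_assoc, hxy, ← mul_assoc, ← mul_assoc, hfy]
      simp only [mul_assoc]
      rw [← mul_assoc z x, hz.comm x, mul_assoc, hz.sq, mul_one]
    let φ : F → F' × Bool := fun f =>
      if hf : (f : Q) ∈ F' then (⟨f, hf⟩, false) else (⟨f * x, hmul f f.2 hf⟩, true)
    have hφ : Function.Injective φ := by
      intro f g e
      simp only [φ] at e
      split_ifs at e with h1 h2 h2
      · exact Subtype.ext (Subtype.mk.inj (Prod.ext_iff.1 e).1)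
      · simp at e
      · simp at e
      · exact Subtype.ext (mul_right_cancel (Subtype.mk.inj (Prod.ext_iff.1 e).1))
    have := Nat.card_le_card_of_injective φ hφ
    rw [Nat.card_prod, Nat.card_eq_fintype_card (α := Bool), Fintype.card_bool] at this
    omega

/-- product of the parts of a pair -/
def P (x y : Q) (p : Bool × Bool) : Q := cond p.1 x 1 * cond p.2 y 1

theorem P_mul {z x y : Q} (hz : Centre z) (h : Pair z x y) (p q : Bool × Bool) :
    P x y p * P x y q = P x y (xor p.1 q.1, xor p.2 q.2) * cond (p.2 && q.1) z 1 := by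
  obtain ⟨a, b⟩ := p
  obtain ⟨a', b'⟩ := q
  have hxy : x * y = y * x * z := by rw [h.yx, mul_assoc, hz.sq, mul_one]
  have e1 : ∀ t, x * (x * t) = t := fun t => by rw [← mul_assoc, h.x_sq, one_mul]
  have e2 : ∀ t, y * (y * t) = t := fun t => by rw [← mul_assoc, h.y_sq, one_mul]
  have e3 : ∀ t, y * (x * t) = x * (y * (z * t)) := fun t => by
    rw [← mul_assoc, h.yx]; simp only [mul_assoc]
  have e4 : y * x = x * (y * z) := by rw [h.yx, mul_assoc]
  have e5 : z * y = y * z := hz.comm y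
  cases a <;> cases b <;> cases a' <;> cases b' <;>
    simp [P, mul_assoc, e1, e2, e3, e4, e5, h.x_sq, h.y_sq]

section Data

variable (z x1 y1 x2 y2 x3 y3 : Q)

/-- the map from the model -/
def iota (m : M) : Q := P x1 y1 m.1.1 * P x2 y2 m.1.2.1 * P x3 y3 m.1.2.2 * cond m.2 z 1

end Data

theorem commute_P {x y r : Q} (hx : Commute r x) (hy : Commute r y) (p : Bool × Bool) :
    Commute r (P x y p) := by
  obtain ⟨a, b⟩ := p
  cases a <;> cases b <;> simp [P, hx, hy, hx.mul_right hy]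

theorem centre_commute {z : Q} (hz : Centre z) (c : Bool) (q : Q) : Commute (cond c z 1) q := by
  cases c
  · exact Commute.one_left q
  · exact hz.comm q

theorem cond_mul_cond {z : Q} (hz : Centre z) (c d : Bool) :
    cond c z 1 * cond d z 1 = cond (xor c d) z 1 := by
  cases c <;> cases d <;> simp [hz.sq]

/-- All data needed: three commuting pairs. -/
structure Data (Q : Type*) [Group Q] where
  z : Q
  hz : Centre z
  x1 : Q
  y1 : Q
  x2 : Q
  y2 : Q
  x3 : Q
  y3 : Q
  h1 : Pair z x1 y1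
  h2 : Pair z x2 y2
  h3 : Pair z x3 y3
  R : Subgroup Q
  c12 : ∀ p q, Commute (P x1 y1 p) (P x2 y2 q)
  c13 : ∀ p q, Commute (P x1 y1 p) (P x3 y3 q)
  c23 : ∀ p q, Commute (P x2 y2 p) (P x3 y3 q)
  cR1 : ∀ r ∈ R, ∀ p, Commute r (P x1 y1 p)
  cR2 : ∀ r ∈ R, ∀ p, Commute r (P x2 y2 p)
  cR3 : ∀ r ∈ R, ∀ p, Commute r (P x3 y3 p)
  decomp : ∀ q : Q, ∃ v, ∃ r ∈ R, q = iota z x1 y1 x2 y2 x3 y3 (v, false) * r

theorem exists_data [Finite Q] {z : Q} (hz : Centre z) {F : Subgroup Q}
    (h : Frame z ⊤ F) (hF : 16 ≤ Nat.card F) : Nonempty (Data Q) := by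
  obtain ⟨x1, y1, h1, -, -, R1, F1, f1, hc1, hR1, d1⟩ := exists_pair hz h (by omega)
  obtain ⟨x2, y2, h2, hx2, hy2, R2, F2, f2, hc2, hR2, d2⟩ := exists_pair hz f1 (by omega)
  obtain ⟨x3, y3, h3, hx3, hy3, R3, F3, -, -, hR3, d3⟩ := exists_pair hz f2 (by omega)
  have cm : ∀ {x y : Q} {A B : Subgroup Q}, (∀ r ∈ B, r ∈ A ∧ r * x = x * r ∧ r * y = y * r) →
      ∀ r ∈ B, ∀ p, Commute r (P x y p) :=
    fun hB r hr p => commute_P (hB r hr).2.1 (hB r hr).2.2 p
  have mem : ∀ {x y : Q} {A : Subgroup Q}, x ∈ A → y ∈ A → ∀ p : Bool × Bool, P x y p ∈ A := by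
    intro x y A hx hy p
    obtain ⟨a, b⟩ := p
    cases a <;> cases b <;> simp [P, hx, hy, A.one_mem, A.mul_mem hx hy]
  refine ⟨{ z := z, hz := hz, x1 := x1, y1 := y1, x2 := x2, y2 := y2, x3 := x3, y3 := y3,
            h1 := h1, h2 := h2, h3 := h3, R := R3,
            c12 := fun p q => (cm hR1 _ (mem hx2 hy2 q) p).symm,
            c13 := fun p q => (cm hR1 _ (hR2 _ (mem hx3 hy3 q)).1 p).symm,
            c23 := fun p q => (cm hR2 _ (mem hx3 hy3 q) p).symm,
            cR1 := fun r hr p => cm hR1 r (hR2 r (hR3 r hr).1).1 p,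
            cR2 := fun r hr p => cm hR2 r (hR3 r hr).1 p,
            cR3 := fun r hr p => cm hR3 r hr p,
            decomp := ?_ }⟩
  intro q
  obtain ⟨a, b, r1, hr1, rfl⟩ := d1 q trivial
  obtain ⟨c, d, r2, hr2, rfl⟩ := d2 r1 hr1
  obtain ⟨e, f, r3, hr3, rfl⟩ := d3 r2 hr2
  exact ⟨((a, b), (c, d), (e, f)), r3, hr3, by simp [iota, P, mul_assoc]⟩

namespace Data

variable (D : Data Q)

/-- the embedding of the model -/
def ι (m : M) : Q := iota D.z D.x1 D.y1 D.x2 D.y2 D.x3 D.y3 m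

theorem commute_R {r : Q} (hr : r ∈ D.R) (m : M) : Commute r (D.ι m) :=
  (((D.cR1 r hr _).mul_right (D.cR2 r hr _)).mul_right (D.cR3 r hr _)).mul_right
    (centre_commute D.hz m.2 r).symm

theorem ι_mul (m m' : M) : D.ι (mul m m') = D.ι m * D.ι m' := by
  obtain ⟨⟨p1, p2, p3⟩, c⟩ := m
  obtain ⟨⟨q1, q2, q3⟩, d⟩ := m'
  have hz := D.hz
  show iota _ _ _ _ _ _ _ _ = iota _ _ _ _ _ _ _ _ * iota _ _ _ _ _ _ _ _
  simp only [iota]
  rw [Commute.mul_mul_mul_comm (centre_commute hz c _),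
    Commute.mul_mul_mul_comm ((D.c13 q1 p3).mul_left (D.c23 q2 p3)).symm,
    Commute.mul_mul_mul_comm (D.c12 q1 p2).symm,
    P_mul hz D.h1, P_mul hz D.h2, P_mul hz D.h3, cond_mul_cond hz]
  obtain ⟨a1, b1⟩ := p1
  obtain ⟨a2, b2⟩ := p2
  obtain ⟨a3, b3⟩ := p3
  obtain ⟨a1', b1'⟩ := q1
  obtain ⟨a2', b2'⟩ := q2
  obtain ⟨a3', b3'⟩ := q3
  simp only [mul]
  set A := P D.x1 D.y1 (xor a1 a1', xor b1 b1')
  set B := P D.x2 D.y2 (xor a2 a2', xor b2 b2')
  set C := P D.x3 D.y3 (xor a3 a3', xor b3 b3')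
  rw [Commute.mul_mul_mul_comm (centre_commute hz (b1 && a1') B), cond_mul_cond hz,
    Commute.mul_mul_mul_comm (centre_commute hz (xor (b1 && a1') (b2 && a2')) C), cond_mul_cond hz,
    mul_assoc _ (cond (xor (xor (b1 && a1') (b2 && a2')) (b3 && a3')) D.z 1), cond_mul_cond hz]
  congr 2
  generalize (b1 && a1') = u1
  generalize (b2 && a2') = u2
  generalize (b3 && a3') = u3
  cases u1 <;> cases u2 <;> cases u3 <;> cases c <;> cases d <;> rfl

theorem ι_cen (c : Bool) : D.ι (cen c) = cond c D.z 1 := by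
  simp [ι, iota, cen, P]

theorem ι_mul_comm (m x : M) : D.ι m * D.ι x = D.ι x * D.ι m * cond (om m x) D.z 1 := by
  rw [← D.ι_mul, mul_eq_mul_cen, D.ι_mul, D.ι_mul, D.ι_cen]

theorem om_eq (m m' x : M) (h : D.ι m = D.ι m') : om x m = om x m' := by
  have h1 := D.ι_mul_comm x m
  rw [h, D.ι_mul_comm x m'] at h1
  have h2 := mul_left_cancel h1
  have hne := D.hz.ne_one
  rcases Bool.eq_false_or_eq_true (om x m) with e | e <;>
    rcases Bool.eq_false_or_eq_true (om x m') with e' | e' <;>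
    simp only [e, e', cond_true, cond_false] at h2 ⊢ <;>
    first
      | exact absurd h2 hne
      | exact absurd h2.symm hne

theorem ι_injective : Function.Injective D.ι := by
  intro m m' h
  have e1 := D.om_eq m m' gX1 h
  have e2 := D.om_eq m m' gY1 h
  have e3 := D.om_eq m m' gX2 h
  have e4 := D.om_eq m m' gY2 h
  have e5 := D.om_eq m m' gX3 h
  have e6 := D.om_eq m m' gY3 h
  obtain ⟨⟨⟨a1, b1⟩, ⟨a2, b2⟩, a3, b3⟩, c⟩ := m
  obtain ⟨⟨⟨a1', b1'⟩, ⟨a2', b2'⟩, a3', b3'⟩, c'⟩ := m'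
  simp [om, gX1, gY1, gX2, gY2, gX3, gY3] at e1 e2 e3 e4 e5 e6
  subst e1 e2 e3 e4 e5 e6
  have h2 : cond c D.z 1 = cond c' D.z 1 := by
    simpa [ι, iota] using h
  have hne := D.hz.ne_one
  cases c <;> cases c'
  · rfl
  · exact absurd h2.symm hne
  · exact absurd h2 hne
  · rfl

open Classical in
/-- coordinates of an element, read off from commutators with the six generators -/
noncomputable def vOf (q : Q) : (Bool × Bool) × (Bool × Bool) × (Bool × Bool) :=
  let com : M → Bool := fun g => decide (D.ι g * q ≠ q * D.ι g)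
  ((com gY1, com gX1), (com gY2, com gX2), (com gY3, com gX3))

theorem vOf_ι_mul (m : M) {r : Q} (hr : r ∈ D.R) : D.vOf (D.ι m * r) = m.1 := by
  classical
  have key : ∀ g : M, decide (D.ι g * (D.ι m * r) ≠ D.ι m * r * D.ι g) = om g m := by
    intro g
    have h1 : D.ι g * (D.ι m * r) = D.ι m * r * D.ι g * cond (om g m) D.z 1 := by
      rw [← mul_assoc, D.ι_mul_comm g m, mul_assoc (D.ι m * D.ι g),
        (centre_commute D.hz (om g m) r).eq, ← mul_assoc, mul_assoc (D.ι m) (D.ι g) r,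
        ← (D.commute_R hr g).eq, ← mul_assoc]
    rw [h1]
    cases om g m
    · simp
    · simp [D.hz.ne_one]
  obtain ⟨⟨⟨a1, b1⟩, ⟨a2, b2⟩, a3, b3⟩, c⟩ := m
  simp only [vOf]
  rw [key, key, key, key, key, key]
  simp [om, gX1, gY1, gX2, gY2, gX3, gY3]

theorem exists_eq (q : Q) : ∃ m, ∃ r ∈ D.R, q = D.ι m * r := by
  obtain ⟨v, r, hr, h⟩ := D.decomp q
  exact ⟨(v, false), r, hr, h⟩

/-- extension of a map of the model, fixing `R` -/
noncomputable def ext (f : M → M) (q : Q) : Q :=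
  D.ι (f (D.vOf q, false)) * (D.ι (D.vOf q, false))⁻¹ * q

/-- a map of the model compatible with multiplication and fixing the centre -/
structure Good (f : M → M) : Prop where
  map_mul : ∀ m x, f (mul m x) = mul (f m) (f x)
  map_cen : ∀ c, f (cen c) = cen c
  surj : Function.Surjective f

theorem ext_apply {f : M → M} (hf : Good f) (m : M) {r : Q} (hr : r ∈ D.R) :
    D.ext f (D.ι m * r) = D.ι (f m) * r := by
  unfold ext
  rw [D.vOf_ι_mul m hr]
  have hm : m = mul (m.1, false) (cen m.2) := by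
    obtain ⟨⟨⟨a1, b1⟩, ⟨a2, b2⟩, a3, b3⟩, c⟩ := m
    simp [mul, cen]
  conv_lhs => arg 2; rw [hm, D.ι_mul]
  conv_rhs => rw [hm, hf.map_mul, hf.map_cen, D.ι_mul]
  group

theorem ext_mul {f : M → M} (hf : Good f) (p q : Q) : D.ext f (p * q) = D.ext f p * D.ext f q := by
  obtain ⟨m, r, hr, rfl⟩ := D.exists_eq p
  obtain ⟨m', r', hr', rfl⟩ := D.exists_eq q
  rw [Commute.mul_mul_mul_comm (D.commute_R hr m'), ← D.ι_mul,
    D.ext_apply hf _ (D.R.mul_mem hr hr'), D.ext_apply hf _ hr, D.ext_apply hf _ hr', hf.map_mul,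
    D.ι_mul, Commute.mul_mul_mul_comm (D.commute_R hr (f m'))]

/-- the automorphism -/
noncomputable def aut [Finite Q] {f : M → M} (hf : Good f) : MulAut Q :=
  MulEquiv.ofBijective (MonoidHom.mk' (D.ext f) (D.ext_mul hf))
    (Finite.surjective_iff_bijective.1 (fun q => by
      obtain ⟨m, r, hr, rfl⟩ := D.exists_eq q
      obtain ⟨m0, rfl⟩ := hf.surj m
      exact ⟨D.ι m0 * r, D.ext_apply hf m0 hr⟩))

theorem aut_apply [Finite Q] {f : M → M} (hf : Good f) (m : M) {r : Q} (hr : r ∈ D.R) :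
    D.aut hf (D.ι m * r) = D.ι (f m) * r :=
  D.ext_apply hf m hr

theorem aut_ι [Finite Q] {f : M → M} (hf : Good f) (m : M) : D.aut hf (D.ι m) = D.ι (f m) := by
  simpa using D.aut_apply hf m D.R.one_mem

theorem ι_conjM (m x : M) : D.ι m * D.ι x * (D.ι m)⁻¹ = D.ι (conjM m x) := by
  rw [D.ι_mul_comm, conjM_eq, D.ι_mul, D.ι_cen, mul_assoc (D.ι x),
    ← (centre_commute D.hz (om m x) (D.ι m)).eq]
  group

theorem good_alpha : Good alpha :=
  ⟨alpha_mul, fun c => by cases c <;> rfl, fun x => ⟨alpha x, alpha_alpha x⟩⟩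

theorem good_beta : Good beta := by
  refine ⟨beta_mul, fun c => by cases c <;> rfl, fun x => ⟨beta (beta (beta x)), ?_⟩⟩
  rw [beta_beta (beta (beta x)), beta_beta x]
  simp [conjM, om, gX2]

theorem conj_fix {r : Q} (hr : r ∈ D.R) (m x : M) :
    MulAut.conj (D.ι m) (D.ι x * r) = D.ι (conjM m x) * r := by
  rw [MulAut.conj_apply, ← D.ι_conjM]
  have h := (D.commute_R hr m).inv_right
  rw [← mul_assoc, mul_assoc (D.ι m * D.ι x), h.eq, ← mul_assoc]

theorem aut_alpha_sq [Finite Q] : D.aut good_alpha * D.aut good_alpha = 1 := by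
  ext q
  obtain ⟨m, r, hr, rfl⟩ := D.exists_eq q
  rw [MulAut.mul_apply, D.aut_apply _ _ hr, D.aut_apply _ _ hr, alpha_alpha]
  rfl

theorem aut_beta_sq [Finite Q] :
    D.aut good_beta * D.aut good_beta = MulAut.conj (D.ι gX2) := by
  ext q
  obtain ⟨m, r, hr, rfl⟩ := D.exists_eq q
  rw [MulAut.mul_apply, D.aut_apply _ _ hr, D.aut_apply _ _ hr, beta_beta, D.conj_fix hr]

theorem aut_comm [Finite Q] : ∃ m : M, D.aut good_alpha * D.aut good_beta =
    MulAut.conj (D.ι m) * (D.aut good_beta * D.aut good_alpha) := by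
  obtain ⟨m0, h0⟩ := alpha_beta
  refine ⟨m0, ?_⟩
  ext q
  obtain ⟨m, r, hr, rfl⟩ := D.exists_eq q
  rw [MulAut.mul_apply, MulAut.mul_apply, MulAut.mul_apply, D.aut_apply _ _ hr,
    D.aut_apply _ _ hr, D.aut_apply _ _ hr, D.aut_apply _ _ hr, h0, D.conj_fix hr]

theorem exists_conjM {f : M → M} [Finite Q] (hf : Good f) {L : Subgroup (MulAut Q)}
    (hL : (Cfsg.Inn Q).IsComplement' L) :
    ∃ (l : MulAut Q) (v : (Bool × Bool) × (Bool × Bool) × (Bool × Bool)), l ∈ L ∧
      (QuotientGroup.mk l : MulAut Q ⧸ Cfsg.Inn Q) = QuotientGroup.mk (D.aut hf) ∧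
      ∀ x, l (D.ι x) = D.ι (conjM (v, false) (f x)) := by
  obtain ⟨⟨⟨i, hi⟩, ⟨l, hl⟩⟩, hil, -⟩ := Function.Bijective.existsUnique hL (D.aut hf)
  change i * l = D.aut hf at hil
  obtain ⟨qa, rfl⟩ := hi
  have hle : l = MulAut.conj qa⁻¹ * D.aut hf := by
    rw [map_inv, ← hil, inv_mul_cancel_left]
  obtain ⟨m1, r, hr, hqa⟩ := D.exists_eq qa⁻¹
  refine ⟨l, m1.1, hl, ?_, ?_⟩
  · rw [← hil, QuotientGroup.mk_mul, (QuotientGroup.eq_one_iff _).2 (MonoidHom.mem_range.2 ⟨qa, rfl⟩),
      one_mul]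
  · intro x
    rw [hle, MulAut.mul_apply, D.aut_ι, MulAut.conj_apply, hqa, mul_inv_rev,
      show D.ι m1 * r * D.ι (f x) * (r⁻¹ * (D.ι m1)⁻¹) =
        D.ι m1 * (r * D.ι (f x) * r⁻¹) * (D.ι m1)⁻¹ by group,
      (D.commute_R hr (f x)).eq, mul_inv_cancel_right, D.ι_conjM]
    conv_lhs => rw [show m1 = (m1.1, m1.2) from rfl, conjM_eq_conjM]

include D in
/-- the inner automorphisms have no complement -/
theorem not_isComplement [Finite Q] (L : Subgroup (MulAut Q)) :
    ¬ (Cfsg.Inn Q).IsComplement' L := by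
  intro hL
  obtain ⟨la, va, hla, hqa, ha⟩ := D.exists_conjM good_alpha hL
  obtain ⟨lb, vb, hlb, hqb, hb⟩ := D.exists_conjM good_beta hL
  have htriv : ∀ a b : MulAut Q, a ∈ L → b ∈ L →
      (QuotientGroup.mk a : MulAut Q ⧸ Cfsg.Inn Q) = QuotientGroup.mk b → a = b := by
    intro a b ha hb h
    have h1 : a⁻¹ * b ∈ Cfsg.Inn Q := QuotientGroup.eq.1 h
    have h2 : a⁻¹ * b ∈ L := L.mul_mem (L.inv_mem ha) hb
    exact inv_mul_eq_one.1 (Subgroup.disjoint_def.1 hL.disjoint h1 h2)
  have haa : la * la = 1 := by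
    refine htriv _ _ (L.mul_mem hla hla) L.one_mem ?_
    rw [QuotientGroup.mk_mul, hqa, ← QuotientGroup.mk_mul, D.aut_alpha_sq]
  have hbb : lb * lb = 1 := by
    refine htriv _ _ (L.mul_mem hlb hlb) L.one_mem ?_
    rw [QuotientGroup.mk_mul, hqb, ← QuotientGroup.mk_mul, D.aut_beta_sq]
    exact (QuotientGroup.eq_one_iff _).2 ⟨_, rfl⟩
  have hab : la * lb = lb * la := by
    refine htriv _ _ (L.mul_mem hla hlb) (L.mul_mem hlb hla) ?_
    obtain ⟨m0, h0⟩ := D.aut_comm
    rw [QuotientGroup.mk_mul, hqa, hqb, ← QuotientGroup.mk_mul, h0, QuotientGroup.mk_mul,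
      (QuotientGroup.eq_one_iff _).2 (MonoidHom.mem_range.2 ⟨_, rfl⟩), one_mul,
      QuotientGroup.mk_mul, QuotientGroup.mk_mul, hqa, hqb]
  have hA : ∀ x, conjM (va, false) (alpha (conjM (va, false) (alpha x))) = x := by
    intro x
    apply D.ι_injective
    rw [← ha, ← ha, ← MulAut.mul_apply, haa]
    rfl
  have hB : ∀ x, conjM (vb, false) (beta (conjM (vb, false) (beta x))) = x := by
    intro x
    apply D.ι_injective
    rw [← hb, ← hb, ← MulAut.mul_apply, hbb]
    rfl
  have hAB : ∀ x, conjM (va, false) (alpha (conjM (vb, false) (beta x))) =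
      conjM (vb, false) (beta (conjM (va, false) (alpha x))) := by
    intro x
    apply D.ι_injective
    rw [← ha, ← hb, ← hb, ← ha, ← MulAut.mul_apply, hab]
    rfl
  have hk := key va (List.all_eq_true.2 fun g _ => by simpa using hA g) vb
    (List.all_eq_true.2 fun g _ => by simpa using hB g)
  rw [List.all_eq_true.2 fun g _ => by simpa using hAB g] at hk
  exact absurd hk (by decide)

end Data

/-- Centre data of an extraspecial 2-group. -/
theorem exists_centre (hQ : Cfsg.IsExtraspecial 2 Q) :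
    ∃ z : Q, Centre z ∧ ∀ q ∈ Subgroup.center Q, q = 1 ∨ q = z := by
  obtain ⟨⟨-, -, hcom⟩, hc⟩ := hQ
  obtain ⟨z, hz1, hzall⟩ : ∃ z : Subgroup.center Q, z ≠ 1 ∧ ∀ y : Subgroup.center Q, y = 1 ∨ y = z := by
    obtain ⟨a, b, hab, huniv⟩ := Nat.card_eq_two_iff.1 hc
    have hmem : ∀ y : Subgroup.center Q, y = a ∨ y = b := fun y => by
      have := huniv.symm ▸ Set.mem_univ y
      simpa using this
    rcases hmem 1 with h | h
    · exact ⟨b, by rw [h]; exact hab.symm, fun y => h ▸ hmem y⟩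
    · exact ⟨a, by rw [h]; exact hab, fun y => (h ▸ hmem y).symm⟩
  have hzc : ∀ q : Q, (z : Q) * q = q * z := fun q => (Subgroup.mem_center_iff.1 z.2 q).symm
  have hall : ∀ q ∈ Subgroup.center Q, q = 1 ∨ q = (z : Q) := by
    intro q hq
    rcases hzall ⟨q, hq⟩ with h | h
    · exact Or.inl (congrArg Subtype.val h)
    · exact Or.inr (congrArg Subtype.val h)
  have hne : (z : Q) ≠ 1 := fun h => hz1 (Subtype.ext h)
  have hsq : (z : Q) * z = 1 := by
    refine (hall _ ((z * z).2)).resolve_right ?_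
    intro h
    exact hne (by simpa using h)
  have hcm : ∀ a b : Q, a * b = b * a ∨ a * b = b * a * z := by
    intro a b
    have h1 : a⁻¹ * b⁻¹ * a * b ∈ Subgroup.center Q := by
      rw [← hcom]
      have := Subgroup.commutator_mem_commutator (Subgroup.mem_top a⁻¹) (Subgroup.mem_top b⁻¹)
      rw [commutatorElement_def] at this
      simpa [commutator_def] using this
    rcases hall _ h1 with h | h
    · left
      calc a * b = b * a * (a⁻¹ * b⁻¹ * a * b) := by group
        _ = b * a := by rw [h, mul_one]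
    · right
      calc a * b = b * a * (a⁻¹ * b⁻¹ * a * b) := by group
        _ = b * a * z := by rw [h]
  refine ⟨z, ⟨hne, hsq, hzc, hcm, fun q => hall _ ?_⟩, hall⟩
  rw [Subgroup.mem_center_iff]
  intro g
  rcases hcm g q with h | h
  · rw [← mul_assoc, h, mul_assoc, h, mul_assoc]
  · calc g * (q * q) = g * q * q := (mul_assoc _ _ _).symm
      _ = q * g * z * q := congrArg (· * q) h
      _ = q * (g * q) * z := by rw [mul_assoc (q * g), hzc q]; simp only [mul_assoc]
      _ = q * q * g * (z * z) := by rw [h]; simp only [mul_assoc]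
      _ = q * q * g := by rw [hsq, mul_one]

theorem inn_no_complement [Finite Q] (hQ : Cfsg.IsExtraspecial 2 Q) {E : Subgroup Q}
    (hE : Cfsg.IsElementaryAbelian 2 E) (hcard : 16 ≤ Nat.card E) (L : Subgroup (MulAut Q)) :
    ¬ (Cfsg.Inn Q).IsComplement' L := by
  obtain ⟨z, hz, hall⟩ := exists_centre hQ
  obtain ⟨hcomm, hsq⟩ := hE
  have hEc : ∀ a ∈ E, ∀ b ∈ E, a * b = b * a := fun a ha b hb =>
    congrArg Subtype.val (hcomm.is_comm.comm (⟨a, ha⟩ : E) ⟨b, hb⟩)
  have hEs : ∀ a ∈ E, a * a = 1 := fun a ha => by rw [← pow_two]; exact hsq a ha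
  let F : Subgroup Q :=
    { carrier := {q | q ∈ E ∨ q * z ∈ E}
      one_mem' := Or.inl E.one_mem
      inv_mem' := fun {q} hq => by
        rcases hq with h | h
        · exact Or.inl (E.inv_mem h)
        · refine Or.inr ?_
          have := E.inv_mem h
          rwa [mul_inv_rev, inv_eq_of_mul_eq_one_right hz.sq, hz.comm] at this
      mul_mem' := fun {p q} hp hq => by
        rcases hp with h | h <;> rcases hq with h' | h'
        · exact Or.inl (E.mul_mem h h')
        · exact Or.inr (by rw [mul_assoc]; exact E.mul_mem h h')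
        · refine Or.inr ?_
          rw [mul_assoc, ← hz.comm q, ← mul_assoc]
          exact E.mul_mem h h'
        · refine Or.inl ?_
          have := E.mul_mem h h'
          rwa [show p * z * (q * z) = p * q * (z * z) by
            rw [mul_assoc, ← mul_assoc z q z, hz.comm q]; simp only [mul_assoc], hz.sq, mul_one] at this }
  have hrep : ∀ a ∈ F, ∃ e ∈ E, a = e ∨ a = e * z := by
    rintro a (h | h)
    · exact ⟨a, h, Or.inl rfl⟩
    · exact ⟨a * z, h, Or.inr (by rw [mul_assoc, hz.sq, mul_one])⟩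
  have hfr : Frame z ⊤ F := by
    refine ⟨le_top, Or.inr (by rw [hz.sq]; exact E.one_mem), ?_, ?_, ?_⟩
    · intro a ha b hb
      obtain ⟨e, he, h1⟩ := hrep a ha
      obtain ⟨e', he', h2⟩ := hrep b hb
      have c0 : Commute e e' := hEc e he e' he'
      have cz : ∀ q, Commute z q := hz.comm
      rcases h1 with rfl | rfl <;> rcases h2 with rfl | rfl
      · exact c0
      · exact c0.mul_right (cz _).symm
      · exact c0.mul_left (cz _)
      · exact (c0.mul_left (cz _)).mul_right (((cz _).symm).mul_left (cz _))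
    · intro a ha
      obtain ⟨e, he, h1⟩ := hrep a ha
      rcases h1 with rfl | rfl
      · exact hEs _ he
      · rw [show e * z * (e * z) = e * (z * e) * z by simp only [mul_assoc], hz.comm e,
          show e * (e * z) * z = e * e * (z * z) by simp only [mul_assoc], hEs e he, hz.sq, mul_one]
    · intro r _ hr
      exact hall r (Subgroup.mem_center_iff.2 fun g => (hr g trivial).symm)
  have hF : 16 ≤ Nat.card F :=
    hcard.trans (Nat.card_le_card_of_injective _ (Subgroup.inclusion_injective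
      (show E ≤ F from fun q hq => Or.inl hq)))
  obtain ⟨D⟩ := exists_data hz hfr hF
  exact D.not_isComplement L

end CfsgLib.LocalB.ES
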