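import Mathlib.GroupTheory.PGroup
import Mathlib.GroupTheory.QuotientGroup.Finite
import Mathlib.Data.ZMod.QuotientGroup
import Mathlib.Tactic

/-!
Finite 2-groups with an involutory automorphism fixing exactly four elements that commutes with a fixed-point-free
automorphism of order three.
-/

set_option autoImplicit false
set_option linter.unusedSectionVars false

namespace CfsgLib.FpfThreeTwo

variable {T : Type*} [Group T]

/-- The elements fixed by an automorphism. -/
def fix (s : T ≃* T) : Subgroup T := s.toMonoidHom.eqLocus (MonoidHom.id T)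

@[simp] theorem mem_fix {s : T ≃* T} {x : T} : x ∈ fix s ↔ s x = x := Iff.rfl

/-- The standing hypotheses. -/
structure Cfg (r s : T ≃* T) : Prop where
  finite : Finite T
  two : IsPGroup 2 T
  r3 : ∀ x, r (r (r x)) = x
  fpf : ∀ x, r x = x → x = 1
  s2 : ∀ x, s (s x) = x
  comm : ∀ x, r (s x) = s (r x)
  card_fix : Nat.card (fix s) = 4

variable {r s : T ≃* T}

/-- An involutory map of a nontrivial finite 2-group respecting products fixes a nonidentity point. -/
theorem exists_fixed_involutive {X : Type*} [Group X] [Finite X] [Nontrivial X] (hX : IsPGroup 2 X)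
    (f : X → X) (hm : ∀ a b, f (a * b) = f a * f b) (h2 : ∀ a, f (f a) = a) :
    ∃ v, v ≠ 1 ∧ f v = v := by
  haveI : Fact (Nat.Prime 2) := ⟨Nat.prime_two⟩
  let g : X →* X := MonoidHom.mk' f hm
  by_contra hno
  push Not at hno
  have hbij : Function.Bijective fun x : X => x⁻¹ * g x := by
    refine (Finite.injective_iff_bijective).1 fun y z e => ?_
    have h3 : g (y * z⁻¹) = y * z⁻¹ := by
      rw [map_mul, map_inv]
      have h4 : g y = y * (z⁻¹ * g z) := by rw [← show y⁻¹ * g y = z⁻¹ * g z from e]; group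
      rw [h4]; group
    by_contra hne
    exact hno _ (fun h => hne (mul_inv_eq_one.1 h)) h3
  have hinv : ∀ x, g x = x⁻¹ := by
    intro x
    obtain ⟨y, rfl⟩ := hbij.2 x
    simp only [map_mul, map_inv, show g (g y) = y from h2 y, mul_inv_rev, inv_inv]
  obtain ⟨m, hm0, hm'⟩ := (IsPGroup.nontrivial_iff_card hX).1 inferInstance
  obtain ⟨z, hz⟩ := exists_prime_orderOf_dvd_card' 2 (hm' ▸ dvd_pow_self 2 hm0.ne' : 2 ∣ Nat.card X)
  have hz2 : z * z = 1 := by rw [← pow_two, ← hz, pow_orderOf_eq_one]
  have hz1 : z ≠ 1 := fun h => by rw [h, orderOf_one] at hz; omega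
  exact hno z hz1 (by rw [show f z = g z from rfl, hinv, inv_eq_of_mul_eq_one_right hz2])

namespace Cfg

variable (C : Cfg r s)
include C

theorem exists_eq (x : T) : ∃ y, x = y⁻¹ * r y := by
  haveI := C.finite
  have hinj : Function.Injective fun y : T => y⁻¹ * r y := by
    intro y z h
    have h1 : r (y * z⁻¹) = y * z⁻¹ := by
      rw [map_mul, map_inv]
      have h2 : r y = y * (z⁻¹ * r z) := by rw [← show y⁻¹ * r y = z⁻¹ * r z from h]; group
      rw [h2]
      group
    exact mul_inv_eq_one.1 (C.fpf _ h1)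
  obtain ⟨y, hy⟩ := Finite.surjective_of_injective hinj x
  exact ⟨y, hy.symm⟩

theorem prod_three (x : T) : x * r x * r (r x) = 1 := by
  obtain ⟨y, rfl⟩ := C.exists_eq x
  simp only [map_mul, map_inv, C.r3]
  group

theorem inv_eq (x : T) : x⁻¹ = r x * r (r x) :=
  inv_eq_of_mul_eq_one_right (by rw [← mul_assoc]; exact C.prod_three x)

theorem rr_eq (x : T) : r (r x) = (r x)⁻¹ * x⁻¹ := by
  rw [C.inv_eq x]; group

theorem commute_r (x : T) : Commute x (r x) := by
  have h1 := C.prod_three x
  have h2 := C.prod_three (r x)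
  have h3 := C.prod_three (r (r x))
  simp only [C.r3] at h2 h3
  obtain ⟨y, hy⟩ : ∃ y, x = y⁻¹ * r (r y) := by
    haveI := C.finite
    obtain ⟨y, hy⟩ := C.exists_eq x⁻¹
    exact ⟨r y, by rw [C.r3, ← inv_inv x, hy, mul_inv_rev, inv_inv]⟩
  have h4 : x * r (r x) * r x = 1 := by
    rw [hy]
    simp only [map_mul, map_inv, C.r3]
    group
  have h5 : r x * r (r x) = r (r x) * r x := by
    rw [← C.inv_eq x]
    exact inv_eq_of_mul_eq_one_right (by rw [← mul_assoc]; exact h4)
  have h6 := congrArg r (congrArg r h5)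
  simp only [map_mul, C.r3] at h6
  exact h6

theorem commute_rr (x : T) : Commute x (r (r x)) := by
  rw [C.rr_eq]
  exact ((C.commute_r x).inv_right).mul_right (Commute.refl x).inv_right

theorem commute_conj_r (x u : T) : Commute x (u * r x * u⁻¹) := by
  obtain ⟨y, rfl⟩ := C.exists_eq u
  have h := C.commute_r (y * x * y⁻¹)
  refine (Commute.conj_iff y).1 ?_
  convert h using 1
  simp only [map_mul, map_inv]
  group

theorem commute_conj (x u : T) : Commute x (u * x * u⁻¹) := by
  have h1 := C.commute_conj_r x u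
  have h2 : Commute x (u * r (r x) * u⁻¹) := by
    have h := ((C.commute_conj_r (r (r x)) u⁻¹).map (MulAut.conj u).toMonoidHom).symm
    simp only [MulEquiv.coe_toMonoidHom, MulAut.conj_apply, C.r3] at h
    have e : u * (u⁻¹ * x * u⁻¹⁻¹) * u⁻¹ = x := by group
    rw [e] at h
    exact h
  have h3 : u * x⁻¹ * u⁻¹ = (u * r x * u⁻¹) * (u * r (r x) * u⁻¹) := by rw [C.inv_eq]; group
  have h4 : u * x * u⁻¹ = (u * x⁻¹ * u⁻¹)⁻¹ := by group
  rw [h4, h3]
  exact (h1.mul_right h2).inv_right

open scoped commutatorElement in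
theorem commute_commutator (x y : T) : Commute x ⁅x, y⁆ := by
  have e : ⁅x, y⁆ = x * (y * x * y⁻¹)⁻¹ := by rw [commutatorElement_def]; group
  rw [e]
  exact (Commute.refl x).mul_right (C.commute_conj x y).inv_right

theorem r_mem_fix {x : T} (hx : x ∈ fix s) : r x ∈ fix s := by
  rw [mem_fix] at hx ⊢
  rw [← C.comm, hx]

/-- A nonidentity fixed point and its image exhaust the fixed points. -/
theorem fix_cases {v : T} (hv : v ∈ fix s) (hv1 : v ≠ 1) {x : T} (hx : x ∈ fix s) :
    x = 1 ∨ x = v ∨ x = r v ∨ x = r (r v) := by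
  classical
  haveI := C.finite
  let S : Finset T := {1, v, r v, r (r v)}
  have hr : ∀ a : T, a ≠ 1 → r a ≠ a := fun a ha h => ha (C.fpf a h)
  have hv2 : r v ≠ 1 := fun h => hv1 (r.injective (h.trans (map_one r).symm))
  have hv3 : r (r v) ≠ 1 := fun h => hv2 (r.injective (h.trans (map_one r).symm))
  have hcard : S.card = 4 := by
    rw [Finset.card_insert_of_notMem, Finset.card_insert_of_notMem, Finset.card_pair]
    · exact (hr _ hv2).symm
    · simp only [Finset.mem_insert, Finset.mem_singleton, not_or]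
      refine ⟨(hr _ hv1).symm, fun h => hr _ hv1 ?_⟩
      have := congrArg r h
      rw [C.r3] at this
      exact this
    · simp [hv1.symm, hv2.symm, hv3.symm]
  have hsub : ∀ a ∈ S, a ∈ fix s := by
    intro a ha
    simp only [S, Finset.mem_insert, Finset.mem_singleton] at ha
    rcases ha with rfl | rfl | rfl | rfl
    · exact one_mem _
    · exact hv
    · exact C.r_mem_fix hv
    · exact C.r_mem_fix (C.r_mem_fix hv)
  have hF : S = (Set.toFinite (fix s : Set T)).toFinset := by
    refine Finset.eq_of_subset_of_card_le (fun a ha => (Set.Finite.mem_toFinset _).2 (hsub a ha)) ?_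
    rw [hcard, ← Set.ncard_eq_toFinset_card (fix s : Set T), ← Nat.card_coe_set_eq]
    exact C.card_fix.le
  have hxS : x ∈ S := by rw [hF, Set.Finite.mem_toFinset]; exact hx
  simpa [S] using hxS

theorem pow_two_fix {v : T} (hv : v ∈ fix s) : v * v = 1 := by
  haveI := C.finite
  by_contra hne
  have hv1 : v ≠ 1 := fun h => hne (by rw [h, one_mul])
  rcases C.fix_cases hv hv1 (mul_mem hv hv) with h | h | h | h
  · exact hne h
  · exact hv1 (mul_eq_left.1 h)
  · have h2 : r (r v) = r v * r v := (congrArg r h.symm).trans (map_mul r v v)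
    have h3 := C.prod_three v
    rw [h2, ← h] at h3
    have h7 : v ^ 7 = 1 := by rw [← h3]; simp only [pow_succ, pow_zero, one_mul, mul_assoc]
    obtain ⟨k, hk⟩ := C.two v
    exact hv1 (orderOf_eq_one_iff.1 (Nat.eq_one_of_dvd_coprimes
      (Nat.Coprime.pow_left k (by norm_num : Nat.Coprime 2 7))
      (orderOf_dvd_of_pow_eq_one hk) (orderOf_dvd_of_pow_eq_one h7)))
  · have h2 : r v = r (r (r (r v))) := by rw [C.r3]
    have h4 : r (r (r (r v))) = v * v * (v * v) := by
      calc r (r (r (r v))) = r (r (v * v)) := by rw [h]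
        _ = r (r v) * r (r v) := by rw [map_mul, map_mul]
        _ = v * v * (v * v) := by rw [← h]
    have h3 := C.prod_three v
    rw [← h, h2, h4] at h3
    have h7 : v ^ 7 = 1 := by rw [← h3]; simp only [pow_succ, pow_zero, one_mul, mul_assoc]
    obtain ⟨k, hk⟩ := C.two v
    exact hv1 (orderOf_eq_one_iff.1 (Nat.eq_one_of_dvd_coprimes
      (Nat.Coprime.pow_left k (by norm_num : Nat.Coprime 2 7))
      (orderOf_dvd_of_pow_eq_one hk) (orderOf_dvd_of_pow_eq_one h7)))

theorem exists_fixed_ne_one (W : Subgroup T) (hW : ∀ x ∈ W, s x ∈ W) (hne : W ≠ ⊥) :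
    ∃ v ∈ W, v ≠ 1 ∧ v ∈ fix s := by
  haveI := C.finite
  haveI : Nontrivial W := (Subgroup.nontrivial_iff_ne_bot W).2 hne
  obtain ⟨v, hv, hvf⟩ := exists_fixed_involutive (C.two.to_subgroup W)
    (fun w : W => (⟨s w, hW _ w.2⟩ : W))
    (fun a b => Subtype.ext (map_mul s (a : T) b)) (fun a => Subtype.ext (C.s2 _))
  exact ⟨v, v.2, fun h => hv (Subtype.ext h), congrArg Subtype.val hvf⟩

/-- A nontrivial invariant subgroup contains the fixed points. -/
theorem fix_le (W : Subgroup T) (hs : ∀ x ∈ W, s x ∈ W) (hr : ∀ x ∈ W, r x ∈ W) (hne : W ≠ ⊥) :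
    fix s ≤ W := by
  obtain ⟨v, hv, hv1, hvf⟩ := C.exists_fixed_ne_one W hs hne
  intro x hx
  rcases C.fix_cases hvf hv1 hx with rfl | rfl | rfl | rfl
  exacts [one_mem _, hv, hr _ hv, hr _ (hr _ hv)]

theorem fix_central : fix s ≤ Subgroup.center T := by
  haveI := C.finite
  haveI : Fact (Nat.Prime 2) := ⟨Nat.prime_two⟩
  have hinv : ∀ (f : T ≃* T), ∀ x ∈ Subgroup.center T, f x ∈ Subgroup.center T := fun f x hx =>
    Subgroup.mem_center_iff.2 fun g => by
      obtain ⟨g, rfl⟩ := f.surjective g
      rw [← map_mul, Subgroup.mem_center_iff.1 hx g, map_mul]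
  refine C.fix_le _ (hinv s) (hinv r) ?_
  haveI : Nontrivial T := by
    obtain ⟨v, hv⟩ := (Subgroup.ne_bot_iff_exists_ne_one (H := fix s)).1 (by
      intro h
      have := C.card_fix
      rw [h, Subgroup.card_bot] at this
      omega)
    exact ⟨⟨v, 1, fun h => hv (Subtype.ext h)⟩⟩
  haveI := C.two.center_nontrivial
  exact (Subgroup.nontrivial_iff_ne_bot _).1 inferInstance

theorem central {v : T} (hv : v ∈ fix s) (g : T) : Commute g v :=
  Subgroup.mem_center_iff.1 (C.fix_central hv) g

theorem fix_normal : (fix s).Normal :=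
  ⟨fun v hv g => by rwa [(C.central hv g).eq, mul_inv_cancel_right]⟩

/-- The map induced on the quotient by the fixed points. -/
def quot (f : T ≃* T) [(fix s).Normal] (h : (fix s).map f.toMonoidHom = fix s) :
    T ⧸ fix s ≃* T ⧸ fix s :=
  QuotientGroup.congr _ _ f h

theorem map_r : (fix s).map r.toMonoidHom = fix s := by
  refine le_antisymm ?_ fun x hx => ⟨r (r x), C.r_mem_fix (C.r_mem_fix hx), C.r3 x⟩
  rintro _ ⟨x, hx, rfl⟩
  exact C.r_mem_fix hx

theorem map_s : (fix s).map s.toMonoidHom = fix s := by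
  refine le_antisymm ?_ fun x hx => ⟨x, hx, hx⟩
  rintro _ ⟨x, hx, rfl⟩
  show s x ∈ fix s
  rwa [show s x = x from hx]

theorem quot_fpf [(fix s).Normal] {x : T} (h : x⁻¹ * r x ∈ fix s) : x ∈ fix s := by
  haveI := C.finite
  let f : fix s → fix s := fun v => ⟨(v : T)⁻¹ * r v, mul_mem (inv_mem v.2) (C.r_mem_fix v.2)⟩
  have hf : Function.Injective f := by
    intro v w e
    have e' : (v : T)⁻¹ * r v = (w : T)⁻¹ * r w := congrArg Subtype.val e
    have h1 : r ((v : T) * (w : T)⁻¹) = v * (w : T)⁻¹ := by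
      rw [map_mul, map_inv]
      have h2 : r (v : T) = v * ((w : T)⁻¹ * r w) := by rw [← e']; group
      rw [h2]; group
    exact Subtype.ext (mul_inv_eq_one.1 (C.fpf _ h1))
  obtain ⟨w, hw⟩ := Finite.surjective_of_injective hf ⟨_, h⟩
  have hw' : (w : T)⁻¹ * r w = x⁻¹ * r x := congrArg Subtype.val hw
  have h2 : r (x * (w : T)⁻¹) = x * (w : T)⁻¹ := by
    rw [map_mul, map_inv]
    have h3 : r x = x * ((w : T)⁻¹ * r w) := by rw [hw']; group
    rw [h3]; group
  rw [mul_inv_eq_one.1 (C.fpf _ h2)]
  exact w.2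

theorem quot_cfg [(fix s).Normal] (hne : fix s ≠ ⊤) :
    Cfg (quot r C.map_r) (quot s C.map_s) := by
  haveI := C.finite
  haveI : Fact (Nat.Prime 2) := ⟨Nat.prime_two⟩
  have hr' : ∀ x : T, quot r C.map_r (x : T ⧸ fix s) = (r x : T ⧸ fix s) := fun x => rfl
  have hs' : ∀ x : T, quot s C.map_s (x : T ⧸ fix s) = (s x : T ⧸ fix s) := fun x => rfl
  have hr3 : ∀ x, quot r C.map_r (quot r C.map_r (quot r C.map_r x)) = x := by
    intro x
    induction x using QuotientGroup.induction_on with
    | H x => rw [hr', hr', hr', C.r3]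
  have hfpf : ∀ x, quot r C.map_r x = x → x = 1 := by
    intro x
    induction x using QuotientGroup.induction_on with
    | H x =>
      intro h
      rw [hr', QuotientGroup.eq] at h
      rw [QuotientGroup.eq_one_iff]
      refine C.quot_fpf ?_
      have h2 := inv_mem h
      rwa [mul_inv_rev, inv_inv] at h2
  have hmem : ∀ x : T, (x : T ⧸ fix s) ∈ fix (quot s C.map_s) ↔ x⁻¹ * s x ∈ fix s := fun x => by
    rw [mem_fix, hs', eq_comm, QuotientGroup.eq]
  refine ⟨inferInstance, C.two.to_quotient _, hr3, hfpf, ?_, ?_, ?_⟩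
  · intro x
    induction x using QuotientGroup.induction_on with
    | H x => rw [hs', hs', C.s2]
  · intro x
    induction x using QuotientGroup.induction_on with
    | H x => rw [hr', hs', hs', hr', C.comm]
  set U := (fix (quot s C.map_s)).comap (QuotientGroup.mk' (fix s))
  let d : U →* fix s :=
    { toFun := fun u => ⟨(u : T)⁻¹ * s u, (hmem _).1 u.2⟩
      map_one' := Subtype.ext (by simp)
      map_mul' := fun u v => Subtype.ext (by
        show ((u : T) * v)⁻¹ * s ((u : T) * v) = (u : T)⁻¹ * s u * ((v : T)⁻¹ * s v)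
        rw [map_mul, mul_inv_rev]
        have h := C.central ((hmem _).1 u.2) (v : T)⁻¹
        calc (v : T)⁻¹ * (u : T)⁻¹ * (s u * s v)
            = (v : T)⁻¹ * ((u : T)⁻¹ * s u) * s v := by group
          _ = (u : T)⁻¹ * s u * (v : T)⁻¹ * s v := by rw [h.eq]
          _ = _ := by group) }
  have hker : Nat.card d.ker = 4 := by
    rw [← C.card_fix]
    exact Nat.card_congr
      { toFun := fun u => ⟨((u : U) : T), by
          have h : ((u : U) : T)⁻¹ * s ((u : U) : T) = 1 := congrArg Subtype.val (MonoidHom.mem_ker.1 u.2)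
          rw [mem_fix]
          exact (inv_mul_eq_one.1 h).symm⟩
        invFun := fun v => ⟨⟨(v : T), (hmem _).2 (by
            rw [show s (v : T) = v from v.2, inv_mul_cancel]; exact one_mem _)⟩,
          MonoidHom.mem_ker.2 (Subtype.ext (by
            show (v : T)⁻¹ * s (v : T) = 1
            rw [show s (v : T) = v from v.2, inv_mul_cancel]))⟩
        left_inv := fun u => rfl
        right_inv := fun v => rfl }
  have hU : Nat.card U ≤ 16 := by
    have h1 := d.ker.card_mul_index
    rw [Subgroup.index_ker, hker] at h1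
    have h2 := Subgroup.card_le_card_group d.range
    rw [C.card_fix] at h2
    omega
  have hcard : Nat.card U = 4 * Nat.card (fix (quot s C.map_s)) := by
    have h := QuotientGroup.card_preimage_mk (fix s) (fix (quot s C.map_s) : Set (T ⧸ fix s))
    rw [← C.card_fix]
    exact h
  have hle : Nat.card (fix (quot s C.map_s)) ≤ 4 := by omega
  -- a moved orbit of fixed points
  obtain ⟨x, hx, hx1⟩ : ∃ x ∈ fix (quot s C.map_s), x ≠ 1 := by
    obtain ⟨g, hg⟩ : ∃ g : T, g ∉ fix s := by
      by_contra h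
      push Not at h
      exact hne (eq_top_iff.2 fun g _ => h g)
    haveI : Nontrivial (T ⧸ fix s) := ⟨⟨(g : T ⧸ fix s), 1, by rwa [Ne, QuotientGroup.eq_one_iff]⟩⟩
    obtain ⟨v, hv, hvf⟩ := exists_fixed_involutive (C.two.to_quotient (fix s))
      (fun x => quot s C.map_s x) (map_mul _) (fun x => by
        induction x using QuotientGroup.induction_on with
        | H x => rw [hs', hs', C.s2])
    exact ⟨v, hvf, hv⟩
  refine le_antisymm hle ?_
  classical
  set rb := quot r C.map_r with hrb
  have hr : ∀ a : T ⧸ fix s, a ≠ 1 → rb a ≠ a := fun a ha h => ha (hfpf a h)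
  have hne2 : rb x ≠ 1 := fun h => hx1 (rb.injective (h.trans (map_one rb).symm))
  have hne3 : rb (rb x) ≠ 1 := fun h => hne2 (rb.injective (h.trans (map_one rb).symm))
  have hrm : ∀ a ∈ fix (quot s C.map_s), rb a ∈ fix (quot s C.map_s) := by
    intro a
    induction a using QuotientGroup.induction_on with
    | H a =>
      intro ha
      rw [hrb, hr', hmem, ← C.comm, ← map_inv, ← map_mul]
      exact C.r_mem_fix ((hmem a).1 ha)
  have hsub : (({1, x, rb x, rb (rb x)} : Finset (T ⧸ fix s)) : Set (T ⧸ fix s)) ⊆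
      (fix (quot s C.map_s) : Set (T ⧸ fix s)) := by
    intro a ha
    simp only [Finset.coe_insert, Finset.coe_singleton, Set.mem_insert_iff, Set.mem_singleton_iff] at ha
    rcases ha with rfl | rfl | rfl | rfl
    exacts [one_mem _, hx, hrm _ hx, hrm _ (hrm _ hx)]
  have h4 := Set.ncard_le_ncard hsub (Set.toFinite _)
  rw [Set.ncard_coe_finset, Finset.card_insert_of_notMem, Finset.card_insert_of_notMem,
    Finset.card_pair, ← Nat.card_coe_set_eq] at h4
  · exact h4
  · exact (hr _ hne2).symm
  · simp only [Finset.mem_insert, Finset.mem_singleton, not_or]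
    refine ⟨(hr _ hx1).symm, fun h => hr _ hx1 ?_⟩
    have h2 := congrArg rb h
    rw [hrb, hr3] at h2
    exact h2
  · simp [hx1.symm, hne2.symm, hne3.symm]

end Cfg

end CfsgLib.FpfThreeTwo
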