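import Cfsg.Agent.LocalB.FpfThreeTwo

/-!
The commutative case.
-/

set_option autoImplicit false
set_option linter.unusedSectionVars false
set_option linter.style.haveILetI false

namespace CfsgLib.FpfThreeTwo

variable {T : Type*} [Group T] {r s : T ≃* T}

namespace Cfg

variable (C : Cfg r s)
include C

theorem pow_card (x : T) : ∃ k, orderOf x = 2 ^ k := by
  obtain ⟨k, hk⟩ := C.two x
  obtain ⟨j, -, hj⟩ := (Nat.dvd_prime_pow Nat.prime_two).1 (orderOf_dvd_of_pow_eq_one hk)
  exact ⟨j, hj⟩

/-- A commutative group in the configuration. -/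
theorem abelian_cases (hc : ∀ x y : T, Commute x y) :
    (Nat.card T = 16 ∧ ∀ x : T, x * x = 1) ∨
      ∃ n : ℕ, 1 ≤ n ∧ Nonempty (T ≃* Multiplicative (ZMod (2 ^ n)) × Multiplicative (ZMod (2 ^ n))) ∧
        ∃ a : T, Subgroup.closure {a, r a} = ⊤ := by
  haveI := C.finite
  classical
  let Ω : Subgroup T :=
    { carrier := {x | x * x = 1}
      mul_mem' := fun {x y} hx hy => by
        show x * y * (x * y) = 1
        rw [(hc y x).mul_mul_mul_comm, hx, hy, one_mul]
      one_mem' := one_mul 1
      inv_mem' := fun {x} hx => by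
        show x⁻¹ * x⁻¹ = 1
        rw [← mul_inv_rev, hx, inv_one] }
  by_cases hbig : ∀ x : T, x * x = 1 → x ∈ fix s
  · -- a rank two group
    right
    have homega : ∀ j : ℕ, ∀ x : T, x * x = 1 → x = 1 ∨ x ∈ fix s := fun j x hx => Or.inr (hbig x hx)
    obtain ⟨a, -, hmax⟩ := Finset.exists_max_image (Set.toFinite (Set.univ : Set T)).toFinset
      (fun x => orderOf x) ⟨1, by simp⟩
    obtain ⟨k, hk⟩ := C.pow_card a
    have hexp : ∀ x : T, x ^ 2 ^ k = 1 := by
      intro x
      obtain ⟨j, hj⟩ := C.pow_card x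
      have hle : orderOf x ≤ orderOf a := hmax x (by simp)
      rw [hj, hk] at hle
      exact orderOf_dvd_iff_pow_eq_one.1 (hj ▸ Nat.pow_dvd_pow 2 ((Nat.pow_le_pow_iff_right (by omega)).1 hle))
    have hk1 : 1 ≤ k := by
      by_contra h
      obtain ⟨v, hv⟩ := (Subgroup.ne_bot_iff_exists_ne_one (H := fix s)).1 (by
        intro h
        have := C.card_fix
        rw [h, Subgroup.card_bot] at this
        omega)
      have h1 := hexp (v : T)
      rw [show k = 0 by omega, pow_zero, pow_one] at h1
      exact hv (Subtype.ext h1)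
    -- the number of elements
    let P : ℕ → Subgroup T := fun j =>
      { carrier := {x | x ^ 2 ^ j = 1}
        mul_mem' := fun {x y} hx hy => by
          show (x * y) ^ 2 ^ j = 1
          rw [(hc x y).mul_pow, hx, hy, one_mul]
        one_mem' := one_pow _
        inv_mem' := fun {x} hx => by
          show x⁻¹ ^ 2 ^ j = 1
          rw [inv_pow, hx, inv_one] }
    have hP : ∀ j, Nat.card (P j) ≤ 4 ^ j := by
      intro j
      induction j with
      | zero =>
        have : P 0 = ⊥ := (Subgroup.eq_bot_iff_forall _).2 fun x hx => by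
          have h : x ^ 2 ^ 0 = 1 := hx
          simpa using h
        simp [this]
      | succ j ih =>
        let d : P (j + 1) →* P j := MonoidHom.mk' (fun x => ⟨(x : T) * x, by
            show ((x : T) * x) ^ 2 ^ j = 1
            rw [← pow_two, ← pow_mul, ← pow_succ']
            exact x.2⟩)
          fun x y => Subtype.ext (by
            show (x : T) * y * ((x : T) * y) = (x : T) * x * ((y : T) * y)
            exact (hc (y : T) x).mul_mul_mul_comm _ _)
        have hker : Nat.card d.ker ≤ 4 := by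
          rw [← C.card_fix]
          exact Nat.card_le_card_of_injective
            (fun x : d.ker => (⟨((x : P (j + 1)) : T), hbig _ (congrArg Subtype.val (MonoidHom.mem_ker.1 x.2))⟩ : fix s))
            fun x y h => Subtype.ext (Subtype.ext (congrArg (fun z : fix s => (z : T)) h))
        have h1 := d.ker.card_mul_index
        rw [Subgroup.index_ker] at h1
        have h2 := Subgroup.card_le_card_group d.range
        rw [← h1, pow_succ']
        exact Nat.mul_le_mul hker (h2.trans ih)
    have hT : Nat.card T ≤ 4 ^ k := by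
      have : P k = ⊤ := eq_top_iff.2 fun x _ => hexp x
      have h := hP k
      rwa [this, Subgroup.card_top] at h
    -- independence
    set a' := a ^ 2 ^ (k - 1) with ha'
    have ha'2 : a' * a' = 1 := by
      rw [ha', ← pow_add, ← two_mul, ← pow_succ', Nat.sub_add_cancel hk1, ← hk, pow_orderOf_eq_one]
    have ha'1 : a' ≠ 1 := fun h => by
      have h1 := orderOf_dvd_of_pow_eq_one h
      rw [hk] at h1
      have := Nat.le_of_dvd (by positivity) h1
      have h2 := (Nat.pow_le_pow_iff_right (a := 2) (by omega)).1 this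
      omega
    have hinvol : ∀ y : T, orderOf y = 2 ^ k → ∀ x ∈ Subgroup.zpowers y, x * x = 1 → x ≠ 1 →
        x = y ^ 2 ^ (k - 1) := by
      intro y hy x hx hx2 hx1
      obtain ⟨i, rfl⟩ := (mem_powers_iff_mem_zpowers).2 hx
      beta_reduce at hx2 hx1 ⊢
      rw [← pow_add] at hx2
      have h1 := orderOf_dvd_of_pow_eq_one hx2
      rw [hy, show 2 ^ k = 2 * 2 ^ (k - 1) by rw [← pow_succ', Nat.sub_add_cancel hk1], ← two_mul] at h1
      obtain ⟨m, rfl⟩ := Nat.dvd_of_mul_dvd_mul_left (by omega) h1
      have hsq : y ^ 2 ^ (k - 1) * y ^ 2 ^ (k - 1) = 1 := by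
        rw [← pow_add, ← two_mul, ← pow_succ', Nat.sub_add_cancel hk1, ← hy, pow_orderOf_eq_one]
      rw [pow_mul] at hx1 ⊢
      rcases Nat.even_or_odd' m with ⟨l, rfl | rfl⟩
      · exact absurd (by rw [pow_mul, pow_two, hsq, one_pow]) hx1
      · rw [pow_succ, pow_mul, pow_two, hsq, one_pow, one_mul]
    have hra : orderOf (r a) = 2 ^ k := by rw [MulEquiv.orderOf_eq, hk]
    have hdisj : ∀ x, x ∈ Subgroup.zpowers a → x ∈ Subgroup.zpowers (r a) → x = 1 := by
      intro x hx hx'
      by_contra hx1
      obtain ⟨j, hj⟩ := C.pow_card x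
      rcases Nat.eq_zero_or_pos j with rfl | hj0
      · exact hx1 (orderOf_eq_one_iff.1 (by simpa using hj))
      set y := x ^ 2 ^ (j - 1) with hy
      have hy2 : y * y = 1 := by
        rw [hy, ← pow_add, ← two_mul, ← pow_succ', Nat.sub_add_cancel hj0, ← hj, pow_orderOf_eq_one]
      have hy1 : y ≠ 1 := fun h => by
        have h1 := orderOf_dvd_of_pow_eq_one h
        rw [hj] at h1
        have := (Nat.pow_le_pow_iff_right (a := 2) (by omega)).1 (Nat.le_of_dvd (by positivity) h1)
        omega
      have e1 := hinvol a hk y (Subgroup.pow_mem _ hx _) hy2 hy1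
      have e2 := hinvol (r a) hra y (Subgroup.pow_mem _ hx' _) hy2 hy1
      refine hy1 (C.fpf y ?_)
      rw [e1, map_pow, ← e2, e1]
    let ψ : Subgroup.zpowers a × Subgroup.zpowers (r a) →* T :=
      MonoidHom.mk' (fun z => (z.1 : T) * z.2) fun z w => by
        show (z.1 : T) * w.1 * ((z.2 : T) * w.2) = (z.1 : T) * z.2 * ((w.1 : T) * w.2)
        exact (hc (w.1 : T) z.2).mul_mul_mul_comm _ _
    have hinj : Function.Injective ψ := by
      rw [injective_iff_map_eq_one]
      rintro ⟨⟨x, hx⟩, ⟨y, hy⟩⟩ h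
      have h' : x * y = 1 := h
      have hx1 : x = 1 := hdisj x hx (eq_inv_of_mul_eq_one_left h' ▸ Subgroup.inv_mem _ hy)
      have hy1 : y = 1 := by rw [hx1, one_mul] at h'; exact h'
      exact Prod.ext (Subtype.ext hx1) (Subtype.ext hy1)
    have hc1 : Nat.card (Subgroup.zpowers a) = 2 ^ k := by rw [Nat.card_zpowers, hk]
    have hc2 : Nat.card (Subgroup.zpowers (r a)) = 2 ^ k := by rw [Nat.card_zpowers, hra]
    have hbij : Function.Bijective ψ := hinj.bijective_of_nat_card_le (by
      rw [Nat.card_prod, hc1, hc2, ← mul_pow]; exact hT)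
    have hgen : Subgroup.closure {a, r a} = ⊤ := eq_top_iff.2 fun x _ => by
      obtain ⟨⟨⟨y, hy⟩, ⟨z, hz⟩⟩, rfl⟩ := hbij.2 x
      exact Subgroup.mul_mem _ (Subgroup.zpowers_le.2 (Subgroup.subset_closure (by simp)) hy)
        (Subgroup.zpowers_le.2 (Subgroup.subset_closure (by simp)) hz)
    refine ⟨k, hk1, ⟨(MulEquiv.ofBijective ψ hbij).symm.trans ?_⟩, a, hgen⟩
    exact ((hc1 ▸ zmodCyclicMulEquiv (G := Subgroup.zpowers a) inferInstance).symm).prodCongr
      ((hc2 ▸ zmodCyclicMulEquiv (G := Subgroup.zpowers (r a)) inferInstance).symm)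
  · -- elementary of order 16
    left
    push Not at hbig
    obtain ⟨w, hw, hwV⟩ := hbig
    let d : Ω →* fix s := MonoidHom.mk' (fun x => ⟨(x : T)⁻¹ * s x, by
        rw [mem_fix, map_mul, map_inv, C.s2]
        have hsx : s (x : T) * s x = 1 := by rw [← map_mul, show (x : T) * x = 1 from x.2, map_one]
        rw [inv_eq_of_mul_eq_one_right hsx, inv_eq_of_mul_eq_one_right (show (x : T) * x = 1 from x.2)]
        exact hc _ _⟩)
      fun x y => Subtype.ext (by
        show ((x : T) * y)⁻¹ * s ((x : T) * y) = (x : T)⁻¹ * s x * ((y : T)⁻¹ * s y)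
        rw [map_mul, mul_inv_rev, (hc (y : T)⁻¹ (x : T)⁻¹).eq]
        exact (hc (y : T)⁻¹ (s x)).mul_mul_mul_comm _ _)
    have hrange : ∀ v ∈ fix s, ∃ x : T, x * x = 1 ∧ x⁻¹ * s x = v := by
      have hne : d.range.map (fix s).subtype ≠ ⊥ := by
        intro h
        have h1 : (d ⟨w, hw⟩ : T) ∈ d.range.map (fix s).subtype := ⟨_, ⟨_, rfl⟩, rfl⟩
        rw [h, Subgroup.mem_bot] at h1
        exact hwV (inv_mul_eq_one.1 h1).symm
      have hle := C.fix_le (d.range.map (fix s).subtype) ?_ ?_ hne
      · intro v hv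
        obtain ⟨_, ⟨x, rfl⟩, hx⟩ := hle hv
        exact ⟨x, x.2, hx⟩
      · rintro _ ⟨v, hv, rfl⟩
        rw [show s ((fix s).subtype v) = (fix s).subtype v from v.2]
        exact ⟨v, hv, rfl⟩
      · rintro _ ⟨_, ⟨x, rfl⟩, rfl⟩
        refine ⟨d ⟨r x, ?_⟩, ⟨_, rfl⟩, ?_⟩
        · show r (x : T) * r x = 1
          rw [← map_mul, show (x : T) * x = 1 from x.2, map_one]
        · show (r (x : T))⁻¹ * s (r (x : T)) = r ((x : T)⁻¹ * s x)
          rw [map_mul, map_inv, C.comm]
    have hexp : ∀ x : T, x * x = 1 := by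
      by_contra hno
      push Not at hno
      obtain ⟨g, hg⟩ := hno
      obtain ⟨j, hj⟩ := C.pow_card g
      have hj2 : 2 ≤ j := by
        by_contra h
        refine hg ?_
        rw [← pow_two]
        exact orderOf_dvd_iff_pow_eq_one.1 (hj ▸ Nat.pow_dvd_pow 2 (by omega : j ≤ 1) |>.trans (by norm_num))
      set x := g ^ 2 ^ (j - 2) with hx
      have hx4 : x * x * (x * x) = 1 := by
        rw [hx, ← pow_add, ← pow_add, show 2 ^ (j - 2) + 2 ^ (j - 2) + (2 ^ (j - 2) + 2 ^ (j - 2)) = 2 ^ j by
          conv_rhs => rw [show j = j - 2 + 2 by omega, pow_add]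
          ring, ← hj, pow_orderOf_eq_one]
      have hx2 : x * x ≠ 1 := fun h => by
        rw [hx, ← pow_add] at h
        have h1 := Nat.le_of_dvd (by positivity) (orderOf_dvd_of_pow_eq_one h)
        rw [hj, ← two_mul, ← pow_succ'] at h1
        have := (Nat.pow_le_pow_iff_right (a := 2) (by omega)).1 h1
        omega
      have hf : x * s x ∈ fix s := by rw [mem_fix, map_mul, C.s2]; exact hc _ _
      have hzfix : x * x ∈ fix s := by
        rw [mem_fix, map_mul]
        have h := C.pow_two_fix hf
        rw [(hc (s x) x).mul_mul_mul_comm] at h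
        exact (eq_inv_of_mul_eq_one_right h).trans (inv_eq_of_mul_eq_one_right hx4)
      obtain ⟨w, hw, hwv⟩ := hrange _ hf
      have hwi : w⁻¹ = w := inv_eq_of_mul_eq_one_right hw
      rw [hwi] at hwv
      set y := x * w with hy
      have hy1 : s y * y = 1 := by
        rw [hy, map_mul]
        calc s x * s w * (x * w) = (x * s x) * (w * s w) := by
              rw [(hc (s w) x).mul_mul_mul_comm, (hc (s x) x).eq, (hc (s w) w).eq]
          _ = 1 := by rw [hwv]; exact C.pow_two_fix hf
      have hyy : y * y = x * x := by rw [hy, (hc w x).mul_mul_mul_comm, hw, mul_one]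
      obtain ⟨w', hw', hwv'⟩ := hrange _ hzfix
      rw [inv_eq_of_mul_eq_one_right hw'] at hwv'
      have hm : s (y * w') = y * w' := by
        rw [map_mul, eq_inv_of_mul_eq_one_left hy1]
        have h2 : s w' = w' * (y * y) := by rw [hyy, ← hwv', ← mul_assoc, hw', one_mul]
        rw [h2, ← mul_assoc, (hc y⁻¹ w').eq]
        rw [mul_assoc, inv_mul_cancel_left, (hc w' y).eq]
      have h3 := C.pow_two_fix (mem_fix.2 hm)
      rw [(hc w' y).mul_mul_mul_comm, hw', mul_one, hyy] at h3
      exact hx2 h3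
    refine ⟨?_, hexp⟩
    have hΩ : Ω = ⊤ := eq_top_iff.2 fun x _ => hexp x
    have h1 := d.ker.card_mul_index
    rw [Subgroup.index_ker] at h1
    have h2 : Nat.card d.range = 4 := by
      have htop : d.range = ⊤ := eq_top_iff.2 fun v _ => by
        obtain ⟨x, hx, hxv⟩ := hrange v v.2
        exact ⟨⟨x, hx⟩, Subtype.ext hxv⟩
      rw [← C.card_fix, htop, Subgroup.card_top]
    have h3 : Nat.card d.ker = 4 := by
      rw [← C.card_fix]
      exact Nat.card_congr
        { toFun := fun u => ⟨((u : Ω) : T), by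
            rw [mem_fix]
            exact (inv_mul_eq_one.1 (congrArg Subtype.val (MonoidHom.mem_ker.1 u.2))).symm⟩
          invFun := fun v => ⟨⟨(v : T), C.pow_two_fix v.2⟩, MonoidHom.mem_ker.2 (Subtype.ext (by
            show (v : T)⁻¹ * s (v : T) = 1
            rw [show s (v : T) = v from v.2, inv_mul_cancel]))⟩
          left_inv := fun u => rfl
          right_inv := fun v => rfl }
    rw [h2, h3, hΩ, Subgroup.card_top] at h1
    omega

end Cfg

end CfsgLib.FpfThreeTwo
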