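import Mathlib.GroupTheory.Sylow
import Mathlib.Tactic

/-!
Two presentations of groups of order 64.
-/

set_option autoImplicit false

namespace CfsgLib.SixtyFour

/-- `x ^ t` for a boolean exponent. -/
def pw {T : Type*} [Group T] (x : T) (t : Bool) : T := if t then x else 1

/-- Six elements satisfying the defining relations; `iso` says that the first generator squares to one. -/
structure Rel (iso : Bool) (T : Type*) [Group T] where
  a : T
  a' : T
  b : T
  b' : T
  u : T
  u' : T
  uc : ∀ g ∈ ({a, a', b, b', u, u'} : Set T), Commute g u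
  uc' : ∀ g ∈ ({a, a', b, b', u, u'} : Set T), Commute g u'
  uu : u * u = 1
  uu' : u' * u' = 1
  aa' : Commute a a'
  bb' : Commute b b'
  ba : b * a = a * b * u
  b'a : b' * a = a * b' * (u * u')
  ba' : b * a' = a' * b * (u * u')
  b'a' : b' * a' = a' * b' * u'
  asq : a * a = if iso then 1 else u
  a'sq : a' * a' = if iso then 1 else u'
  bsq : b * b = if iso then 1 else u'
  b'sq : b' * b' = if iso then 1 else u * u'

variable {iso : Bool} {T : Type*} [Group T]

/-- Exponent vectors. -/
abbrev Vec := Bool × Bool × Bool × Bool × Bool × Bool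

/-- Right multiplication by a generator on exponent vectors. -/
def step (iso : Bool) : Fin 6 → Vec → Vec
  | 0, (i, j, k, l, m, n) => (!i, j, k, l, xor m (xor (xor k l) (!iso && i)), xor n l)
  | 1, (i, j, k, l, m, n) => (i, !j, k, l, xor m k, xor n (xor (xor k l) (!iso && j)))
  | 2, (i, j, k, l, m, n) => (i, j, !k, l, m, xor n (!iso && k))
  | 3, (i, j, k, l, m, n) => (i, j, k, !l, xor m (!iso && l), xor n (!iso && l))
  | 4, (i, j, k, l, m, n) => (i, j, k, l, !m, n)
  | 5, (i, j, k, l, m, n) => (i, j, k, l, m, !n)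

namespace Rel

variable (R : Rel iso T)

/-- The generators. -/
def gen : Fin 6 → T
  | 0 => R.a
  | 1 => R.a'
  | 2 => R.b
  | 3 => R.b'
  | 4 => R.u
  | 5 => R.u'

/-- The word of an exponent vector. -/
def word : Vec → T
  | (i, j, k, l, m, n) => pw R.a i * pw R.a' j * pw R.b k * pw R.b' l * pw R.u m * pw R.u' n

/-- The subgroup generated. -/
def span : Subgroup T := Subgroup.closure {R.a, R.a', R.b, R.b', R.u, R.u'}

/-- A central word. -/
def cen (m n : Bool) : T := pw R.u m * pw R.u' n

theorem cen_mul (m n m' n' : Bool) : R.cen m n * R.cen m' n' = R.cen (xor m m') (xor n n') := by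
  have h : pw R.u' n * pw R.u m' = pw R.u m' * pw R.u' n := by
    cases n <;> cases m' <;> simp [pw, (R.uc' R.u (by simp)).eq]
  have h1 : pw R.u m * pw R.u m' = pw R.u (xor m m') := by
    cases m <;> cases m' <;> simp [pw, R.uu]
  have h2 : pw R.u' n * pw R.u' n' = pw R.u' (xor n n') := by
    cases n <;> cases n' <;> simp [pw, R.uu']
  unfold cen
  rw [← h1, ← h2]
  calc pw R.u m * pw R.u' n * (pw R.u m' * pw R.u' n')
      = pw R.u m * (pw R.u' n * pw R.u m') * pw R.u' n' := by simp only [mul_assoc]
    _ = _ := by rw [h]; simp only [mul_assoc]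

theorem cen_comm {g : T} (hg : g ∈ ({R.a, R.a', R.b, R.b', R.u, R.u'} : Set T)) (m n t : Bool) :
    R.cen m n * pw g t = pw g t * R.cen m n := by
  have hc : Commute g (R.cen m n) := by
    unfold cen
    refine Commute.mul_right ?_ ?_
    · cases m
      · exact Commute.one_right g
      · exact R.uc g hg
    · cases n
      · exact Commute.one_right g
      · exact R.uc' g hg
  cases t
  · simp [pw]
  · exact hc.eq.symm

theorem cen_comm_gen {g : T} (hg : g ∈ ({R.a, R.a', R.b, R.b', R.u, R.u'} : Set T)) (m n : Bool) :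
    R.cen m n * g = g * R.cen m n := by simpa [pw] using R.cen_comm hg m n true

theorem word_eq (i j k l m n : Bool) :
    R.word (i, j, k, l, m, n) = pw R.a i * pw R.a' j * pw R.b k * pw R.b' l * R.cen m n := by
  simp [word, cen, mul_assoc]

/-- Passing a generator leftwards. -/
theorem pass {x y : T} {c d : Bool} (h : y * x = x * y * R.cen c d) (t : Bool) :
    pw y t * x = x * pw y t * R.cen (t && c) (t && d) := by
  cases t
  · simp [pw, cen]
  · simpa [pw] using h

theorem square {x : T} {c d : Bool} (h : x * x = R.cen c d) (t : Bool) :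
    pw x t * x = pw x (!t) * R.cen (t && c) (t && d) := by
  cases t
  · simp [pw, cen]
  · simpa [pw] using h

theorem word_step (f : Fin 6) (v : Vec) : R.word (step iso f v) = R.word v * R.gen f := by
  obtain ⟨i, j, k, l, m, n⟩ := v
  symm
  have hmem : R.a ∈ ({R.a, R.a', R.b, R.b', R.u, R.u'} : Set T) := by simp
  have ha' : R.a' ∈ ({R.a, R.a', R.b, R.b', R.u, R.u'} : Set T) := by simp
  have hb : R.b ∈ ({R.a, R.a', R.b, R.b', R.u, R.u'} : Set T) := by simp
  have hb' : R.b' ∈ ({R.a, R.a', R.b, R.b', R.u, R.u'} : Set T) := by simp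
  have hz00 : R.cen false false = 1 := by simp [cen, pw]
  have ea : R.a * R.a = R.cen (!iso) false := by
    rw [R.asq]; cases iso <;> simp [cen, pw]
  have ea' : R.a' * R.a' = R.cen false (!iso) := by
    rw [R.a'sq]; cases iso <;> simp [cen, pw]
  have eb : R.b * R.b = R.cen false (!iso) := by
    rw [R.bsq]; cases iso <;> simp [cen, pw]
  have eb' : R.b' * R.b' = R.cen (!iso) (!iso) := by
    rw [R.b'sq]; cases iso <;> simp [cen, pw]
  have ca : ∀ j, pw R.a' j * R.a = R.a * pw R.a' j := fun j => by
    cases j <;> simp [pw, R.aa'.eq]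
  have cb : ∀ l, pw R.b' l * R.b = R.b * pw R.b' l := fun l => by
    cases l <;> simp [pw, R.bb'.eq]
  have p1 : ∀ x y t w, R.cen x y * (pw R.a' t * w) = pw R.a' t * (R.cen x y * w) := fun x y t w => by
    rw [← mul_assoc, R.cen_comm ha', mul_assoc]
  have p2 : ∀ x y t w, R.cen x y * (pw R.b t * w) = pw R.b t * (R.cen x y * w) := fun x y t w => by
    rw [← mul_assoc, R.cen_comm hb, mul_assoc]
  have p3 : ∀ x y t w, R.cen x y * (pw R.b' t * w) = pw R.b' t * (R.cen x y * w) := fun x y t w => by
    rw [← mul_assoc, R.cen_comm hb', mul_assoc]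
  have t1 := fun x y t => R.cen_comm ha' x y t
  have t2 := fun x y t => R.cen_comm hb x y t
  have t3 := fun x y t => R.cen_comm hb' x y t
  fin_cases f
  · show R.word (i, j, k, l, m, n) * R.a = R.word (!i, j, k, l, _, _)
    rw [R.word_eq, R.word_eq, mul_assoc _ (R.cen m n), R.cen_comm_gen hmem, ← mul_assoc,
      mul_assoc _ (pw R.b' l), R.pass (c := true) (d := true) (by rw [R.b'a]; simp [cen, pw]) l]
    simp only [← mul_assoc]
    rw [mul_assoc _ (pw R.b k), R.pass (c := true) (d := false) (by rw [R.ba]; simp [cen, pw]) k]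
    simp only [← mul_assoc]
    rw [mul_assoc _ (pw R.a' j), ca]
    simp only [← mul_assoc]
    rw [R.square ea i]
    simp only [mul_assoc, p1, p2, p3, t1, t2, t3, R.cen_mul]
    congr 4
    congr 1 <;> cases iso <;> cases i <;> cases k <;> cases l <;> cases m <;> cases n <;> rfl
  · show R.word (i, j, k, l, m, n) * R.a' = R.word (i, !j, k, l, _, _)
    rw [R.word_eq, R.word_eq, mul_assoc _ (R.cen m n), R.cen_comm_gen ha', ← mul_assoc,
      mul_assoc _ (pw R.b' l), R.pass (c := false) (d := true) (by rw [R.b'a']; simp [cen, pw]) l]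
    simp only [← mul_assoc]
    rw [mul_assoc _ (pw R.b k), R.pass (c := true) (d := true) (by rw [R.ba']; simp [cen, pw]) k]
    simp only [← mul_assoc]
    rw [mul_assoc _ (pw R.a' j) R.a', R.square ea' j]
    simp only [mul_assoc, p1, p2, p3, t1, t2, t3, R.cen_mul]
    congr 4
    congr 1 <;> cases iso <;> cases j <;> cases k <;> cases l <;> cases m <;> cases n <;> rfl
  · show R.word (i, j, k, l, m, n) * R.b = R.word (i, j, !k, l, _, _)
    rw [R.word_eq, R.word_eq, mul_assoc _ (R.cen m n), R.cen_comm_gen hb, ← mul_assoc,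
      mul_assoc _ (pw R.b' l), cb]
    simp only [← mul_assoc]
    rw [mul_assoc _ (pw R.b k), R.square eb k]
    simp only [← mul_assoc]
    rw [mul_assoc _ (R.cen _ _) (pw R.b' l), R.cen_comm hb']
    simp only [← mul_assoc]
    rw [mul_assoc _ (R.cen _ _) (R.cen _ _), R.cen_mul]
    congr 2 <;> cases iso <;> cases k <;> cases m <;> cases n <;> rfl
  · show R.word (i, j, k, l, m, n) * R.b' = R.word (i, j, k, !l, _, _)
    rw [R.word_eq, R.word_eq, mul_assoc _ (R.cen m n), R.cen_comm_gen hb', ← mul_assoc,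
      mul_assoc _ (pw R.b' l), R.square eb' l]
    simp only [← mul_assoc]
    rw [mul_assoc _ (R.cen _ _) (R.cen _ _), R.cen_mul]
    congr 2 <;> cases iso <;> cases l <;> cases m <;> cases n <;> rfl
  · show R.word (i, j, k, l, m, n) * R.u = R.word (i, j, k, l, !m, n)
    rw [R.word_eq, R.word_eq, mul_assoc _ (R.cen m n)]
    congr 1
    have e : R.u = R.cen true false := by simp [cen, pw]
    conv_lhs => rw [e]
    rw [R.cen_mul]
    cases m <;> cases n <;> rfl
  · show R.word (i, j, k, l, m, n) * R.u' = R.word (i, j, k, l, m, !n)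
    rw [R.word_eq, R.word_eq, mul_assoc _ (R.cen m n)]
    congr 1
    have e : R.u' = R.cen false true := by simp [cen, pw]
    conv_lhs => rw [e]
    rw [R.cen_mul]
    cases m <;> cases n <;> rfl

theorem word_one : R.word (false, false, false, false, false, false) = 1 := by simp [word, pw]

theorem word_mem (v : Vec) : R.word v ∈ R.span := by
  obtain ⟨i, j, k, l, m, n⟩ := v
  have h : ∀ g ∈ ({R.a, R.a', R.b, R.b', R.u, R.u'} : Set T), ∀ t, pw g t ∈ R.span := by
    intro g hg t
    cases t
    · exact one_mem _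
    · exact Subgroup.subset_closure hg
  exact mul_mem (mul_mem (mul_mem (mul_mem (mul_mem (h _ (by simp) i) (h _ (by simp) j))
    (h _ (by simp) k)) (h _ (by simp) l)) (h _ (by simp) m)) (h _ (by simp) n)

theorem exists_word [Finite T] {x : T} (hx : x ∈ R.span) : ∃ v, R.word v = x := by
  have hset : ({R.a, R.a', R.b, R.b', R.u, R.u'} : Set T) = Set.range R.gen := by
    ext g
    simp only [Set.mem_insert_iff, Set.mem_singleton_iff, Set.mem_range]
    constructor
    · rintro (rfl | rfl | rfl | rfl | rfl | rfl)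
      exacts [⟨0, rfl⟩, ⟨1, rfl⟩, ⟨2, rfl⟩, ⟨3, rfl⟩, ⟨4, rfl⟩, ⟨5, rfl⟩]
    · rintro ⟨f, rfl⟩
      fin_cases f <;> simp [gen]
  have hx' : x ∈ Submonoid.closure (Set.range R.gen) := by
    rw [← hset, ← Subgroup.closure_toSubmonoid_of_finite]
    exact hx
  induction hx' using Submonoid.closure_induction_right with
  | one => exact ⟨_, R.word_one⟩
  | mul_right y hy g hg ih =>
    obtain ⟨f, rfl⟩ := hg
    obtain ⟨v, hv⟩ := ih (by
      refine (?_ : y ∈ R.span)
      rw [show R.span = Subgroup.closure (Set.range R.gen) from congrArg Subgroup.closure hset,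
        ← Subgroup.mem_toSubmonoid, Subgroup.closure_toSubmonoid_of_finite]
      exact hy)
    exact ⟨step iso f v, by rw [R.word_step, hv]⟩

/-- The order of the group generated, when all words differ. -/
theorem card_span [Finite T] (hinj : Function.Injective R.word) : Nat.card R.span = 64 := by
  rw [← Nat.card_eq_of_bijective (fun v => (⟨R.word v, R.word_mem v⟩ : R.span))
    ⟨fun v w h => hinj (congrArg Subtype.val h), fun x => by
      obtain ⟨v, hv⟩ := R.exists_word x.2
      exact ⟨v, Subtype.ext hv⟩⟩]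
  simp [Vec, Nat.card_eq_fintype_card]

/-- Groups of order 64 with the same relations are isomorphic. -/
theorem nonempty_equiv {S : Type*} [Group S] [Finite T] [Finite S] (Q : Rel iso S)
    (hR : Function.Injective R.word) (hQ : Function.Injective Q.word) :
    Nonempty (R.span ≃* Q.span) := by
  classical
  choose v hv using fun x : R.span => R.exists_word x.2
  let φ : R.span → Q.span := fun x => ⟨Q.word (v x), Q.word_mem _⟩
  have hstep : ∀ (f : Fin 6) (x : R.span) (hg : R.gen f ∈ R.span),
      (φ (x * ⟨R.gen f, hg⟩) : S) = φ x * Q.gen f := by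
    intro f x hg
    show Q.word (v _) = Q.word (v x) * Q.gen f
    rw [← Q.word_step]
    congr 1
    apply hR
    rw [hv, R.word_step, hv]
    rfl
  have h1 : (φ 1 : S) = 1 := by
    show Q.word (v 1) = 1
    rw [← Q.word_one]
    congr 1
    apply hR
    rw [hv, R.word_one]
    rfl
  have hgm : ∀ f, R.gen f ∈ R.span := fun f => Subgroup.subset_closure (by fin_cases f <;> simp [gen])
  have hmul : ∀ y : T, ∀ hy : y ∈ R.span, ∀ x : R.span, φ (x * ⟨y, hy⟩) = φ x * φ ⟨y, hy⟩ := by
    intro y hy
    have key : ∀ z : T, z ∈ Submonoid.closure (Set.range R.gen) → ∃ hz : z ∈ R.span,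
        ∀ x : R.span, φ (x * ⟨z, hz⟩) = φ x * φ ⟨z, hz⟩ := by
      intro z hz
      induction hz using Submonoid.closure_induction_right with
      | one =>
        exact ⟨one_mem _, fun x => by
          apply Subtype.ext
          rw [show (⟨1, one_mem _⟩ : R.span) = 1 from rfl, mul_one, Subgroup.coe_mul, h1, mul_one]⟩
      | mul_right w _ g hg ih =>
        obtain ⟨f, rfl⟩ := hg
        obtain ⟨hw, ih⟩ := ih
        refine ⟨mul_mem hw (hgm f), fun x => ?_⟩
        have e : (⟨w * R.gen f, mul_mem hw (hgm f)⟩ : R.span) = ⟨w, hw⟩ * ⟨R.gen f, hgm f⟩ := rfl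
        apply Subtype.ext
        rw [e, ← mul_assoc, hstep, ih, Subgroup.coe_mul, Subgroup.coe_mul, hstep, mul_assoc]
    obtain ⟨hz, h⟩ := key y (by
      rw [← Subgroup.closure_toSubmonoid_of_finite]
      refine (?_ : y ∈ Subgroup.closure (Set.range R.gen))
      exact Subgroup.closure_mono (fun g hg => by
        simp only [Set.mem_insert_iff, Set.mem_singleton_iff] at hg
        rcases hg with rfl | rfl | rfl | rfl | rfl | rfl
        exacts [⟨0, rfl⟩, ⟨1, rfl⟩, ⟨2, rfl⟩, ⟨3, rfl⟩, ⟨4, rfl⟩, ⟨5, rfl⟩]) hy)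
    exact h
  refine ⟨MulEquiv.ofBijective (MonoidHom.mk' φ fun x y => hmul y y.2 x) ?_⟩
  refine Function.Injective.bijective_of_nat_card_le (fun x y h => ?_) ?_
  · have h' : Q.word (v x) = Q.word (v y) := congrArg Subtype.val h
    exact Subtype.ext (by rw [← hv x, ← hv y, hQ h'])
  · rw [R.card_span hR, Q.card_span hQ]

/-- A group whose Sylow 2-subgroups satisfy the relations. -/
theorem sylow_equiv {S : Type*} [Group S] [Finite T] [Finite S] (Q : Rel iso S)
    (hR : Function.Injective R.word) (hQ : Function.Injective Q.word) (htop : R.span = ⊤)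
    {m : ℕ} (hm : ¬ 2 ∣ m) (hS : Nat.card S = 64 * m) (P : Sylow 2 S) :
    Nonempty (T ≃* ↥(P : Subgroup S)) := by
  obtain ⟨e⟩ := R.nonempty_equiv Q hR hQ
  have hfac : (64 * m).factorization 2 = 6 := by
    rw [show 64 = 2 ^ 6 by norm_num, Nat.factorization_mul (by norm_num) (fun h => hm (by simp [h])),
      Finsupp.add_apply, Nat.Prime.factorization_pow Nat.prime_two, Finsupp.single_eq_same,
      Nat.factorization_eq_zero_of_not_dvd hm, add_zero]
  haveI : Fact (Nat.Prime 2) := ⟨Nat.prime_two⟩
  let P₀ : Sylow 2 S := Sylow.ofCard Q.span (by rw [Q.card_span hQ, hS, hfac]; norm_num)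
  exact ⟨((Subgroup.topEquiv.symm.trans (MulEquiv.subgroupCongr htop.symm)).trans e).trans
    (P₀.equiv P)⟩

end Rel

end CfsgLib.SixtyFour
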