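import Cfsg.Agent.LocalB.FpfThreeTwoStructure
import Cfsg.Agent.LocalB.SixtyFour

/-!
Standard generators for the noncommutative groups.
-/

set_option autoImplicit false
set_option linter.unusedSectionVars false
set_option linter.style.haveILetI false

namespace CfsgLib.FpfThreeTwo

open scoped commutatorElement
open CfsgLib.SixtyFour

variable {T : Type*} [Group T] {r s : T ≃* T}

namespace Nab

variable (N : Nab r s) (C : Cfg r s)
include N C

/-- The relations for a suitably chosen pair. -/
theorem exists_rel_of_pair {iso : Bool} {a b : T} (hab : ⁅a, b⁆ ≠ 1)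
    (ha : a * a = if iso then 1 else ⁅a, b⁆) (hb : b * b = if iso then 1 else r ⁅a, b⁆) :
    ∃ R : Rel iso T, R.span = ⊤ ∧ Function.Injective R.word := by
  haveI := C.finite
  set u := ⁅a, b⁆ with hu
  have hu2 : u * u = 1 := N.hinv C a b
  have hrr : r (r u) = u * r u := by
    rw [C.rr_eq, inv_eq_of_mul_eq_one_right hu2, show (r u)⁻¹ = r u from
      inv_eq_of_mul_eq_one_right (by rw [← map_mul, hu2, map_one]), ((C.commute_r u).eq)]
  obtain ⟨e1, e2, e3⟩ := comm_values (N.hcl C) (N.hinv C) C a b
  have hswap : ∀ x y : T, y * x = x * y * ⁅x, y⁆ := by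
    intro x y
    have hy : y * x = ⁅y, x⁆ * (x * y) := by rw [commutatorElement_def]; group
    rw [hy, comm_symm (N.hinv C), (Subgroup.mem_center_iff.1 (N.hcl C x y) (x * y))]
  have hcen : ∀ g : T, Commute g u := fun g => Subgroup.mem_center_iff.1 (N.hcl C a b) g
  have hcen' : ∀ g : T, Commute g (r u) := fun g => by
    rw [← e3]; exact Subgroup.mem_center_iff.1 (N.hcl C (r a) (r b)) g
  let R : Rel iso T :=
    { a := a
      a' := r a
      b := b
      b' := r b
      u := u
      u' := r u
      uc := fun g _ => hcen g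
      uc' := fun g _ => hcen' g
      uu := hu2
      uu' := by rw [← map_mul, hu2, map_one]
      aa' := C.commute_r a
      bb' := C.commute_r b
      ba := hswap a b
      b'a := by rw [hswap a (r b), e1, hrr]
      ba' := by rw [hswap (r a) b, e2, hrr]
      b'a' := by rw [hswap (r a) (r b), e3]
      asq := ha
      a'sq := by
        rw [← map_mul, ha]
        cases iso
        · rfl
        · exact map_one r
      bsq := hb
      b'sq := by
        rw [← map_mul, hb]
        cases iso
        · exact hrr
        · exact map_one r }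
  have htop : R.span = ⊤ := eq_top_iff.2 (by
    rw [← C.nab_generate N hab]
    refine Subgroup.closure_mono ?_
    intro x hx
    simp only [Set.mem_insert_iff, Set.mem_singleton_iff] at hx ⊢
    rcases hx with rfl | rfl | rfl | rfl
    exacts [Or.inl rfl, Or.inr (Or.inl rfl), Or.inr (Or.inr (Or.inl rfl)),
      Or.inr (Or.inr (Or.inr (Or.inl rfl)))])
  refine ⟨R, htop, ?_⟩
  refine (Function.Surjective.bijective_of_nat_card_le (fun x => R.exists_word (htop.ge (Subgroup.mem_top x))) ?_).1
  rw [N.card]
  simp [Nat.card_eq_fintype_card]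

theorem exists_rel : ∃ (iso : Bool) (R : Rel iso T), R.span = ⊤ ∧ Function.Injective R.word := by
  haveI := C.finite
  have hcl := N.hcl C
  have hinv := N.hinv C
  have hsq : ∀ x y : T, y * y = 1 → (x * y) * (x * y) = (x * x) * ⁅x, y⁆ := by
    intro x y hy
    have e : (x * y) * (x * y) = x * (y * x) * y := by simp only [mul_assoc]
    have h : y * x = ⁅x, y⁆ * (x * y) := by rw [← comm_symm hinv x y, commutatorElement_def]; group
    rw [e, h, ← mul_assoc x ⁅x, y⁆, Subgroup.mem_center_iff.1 (hcl x y) x]
    simp only [mul_assoc]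
    rw [hy, mul_one, ← Subgroup.mem_center_iff.1 (hcl x y) (x * x)]
    simp only [mul_assoc]
  by_cases hiso : ∃ a : T, a ∉ fix s ∧ a * a = 1
  · obtain ⟨a, haV, ha⟩ := hiso
    obtain ⟨y, hy⟩ : ∃ y : T, ⁅a, y⁆ ≠ 1 := by
      by_contra hno
      push Not at hno
      obtain ⟨x, z, hxz⟩ := N.noncomm
      -- then `a` and `r a` are central and the quotient is too large
      have hca : a ∈ Subgroup.center T := Subgroup.mem_center_iff.2 fun g =>
        (commutatorElement_eq_one_iff_commute.1 (hno g)).symm
      have hcra : r a ∈ Subgroup.center T := Subgroup.mem_center_iff.2 fun g => by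
        obtain ⟨g, rfl⟩ := r.surjective g
        rw [← map_mul, Subgroup.mem_center_iff.1 hca g, map_mul]
      -- two noncommuting elements generate with their images
      have h := C.nab_generate N hxz
      obtain ⟨e1, e2, e3⟩ := comm_values hcl hinv C x z
      let w : (Bool × Bool) × (Bool × Bool) → T := fun p =>
        (if p.1.1 then x else 1) * (if p.1.2 then r x else 1) * (if p.2.1 then z else 1) *
          (if p.2.2 then r z else 1)
      haveI := C.fix_normal
      have hzz : ⁅r z, z⁆ = 1 := commutatorElement_eq_one_iff_commute.2 (C.commute_r z).symm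
      have hxx : ⁅x, r x⁆ = 1 := commutatorElement_eq_one_iff_commute.2 (C.commute_r x)
      have key1 : ∀ p, ⁅w p, z⁆ = (if p.1.1 then ⁅x, z⁆ else 1) * (if p.1.2 then r (r ⁅x, z⁆) else 1) := by
        rintro ⟨⟨i, j⟩, k, l⟩
        cases i <;> cases j <;> cases k <;> cases l <;>
          simp [w, comm_mul_left hcl, e2, hzz, -map_commutatorElement]
      have key2 : ∀ p, ⁅x, w p⁆ = (if p.2.1 then ⁅x, z⁆ else 1) * (if p.2.2 then r (r ⁅x, z⁆) else 1) := by
        rintro ⟨⟨i, j⟩, k, l⟩
        cases i <;> cases j <;> cases k <;> cases l <;>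
          simp [w, comm_mul_right hcl, e1, hxx, -map_commutatorElement]
      -- write `a` as a word; both its commutators vanish
      have hwfix : ∀ g : T, ∃ p, ∃ v ∈ fix s, g = w p * v := by
        intro g
        have hcard : Nat.card (T ⧸ fix s) = 16 := by
          have h := Subgroup.card_eq_card_quotient_mul_card_subgroup (fix s)
          rw [C.card_fix, N.card] at h
          omega
        have hinj : Function.Injective fun p => ((w p : T) : T ⧸ fix s) := by
          intro p q h
          obtain ⟨v, hv, hpq⟩ : ∃ v ∈ fix s, w q = w p * v :=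
            ⟨_, QuotientGroup.eq.1 h, (mul_inv_cancel_left _ _).symm⟩
          have h1 : ⁅w q, z⁆ = ⁅w p, z⁆ := by
            rw [hpq, comm_mul_left hcl, commutatorElement_eq_one_iff_commute.2 (C.central hv z).symm, mul_one]
          have h2 : ⁅x, w q⁆ = ⁅x, w p⁆ := by
            rw [hpq, comm_mul_right hcl, commutatorElement_eq_one_iff_commute.2 (C.central hv x), mul_one]
          rw [key1, key1] at h1
          rw [key2, key2] at h2
          exact Prod.ext (C.four_inj (hinv x z) hxz h1.symm) (C.four_inj (hinv x z) hxz h2.symm)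
        obtain ⟨p, hp⟩ := (hinj.bijective_of_nat_card_le (by
          rw [hcard, Nat.card_prod, Nat.card_prod, Nat.card_eq_fintype_card, Fintype.card_bool])).2 (g : T ⧸ fix s)
        exact ⟨p, _, QuotientGroup.eq.1 hp, (mul_inv_cancel_left _ _).symm⟩
      obtain ⟨⟨⟨i, j⟩, k, l⟩, v, hv, hav⟩ := hwfix a
      have g1 : ⁅w ((i, j), k, l), z⁆ = 1 := by
        have h1 := (commutatorElement_eq_one_iff_commute.2 (Subgroup.mem_center_iff.1 hca z).symm : ⁅a, z⁆ = 1)
        rwa [hav, comm_mul_left hcl, commutatorElement_eq_one_iff_commute.2 (C.central hv z).symm, mul_one] at h1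
      have g2 : ⁅x, w ((i, j), k, l)⁆ = 1 := by
        have h1 := (commutatorElement_eq_one_iff_commute.2 (Subgroup.mem_center_iff.1 hca x) : ⁅x, a⁆ = 1)
        rwa [hav, comm_mul_right hcl, commutatorElement_eq_one_iff_commute.2 (C.central hv x), mul_one] at h1
      rw [key1] at g1
      rw [key2] at g2
      have q1 : ((i, j) : Bool × Bool) = (false, false) := C.four_inj (hinv x z) hxz (g1.trans (by simp))
      have q2 : ((k, l) : Bool × Bool) = (false, false) := C.four_inj (hinv x z) hxz (g2.trans (by simp))
      simp only [Prod.mk.injEq] at q1 q2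
      obtain ⟨rfl, rfl⟩ := q1
      obtain ⟨rfl, rfl⟩ := q2
      refine haV ?_
      rw [hav]
      simpa [w] using hv
    obtain ⟨b, hb, hab⟩ : ∃ b : T, b * b = 1 ∧ ⁅a, b⁆ = ⁅a, y⁆ := by
      obtain ⟨e1, e2, e3⟩ := comm_values hcl hinv C a y
      set u := ⁅a, y⁆
      have hu2 : u * u = 1 := hinv a y
      have hra2 : r a * r a = 1 := by rw [← map_mul, ha, map_one]
      have hrra2 : r (r a) * r (r a) = 1 := by rw [← map_mul, hra2, map_one]
      have haa : ⁅a, r a⁆ = 1 := commutatorElement_eq_one_iff_commute.2 (C.commute_r a)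
      have haa2 : ⁅a, r (r a)⁆ = 1 := commutatorElement_eq_one_iff_commute.2 (C.commute_rr a)
      rcases C.fix_cases (N.comm_fix a y) hy (N.sq y) with h | h | h | h
      · exact ⟨y, h, rfl⟩
      · refine ⟨y * a, ?_, ?_⟩
        · rw [hsq y a ha, h, comm_symm hinv a y]; exact hu2
        · rw [comm_mul_right hcl, commutatorElement_self, mul_one]
      · refine ⟨y * r (r a), ?_, ?_⟩
        · have he : ⁅r (r a), y⁆ = r u := by
            have h4 := e2
            rw [C.rr_eq a, comm_mul_left hcl, comm_inv_left hcl, comm_inv_left hcl, e2,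
              show (⁅a, y⁆ : T)⁻¹ = u from inv_eq_of_mul_eq_one_right hu2, C.rr_eq u]
            group
            rw [(C.commute_r u).eq, mul_assoc, hu2, mul_one]
          rw [hsq y _ hrra2, h, comm_symm hinv (r (r a)) y, he, ← map_mul, hu2, map_one]
        · rw [comm_mul_right hcl, haa2, mul_one]
      · refine ⟨y * r a, ?_, ?_⟩
        · rw [hsq y _ hra2, h, comm_symm hinv (r a) y, e2, ← map_mul, ← map_mul, hu2, map_one, map_one]
        · rw [comm_mul_right hcl, haa, mul_one]
    exact ⟨true, N.exists_rel_of_pair C (iso := true) (b := b) (hab ▸ hy) (by simpa using ha) (by simpa using hb)⟩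
  · push Not at hiso
    obtain ⟨x, z, hxz⟩ := N.noncomm
    have hout : ∀ g h : T, ⁅g, h⁆ ≠ 1 → g ∉ fix s ∧ h ∉ fix s := fun g h hgh =>
      ⟨fun hg => hgh (commutatorElement_eq_one_iff_commute.2 (C.central hg h).symm),
       fun hh => hgh (commutatorElement_eq_one_iff_commute.2 (C.central hh g))⟩
    have hxV := (hout x z hxz).1
    set e := x * x with he
    have he1 : e ≠ 1 := hiso x hxV
    have he2 : e * e = 1 := C.pow_two_fix (N.sq x)
    obtain ⟨g1, g2, g3⟩ := comm_values hcl hinv C x z
    obtain ⟨g4, -, -⟩ := comm_values hcl hinv C x (r z)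
    obtain ⟨y, hy⟩ : ∃ y : T, ⁅x, y⁆ = e := by
      rcases C.fix_cases (N.comm_fix x z) hxz (N.sq x) with h | h | h | h
      · exact absurd h he1
      · exact ⟨z, h.symm⟩
      · exact ⟨r (r z), by rw [g4, g1, C.r3]; exact h.symm⟩
      · exact ⟨r z, by rw [g1]; exact h.symm⟩
    have hy1 : ⁅x, y⁆ ≠ 1 := hy ▸ he1
    have hyV := (hout x y hy1).2
    obtain ⟨f1, f2, f3⟩ := comm_values hcl hinv C x y
    rw [hy] at f1 f2 f3
    have hgen : ∀ p q : T, (p * q) * (p * q) = (p * p) * (q * q) * ⁅p, q⁆ := by
      intro p q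
      have h : q * p = ⁅p, q⁆ * (p * q) := by rw [← comm_symm hinv p q, commutatorElement_def]; group
      calc (p * q) * (p * q) = p * (q * p) * q := by simp only [mul_assoc]
        _ = p * (⁅p, q⁆ * (p * q)) * q := by rw [h]
        _ = ⁅p, q⁆ * (p * (p * q) * q) := by
          rw [← mul_assoc p, Subgroup.mem_center_iff.1 (hcl p q) p]; simp only [mul_assoc]
        _ = (p * p) * (q * q) * ⁅p, q⁆ := by
          rw [← Subgroup.mem_center_iff.1 (hcl p q) (p * (p * q) * q)]; simp only [mul_assoc]
    have hre : e * r e * r (r e) = 1 := C.prod_three e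
    rcases C.fix_cases (N.sq x) he1 (N.sq y) with h | h | h | h
    · exact absurd h (hiso y hyV)
    · exfalso
      have hnf : x * r y ∉ fix s := by
        intro hmem
        have h1 : ⁅x * r y, y⁆ = 1 := commutatorElement_eq_one_iff_commute.2 (C.central hmem y).symm
        rw [comm_mul_left hcl, hy, commutatorElement_eq_one_iff_commute.2 (C.commute_r y).symm, mul_one] at h1
        exact he1 h1
      refine hiso _ hnf ?_
      rw [hgen, f1, ← map_mul, h]
      exact hre
    · exact ⟨false, N.exists_rel_of_pair C (iso := false) (b := y) hy1 (by rw [if_neg (by simp), hy])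
        (by rw [if_neg (by simp), hy]; exact h)⟩
    · refine ⟨false, N.exists_rel_of_pair C (iso := false) (a := x) (b := y * r x) ?_ ?_ ?_⟩
      · rw [comm_mul_right hcl, hy, commutatorElement_eq_one_iff_commute.2 (C.commute_r x), mul_one]
        exact he1
      · rw [if_neg (by simp), comm_mul_right hcl, hy, commutatorElement_eq_one_iff_commute.2 (C.commute_r x), mul_one]
      · rw [if_neg (by simp), comm_mul_right hcl, hy, commutatorElement_eq_one_iff_commute.2 (C.commute_r x), mul_one]
        rw [hgen, comm_symm hinv, f2, h, ← map_mul r x x, ← he]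
        have hc : r (r e) * r e = r e * r (r e) := ((C.commute_r (r e)).eq).symm
        rw [hc, mul_assoc, ← map_mul r (r e) (r e), ← map_mul r e e, he2, map_one, map_one, mul_one]

end Nab

end CfsgLib.FpfThreeTwo
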