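import Cfsg.Agent.LocalB.FpfThreeTwoAbelian

/-!
A noncommutative group in the configuration has order 64, with commutators and squares fixed.
-/

set_option autoImplicit false
set_option linter.unusedSectionVars false
set_option linter.style.haveILetI false

namespace CfsgLib.FpfThreeTwo

open scoped commutatorElement

universe u

variable {T : Type*} [Group T] {r s : T ≃* T}

section ClassTwo

variable (hcl : ∀ x y : T, ⁅x, y⁆ ∈ Subgroup.center T) (hinv : ∀ x y : T, ⁅x, y⁆ * ⁅x, y⁆ = 1)
include hcl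

theorem comm_mul_left (x y z : T) : ⁅x * y, z⁆ = ⁅x, z⁆ * ⁅y, z⁆ := by
  have h : x * ⁅y, z⁆ * x⁻¹ = ⁅y, z⁆ := by
    rw [Subgroup.mem_center_iff.1 (hcl y z) x, mul_inv_cancel_right]
  have e : ⁅x * y, z⁆ = x * ⁅y, z⁆ * x⁻¹ * ⁅x, z⁆ := by
    simp only [commutatorElement_def]; group
  rw [e, h, (Subgroup.mem_center_iff.1 (hcl y z) ⁅x, z⁆)]

theorem comm_mul_right (x y z : T) : ⁅x, y * z⁆ = ⁅x, y⁆ * ⁅x, z⁆ := by
  have h : y * ⁅x, z⁆ * y⁻¹ = ⁅x, z⁆ := by
    rw [Subgroup.mem_center_iff.1 (hcl x z) y, mul_inv_cancel_right]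
  have e : ⁅x, y * z⁆ = ⁅x, y⁆ * (y * ⁅x, z⁆ * y⁻¹) := by
    simp only [commutatorElement_def]; group
  rw [e, h]

theorem comm_inv_left (x z : T) : ⁅x⁻¹, z⁆ = ⁅x, z⁆⁻¹ :=
  eq_inv_of_mul_eq_one_left (by rw [← comm_mul_left hcl, inv_mul_cancel, commutatorElement_one_left])

theorem comm_inv_right (x z : T) : ⁅x, z⁻¹⁆ = ⁅x, z⁆⁻¹ :=
  eq_inv_of_mul_eq_one_left (by rw [← comm_mul_right hcl, inv_mul_cancel, commutatorElement_one_right])

include hinv

omit hcl in
theorem comm_inv_self (x y : T) : ⁅x, y⁆⁻¹ = ⁅x, y⁆ := inv_eq_of_mul_eq_one_right (hinv x y)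

omit hcl in
theorem comm_symm (x y : T) : ⁅y, x⁆ = ⁅x, y⁆ := by
  rw [← commutatorElement_inv x y, comm_inv_self hinv]

/-- The commutators of two orbits of the automorphism of order three. -/
theorem comm_values (C : Cfg r s) (a b : T) :
    ⁅a, r b⁆ = r (r ⁅a, b⁆) ∧ ⁅r a, b⁆ = r (r ⁅a, b⁆) ∧ ⁅r a, r b⁆ = r ⁅a, b⁆ := by
  have hr : ∀ x y : T, r ⁅x, y⁆ = ⁅r x, r y⁆ := fun x y => map_commutatorElement r x y
  set u := ⁅a, b⁆ with hu
  have hcomm : ∀ x y z : T, ⁅x, y⁆ * z = z * ⁅x, y⁆ := fun x y z =>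
    (Subgroup.mem_center_iff.1 (hcl x y) z).symm
  have e1 : r ⁅a, r b⁆ = r u * ⁅r a, b⁆ := by
    rw [hr, C.rr_eq, comm_mul_right hcl, comm_inv_right hcl, comm_inv_right hcl, comm_inv_self hinv,
      comm_inv_self hinv, hr]
  have e2 : r ⁅r a, b⁆ = r u * ⁅a, r b⁆ := by
    rw [hr, C.rr_eq, comm_mul_left hcl, comm_inv_left hcl, comm_inv_left hcl, comm_inv_self hinv,
      comm_inv_self hinv, hr]
  have hu' : u⁻¹ = u := comm_inv_self hinv a b
  have h3 : r (r u) * r u = u := by
    rw [← (C.commute_r (r u)).eq, ← C.inv_eq, hu']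
  have e3 : r (r ⁅a, r b⁆) = u * ⁅a, r b⁆ := by
    rw [e1, map_mul, e2, ← mul_assoc, h3]
  have e4 : r (r ⁅a, r b⁆) = r ⁅a, r b⁆ * ⁅a, r b⁆ := by
    rw [C.rr_eq, comm_inv_self hinv, hr, comm_inv_self hinv]
  have e5 : r ⁅a, r b⁆ = u := mul_right_cancel (e4.symm.trans e3)
  have ev : ⁅a, r b⁆ = r (r u) := by rw [← e5, C.r3]
  refine ⟨ev, ?_, (hr a b).symm⟩
  have e6 : ⁅r a, b⁆ = (r u)⁻¹ * u := eq_inv_mul_iff_mul_eq.2 (e1.symm.trans e5)
  rw [e6, C.rr_eq, hu']

end ClassTwo

/-- The noncommutative possibility. -/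
structure Nab (r s : T ≃* T) : Prop where
  sq : ∀ x : T, x * x ∈ fix s
  comm_fix : ∀ x y : T, ⁅x, y⁆ ∈ fix s
  noncomm : ∃ x y : T, ⁅x, y⁆ ≠ 1
  card : Nat.card T = 64

theorem Nab.hcl (N : Nab r s) (C : Cfg r s) (x y : T) : ⁅x, y⁆ ∈ Subgroup.center T :=
  C.fix_central (N.comm_fix x y)

theorem Nab.hinv (N : Nab r s) (C : Cfg r s) (x y : T) : ⁅x, y⁆ * ⁅x, y⁆ = 1 :=
  C.pow_two_fix (N.comm_fix x y)

namespace Cfg

variable (C : Cfg r s)
include C

theorem r_ne_one {x : T} (hx : x ≠ 1) : r x ≠ 1 := fun h =>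
  hx (r.injective (h.trans (map_one r).symm))

theorem four_inj {u : T} (hu : u * u = 1) (hu1 : u ≠ 1) :
    Function.Injective fun p : Bool × Bool =>
      (if p.1 then u else 1) * (if p.2 then r (r u) else 1) := by
  have h1 : r (r u) ≠ 1 := C.r_ne_one (C.r_ne_one hu1)
  have h2 : u ≠ r (r u) := fun h => hu1 (C.fpf u (by
    exact (congrArg r h).trans (C.r3 u)))
  have h3 : u * r (r u) ≠ 1 := fun h => h2 (by
    exact ((eq_inv_of_mul_eq_one_right h).trans (inv_eq_of_mul_eq_one_right hu)).symm)
  have h4 : u ≠ u * r (r u) := fun h => h1 (left_eq_mul.1 h)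
  have h5 : r (r u) ≠ u * r (r u) := fun h => hu1 (right_eq_mul.1 h)
  rintro ⟨a, b⟩ ⟨c, d⟩ h
  cases a <;> cases b <;> cases c <;> cases d <;>
    simp [hu1, hu1.symm, h1, h1.symm, h2, h2.symm, h3, h3.symm, h4, h4.symm, h5, h5.symm] at h ⊢

theorem nab_generate (N : Nab r s) {a b : T} (hab : ⁅a, b⁆ ≠ 1) :
    Subgroup.closure {a, r a, b, r b} = ⊤ := by
  haveI := C.finite
  haveI := C.fix_normal
  set H := Subgroup.closure {a, r a, b, r b}
  have ha : a ∈ H := Subgroup.subset_closure (by simp)
  have hra : r a ∈ H := Subgroup.subset_closure (by simp)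
  have hb : b ∈ H := Subgroup.subset_closure (by simp)
  have hrb : r b ∈ H := Subgroup.subset_closure (by simp)
  obtain ⟨e1, e2, e3⟩ := comm_values (N.hcl C) (N.hinv C) C a b
  have hcommH : ∀ x ∈ H, ∀ y ∈ H, ⁅x, y⁆ ∈ H := fun x hx y hy => by
    rw [commutatorElement_def]
    exact H.mul_mem (H.mul_mem (H.mul_mem hx hy) (H.inv_mem hx)) (H.inv_mem hy)
  have hfix : fix s ≤ H := by
    intro v hv
    rcases C.fix_cases (N.comm_fix a b) hab hv with rfl | rfl | rfl | rfl
    · exact one_mem _
    · exact hcommH a ha b hb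
    · rw [← e3]; exact hcommH _ hra _ hrb
    · rw [← e1]; exact hcommH _ ha _ hrb
  let w : (Bool × Bool) × (Bool × Bool) → T := fun p =>
    (if p.1.1 then a else 1) * (if p.1.2 then r a else 1) * (if p.2.1 then b else 1) *
      (if p.2.2 then r b else 1)
  have hwH : ∀ p, w p ∈ H := fun p => by
    simp only [w]
    refine H.mul_mem (H.mul_mem (H.mul_mem ?_ ?_) ?_) ?_ <;> split_ifs <;> first | assumption | exact one_mem _
  have hz : ∀ x y : T, x ∈ fix s → ⁅x, y⁆ = 1 := fun x y hx =>
    commutatorElement_eq_one_iff_commute.2 (C.central hx y).symm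
  have hz' : ∀ x y : T, y ∈ fix s → ⁅x, y⁆ = 1 := fun x y hy =>
    commutatorElement_eq_one_iff_commute.2 (C.central hy x)
  have hbb : ⁅r b, b⁆ = 1 := commutatorElement_eq_one_iff_commute.2 (C.commute_r b).symm
  have haa : ⁅a, r a⁆ = 1 := commutatorElement_eq_one_iff_commute.2 (C.commute_r a)
  have key1 : ∀ p, ⁅w p, b⁆ = (if p.1.1 then ⁅a, b⁆ else 1) * (if p.1.2 then r (r ⁅a, b⁆) else 1) := by
    rintro ⟨⟨i, j⟩, k, l⟩
    cases i <;> cases j <;> cases k <;> cases l <;>
      simp [w, comm_mul_left (N.hcl C), e2, hbb, -map_commutatorElement]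
  have key2 : ∀ p, ⁅a, w p⁆ = (if p.2.1 then ⁅a, b⁆ else 1) * (if p.2.2 then r (r ⁅a, b⁆) else 1) := by
    rintro ⟨⟨i, j⟩, k, l⟩
    cases i <;> cases j <;> cases k <;> cases l <;>
      simp [w, comm_mul_right (N.hcl C), e1, haa, -map_commutatorElement]
  have hinj : Function.Injective fun p => ((w p : T) : T ⧸ fix s) := by
    intro p q h
    obtain ⟨v, hv, hpq⟩ : ∃ v ∈ fix s, w q = w p * v :=
      ⟨_, QuotientGroup.eq.1 h, (mul_inv_cancel_left _ _).symm⟩
    have h1 : ⁅w q, b⁆ = ⁅w p, b⁆ := by rw [hpq, comm_mul_left (N.hcl C), hz v b hv, mul_one]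
    have h2 : ⁅a, w q⁆ = ⁅a, w p⁆ := by rw [hpq, comm_mul_right (N.hcl C), hz' a v hv, mul_one]
    rw [key1, key1] at h1
    rw [key2, key2] at h2
    exact Prod.ext (C.four_inj (N.hinv C a b) hab h1.symm) (C.four_inj (N.hinv C a b) hab h2.symm)
  have hcard : Nat.card (T ⧸ fix s) = 16 := by
    have h := Subgroup.card_eq_card_quotient_mul_card_subgroup (fix s)
    rw [C.card_fix, N.card] at h
    omega
  have hsurj := (hinj.bijective_of_nat_card_le (by
    rw [hcard, Nat.card_prod, Nat.card_prod, Nat.card_eq_fintype_card, Fintype.card_bool])).2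
  refine eq_top_iff.2 fun g _ => ?_
  obtain ⟨p, hp⟩ := hsurj (g : T ⧸ fix s)
  have h := QuotientGroup.eq.1 hp
  rw [show g = w p * ((w p)⁻¹ * g) by rw [mul_inv_cancel_left]]
  exact H.mul_mem (hwH p) (hfix h)

theorem no_bigger [(fix s).Normal] (hne : fix s ≠ ⊤) (N : Nab (quot r C.map_r) (quot s C.map_s)) : False := by
  haveI := C.finite
  set D' := C.quot_cfg hne
  set π := QuotientGroup.mk' (fix s)
  have hπr : ∀ x : T, π (r x) = quot r C.map_r (π x) := fun x => rfl
  have hπs : ∀ x : T, π (s x) = quot s C.map_s (π x) := fun x => rfl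
  obtain ⟨a', b', hab⟩ := N.noncomm
  obtain ⟨a, rfl⟩ := QuotientGroup.mk'_surjective _ a'
  obtain ⟨b, rfl⟩ := QuotientGroup.mk'_surjective _ b'
  set c := ⁅a, b⁆ with hc
  obtain ⟨e1, e2, e3⟩ := comm_values (N.hcl D') (N.hinv D') D' (π a) (π b)
  have hπc : π c = ⁅π a, π b⁆ := map_commutatorElement π a b
  -- the four generators centralize `c`
  have hlift : ∀ x y : T, π x = π y → ∃ v ∈ fix s, y = x * v := fun x y h =>
    ⟨_, QuotientGroup.eq.1 h, (mul_inv_cancel_left _ _).symm⟩
  have hac : Commute a c := C.commute_commutator a b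
  have hbc : Commute b c := by
    have h := (C.commute_commutator b a).inv_right
    rwa [commutatorElement_inv] at h
  have hrac : Commute (r a) c := by
    have h1 : Commute (r a) (r c) := hac.map r.toMonoidHom
    obtain ⟨v, hv, hw⟩ := hlift (r (r c)) ⁅r a, b⁆ (by
      rw [hπr, hπr, hπc, map_commutatorElement π, hπr, e2])
    have h2 : Commute (r a) (r (r c) * v) := hw ▸ C.commute_commutator (r a) b
    have h3 : Commute (r a) (r (r c)) := by
      have h := h2.mul_right (C.central hv (r a)).inv_right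
      rwa [mul_inv_cancel_right] at h
    have h4 := (h1.mul_right h3).inv_right
    rwa [← C.inv_eq, inv_inv] at h4
  have hrbc : Commute (r b) c := by
    have h1 : Commute (r b) (r c) := hbc.map r.toMonoidHom
    obtain ⟨v, hv, hw⟩ := hlift (r (r c)) ⁅a, r b⁆ (by
      rw [hπr, hπr, hπc, map_commutatorElement π, hπr, e1])
    have h0 : Commute (r b) ⁅a, r b⁆ := by
      have h := (C.commute_commutator (r b) a).inv_right
      rwa [commutatorElement_inv] at h
    have h2 : Commute (r b) (r (r c) * v) := hw ▸ h0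
    have h3 : Commute (r b) (r (r c)) := by
      have h := h2.mul_right (C.central hv (r b)).inv_right
      rwa [mul_inv_cancel_right] at h
    have h4 := (h1.mul_right h3).inv_right
    rwa [← C.inv_eq, inv_inv] at h4
  -- they generate with the fixed points
  have hgen : Subgroup.closure {a, r a, b, r b} ⊔ fix s = ⊤ := by
    have h := D'.nab_generate N hab
    have himg : (Subgroup.closure {a, r a, b, r b}).map π = ⊤ := by
      rw [MonoidHom.map_closure, ← h]
      congr 1
      simp only [Set.image_insert_eq, Set.image_singleton, hπr]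
      rfl
    have h2 := congrArg (Subgroup.comap π) himg
    rwa [Subgroup.comap_map_eq, QuotientGroup.ker_mk', Subgroup.comap_top] at h2
  have hccen : c ∈ Subgroup.center T := by
    refine Subgroup.mem_center_iff.2 fun g => ?_
    have hle : Subgroup.closure {a, r a, b, r b} ⊔ fix s ≤ Subgroup.centralizer {c} := by
      refine sup_le ((Subgroup.closure_le _).2 ?_) fun v hv => ?_
      · intro x hx
        rw [SetLike.mem_coe, Subgroup.mem_centralizer_singleton_iff]
        simp only [Set.mem_insert_iff, Set.mem_singleton_iff] at hx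
        rcases hx with rfl | rfl | rfl | rfl
        exacts [hac.eq, hrac.eq, hbc.eq, hrbc.eq]
      · rw [Subgroup.mem_centralizer_singleton_iff]
        exact ((C.central hv c).eq).symm
    exact Subgroup.mem_centralizer_singleton_iff.1 (hle (hgen.ge (Subgroup.mem_top g)))
  have hrcen : ∀ x ∈ Subgroup.center T, r x ∈ Subgroup.center T := fun x hx =>
    Subgroup.mem_center_iff.2 fun g => by
      obtain ⟨g, rfl⟩ := r.surjective g
      rw [← map_mul, Subgroup.mem_center_iff.1 hx g, map_mul]
  have hU : ∀ g : T, π g ∈ fix (quot s C.map_s) → g ∈ Subgroup.center T := by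
    intro g hg
    have hcase : ∀ y : T, y ∈ Subgroup.center T → π g = π y → g ∈ Subgroup.center T := by
      intro y hy h
      obtain ⟨v, hv, rfl⟩ := hlift y g h.symm
      exact mul_mem hy (C.fix_central hv)
    rcases D'.fix_cases (N.comm_fix _ _) hab hg with h | h | h | h
    · exact hcase 1 (one_mem _) (h.trans (map_one π).symm)
    · exact hcase c hccen (by rw [h, hπc])
    · exact hcase (r c) (hrcen _ hccen) (by rw [h, hπr, hπc])
    · exact hcase (r (r c)) (hrcen _ (hrcen _ hccen)) (by rw [h, hπr, hπr, hπc])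
  have hcl : ∀ x y : T, ⁅x, y⁆ ∈ Subgroup.center T := fun x y => hU _ (by
    rw [map_commutatorElement]; exact N.comm_fix _ _)
  have hinv : ∀ x y : T, ⁅x, y⁆ * ⁅x, y⁆ = 1 := fun x y => by
    rw [← comm_mul_left hcl]
    refine commutatorElement_eq_one_iff_commute.2 (Commute.symm ?_)
    exact Subgroup.mem_center_iff.1 (hU _ (by rw [map_mul]; exact N.sq _)) y
  obtain ⟨f1, f2, f3⟩ := comm_values hcl hinv C a b
  -- all commutators lie in `{1, c, rc, r²c}`
  have hcc : c * c = 1 := hinv a b
  let D : Subgroup T := Subgroup.closure {c, r c}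
  have hcD : c ∈ D := Subgroup.subset_closure (by simp)
  have hrD : r c ∈ D := Subgroup.subset_closure (by simp)
  have hrrD : r (r c) ∈ D := by rw [C.rr_eq]; exact D.mul_mem (D.inv_mem hrD) (D.inv_mem hcD)
  have hDelt : ∀ x ∈ D, x = 1 ∨ x = c ∨ x = r c ∨ x = r (r c) := by
    have hrc2 : r c * r c = 1 := by rw [← map_mul, hcc, map_one]
    have hinv1 : c⁻¹ = c := inv_eq_of_mul_eq_one_right hcc
    have hinv2 : (r c)⁻¹ = r c := inv_eq_of_mul_eq_one_right hrc2
    have hrr : r (r c) = r c * c := by rw [C.rr_eq, hinv1, hinv2]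
    have hswap : r c * c = c * r c := ((C.commute_r c).eq).symm
    intro x hx
    induction hx using Subgroup.closure_induction with
    | mem y hy =>
      rcases hy with rfl | rfl
      · exact Or.inr (Or.inl rfl)
      · exact Or.inr (Or.inr (Or.inl rfl))
    | one => exact Or.inl rfl
    | mul y z _ _ hy hz =>
      rcases hy with rfl | rfl | rfl | rfl <;> rcases hz with rfl | rfl | rfl | rfl <;>
        simp [hrr, hcc, hrc2, hswap, ← mul_assoc] <;>
        simp [mul_assoc, hcc, hrc2, hswap] <;> simp [← mul_assoc, hcc, hrc2]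
    | inv y _ hy =>
      rcases hy with rfl | rfl | rfl | rfl
      · exact Or.inl inv_one
      · exact Or.inr (Or.inl hinv1)
      · exact Or.inr (Or.inr (Or.inl hinv2))
      · refine Or.inr (Or.inr (Or.inr ?_))
        rw [hrr, mul_inv_rev, hinv1, hinv2, hswap]
  have hgens : ∀ x ∈ ({a, r a, b, r b} : Set T), ∀ y ∈ ({a, r a, b, r b} : Set T), ⁅x, y⁆ ∈ D := by
    have haa : ⁅a, r a⁆ = 1 := commutatorElement_eq_one_iff_commute.2 (C.commute_r a)
    have hbb : ⁅b, r b⁆ = 1 := commutatorElement_eq_one_iff_commute.2 (C.commute_r b)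
    intro x hx y hy
    simp only [Set.mem_insert_iff, Set.mem_singleton_iff] at hx hy
    rcases hx with hx | hx | hx | hx <;> rcases hy with hy | hy | hy | hy <;> rw [hx, hy] <;>
      first
        | (rw [commutatorElement_self]; exact one_mem _)
        | (rw [haa]; exact one_mem _)
        | (rw [hbb]; exact one_mem _)
        | (rw [comm_symm hinv a (r a), haa]; exact one_mem _)
        | (rw [comm_symm hinv b (r b), hbb]; exact one_mem _)
        | exact hcD
        | (rw [f1]; exact hrrD)
        | (rw [f2]; exact hrrD)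
        | (rw [f3]; exact hrD)
        | (rw [comm_symm hinv a b]; exact hcD)
        | (rw [comm_symm hinv a (r b), f1]; exact hrrD)
        | (rw [comm_symm hinv (r a) b, f2]; exact hrrD)
        | (rw [comm_symm hinv (r a) (r b), f3]; exact hrD)
  have hall : ∀ x y : T, ⁅x, y⁆ ∈ D := by
    have step : ∀ (S : Set T), (∀ x ∈ S, ∀ y, ⁅x, y⁆ ∈ D) → ∀ x ∈ Subgroup.closure S, ∀ y, ⁅x, y⁆ ∈ D := by
      intro S hS x hx
      induction hx using Subgroup.closure_induction with
      | mem z hz => exact hS z hz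
      | one => intro y; rw [commutatorElement_one_left]; exact one_mem _
      | mul p q _ _ hp hq => intro y; rw [comm_mul_left hcl]; exact mul_mem (hp y) (hq y)
      | inv p _ hp => intro y; rw [comm_inv_left hcl]; exact inv_mem (hp y)
    have hzero : ∀ v ∈ fix s, ∀ y : T, ⁅v, y⁆ ∈ D := fun v hv y => by
      rw [commutatorElement_eq_one_iff_commute.2 (C.central hv y).symm]; exact one_mem _
    have hleft : ∀ x ∈ ({a, r a, b, r b} : Set T), ∀ y, ⁅x, y⁆ ∈ D := by
      intro x hx y
      obtain ⟨p, hp, q, hq, rfl⟩ := Subgroup.mem_sup_of_normal_right.1 (hgen.ge (Subgroup.mem_top y))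
      rw [comm_mul_right hcl, comm_symm hinv p x, comm_symm hinv q x]
      refine mul_mem ?_ (hzero q hq x)
      clear hq q
      induction hp using Subgroup.closure_induction with
      | mem z hz => exact hgens z hz x hx
      | one => rw [commutatorElement_one_left]; exact one_mem _
      | mul p q _ _ hp hq => rw [comm_mul_left hcl]; exact mul_mem hp hq
      | inv p _ hp => rw [comm_inv_left hcl]; exact inv_mem hp
    intro x y
    obtain ⟨p, hp, q, hq, rfl⟩ := Subgroup.mem_sup_of_normal_right.1 (hgen.ge (Subgroup.mem_top x))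
    rw [comm_mul_left hcl]
    exact mul_mem (step _ hleft p hp y) (hzero q hq y)
  have hsD : ∀ x ∈ D, s x ∈ D := by
    intro x hx
    induction hx using Subgroup.closure_induction with
    | mem y hy =>
      rcases hy with rfl | rfl
      · rw [hc, map_commutatorElement]; exact hall _ _
      · rw [hc, map_commutatorElement, map_commutatorElement]; exact hall _ _
    | one => rw [map_one]; exact one_mem _
    | mul y z _ _ hy hz => rw [map_mul]; exact mul_mem hy hz
    | inv y _ hy => rw [map_inv]; exact inv_mem hy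
  obtain ⟨v, hv, hv1, hvf⟩ := C.exists_fixed_ne_one D hsD (fun h => hab (by
    have : c ∈ D := hcD
    rw [h, Subgroup.mem_bot] at this
    rw [← hπc, this, map_one]))
  have hπv : π v = 1 := (QuotientGroup.eq_one_iff v).2 hvf
  rcases hDelt v hv with rfl | rfl | rfl | rfl
  · exact hv1 rfl
  · exact hab (by rw [← hπc, hπv])
  · rw [hπr, hπc] at hπv
    exact D'.r_ne_one hab hπv
  · rw [hπr, hπr, hπc] at hπv
    exact D'.r_ne_one (D'.r_ne_one hab) hπv

end Cfg

/-- The structure theorem. -/
theorem Cfg.cases : ∀ (n : ℕ) {T : Type u} [Group T] {r s : T ≃* T} (C : Cfg r s), Nat.card T = n →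
    (∀ x y : T, Commute x y) ∨ Nab r s := by
  intro n
  induction n using Nat.strong_induction_on with
  | _ n ih =>
    intro T _ r s C hn
    haveI := C.finite
    haveI := C.fix_normal
    by_cases hne : fix s = ⊤
    · left
      intro x y
      exact C.central (hne.ge (Subgroup.mem_top y)) x
    have hlt : Nat.card (T ⧸ fix s) < n := by
      have h := Subgroup.card_eq_card_quotient_mul_card_subgroup (fix s)
      rw [C.card_fix, hn] at h
      have := Nat.card_pos (α := T ⧸ fix s)
      omega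
    rcases ih _ hlt (C.quot_cfg hne) rfl with hab | hN
    · rcases (C.quot_cfg hne).abelian_cases hab with ⟨h16, hsq⟩ | ⟨k, -, -, a', hgen⟩
      · by_cases hcomm : ∀ x y : T, Commute x y
        · exact Or.inl hcomm
        right
        push Not at hcomm
        obtain ⟨x, y, hxy⟩ := hcomm
        refine ⟨fun g => (QuotientGroup.eq_one_iff _).1 (hsq (g : T ⧸ fix s)), fun g h => ?_,
          ⟨x, y, fun h => hxy (commutatorElement_eq_one_iff_commute.1 h)⟩, ?_⟩
        · refine (QuotientGroup.eq_one_iff _).1 ?_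
          show (QuotientGroup.mk' (fix s)) ⁅g, h⁆ = 1
          rw [map_commutatorElement]
          exact commutatorElement_eq_one_iff_commute.2 (hab _ _)
        · rw [Subgroup.card_eq_card_quotient_mul_card_subgroup (fix s), h16, C.card_fix]
      · left
        obtain ⟨a, rfl⟩ := QuotientGroup.mk'_surjective _ a'
        have hsup : Subgroup.closure {a, r a} ⊔ fix s = ⊤ := by
          have himg : (Subgroup.closure {a, r a}).map (QuotientGroup.mk' (fix s)) = ⊤ := by
            rw [MonoidHom.map_closure, ← hgen]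
            congr 1
            simp only [Set.image_insert_eq, Set.image_singleton]
            rfl
          have h2 := congrArg (Subgroup.comap (QuotientGroup.mk' (fix s))) himg
          rwa [Subgroup.comap_map_eq, QuotientGroup.ker_mk', Subgroup.comap_top] at h2
        have hcen : ∀ z ∈ ({a, r a} : Set T), z ∈ Subgroup.center T := by
          intro z hz
          refine Subgroup.mem_center_iff.2 fun g => ?_
          have hle : Subgroup.closure {a, r a} ⊔ fix s ≤ Subgroup.centralizer {z} := by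
            refine sup_le ((Subgroup.closure_le _).2 fun w hw => ?_) fun v hv => ?_
            · rw [SetLike.mem_coe, Subgroup.mem_centralizer_singleton_iff]
              rcases hw with rfl | rfl <;> rcases hz with rfl | rfl
              exacts [rfl, (C.commute_r _).eq, (C.commute_r _).eq.symm, rfl]
            · rw [Subgroup.mem_centralizer_singleton_iff]
              exact ((C.central hv z).eq).symm
          exact Subgroup.mem_centralizer_singleton_iff.1 (hle (hsup.ge (Subgroup.mem_top g)))
        intro x y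
        exact Subgroup.mem_center_iff.1
          ((sup_le ((Subgroup.closure_le _).2 hcen) C.fix_central) (hsup.ge (Subgroup.mem_top y))) x
    · exact (C.no_bigger hne hN).elim

end CfsgLib.FpfThreeTwo
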