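import Mathlib
import Cfsg.Prelude.Def_Transfer
import Cfsg.Prelude.Def_SolvableStructure
import Cfsg.Agent.LocalB.HSupersolvable

/-!
Supersolvability from strongly closed subgroups of one order in the Sylow subgroups.
-/

set_option autoImplicit false
set_option linter.unusedSectionVars false
set_option linter.unusedVariables false
set_option linter.style.haveILetI false

namespace CfsgLib.LocalB.HSS

open Subgroup Relation

universe u

variable {G : Type u} [Group G]

/-- one step of a normal series with cyclic factor -/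
def Step (a b : Subgroup G) : Prop := a.Normal ∧ b.Normal ∧ ∃ g : G, b = a ⊔ zpowers g

theorem chain_to_series {b : Subgroup G} (h : ReflTransGen Step (⊥ : Subgroup G) b) :
    ∃ (n : ℕ) (H : Fin (n + 1) → Subgroup G), H 0 = ⊥ ∧ H (Fin.last n) = b ∧ (∀ i, (H i).Normal) ∧
      ∀ i : Fin n, ∃ g : G, H i.succ = H i.castSucc ⊔ zpowers g := by
  induction h with
  | refl => exact ⟨0, fun _ => ⊥, rfl, rfl, fun _ => inferInstance, fun i => i.elim0⟩
  | @tail b c _ hs ih =>
    obtain ⟨n, H, h0, hl, hn, hst⟩ := ih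
    refine ⟨n + 1, Fin.snoc H c, ?_, Fin.snoc_last _ _, ?_, ?_⟩
    · rw [← Fin.castSucc_zero, Fin.snoc_castSucc, h0]
    · refine Fin.lastCases ?_ (fun i => ?_)
      · rw [Fin.snoc_last]; exact hs.2.1
      · rw [Fin.snoc_castSucc]; exact hn i
    · refine Fin.lastCases ?_ (fun i => ?_)
      · rw [Fin.succ_last, Fin.snoc_last, Fin.snoc_castSucc, hl]; exact hs.2.2
      · rw [Fin.succ_castSucc, Fin.snoc_castSucc, Fin.snoc_castSucc]; exact hst i

theorem series_iff : Cfsg.IsSupersolvable G ↔ ReflTransGen Step (⊥ : Subgroup G) ⊤ := by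
  refine ⟨?_, fun h => chain_to_series h⟩
  rintro ⟨n, H, h0, hl, hn, hst⟩
  have : ∀ i : Fin (n + 1), ReflTransGen Step (⊥ : Subgroup G) (H i) := by
    refine Fin.induction ?_ fun i ih => ?_
    · rw [h0]
    · exact ih.tail ⟨hn _, hn _, hst i⟩
  exact hl ▸ this (Fin.last n)

theorem chain_map {G' : Type*} [Group G'] (f : G →* G') (hf : Function.Surjective f)
    {a b : Subgroup G} (h : ReflTransGen Step a b) : ReflTransGen Step (a.map f) (b.map f) := by
  induction h with
  | refl => exact ReflTransGen.refl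
  | tail _ hs ih =>
    obtain ⟨h1, h2, g, hg⟩ := hs
    exact ih.tail ⟨h1.map f hf, h2.map f hf, f g, by rw [hg, Subgroup.map_sup, MonoidHom.map_zpowers]⟩

theorem chain_comap {G' : Type*} [Group G'] (f : G →* G') (hf : Function.Surjective f)
    {a b : Subgroup G'} (h : ReflTransGen Step a b) : ReflTransGen Step (a.comap f) (b.comap f) := by
  induction h with
  | refl => exact ReflTransGen.refl
  | @tail b c _ hs ih =>
    obtain ⟨h1, h2, g, hg⟩ := hs
    obtain ⟨g, rfl⟩ := hf g
    refine ih.tail ⟨h1.comap f, h2.comap f, g, ?_⟩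
    rw [hg, ← MonoidHom.map_zpowers]
    conv_lhs => rw [← map_comap_eq_self_of_surjective hf b, ← Subgroup.map_sup, comap_map_eq]
    exact sup_eq_left.2 ((MonoidHom.ker_le_comap f b).trans le_sup_left)

variable [Finite G] {p : ℕ} [hp : Fact p.Prime]

theorem emb_quotient {Q W : Subgroup G} [W.Normal] (hemb : Emb p Q) :
    Emb p (Q.map (QuotientGroup.mk' W)) := by
  intro a ha hcop
  have hle : A p (G ⧸ W) ≤ (A p G).map (QuotientGroup.mk' W) := by
    haveI : ((A p G).map (QuotientGroup.mk' W)).Normal :=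
      A_normal.map _ (QuotientGroup.mk'_surjective W)
    refine normalClosure_le_normal ?_
    rintro x (⟨g, h, rfl⟩ | ⟨g, rfl⟩)
    · obtain ⟨g, rfl⟩ := QuotientGroup.mk'_surjective W g
      obtain ⟨h, rfl⟩ := QuotientGroup.mk'_surjective W h
      exact ⟨_, commutator_mem_A g h, map_commutatorElement _ g h⟩
    · obtain ⟨g, rfl⟩ := QuotientGroup.mk'_surjective W g
      exact ⟨_, pow_mem_A g, map_pow _ g _⟩
  obtain ⟨b, hb, rfl⟩ := hle ha
  set r := orderOf (QuotientGroup.mk' W b)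
  obtain ⟨k, m, hm, hkm⟩ := Nat.exists_eq_pow_mul_and_not_dvd (orderOf_pos b).ne' p hp.out.ne_one
  obtain ⟨c, hc1, hc0⟩ : ∃ c : ℕ, c ≡ 1 [MOD r] ∧ p ^ k ∣ c := by
    obtain ⟨c, h1, h2⟩ := Nat.chineseRemainder (hcop.pow_right k) 1 0
    exact ⟨c, h1, Nat.modEq_zero_iff_dvd.1 h2⟩
  have hb' : QuotientGroup.mk' W (b ^ c) = QuotientGroup.mk' W b := by
    rw [map_pow]
    conv_rhs => rw [← pow_one (QuotientGroup.mk' W b)]
    exact pow_eq_pow_iff_modEq.2 hc1
  have hord : (orderOf (b ^ c)).Coprime p := by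
    have : orderOf (b ^ c) ∣ m := by
      refine orderOf_dvd_of_pow_eq_one ?_
      obtain ⟨e, rfl⟩ := hc0
      rw [← pow_mul, mul_right_comm, ← hkm, pow_mul, pow_orderOf_eq_one, one_pow]
    exact Nat.Coprime.coprime_dvd_left this ((hp.out.coprime_iff_not_dvd.2 hm).symm)
  have hcen := hemb (b ^ c) (pow_mem hb c) hord
  rw [← hb']
  refine mem_centralizer_iff.2 ?_
  rintro _ ⟨q, hq, rfl⟩
  rw [← map_mul, mem_centralizer_iff.1 hcen q hq, map_mul]

/-- chains below a supersolvably embedded normal `p`-subgroup -/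
theorem chain_below (Q : Subgroup G) [Q.Normal] (hQ : IsPGroup p Q) (hemb : Emb p Q) :
    ∀ (n : ℕ) (W : Subgroup G), W.relIndex Q = n → W.Normal → W ≤ Q →
      ReflTransGen Step W Q := by
  intro n
  induction n using Nat.strong_induction_on with
  | _ n ih =>
  intro W hn hWn hWQ
  by_cases he : W = Q
  · rw [he]
  haveI := hWn
  set f := QuotientGroup.mk' W
  have hf := QuotientGroup.mk'_surjective W
  set Qb := Q.map f
  haveI : Qb.Normal := Normal.map inferInstance f hf
  have hQb1 : Qb ≠ ⊥ := fun e => he (le_antisymm hWQ (by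
    have := (Subgroup.map_eq_bot_iff Q).1 e
    rwa [QuotientGroup.ker_mk'] at this))
  obtain ⟨N, ⟨hNn, hN1, hNQ⟩, hNmin⟩ :=
    Set.Finite.exists_minimal (s := {N : Subgroup (G ⧸ W) | N.Normal ∧ N ≠ ⊥ ∧ N ≤ Qb})
      (Set.toFinite _) ⟨Qb, inferInstance, hQb1, le_rfl⟩
  haveI := hNn
  have hcard := card_minimal Qb (hQ.map f) (emb_quotient hemb) N hN1 hNQ fun V hV hle => by
    by_cases hV1 : V = ⊥
    · exact Or.inl hV1
    · exact Or.inr (le_antisymm hle (hNmin (y := V) ⟨hV, hV1, hle.trans hNQ⟩ hle))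
  haveI : IsCyclic N := isCyclic_of_prime_card hcard
  obtain ⟨x, hx⟩ := IsCyclic.exists_generator (α := N)
  obtain ⟨g, hg⟩ := hf (x : G ⧸ W)
  have hNeq : N = zpowers (f g) := by
    refine le_antisymm (fun y hy => ?_) (zpowers_le.2 (hg ▸ x.2))
    obtain ⟨i, hi⟩ := hx ⟨y, hy⟩
    exact ⟨i, by rw [hg]; simpa using congrArg Subtype.val hi⟩
  set W' := N.comap f with hW'
  have hWW' : W ≤ W' := (QuotientGroup.ker_mk' W).ge.trans (MonoidHom.ker_le_comap f N)
  have hW'Q : W' ≤ Q := by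
    have := comap_mono (f := f) hNQ
    rwa [comap_map_eq, QuotientGroup.ker_mk', sup_eq_left.2 hWQ] at this
  have hstep : Step W W' := by
    refine ⟨hWn, hNn.comap f, g, ?_⟩
    rw [hW', hNeq, ← MonoidHom.map_zpowers, comap_map_eq, QuotientGroup.ker_mk', sup_comm]
  have hlt : W'.relIndex Q < n := by
    rw [← hn, ← relIndex_mul_relIndex W W' Q hWW' hW'Q]
    have h1 : W.relIndex W' ≠ 1 := fun e => hN1 (by
      have hle := relIndex_eq_one.1 e
      rw [← map_comap_eq_self_of_surjective hf N, Subgroup.map_eq_bot_iff, QuotientGroup.ker_mk']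
      exact hle)
    have h2 : 0 < W.relIndex W' := Nat.pos_of_ne_zero Subgroup.index_ne_zero_of_finite
    have h3 : 0 < W'.relIndex Q := Nat.pos_of_ne_zero Subgroup.index_ne_zero_of_finite
    exact lt_mul_of_one_lt_left h3 (by omega)
  exact (ReflTransGen.single hstep).trans (ih _ hlt W' rfl (hNn.comap f) hW'Q)

/-- the hypothesis on the Sylow subgroups of `K` -/
def SHyp (K : Subgroup G) : Prop :=
  ∀ (p : ℕ), p.Prime → ∀ P : Subgroup G, P ≤ K → IsPGroup p P → ¬ p ∣ P.relIndex K → ¬ IsCyclic ↥P →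
    ∃ D : Subgroup G, D ≤ P ∧ 1 < Nat.card D ∧ Nat.card D < Nat.card P ∧
      ∀ F : Subgroup G, F ≤ P → (Nat.card F = Nat.card D ∨ (Nat.card D = 2 ∧ Nat.card F = 4)) →
        CfsgLib.LocalB.HSub.IsH F

theorem exists_sylow_map (p : ℕ) [Fact p.Prime] (K : Subgroup G) :
    ∃ P : Subgroup G, P ≤ K ∧ IsPGroup p P ∧ ¬ p ∣ P.relIndex K := by
  obtain ⟨P⟩ := (inferInstance : Nonempty (Sylow p K))
  refine ⟨(P : Subgroup K).map K.subtype, map_subtype_le _, P.2.map _, ?_⟩
  rw [relIndex, subgroupOf, comap_map_eq_self_of_injective K.subtype_injective]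
  exact P.not_dvd_index

theorem hasNormalPComplement_sub {K : Subgroup G} (hK : SHyp K) (p : ℕ) [hp : Fact p.Prime]
    (hdvd : p ∣ Nat.card K) (hmin : ∀ q : ℕ, q.Prime → q ∣ Nat.card K → p ≤ q) :
    Cfsg.HasNormalPComplement p K := by
  obtain ⟨P⟩ := (inferInstance : Nonempty (Sylow p K))
  by_cases hc : IsCyclic (P : Subgroup K)
  · exact CfsgLib.LocalB.HSub.hasNormalPComplement_of_cyclic hmin P hc
  have hc' : ¬ IsCyclic ((P : Subgroup K).map K.subtype) := fun h => hc
    (isCyclic_of_surjective ((P : Subgroup K).equivMapOfInjective K.subtype K.subtype_injective).symm.toMonoidHom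
      ((P : Subgroup K).equivMapOfInjective K.subtype K.subtype_injective).symm.surjective)
  obtain ⟨D, hDP, h1, h2, hH⟩ := hK p hp.out _ (map_subtype_le _) (P.2.map _)
    (by rw [relIndex, subgroupOf, comap_map_eq_self_of_injective K.subtype_injective]
        exact P.not_dvd_index) hc'
  obtain ⟨j, hj⟩ := IsPGroup.iff_card.1 ((P.2.map K.subtype).to_le hDP)
  have hj0 : 0 < j := by
    rcases Nat.eq_zero_or_pos j with rfl | h
    · rw [hj, pow_zero] at h1
      exact absurd h1 (lt_irrefl 1)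
    · exact h
  rw [card_map_of_injective K.subtype_injective] at h2
  refine CfsgLib.LocalB.HSub.hasNormalPComplement (d := Nat.card D) hmin P ⟨j, hj0, hj⟩ h2 ?_
  intro E hE hEo
  obtain ⟨Q, hQ⟩ := hE.exists_le_sylow
  obtain ⟨c, hc⟩ := MulAction.exists_smul_eq K Q P
  set E' := E.map (MulAut.conj c).toMonoidHom with hE'def
  have hE' : E' ≤ (P : Subgroup K) := by
    rintro _ ⟨e, he, rfl⟩
    rw [← hc, Sylow.coe_subgroup_smul]
    exact Subgroup.smul_mem_pointwise_smul e (MulAut.conj c) (Q : Subgroup K) (hQ he)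
  have hcard : Nat.card E' = Nat.card E :=
    card_map_of_injective (f := (MulAut.conj c).toMonoidHom) (MulAut.conj c).injective
  have hG : CfsgLib.LocalB.HSub.IsH (E'.map K.subtype) := hH _ (map_mono hE')
    (by rw [card_map_of_injective K.subtype_injective, hcard]; exact hEo)
  have hgood : CfsgLib.LocalB.HSub.IsH E' := by
    rintro g _ ⟨⟨e, he, rfl⟩, hn⟩
    have h3 : (g : G) * (e : G) * (g : G)⁻¹ ∈ normalizer ((E'.map K.subtype : Subgroup G) : Set G) := by
      exact Subgroup.le_normalizer_map K.subtype ⟨_, hn, rfl⟩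
    obtain ⟨y, hy, hye⟩ := hG.conj_mem ⟨e, he, rfl⟩ h3
    have e1 : y = g * e * g⁻¹ := Subtype.ext hye
    change g * e * g⁻¹ ∈ E'
    rwa [← e1]
  have := hgood.map_conj c⁻¹
  convert this
  ext y
  constructor
  · intro hy
    exact ⟨_, ⟨y, hy, rfl⟩, by simp [mul_assoc]⟩
  · rintro ⟨_, ⟨a, ha, rfl⟩, rfl⟩
    simpa [mul_assoc] using ha

theorem sylow_largest_normal : ∀ (n : ℕ) (K : Subgroup G), Nat.card K = n → SHyp K →
    ∀ (q : ℕ), q.Prime → (∀ r : ℕ, r.Prime → r ∣ Nat.card K → r ≤ q) →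
      ∀ Q : Subgroup G, Q ≤ K → IsPGroup q Q → ¬ q ∣ Q.relIndex K →
        K ≤ normalizer (Q : Set G) := by
  intro n
  induction n using Nat.strong_induction_on with
  | _ n ih =>
  intro K hn hK q hq hmax Q hQK hQ hidx
  haveI := Fact.mk hq
  by_cases hall : ∀ r : ℕ, r.Prime → r ∣ Nat.card K → r = q
  · have : Q = K := by
      refine le_antisymm hQK (relIndex_eq_one.1 ?_)
      by_contra hne
      obtain ⟨r, hr, hrd⟩ := Nat.exists_prime_and_dvd hne
      have : r ∣ Nat.card K := hrd.trans (Dvd.intro_left _ (by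
        rw [← relIndex_bot_left K, ← relIndex_mul_relIndex ⊥ Q K bot_le hQK]))
      exact hidx (hall r hr this ▸ hrd)
    exact this ▸ le_normalizer
  push Not at hall
  obtain ⟨r, hr, hrd, hrq⟩ := hall
  have hK1 : Nat.card K ≠ 1 := fun e => hr.not_dvd_one (e ▸ hrd)
  set p := (Nat.card K).minFac
  haveI hp : Fact p.Prime := ⟨Nat.minFac_prime hK1⟩
  have hpq : p < q := lt_of_le_of_lt (Nat.minFac_le_of_dvd hr.two_le hrd)
    (lt_of_le_of_ne (hmax r hr hrd) hrq)
  have hNC := hasNormalPComplement_sub hK p (Nat.minFac_dvd _)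
    (fun s hs hd => Nat.minFac_le_of_dvd hs.two_le hd)
  rw [CfsgLib.PResidual.hasNormalPComplement_iff] at hNC
  set R := (Cfsg.pResidual p K).map K.subtype with hR
  have hRK : R ≤ K := map_subtype_le _
  have hRc : Nat.card R = Nat.card (Cfsg.pResidual p K) := card_map_of_injective K.subtype_injective
  obtain ⟨k, hk⟩ := CfsgLib.PResidual.exists_index_pResidual (G := K) (p := p)
  have hRi : R.relIndex K = p ^ k := by
    rw [hR, relIndex, subgroupOf, comap_map_eq_self_of_injective K.subtype_injective, hk]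
  have hlt : Nat.card R < n := by
    rw [← hn]
    refine lt_of_le_of_ne (Nat.le_of_dvd Nat.card_pos (card_dvd_of_le hRK)) fun e => ?_
    have : p ∣ Nat.card R := e ▸ Nat.minFac_dvd _
    exact Nat.not_coprime_of_dvd_of_dvd hp.out.one_lt this dvd_rfl (hRc ▸ hNC)
  have hQR : Q ≤ R := by
    intro x hx
    refine ⟨⟨x, hQK hx⟩, CfsgLib.PResidual.mem_pResidual p ?_, rfl⟩
    obtain ⟨i, hi⟩ := IsPGroup.iff_orderOf.1 hQ ⟨x, hx⟩
    rw [Subgroup.orderOf_mk] at hi ⊢
    rw [hi]
    exact ((Nat.coprime_primes hq hp.out).2 hpq.ne').pow_left i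
  have hSR : SHyp R := by
    intro s hs P hPR hP hPi hcyc
    refine hK s hs P (hPR.trans hRK) hP ?_ hcyc
    rw [← relIndex_mul_relIndex P R K hPR hRK, hRi]
    intro hd
    haveI := Fact.mk hs
    rcases hs.dvd_mul.1 hd with h | h
    · exact hPi h
    · have hsp : s = p := (Nat.prime_dvd_prime_iff_eq hs hp.out).1 (hs.dvd_of_dvd_pow h)
      refine hcyc ?_
      have h1 : Nat.card P = 1 := by
        obtain ⟨i, hi⟩ := IsPGroup.iff_card.1 hP
        rw [hi]
        rcases Nat.eq_zero_or_pos i with rfl | hi0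
        · rfl
        exfalso
        have : p ∣ Nat.card R := (hsp ▸ hi ▸ dvd_pow_self s hi0.ne' : p ∣ Nat.card P).trans (card_dvd_of_le hPR)
        exact Nat.not_coprime_of_dvd_of_dvd hp.out.one_lt this dvd_rfl (hRc ▸ hNC)
      haveI : Subsingleton P := (Nat.card_eq_one_iff_unique.1 h1).1
      infer_instance
  have hQi : ¬ q ∣ Q.relIndex R := fun h => hidx (h.trans (relIndex_dvd_mul_right hQR hRK))
  have hRN : R ≤ normalizer (Q : Set G) := ih _ hlt R rfl hSR q hq
    (fun s hs hd => hmax s hs (hd.trans (card_dvd_of_le hRK))) Q hQR hQ hQi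
  intro x hx
  refine mem_normalizer_iff_map_conj_eq.2 (Subgroup.eq_of_le_of_card_ge ?_
    (le_of_eq (card_map_of_injective (f := (MulAut.conj x).toMonoidHom) (MulAut.conj x).injective).symm))
  have hxR : Q.map (MulAut.conj x).toMonoidHom ≤ R := by
    rintro _ ⟨y, hy, rfl⟩
    obtain ⟨y', hy', rfl⟩ := hQR hy
    exact ⟨⟨x, hx⟩ * y' * (⟨x, hx⟩ : K)⁻¹, Normal.conj_mem inferInstance y' hy' _, rfl⟩
  obtain ⟨m, hm, hmle⟩ := CfsgLib.Fusion.exists_conj_le_of_sylow_relIndex hQR hQ hQi (hQ.map _) hxR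
  intro y hy
  have h1 : m * y * m⁻¹ ∈ Q := hmle (Subgroup.smul_mem_pointwise_smul y (MulAut.conj m) _ hy)
  exact (mem_normalizer_iff.1 (hRN hm) y).2 h1
where
  relIndex_dvd_mul_right {A B C : Subgroup G} (h1 : A ≤ B) (h2 : B ≤ C) :
      A.relIndex B ∣ A.relIndex C := Dvd.intro _ (relIndex_mul_relIndex A B C h1 h2)

theorem isH_map {q : ℕ} [Fact q.Prime] (hpq : p ≠ q) {Q : Subgroup G} [Q.Normal] (hQ : IsPGroup q Q)
    {F : Subgroup G} (hF : IsPGroup p F) (h : CfsgLib.LocalB.HSub.IsH F) :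
    CfsgLib.LocalB.HSub.IsH (F.map (QuotientGroup.mk' Q)) := by
  set f := QuotientGroup.mk' Q
  have hf := QuotientGroup.mk'_surjective Q
  rintro gb _ ⟨⟨_, ⟨e, he, rfl⟩, rfl⟩, hn⟩
  obtain ⟨g, rfl⟩ := hf gb
  set y := g * e * g⁻¹ with hy
  have hfy : (MulAut.conj (f g)).toMonoidHom (f e) = f y := by simp [hy]
  rw [hfy] at hn ⊢
  set M := F ⊔ Q with hM
  have hyM : y ∈ normalizer (M : Set G) := by
    have : M = (F.map f).comap f := by rw [comap_map_eq, QuotientGroup.ker_mk']
    rw [this, ← comap_normalizer_eq_of_surjective _ hf]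
    exact hn
  set N := normalizer (M : Set G)
  have hyp : IsPGroup p (zpowers y) := by
    obtain ⟨i, hi⟩ := IsPGroup.iff_orderOf.1 hF ⟨e, he⟩
    refine IsPGroup.of_card (n := i) ?_
    rw [Nat.card_zpowers, hy, ← MulAut.conj_apply, ← MulEquiv.coe_toMonoidHom,
      orderOf_injective _ (MulEquiv.injective _), ← hi, Subgroup.orderOf_mk]
  obtain ⟨S, hS⟩ := (hyp.comap_subtype (K := N)).exists_le_sylow
  set S' := (S : Subgroup N).map N.subtype with hS'
  have hS'p : IsPGroup p S' := S.2.map _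
  have hyS : y ∈ S' := ⟨⟨y, hyM⟩, hS (mem_zpowers y), rfl⟩
  set M' := M.subgroupOf N
  haveI : M'.Normal := normal_subgroupOf_of_le_normalizer le_rfl
  have hSi : ¬ p ∣ ((S : Subgroup N) ⊓ M').relIndex M' := by
    intro hd
    have e1 := relIndex_mul_relIndex ((S : Subgroup N) ⊓ M') M' ((S : Subgroup N) ⊔ M') inf_le_right le_sup_right
    have e2 := relIndex_mul_relIndex ((S : Subgroup N) ⊓ M') (S : Subgroup N) ((S : Subgroup N) ⊔ M') inf_le_left le_sup_left
    have e3 : M'.relIndex ((S : Subgroup N) ⊔ M') = ((S : Subgroup N) ⊓ M').relIndex (S : Subgroup N) := by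
      rw [relIndex_sup_right, inf_relIndex_left]
    rw [e3, ← e2] at e1
    have h0 : ((S : Subgroup N) ⊓ M').relIndex (S : Subgroup N) ≠ 0 := Subgroup.index_ne_zero_of_finite
    rw [Nat.eq_of_mul_eq_mul_left (Nat.pos_of_ne_zero h0) ((mul_comm _ _).trans e1)] at hd
    exact S.not_dvd_index (hd.trans (relIndex_dvd_index_of_le le_sup_left))
  -- conjugate `F` onto `S' ∩ M`
  have hFM : F ≤ M := le_sup_left
  have hT : S' ⊓ M ≤ M := inf_le_right
  have hTi : ¬ p ∣ (S' ⊓ M).relIndex M := by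
    have e : (S' ⊓ M).relIndex M = ((S : Subgroup N) ⊓ M').relIndex M' := by
      rw [← relIndex_map_map_of_injective _ _ N.subtype_injective, Subgroup.map_inf _ _ _ N.subtype_injective,
        map_subgroupOf_eq_of_le (show M ≤ N from le_normalizer), ← hS']
    rw [e]
    exact hSi
  obtain ⟨m, hm, hle⟩ := CfsgLib.Fusion.exists_conj_le_of_sylow_relIndex hT
    (hS'p.to_le inf_le_left) hTi hF hFM
  have hcard : Nat.card (S' ⊓ M : Subgroup G) ≤ Nat.card (F.map (MulAut.conj m).toMonoidHom) := by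
    rw [card_map_of_injective (f := (MulAut.conj m).toMonoidHom) (MulAut.conj m).injective]
    have hcop : (Nat.card (S' ⊓ M : Subgroup G)).Coprime (Nat.card Q) := by
      obtain ⟨i, hi⟩ := IsPGroup.iff_card.1 (hS'p.to_le (inf_le_left : S' ⊓ M ≤ S'))
      obtain ⟨l, hl⟩ := IsPGroup.iff_card.1 hQ
      rw [hi, hl]
      exact ((Nat.coprime_primes (Fact.out : p.Prime) (Fact.out : q.Prime)).2 hpq).pow _ _
    have hdvd : Nat.card (S' ⊓ M : Subgroup G) ∣ Nat.card F * Nat.card Q := by
      refine (card_dvd_of_le hT).trans ?_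
      rw [hM, ← relIndex_bot_left (F ⊔ Q), ← relIndex_mul_relIndex ⊥ Q (F ⊔ Q) bot_le le_sup_right,
        relIndex_bot_left, relIndex_sup_right, mul_comm]
      exact mul_dvd_mul_right ((Dvd.intro_left _ (Q.subgroupOf F).card_mul_index).trans dvd_rfl) _
    exact Nat.le_of_dvd Nat.card_pos (hcop.dvd_of_dvd_mul_right hdvd)
  have heq : F.map (MulAut.conj m).toMonoidHom = S' ⊓ M :=
    Subgroup.eq_of_le_of_card_ge hle hcard
  have hyT : y ∈ normalizer ((S' ⊓ M : Subgroup G) : Set G) := by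
    refine mem_normalizer_iff.2 fun x => ?_
    have h2 := mem_normalizer_iff.1 hyM x
    simp only [mem_inf]
    rw [← h2]
    refine and_congr_left fun _ => ?_
    exact mem_normalizer_iff.1 (le_normalizer hyS) x
  rw [← heq] at hyT
  have hFn : m⁻¹ * y * m ∈ normalizer (F : Set G) := by
    refine mem_normalizer_iff.2 fun x => ?_
    have h2 := mem_normalizer_iff.1 hyT (m * x * m⁻¹)
    simp only [mem_map_equiv, MulAut.conj_symm_apply, MulEquiv.coe_toMonoidHom, MulAut.conj_apply,
      mul_assoc, inv_mul_cancel_left, inv_mul_cancel, mul_one, mul_inv_rev, inv_inv] at h2 ⊢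
    exact h2
  have hmem : m⁻¹ * y * m ∈ F := by
    have := h.conj_mem (g := m⁻¹ * g) he
    rw [show m⁻¹ * g * e * (m⁻¹ * g)⁻¹ = m⁻¹ * y * m by rw [hy]; group] at this
    exact this hFn
  obtain ⟨x, hx, hxm⟩ : ∃ x ∈ F, f m = f x := by
    have : f m ∈ M.map f := mem_map_of_mem f hm
    rw [hM, Subgroup.map_sup, QuotientGroup.map_mk'_self, sup_bot_eq] at this
    obtain ⟨x, hx, hxm⟩ := this
    exact ⟨x, hx, hxm.symm⟩
  refine ⟨x * (m⁻¹ * y * m) * x⁻¹, mul_mem (mul_mem hx hmem) (inv_mem hx), ?_⟩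
  simp [hxm, mul_assoc]

end CfsgLib.LocalB.HSS

namespace CfsgLib.LocalB.HSS

open Subgroup Relation

universe v

theorem supersolvable : ∀ (n : ℕ) (G : Type v) [Group G] [Finite G] (E : Subgroup G) [E.Normal],
    Nat.card E = n → Cfsg.IsSupersolvable (G ⧸ E) → SHyp E → Cfsg.IsSupersolvable G := by
  intro n
  induction n using Nat.strong_induction_on with
  | _ n ih =>
  intro G _ _ E _ hn hGE hE
  have hf := QuotientGroup.mk'_surjective E
  have hup : ReflTransGen Step E (⊤ : Subgroup G) := by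
    have := chain_comap (QuotientGroup.mk' E) hf (series_iff.1 hGE)
    rwa [MonoidHom.comap_bot, QuotientGroup.ker_mk', comap_top] at this
  by_cases hE1 : E = ⊥
  · exact series_iff.2 (hE1 ▸ hup)
  have hne : (Nat.card E).primeFactors.Nonempty := by
    rw [Nat.nonempty_primeFactors]
    have := one_lt_card_iff_ne_bot E |>.2 hE1
    omega
  set q := (Nat.card E).primeFactors.max' hne
  obtain ⟨hq, hqd, -⟩ := Nat.mem_primeFactors.1 (Finset.max'_mem _ hne)
  haveI := Fact.mk hq
  obtain ⟨Q, hQE, hQ, hQi⟩ := exists_sylow_map q E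
  have hEN : E ≤ normalizer (Q : Set G) := sylow_largest_normal _ E rfl hE q hq
    (fun r hr hd => Finset.le_max' _ r (Nat.mem_primeFactors.2 ⟨hr, hd, Nat.card_pos.ne'⟩)) Q hQE hQ hQi
  have hQn : Q.Normal := by
    refine normalizer_eq_top_iff.1 (eq_top_iff.2 fun g _ => mem_normalizer_iff_map_conj_eq.2
      (Subgroup.eq_of_le_of_card_ge ?_
        (le_of_eq (card_map_of_injective (f := (MulAut.conj g).toMonoidHom) (MulAut.conj g).injective).symm)))
    have hgE : Q.map (MulAut.conj g).toMonoidHom ≤ E := by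
      rintro _ ⟨y, hy, rfl⟩
      exact Normal.conj_mem inferInstance y (hQE hy) g
    obtain ⟨m, hm, hmle⟩ := CfsgLib.Fusion.exists_conj_le_of_sylow_relIndex hQE hQ hQi (hQ.map _) hgE
    intro y hy
    exact (mem_normalizer_iff.1 (hEN hm) y).2
      (hmle (Subgroup.smul_mem_pointwise_smul y (MulAut.conj m) _ hy))
  have hQ1 : Q ≠ ⊥ := by
    rintro rfl
    exact hQi (by rwa [relIndex_bot_left])
  -- the quotient
  set f := QuotientGroup.mk' Q
  have hfs := QuotientGroup.mk'_surjective Q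
  haveI : (E.map f).Normal := Normal.map inferInstance f hfs
  have hEc : Nat.card (E.map f) = Q.relIndex E := by
    rw [← relIndex_bot_left, ← (Subgroup.map_eq_bot_iff Q).2 (QuotientGroup.ker_mk' Q).ge,
      relIndex_map_map, QuotientGroup.ker_mk', sup_idem, sup_eq_left.2 hQE]
  have hlt : Nat.card (E.map f) < n := by
    rw [hEc, ← hn, ← relIndex_bot_left E, ← relIndex_mul_relIndex ⊥ Q E bot_le hQE, relIndex_bot_left]
    exact lt_mul_of_one_lt_left (Nat.pos_of_ne_zero Subgroup.index_ne_zero_of_finite)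
      (one_lt_card_iff_ne_bot Q |>.2 hQ1)
  have hquot : Cfsg.IsSupersolvable ((G ⧸ Q) ⧸ E.map f) := by
    let e := (QuotientGroup.quotientQuotientEquivQuotient Q E hQE).symm
    have := chain_map e.toMonoidHom e.surjective (series_iff.1 hGE)
    rwa [Subgroup.map_bot, map_top_of_surjective e.toMonoidHom e.surjective, ← series_iff] at this
  have hEb : SHyp (E.map f) := by
    intro p hp Pb hPE hPb hPi hcyc
    haveI := Fact.mk hp
    set W := Pb.comap f with hW
    have hQW : Q ≤ W := (QuotientGroup.ker_mk' Q).ge.trans (MonoidHom.ker_le_comap f Pb)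
    have hWE : W ≤ E := by
      have := comap_mono (f := f) hPE
      rwa [comap_map_eq, QuotientGroup.ker_mk', sup_eq_left.2 hQE] at this
    have hWi : W.relIndex E = Pb.relIndex (E.map f) := by
      rw [← map_comap_eq_self_of_surjective hfs Pb, relIndex_map_map, QuotientGroup.ker_mk',
        ← hW, sup_eq_left.2 hQW, sup_eq_left.2 hQE]
    have hpq : p ≠ q := by
      rintro rfl
      refine hcyc ?_
      have h1 : Nat.card Pb = 1 := by
        obtain ⟨i, hi⟩ := IsPGroup.iff_card.1 hPb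
        rw [hi]
        rcases Nat.eq_zero_or_pos i with rfl | hi0
        · rfl
        exfalso
        exact hQi ((hi ▸ dvd_pow_self _ hi0.ne' : _ ∣ Nat.card Pb).trans
          (hEc ▸ card_dvd_of_le hPE))
      haveI : Subsingleton Pb := (Nat.card_eq_one_iff_unique.1 h1).1
      infer_instance
    obtain ⟨P, hPW, hP, hPWi⟩ := exists_sylow_map p W
    have hPEi : ¬ p ∣ P.relIndex E := by
      rw [← relIndex_mul_relIndex P W E hPW hWE, hWi]
      exact fun hd => (hp.dvd_mul.1 hd).elim hPWi hPi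
    have hinj : ∀ S : Subgroup G, S ≤ P → Nat.card (S.map f) = Nat.card S := by
      intro S hS
      have hbot : Q ⊓ S = ⊥ := inf_eq_bot_of_coprime (by
        obtain ⟨i, hi⟩ := IsPGroup.iff_card.1 (hP.to_le hS)
        obtain ⟨l, hl⟩ := IsPGroup.iff_card.1 hQ
        rw [hi, hl]
        exact ((Nat.coprime_primes hq hp).2 hpq.symm).pow _ _)
      rw [← relIndex_bot_left (S.map f), ← (Subgroup.map_eq_bot_iff Q).2 (QuotientGroup.ker_mk' Q).ge,
        relIndex_map_map, QuotientGroup.ker_mk', sup_idem, relIndex_sup_right, ← inf_relIndex_right,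
        hbot, relIndex_bot_left]
    have hmap : P.map f = Pb := by
      have hle : P.map f ≤ Pb := (Subgroup.map_mono hPW).trans (map_comap_le f Pb)
      refine le_antisymm hle (relIndex_eq_one.1 ?_)
      obtain ⟨i, hi⟩ := hPb.index ((P.map f).subgroupOf Pb)
      have hi' : (P.map f).relIndex Pb = p ^ i := hi
      rcases Nat.eq_zero_or_pos i with rfl | hi0
      · simpa using hi'
      exfalso
      have hd : (P.map f).relIndex Pb ∣ P.relIndex W := by
        rw [← map_comap_eq_self_of_surjective hfs Pb, relIndex_map_map, ← hW, QuotientGroup.ker_mk',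
          sup_eq_left.2 hQW]
        exact relIndex_dvd_of_le_left W le_sup_left
      exact hPWi ((dvd_pow_self p hi0.ne').trans (hi' ▸ hd))
    have hPnc : ¬ IsCyclic P := by
      intro h
      refine hcyc ?_
      rw [← hmap]
      exact isCyclic_of_surjective _ (f.subgroupMap_surjective P)
    obtain ⟨D, hDP, h1, h2, hH⟩ := hE p hp P (hPW.trans hWE) hP hPEi hPnc
    refine ⟨D.map f, hmap ▸ Subgroup.map_mono hDP, by rw [hinj D hDP]; exact h1,
      by rw [hinj D hDP, ← hmap, hinj P le_rfl]; exact h2, ?_⟩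
    intro Fb hFb hFo
    set F := P ⊓ Fb.comap f
    have hFeq : F.map f = Fb := by
      refine le_antisymm ((Subgroup.map_mono inf_le_right).trans (map_comap_le f Fb)) fun x hx => ?_
      obtain ⟨y, hy, rfl⟩ := hmap.ge (hFb hx)
      exact ⟨y, ⟨hy, hx⟩, rfl⟩
    rw [← hFeq]
    refine isH_map hpq hQ (hP.to_le inf_le_left) (hH F inf_le_left ?_)
    rw [← hFeq, hinj F inf_le_left, hinj D hDP] at hFo
    exact hFo
  have hGQ := ih _ hlt (G ⧸ Q) (E.map f) rfl hquot hEb
  have hup' : ReflTransGen Step Q (⊤ : Subgroup G) := by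
    have := chain_comap f hfs (series_iff.1 hGQ)
    rwa [MonoidHom.comap_bot, QuotientGroup.ker_mk', comap_top] at this
  refine series_iff.2 (ReflTransGen.trans ?_ hup')
  by_cases hcyc : IsCyclic Q
  · obtain ⟨x, hx⟩ := IsCyclic.exists_generator (α := Q)
    refine ReflTransGen.single ⟨inferInstance, hQn, (x : G), ?_⟩
    rw [bot_sup_eq]
    refine le_antisymm (fun y hy => ?_) (zpowers_le.2 x.2)
    obtain ⟨i, hi⟩ := hx ⟨y, hy⟩
    exact ⟨i, by simpa using congrArg Subtype.val hi⟩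
  obtain ⟨D, hDQ, h1, h2, hH⟩ := hE q hq Q hQE hQ hQi hcyc
  obtain ⟨j, hj⟩ := IsPGroup.iff_card.1 (hQ.to_le hDQ)
  have hj0 : 0 < j := by
    rcases Nat.eq_zero_or_pos j with rfl | h
    · rw [hj, pow_zero] at h1
      exact absurd h1 (lt_irrefl 1)
    · exact h
  have hnorm : ∀ F : Subgroup G, F ≤ Q → CfsgLib.LocalB.HSub.Ord (Nat.card D) (Nat.card F) → F.Normal := by
    intro F hF hFo
    refine normalizer_eq_top_iff.1 (eq_top_iff.2 fun g _ => ?_)
    exact (hH F hF hFo).mem_normalizer_of_le hQ hF (Subgroup.normalizer_eq_top (H := Q) ▸ mem_top g)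
  exact chain_below Q hQ (emb Q hQ ⟨j, hj0, hj⟩ h2 hnorm _ Q rfl hQn le_rfl) _ ⊥ rfl inferInstance bot_le

end CfsgLib.LocalB.HSS
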