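import Cfsg.Agent.LocalB.HigmanModule
import Mathlib.Algebra.Algebra.ZMod
import Mathlib.LinearAlgebra.Dimension.Free
import Mathlib.LinearAlgebra.FiniteDimensional.Lemmas
import Mathlib.GroupTheory.QuotientGroup.Defs

/-!
Higman's theorem for abelian `2`-groups acted on by `SL₂(2ⁿ)`, `n ≥ 2`, with an element of order three fixing
only zero: exponent two, a sum of natural modules, and no nonzero equivariant biadditive maps.
-/

set_option autoImplicit false
set_option linter.unusedSectionVars false

namespace CfsgLib.Higman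

open Matrix CfsgLib.SL2Pair Hyp

variable {K : Type*} [Field K] [CharP K 2]

variable {M : Type*} [AddCommGroup M] [DistribMulAction (Matrix.SpecialLinearGroup (Fin 2) K) M]

variable (K M) in
/-- `x² + x + 1` kills the module, `x` of order three. -/
def Rel : Prop :=
  ∀ m : M, (up 1 * w₁ : Matrix.SpecialLinearGroup (Fin 2) K) • (up 1 * w₁ : Matrix.SpecialLinearGroup (Fin 2) K) • m +
    (up 1 * w₁ : Matrix.SpecialLinearGroup (Fin 2) K) • m + m = 0

variable (K M) in
/-- The action as a homomorphism into the endomorphism ring. -/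
def rho : Matrix.SpecialLinearGroup (Fin 2) K →* AddMonoid.End M :=
  DistribMulAction.toAddMonoidEnd _ M

theorem rho_apply (g : Matrix.SpecialLinearGroup (Fin 2) K) (m : M) : rho K M g m = g • m := rfl

theorem hyp_rho (h2 : ∀ m : M, m + m = 0) (hrel : Rel K M) : Hyp (rho K M) where
  two := by
    rw [← one_add_one_eq_two]
    exact AddMonoidHom.ext fun m => h2 m
  rel := AddMonoidHom.ext fun m => hrel m

theorem tw_add_wt (hrel : Rel K M) (m : M) :
    (up 1 : Matrix.SpecialLinearGroup (Fin 2) K) • (w₁ : Matrix.SpecialLinearGroup (Fin 2) K) • m +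
      (w₁ : Matrix.SpecialLinearGroup (Fin 2) K) • (up 1 : Matrix.SpecialLinearGroup (Fin 2) K) • m = -m := by
  set T : Matrix.SpecialLinearGroup (Fin 2) K := up 1
  set w : Matrix.SpecialLinearGroup (Fin 2) K := w₁
  have h := hrel (w • T • m)
  have e : (T * w) • (w • T • m) = m := by
    rw [smul_smul, smul_smul, show T * w * w * T = 1 by rw [mul_assoc T w w, w₁_sq, mul_one, up_mul_up],
      one_smul]
  rw [e, mul_smul] at h
  rw [eq_neg_iff_add_eq_zero, ← h]
  abel

/-- The fixed points of `(1 1; 0 1)`. -/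
def fixU (K M : Type*) [Field K] [AddCommGroup M] [DistribMulAction (Matrix.SpecialLinearGroup (Fin 2) K) M] :
    AddSubgroup M where
  carrier := {m | (up 1 : Matrix.SpecialLinearGroup (Fin 2) K) • m = m}
  add_mem' := fun {x y} hx hy => by
    show _ • (x + y) = x + y
    rw [smul_add, hx, hy]
  zero_mem' := smul_zero _
  neg_mem' := fun {x} hx => by
    show _ • (-x) = -x
    rw [smul_neg, hx]

theorem mem_fixU {m : M} : m ∈ fixU K M ↔ (up 1 : Matrix.SpecialLinearGroup (Fin 2) K) • m = m :=
  Iff.rfl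

section Two

variable (h2 : ∀ m : M, m + m = 0) (hrel : Rel K M)

include h2 hrel

theorem ee_apply (a : K) (m : M) :
    ee (rho K M) a m = (up a : Matrix.SpecialLinearGroup (Fin 2) K) • m + m := rfl

theorem ee_fix {c : M} (hc : c ∈ fixU K M) : ee (rho K M) 1 c = 0 := by
  show (up 1 : Matrix.SpecialLinearGroup (Fin 2) K) • c + c = 0
  rw [mem_fixU.1 hc, h2]

variable [Finite K]

theorem up_apply (a : K) (m : M) : (up a : Matrix.SpecialLinearGroup (Fin 2) K) • m =
    m + qq (rho K M) a (ee (rho K M) 1 m) :=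
  DFunLike.congr_fun ((hyp_rho h2 hrel).rho_up a) m

theorem up_fix (a : K) {c : M} (hc : c ∈ fixU K M) :
    (up a : Matrix.SpecialLinearGroup (Fin 2) K) • c = c := by
  rw [up_apply h2 hrel, ee_fix h2 hrel hc, map_zero, add_zero]

theorem ee_w₁ {c : M} (hc : c ∈ fixU K M) :
    ee (rho K M) 1 ((w₁ : Matrix.SpecialLinearGroup (Fin 2) K) • c) = c := by
  rw [ee_apply h2 hrel]
  have h := tw_add_wt hrel c
  rw [mem_fixU.1 hc] at h
  rw [h, neg_eq_of_add_eq_zero_right (h2 c)]

theorem up_w₁ (a : K) {c : M} (hc : c ∈ fixU K M) :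
    (up a : Matrix.SpecialLinearGroup (Fin 2) K) • (w₁ : Matrix.SpecialLinearGroup (Fin 2) K) • c =
      (w₁ : Matrix.SpecialLinearGroup (Fin 2) K) • c + qq (rho K M) a c := by
  rw [up_apply h2 hrel, ee_w₁ h2 hrel hc]

theorem qq_mul_apply (a b : K) (m : M) :
    qq (rho K M) (a * b) m = qq (rho K M) a (qq (rho K M) b m) := by
  rw [(hyp_rho h2 hrel).qq_mul]; rfl

theorem qq_add_apply (a b : K) (m : M) :
    qq (rho K M) (a + b) m = qq (rho K M) a m + qq (rho K M) b m := by
  rw [(hyp_rho h2 hrel).qq_add']; rfl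

theorem qq_sq_apply (a : K) (m : M) :
    qq (rho K M) (a ^ 2) m = qq (rho K M) a (qq (rho K M) a m) := by
  rw [(hyp_rho h2 hrel).qq_sq]; rfl

theorem qq_mem (a : K) {c : M} (hc : c ∈ fixU K M) : qq (rho K M) a c ∈ fixU K M := by
  have h : ee (rho K M) 1 (qq (rho K M) a c) = 0 := by
    have := DFunLike.congr_fun ((hyp_rho h2 hrel).inS_qq a).1 c
    show (ee (rho K M) 1 * qq (rho K M) a) c = 0
    rw [← this]
    show qq (rho K M) a (ee (rho K M) 1 c) = 0
    rw [ee_fix h2 hrel hc, map_zero]
  rw [mem_fixU]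
  exact eq_of_sub_eq_zero (by
    rw [sub_eq_add_neg, neg_eq_of_add_eq_zero_right (h2 _)]; exact h)

theorem ee_mem (m : M) : ee (rho K M) 1 m ∈ fixU K M := by
  rw [mem_fixU, ee_apply h2 hrel]
  rw [smul_add, smul_smul, up_mul_up, one_smul, add_comm]

theorem exists_decomp (m : M) :
    ∃ c ∈ fixU K M, ∃ d ∈ fixU K M, m = c + (w₁ : Matrix.SpecialLinearGroup (Fin 2) K) • d := by
  refine ⟨ee (rho K M) 1 (ff (rho K M) m) + ee (rho K M) 1 m,
    (fixU K M).add_mem (ee_mem h2 hrel _) (ee_mem h2 hrel _), _, ee_mem h2 hrel m, ?_⟩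
  have h := DFunLike.congr_fun (hyp_rho h2 hrel).ef m
  change ee (rho K M) 1 (ff (rho K M) m) + ff (rho K M) (ee (rho K M) 1 m) = m at h
  conv_lhs => rw [← h]
  show _ + ((w₁ : Matrix.SpecialLinearGroup (Fin 2) K) • ee (rho K M) 1 m + ee (rho K M) 1 m) = _
  abel

/-- An abelian `2`-group of exponent two with the relation is a sum of natural modules. -/
theorem exists_coords [Finite M] :
    ∃ (k : ℕ) (Φ : M ≃+ (Fin k → Fin 2 → K)),
      ∀ (g : Matrix.SpecialLinearGroup (Fin 2) K) (m : M) (i : Fin k),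
        Φ (g • m) i = (g : Matrix (Fin 2) (Fin 2) K).mulVec (Φ m i) := by
  classical
  have H := hyp_rho h2 hrel
  let C := fixU K M
  let φ : K →+* AddMonoid.End C :=
    { toFun := fun a =>
        { toFun := fun c => ⟨qq (rho K M) a c, qq_mem h2 hrel a c.2⟩
          map_zero' := Subtype.ext (map_zero _)
          map_add' := fun c d => Subtype.ext (map_add _ _ _) }
      map_one' := AddMonoidHom.ext fun c => Subtype.ext (DFunLike.congr_fun H.qq_one.1 (c : M))
      map_mul' := fun a b => AddMonoidHom.ext fun c => Subtype.ext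
        (DFunLike.congr_fun (H.qq_mul a b) (c : M))
      map_zero' := AddMonoidHom.ext fun c => Subtype.ext (DFunLike.congr_fun H.qq_zero (c : M))
      map_add' := fun a b => AddMonoidHom.ext fun c => Subtype.ext
        (DFunLike.congr_fun (H.qq_add' a b) (c : M)) }
  obtain ⟨mC, hsmul⟩ : ∃ mC : Module K C, ∀ (a : K) (c : C),
      ((mC.smul a c : C) : M) = qq (rho K M) a c := ⟨Module.compHom C φ, fun a c => rfl⟩
  haveI : Module.Finite K C := Module.Finite.of_finite
  haveI : Module.Free K C := Module.Free.of_divisionRing K C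
  let bas := Module.finBasis K C
  set k := Module.finrank K C
  let Ψ : (Fin k → Fin 2 → K) →+ M :=
    { toFun := fun v => (bas.equivFun.symm (fun i => v i 0) : M) +
        (w₁ : Matrix.SpecialLinearGroup (Fin 2) K) • (bas.equivFun.symm (fun i => v i 1) : M)
      map_zero' := by
        show ((bas.equivFun.symm (0 : Fin k → K) : C) : M) +
          _ • ((bas.equivFun.symm (0 : Fin k → K) : C) : M) = 0
        simp
      map_add' := fun u v => by
        show ((bas.equivFun.symm ((fun i => u i 0) + fun i => v i 0) : C) : M) +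
          _ • ((bas.equivFun.symm ((fun i => u i 1) + fun i => v i 1) : C) : M) = _
        simp only [map_add, AddSubgroup.coe_add, smul_add]
        abel }
  have hΨ : ∀ v, Ψ v = (bas.equivFun.symm (fun i => v i 0) : M) +
      (w₁ : Matrix.SpecialLinearGroup (Fin 2) K) • (bas.equivFun.symm (fun i => v i 1) : M) := fun _ => rfl
  have hΨinj : Function.Injective Ψ := by
    rw [injective_iff_map_eq_zero]
    intro v hv
    change (bas.equivFun.symm (fun i => v i 0) : M) + _ • (bas.equivFun.symm (fun i => v i 1) : M) = 0 at hv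
    have h1 := congrArg (fun z : M => ee (rho K M) (1 : K) z) hv
    rw [map_add, ee_fix h2 hrel (Subtype.prop _), ee_w₁ h2 hrel (Subtype.prop _), zero_add,
      map_zero] at h1
    rw [h1, smul_zero, add_zero] at hv
    have e0 : (fun i => v i 0) = 0 := bas.equivFun.symm.injective (by
      rw [map_zero]; exact Subtype.ext hv)
    have e1 : (fun i => v i 1) = 0 := bas.equivFun.symm.injective (by
      rw [map_zero]; exact Subtype.ext h1)
    funext i j
    fin_cases j
    · exact congrFun e0 i
    · exact congrFun e1 i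
  have hΨsurj : Function.Surjective Ψ := by
    intro m
    obtain ⟨c, hc, d, hd, rfl⟩ := exists_decomp h2 hrel m
    refine ⟨fun i => ![bas.equivFun ⟨c, hc⟩ i, bas.equivFun ⟨d, hd⟩ i], ?_⟩
    show ((bas.equivFun.symm (bas.equivFun ⟨c, hc⟩) : C) : M) +
      _ • ((bas.equivFun.symm (bas.equivFun ⟨d, hd⟩) : C) : M) = _
    rw [LinearEquiv.symm_apply_apply, LinearEquiv.symm_apply_apply]
  let P : Subgroup (Matrix.SpecialLinearGroup (Fin 2) K) :=
    { carrier := {g | ∀ v, g • Ψ v = Ψ fun i => (g : Matrix (Fin 2) (Fin 2) K).mulVec (v i)}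
      one_mem' := fun v => by simp
      mul_mem' := fun {g h} hg hh v => by
        rw [mul_smul, hh, hg]
        congr 1
        funext i
        rw [Matrix.mulVec_mulVec, Matrix.SpecialLinearGroup.coe_mul]
      inv_mem' := fun {g} hg v => by
        rw [inv_smul_eq_iff, hg]
        congr 1
        funext i
        rw [Matrix.mulVec_mulVec, ← Matrix.SpecialLinearGroup.coe_mul, mul_inv_cancel,
          Matrix.SpecialLinearGroup.coe_one, Matrix.one_mulVec] }
  have hup : ∀ a, (up a : Matrix.SpecialLinearGroup (Fin 2) K) ∈ P := by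
    intro a v
    rw [hΨ, hΨ]
    rw [smul_add, up_fix h2 hrel a (Subtype.prop _), up_w₁ h2 hrel a (Subtype.prop _), ← hsmul]
    have e0 : (fun i => ((up a : Matrix.SpecialLinearGroup (Fin 2) K) : Matrix (Fin 2) (Fin 2) K).mulVec (v i) 0) =
        (fun i => v i 0) + a • fun i => v i 1 := by
      funext i; simp [up_coe, Matrix.mulVec, dotProduct, Fin.sum_univ_two]
    have e1 : (fun i => ((up a : Matrix.SpecialLinearGroup (Fin 2) K) : Matrix (Fin 2) (Fin 2) K).mulVec (v i) 1) =
        fun i => v i 1 := by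
      funext i; simp [up_coe, Matrix.mulVec, dotProduct, Fin.sum_univ_two]
    rw [e0, e1, map_add, map_smul, AddSubgroup.coe_add]
    change _ = _ + ((mC.smul a (bas.equivFun.symm fun i => v i 1) : C) : M) + _
    abel
  have hw : (w₁ : Matrix.SpecialLinearGroup (Fin 2) K) ∈ P := by
    intro v
    rw [hΨ, hΨ]
    rw [smul_add, smul_smul, w₁_sq, one_smul]
    have e0 : (fun i => ((w₁ : Matrix.SpecialLinearGroup (Fin 2) K) : Matrix (Fin 2) (Fin 2) K).mulVec (v i) 0) =
        fun i => v i 1 := by
      funext i; simp [w₁_coe, Matrix.mulVec, dotProduct, Fin.sum_univ_two, CharTwo.neg_eq]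
    have e1 : (fun i => ((w₁ : Matrix.SpecialLinearGroup (Fin 2) K) : Matrix (Fin 2) (Fin 2) K).mulVec (v i) 1) =
        fun i => v i 0 := by
      funext i; simp [w₁_coe, Matrix.mulVec, dotProduct, Fin.sum_univ_two]
    rw [e0, e1, add_comm]
  have hP : ∀ g, g ∈ P := by
    have hle : (⊤ : Subgroup (Matrix.SpecialLinearGroup (Fin 2) K)) ≤ P := by
      rw [← sup_eq_top (k := K)]
      refine sup_le (fun g hg => ?_) (fun g hg => ?_)
      · obtain ⟨c, rfl⟩ := mem_lower.1 hg
        rw [← w₁_up_w₁]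
        exact P.mul_mem (P.mul_mem hw (hup c)) hw
      · obtain ⟨c, rfl⟩ := mem_upper.1 hg
        exact hup c
    exact fun g => hle (Subgroup.mem_top g)
  refine ⟨k, (AddEquiv.ofBijective Ψ ⟨hΨinj, hΨsurj⟩).symm, fun g m i => ?_⟩
  obtain ⟨v, rfl⟩ := hΨsurj m
  have e1 : ∀ u, (AddEquiv.ofBijective Ψ ⟨hΨinj, hΨsurj⟩).symm (Ψ u) = u := fun u =>
    (AddEquiv.ofBijective Ψ ⟨hΨinj, hΨsurj⟩).symm_apply_apply u
  rw [hP g v, e1, e1]

variable {N : Type*} [AddCommGroup N] [DistribMulAction (Matrix.SpecialLinearGroup (Fin 2) K) N]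

set_option maxHeartbeats 1000000 in
/-- No equivariant biadditive maps between such modules, when the field has more than two elements. -/
theorem bilinear_eq_zero (h2N : ∀ m : N, m + m = 0) (hrelN : Rel K N) {a : K} (ha0 : a ≠ 0)
    (ha1 : a ≠ 1) (β : M →+ M →+ N)
    (hβ : ∀ (g : Matrix.SpecialLinearGroup (Fin 2) K) (u v : M), β (g • u) (g • v) = g • β u v)
    (u v : M) : β u v = 0 := by
  set w : Matrix.SpecialLinearGroup (Fin 2) K := w₁ with hw
  set q := qq (rho K M)
  set qN := qq (rho K N)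
  have HN := hyp_rho h2N hrelN
  have hA : ∀ c ∈ fixU K M, ∀ d ∈ fixU K M, β c d ∈ fixU K N := fun c hc d hd => by
    rw [mem_fixU, ← hβ, hc, hd]
  have hR : ∀ c ∈ fixU K M, ∀ d ∈ fixU K M, ∀ b : K,
      β c (q b d) = qN b (ee (rho K N) 1 (β c (w • d))) := by
    intro c hc d hd b
    have h := hβ (up b) c (w • d)
    rw [up_fix h2 hrel b hc, up_w₁ h2 hrel b hd, map_add] at h
    have h' : (up b : Matrix.SpecialLinearGroup (Fin 2) K) • β c (w • d) =
        β c (w • d) + qN b (ee (rho K N) 1 (β c (w • d))) :=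
      DFunLike.congr_fun (HN.rho_up b) _
    rw [h'] at h
    exact add_left_cancel h
  have hL : ∀ c ∈ fixU K M, ∀ d ∈ fixU K M, ∀ b : K,
      β (q b d) c = qN b (ee (rho K N) 1 (β (w • d) c)) := by
    intro c hc d hd b
    have h := hβ (up b) (w • d) c
    rw [up_fix h2 hrel b hc, up_w₁ h2 hrel b hd, map_add, AddMonoidHom.add_apply] at h
    have h' : (up b : Matrix.SpecialLinearGroup (Fin 2) K) • β (w • d) c =
        β (w • d) c + qN b (ee (rho K N) 1 (β (w • d) c)) :=
      DFunLike.congr_fun (HN.rho_up b) _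
    rw [h'] at h
    exact add_left_cancel h
  have hone : ∀ m : M, q 1 m = m := fun m => DFunLike.congr_fun (hyp_rho h2 hrel).qq_one.1 m
  have honeN : ∀ m : N, qN 1 m = m := fun m => DFunLike.congr_fun HN.qq_one.1 m
  have hER : ∀ c ∈ fixU K M, ∀ d ∈ fixU K M, ee (rho K N) 1 (β c (w • d)) = β c d :=
    fun c hc d hd => by
      have := hR c hc d hd 1
      rwa [hone, honeN, eq_comm] at this
  have hEL : ∀ c ∈ fixU K M, ∀ d ∈ fixU K M, ee (rho K N) 1 (β (w • d) c) = β d c :=
    fun c hc d hd => by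
      have := hL c hc d hd 1
      rwa [hone, honeN, eq_comm] at this
  have hRL : ∀ c ∈ fixU K M, ∀ d ∈ fixU K M,
      β c (w • d) = β c d + w • β c d ∧ β (w • c) d = β c d + w • β c d := by
    intro c hc d hd
    have hw2 : ∀ m : M, w • w • m = m := fun m => by rw [smul_smul, hw, w₁_sq, one_smul]
    have hw2N : ∀ m : N, w • w • m = m := fun m => by rw [smul_smul, hw, w₁_sq, one_smul]
    have key : ∀ X : N, ee (rho K N) 1 X = β c d → ee (rho K N) 1 (w • X) = β c d →
        X = β c d + w • β c d := by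
      intro X h1 h2'
      obtain ⟨c', hc', d', hd', rfl⟩ := exists_decomp h2N hrelN X
      rw [map_add, ee_fix h2N hrelN hc', ee_w₁ h2N hrelN hd', zero_add] at h1
      rw [← hw, smul_add, hw2N, map_add, ee_fix h2N hrelN hd', hw, ee_w₁ h2N hrelN hc',
        add_zero] at h2'
      rw [h1, h2']
    refine ⟨key _ (hER c hc d hd) ?_, key _ (hEL d hd c hc) ?_⟩
    · rw [← hβ, hw2, hEL d hd c hc]
    · rw [← hβ, hw2, hER c hc d hd]
  have hz : ∀ c ∈ fixU K M, ∀ d ∈ fixU K M, β c d = 0 := by
    intro c hc d hd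
    have h := hβ (up a) (w • c) (w • d)
    rw [up_w₁ h2 hrel a hc, up_w₁ h2 hrel a hd, hβ w,
      up_w₁ h2N hrelN a (hA c hc d hd), map_add, map_add, AddMonoidHom.add_apply,
      AddMonoidHom.add_apply, hβ w, (hRL _ (qq_mem h2 hrel a hc) d hd).1,
      (hRL c hc _ (qq_mem h2 hrel a hd)).2] at h
    have e1 : β (q a c) d = qN a (β c d) := by rw [hL d hd c hc a, hEL d hd c hc]
    have e2 : β c (q a d) = qN a (β c d) := by rw [hR c hc d hd a, hER c hc d hd]
    have e3 : β (q a c) (q a d) = qN a (qN a (β c d)) := by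
      rw [hR _ (qq_mem h2 hrel a hc) d hd a, hER _ (qq_mem h2 hrel a hc) d hd, e1]
    rw [e1, e2, e3] at h
    have hsum : qN a (qN a (β c d)) + qN a (β c d) = 0 := by
      have h' := sub_eq_zero.2 h
      rw [sub_eq_add_neg, neg_eq_of_add_eq_zero_right (h2N _)] at h'
      refine Eq.trans ?_ h'
      symm
      calc _ = qN a (qN a (β c d)) + qN a (β c d) +
            ((w • β c d + w • β c d) + (qN a (β c d) + qN a (β c d)) +
              (w • qN a (β c d) + w • qN a (β c d))) := by abel
        _ = _ := by simp only [h2N, add_zero]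
    have hne : a ^ 2 + a ≠ 0 := fun e => by
      have : a * (a + 1) = 0 := by rw [← e]; ring
      rcases mul_eq_zero.1 this with h | h
      · exact ha0 h
      · exact ha1 (by rw [add_eq_zero_iff_eq_neg.1 h, CharTwo.neg_eq])
    calc β c d = qN ((a ^ 2 + a)⁻¹ * (a ^ 2 + a)) (β c d) := by
          rw [inv_mul_cancel₀ hne]; exact (honeN _).symm
      _ = 0 := by
          rw [qq_mul_apply h2N hrelN, qq_add_apply h2N hrelN, qq_sq_apply h2N hrelN, hsum, map_zero]
  obtain ⟨c, hc, d, hd, rfl⟩ := exists_decomp h2 hrel u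
  obtain ⟨c', hc', d', hd', rfl⟩ := exists_decomp h2 hrel v
  simp only [map_add, AddMonoidHom.add_apply, ← hw]
  rw [(hRL c hc d' hd').1,
    (hRL d hd c' hc').2, hβ w, hz c hc c' hc', hz c hc d' hd', hz d hd c' hc', hz d hd d' hd']
  simp

end Two

/-! ### Exponent two -/

/-- The action on an invariant subgroup. -/
@[reducible] def subAction (S : AddSubgroup M)
    (hS : ∀ (g : Matrix.SpecialLinearGroup (Fin 2) K), ∀ m ∈ S, g • m ∈ S) :
    DistribMulAction (Matrix.SpecialLinearGroup (Fin 2) K) S where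
  smul g m := ⟨g • (m : M), hS g m m.2⟩
  one_smul m := Subtype.ext (one_smul _ _)
  mul_smul g h m := Subtype.ext (mul_smul _ _ _)
  smul_zero g := Subtype.ext (smul_zero _)
  smul_add g u v := Subtype.ext (smul_add _ _ _)

/-- The action on the quotient by an invariant subgroup. -/
@[reducible] def quotAction (S : AddSubgroup M)
    (hS : ∀ (g : Matrix.SpecialLinearGroup (Fin 2) K), ∀ m ∈ S, g • m ∈ S) :
    DistribMulAction (Matrix.SpecialLinearGroup (Fin 2) K) (M ⧸ S) where
  smul g := QuotientAddGroup.map S S (DistribSMul.toAddMonoidHom M g) (fun m hm => hS g m hm)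
  one_smul w := by
    obtain ⟨v, rfl⟩ := QuotientAddGroup.mk_surjective w
    exact congrArg (QuotientAddGroup.mk' S) (one_smul _ v)
  mul_smul g h w := by
    obtain ⟨v, rfl⟩ := QuotientAddGroup.mk_surjective w
    exact congrArg (QuotientAddGroup.mk' S) (mul_smul g h v)
  smul_zero g := map_zero (QuotientAddGroup.map S S (DistribSMul.toAddMonoidHom M g) _)
  smul_add g u v := map_add (QuotientAddGroup.map S S (DistribSMul.toAddMonoidHom M g) _) u v

variable (K) in
/-- The projection onto the fixed points along their translate. -/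
def piC (v : M) : M :=
  ((w₁ : Matrix.SpecialLinearGroup (Fin 2) K) • v -
      (up 1 : Matrix.SpecialLinearGroup (Fin 2) K) • (w₁ : Matrix.SpecialLinearGroup (Fin 2) K) • v) +
    ((w₁ : Matrix.SpecialLinearGroup (Fin 2) K) • ((w₁ : Matrix.SpecialLinearGroup (Fin 2) K) • v -
      (up 1 : Matrix.SpecialLinearGroup (Fin 2) K) • (w₁ : Matrix.SpecialLinearGroup (Fin 2) K) • v) +
     (w₁ : Matrix.SpecialLinearGroup (Fin 2) K) • ((w₁ : Matrix.SpecialLinearGroup (Fin 2) K) • v -
      (up 1 : Matrix.SpecialLinearGroup (Fin 2) K) • (w₁ : Matrix.SpecialLinearGroup (Fin 2) K) • v))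

theorem piC_add (u v : M) : piC K (u + v) = piC K u + piC K v := by
  simp only [piC, smul_add, smul_sub]; abel

theorem map_piC {U : Type*} [AddCommGroup U]
    [DistribMulAction (Matrix.SpecialLinearGroup (Fin 2) K) U] (f : M →+ U)
    (hf : ∀ (g : Matrix.SpecialLinearGroup (Fin 2) K) m, f (g • m) = g • f m) (v : M) :
    f (piC K v) = piC K (f v) := by
  simp only [piC, map_add, map_sub, hf]

theorem piC_of_two [Finite K] (h2 : ∀ m : M, m + m = 0) (hrel : Rel K M) (a : K) {c : M}
    (hc : c ∈ fixU K M) :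
    piC K ((up a : Matrix.SpecialLinearGroup (Fin 2) K) •
      (w₁ : Matrix.SpecialLinearGroup (Fin 2) K) • c) = qq (rho K M) a c := by
  have hneg : ∀ m : M, -m = m := fun m => neg_eq_of_add_eq_zero_right (h2 m)
  have hE : ∀ v : M, piC K v = ee (rho K M) 1 ((w₁ : Matrix.SpecialLinearGroup (Fin 2) K) • v) := by
    intro v
    rw [piC, h2, add_zero, sub_eq_add_neg, hneg, add_comm, ee_apply h2 hrel]
  rw [hE, up_w₁ h2 hrel a hc, smul_add, smul_smul, w₁_sq, one_smul, map_add, ee_fix h2 hrel hc,
    ee_w₁ h2 hrel (qq_mem h2 hrel a hc), zero_add]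

section Four

variable (h4 : ∀ m : M, (m + m) + (m + m) = 0) (hrel : Rel K M)

include h4 hrel

theorem piC_mem (v : M) : piC K v ∈ fixU K M := by
  set T : Matrix.SpecialLinearGroup (Fin 2) K := up 1 with hT
  set w : Matrix.SpecialLinearGroup (Fin 2) K := w₁ with hw
  set v' := w • v - T • w • v with hv'
  have hTv : T • v' = -v' := by
    rw [hv', smul_sub, smul_smul T T, up_mul_up, one_smul, neg_sub]
  have hTwv : T • w • v' = -v' + w • v' := by
    have h := tw_add_wt hrel v'
    rw [← hT, ← hw, hTv, smul_neg] at h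
    rw [← h]; abel
  rw [mem_fixU]
  show T • (v' + (w • v' + w • v')) = v' + (w • v' + w • v')
  rw [smul_add, smul_add, hTv, hTwv]
  calc _ = v' + (w • v' + w • v') - ((v' + v') + (v' + v')) := by abel
    _ = _ := by rw [h4, sub_zero]

theorem piC_fix {c : M} (hc : c ∈ fixU K M) : piC K c = c := by
  set T : Matrix.SpecialLinearGroup (Fin 2) K := up 1 with hT
  set w : Matrix.SpecialLinearGroup (Fin 2) K := w₁ with hw
  have h := tw_add_wt hrel c
  rw [mem_fixU] at hc
  rw [← hT, ← hw] at h
  rw [← hT] at hc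
  rw [hc] at h
  have hTw : T • w • c = -c - w • c := by rw [← h]; abel
  show (w • c - T • w • c) + (w • (w • c - T • w • c) + w • (w • c - T • w • c)) = c
  rw [hTw, show w • c - (-c - w • c) = w • c + w • c + c by abel, smul_add, smul_add, smul_smul,
    show w * w = 1 from w₁_sq, one_smul]
  calc _ = c + ((c + c) + (c + c)) + ((w • c + w • c) + (w • c + w • c)) := by abel
    _ = c := by rw [h4, h4, add_zero, add_zero]

theorem piC_w₁ {d : M} (hd : d ∈ fixU K M) :
    piC K ((w₁ : Matrix.SpecialLinearGroup (Fin 2) K) • d) = 0 := by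
  rw [piC, smul_smul, w₁_sq, one_smul, mem_fixU.1 hd, sub_self, smul_zero, add_zero, add_zero]

/-- The second coordinate. -/
theorem decomp (v : M) :
    (piC K v + piC K v - ((up 1 : Matrix.SpecialLinearGroup (Fin 2) K) • v + v)) ∈ fixU K M ∧
    v = piC K v + (w₁ : Matrix.SpecialLinearGroup (Fin 2) K) •
      (piC K v + piC K v - ((up 1 : Matrix.SpecialLinearGroup (Fin 2) K) • v + v)) := by
  refine ⟨(fixU K M).sub_mem ((fixU K M).add_mem (piC_mem h4 hrel v) (piC_mem h4 hrel v)) ?_, ?_⟩
  · rw [mem_fixU, smul_add, smul_smul, up_mul_up, one_smul, add_comm]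
  set T : Matrix.SpecialLinearGroup (Fin 2) K := up 1 with hT
  set w : Matrix.SpecialLinearGroup (Fin 2) K := w₁ with hw
  have h := tw_add_wt hrel v
  rw [← hT, ← hw] at h
  set v' := w • v - T • w • v with hv'
  show v = (v' + (w • v' + w • v')) +
    w • ((v' + (w • v' + w • v')) + (v' + (w • v' + w • v')) - (T • v + v))
  simp only [smul_add, smul_sub, smul_smul w w, show w * w = 1 from w₁_sq, one_smul]
  calc v = v' - (w • T • v + w • v) := by
        rw [hv', show w • v - T • w • v - (w • T • v + w • v) = -(T • w • v + w • T • v) by abel, h,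
          neg_neg]
    _ = v' - (w • T • v + w • v) +
          (((w • v') + (w • v')) + ((w • v') + (w • v'))) + ((v' + v') + (v' + v')) := by
        rw [h4, h4, add_zero, add_zero]
    _ = _ := by abel

set_option maxHeartbeats 1000000 in
theorem add_self_eq_zero_of_four [Finite K] [Fintype K] {a : K} (ha0 : a ≠ 0) (ha1 : a ≠ 1)
    (v : M) : v + v = 0 := by
  classical
  set w : Matrix.SpecialLinearGroup (Fin 2) K := w₁ with hw
  set T : Matrix.SpecialLinearGroup (Fin 2) K := up 1 with hT
  set A : Matrix.SpecialLinearGroup (Fin 2) K := up a with hA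
  let S₂ : AddSubgroup M :=
    { carrier := {m | m + m = 0}
      add_mem' := fun {x y} hx hy => by
        show x + y + (x + y) = 0
        rw [show x + y + (x + y) = (x + x) + (y + y) by abel, hx, hy, add_zero]
      zero_mem' := add_zero _
      neg_mem' := fun {x} hx => by
        show -x + -x = 0
        rw [← neg_add_rev, hx, neg_zero] }
  letI a₂ : DistribMulAction (Matrix.SpecialLinearGroup (Fin 2) K) S₂ := subAction S₂ (fun g m hm => by
    show g • m + g • m = 0
    rw [← smul_add, show m + m = 0 from hm, smul_zero])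
  let D : AddSubgroup M := (AddMonoidHom.id M + AddMonoidHom.id M).range
  letI aD : DistribMulAction (Matrix.SpecialLinearGroup (Fin 2) K) (M ⧸ D) := quotAction D (fun g m hm => by
    obtain ⟨x, rfl⟩ := hm
    exact ⟨g • x, (smul_add g x x).symm⟩)
  let π : M →+ M ⧸ D := QuotientAddGroup.mk' D
  have hπs : ∀ (g : Matrix.SpecialLinearGroup (Fin 2) K) m, π (g • m) = g • π m := fun _ _ => rfl
  have hιs : ∀ (g : Matrix.SpecialLinearGroup (Fin 2) K) (m : S₂), S₂.subtype (g • m) = g • S₂.subtype m :=
    fun _ _ => rfl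
  have h2S : ∀ m : S₂, m + m = 0 := fun m => Subtype.ext m.2
  have hrelS : Rel K S₂ := fun m => Subtype.ext (hrel (m : M))
  have h2D : ∀ m : M ⧸ D, m + m = 0 := by
    intro m
    obtain ⟨x, rfl⟩ := QuotientAddGroup.mk'_surjective D m
    rw [← map_add]
    exact (QuotientAddGroup.eq_zero_iff _).2 ⟨x, rfl⟩
  have hrelD : Rel K (M ⧸ D) := by
    intro m
    obtain ⟨x, rfl⟩ := QuotientAddGroup.mk'_surjective D m
    exact (congrArg π (hrel x)).trans (map_zero π)
  -- the operators on the fixed points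
  let bet : M → M := fun c => piC K (A • w • c)
  have hbet_mem : ∀ c, bet c ∈ fixU K M := fun c => piC_mem h4 hrel _
  have hfixA : ∀ c ∈ fixU K M, A • c ∈ fixU K M := fun c hc => by
    rw [mem_fixU, ← hT, smul_smul,
      show T * A = A * T by rw [hT, hA, up_mul, up_mul, add_comm], mul_smul, hT, mem_fixU.1 hc]
  let B : AddMonoid.End (fixU K M) :=
    { toFun := fun c => ⟨bet c, hbet_mem c⟩
      map_zero' := Subtype.ext (by simp [bet, piC])
      map_add' := fun c d => Subtype.ext (by
        show piC K (A • w • ((c : M) + d)) = _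
        rw [smul_add, smul_add, piC_add]; rfl) }
  let V : AddMonoid.End (fixU K M) :=
    { toFun := fun c => ⟨A • (c : M) - c, (fixU K M).sub_mem (hfixA c c.2) c.2⟩
      map_zero' := Subtype.ext (by simp)
      map_add' := fun c d => Subtype.ext (by
        show A • ((c : M) + d) - ((c : M) + d) = _
        rw [smul_add]
        show _ = (A • (c : M) - c) + (A • (d : M) - d)
        abel) }
  have hB : ∀ c, ((B c : fixU K M) : M) = bet c := fun _ => rfl
  have hV : ∀ c, ((V c : fixU K M) : M) = A • (c : M) - c := fun _ => rfl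
  -- on elements of order two
  have hfixS : ∀ z : S₂, (z : M) ∈ fixU K M → z ∈ fixU K S₂ := fun z hz => Subtype.ext hz
  have hS1 : ∀ z ∈ fixU K M, z + z = 0 → A • z = z := fun z hz h2z =>
    congrArg Subtype.val (up_fix h2S hrelS a (hfixS ⟨z, h2z⟩ hz))
  have hSq : ∀ (z : S₂), z ∈ fixU K S₂ → bet (z : M) = (qq (rho K S₂) a z : S₂) := by
    intro z hz
    have h := piC_of_two h2S hrelS a hz
    rw [← h]
    exact (map_piC S₂.subtype hιs ((up a : Matrix.SpecialLinearGroup (Fin 2) K) •
      (w₁ : Matrix.SpecialLinearGroup (Fin 2) K) • z)).symm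
  have hSpow : ∀ (k : ℕ) (z : fixU K M) (h2z : (z : M) + z = 0),
      (((B ^ k) z : fixU K M) : M) = (qq (rho K S₂) (a ^ k) ⟨z, h2z⟩ : S₂) := by
    intro k z h2z
    induction k with
    | zero =>
      rw [pow_zero, pow_zero]
      exact congrArg Subtype.val (DFunLike.congr_fun (hyp_rho h2S hrelS).qq_one.1 ⟨(z : M), h2z⟩).symm
    | succ k ih =>
      rw [pow_succ' B, pow_succ' a, qq_mul_apply h2S hrelS,
        ← hSq _ (qq_mem h2S hrelS _ (hfixS _ z.2)), ← ih]
      rfl
  -- modulo doubles
  have hD1 : ∀ c ∈ fixU K M, A • c - c ∈ D := fun c hc => by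
    refine (QuotientAddGroup.eq_zero_iff _).1 ?_
    show π (A • c - c) = 0
    have hcf : π c ∈ fixU K (M ⧸ D) := by rw [mem_fixU, ← hπs, mem_fixU.1 hc]
    rw [map_sub, hπs, up_fix h2D hrelD a hcf, sub_self]
  have hDpow : ∀ (k : ℕ) (c : fixU K M),
      π ((B ^ k) c : fixU K M) = qq (rho K (M ⧸ D)) (a ^ k) (π c) := by
    intro k c
    induction k with
    | zero =>
      rw [pow_zero, pow_zero]
      exact (DFunLike.congr_fun (hyp_rho h2D hrelD).qq_one.1 (π c)).symm
    | succ k ih =>
      have hcf : ∀ d : fixU K M, π d ∈ fixU K (M ⧸ D) := fun d => by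
        rw [mem_fixU, ← hπs, mem_fixU.1 d.2]
      rw [pow_succ' B, pow_succ' a, qq_mul_apply h2D hrelD, ← ih,
        ← piC_of_two h2D hrelD a (hcf _), ← hπs, ← hπs, ← map_piC π hπs]
      rfl
  have hD2 : ∀ x ∈ D, x + x = 0 := fun x hx => by
    obtain ⟨y, rfl⟩ := hx
    exact h4 y
  -- the identity from `A² = 1`
  have hid : V * B + B * V + ((B + B) + (B * B + B * B)) = 0 := by
    ext c
    set γ := piC K (A • w • (c : M)) + piC K (A • w • (c : M)) -
      (T • A • w • (c : M) + A • w • (c : M)) with hγ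
    obtain ⟨hγm, hdec⟩ := decomp h4 hrel (A • w • (c : M))
    have hTA : ∀ m : M, T • A • m = A • T • m := fun m => by
      rw [smul_smul, smul_smul, hT, hA, up_mul, up_mul, add_comm]
    have hAA : ∀ m : M, A • A • m = m := fun m => by rw [smul_smul, hA, up_mul_up, one_smul]
    have hγ' : γ = A • (c : M) + (bet c + bet c) := by
      have h := tw_add_wt hrel (c : M)
      rw [mem_fixU.1 c.2] at h
      have e : T • w • (c : M) = -(c : M) - w • (c : M) := by rw [← h, ← hw, ← hT]; abel
      rw [hγ, hTA, e, smul_sub, smul_neg]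
      show bet c + bet c - _ = _
      abel
    have hmain : A • bet c + bet γ = 0 := by
      have h := congrArg (fun m : M => piC K (A • m)) hdec
      simp only [hAA, smul_add, piC_add] at h
      rw [piC_w₁ h4 hrel c.2, piC_fix h4 hrel (hfixA _ (piC_mem h4 hrel _))] at h
      exact h.symm
    have hadd : ∀ x y : M, bet (x + y) = bet x + bet y := fun x y => by
      show piC K (A • w • (x + y)) = _
      rw [smul_add, smul_add, piC_add]
    rw [hγ', hadd, hadd] at hmain
    show (A • bet c - bet c) + bet (A • (c : M) - c) + ((bet c + bet c) + (bet (bet c) + bet (bet c))) = 0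
    have hsub : bet (A • (c : M) - c) = bet (A • (c : M)) - bet c := by
      rw [eq_sub_iff_add_eq, ← hadd, sub_add_cancel]
    rw [hsub, ← hmain]
    abel
  -- the iteration
  have h4E : ∀ f : AddMonoid.End (fixU K M), (f + f) + (f + f) = 0 := fun f => by
    ext c; exact h4 _
  let Lop : AddMonoid.End (fixU K M) → AddMonoid.End (fixU K M) := fun f => f * B + B * f
  have hV2 : V + V = 0 := by ext c; exact hD2 _ (hD1 c c.2)
  have hit : ∀ k : ℕ, ∀ f : AddMonoid.End (fixU K M), f + f = 0 →
      Lop^[2 ^ k] f = f * B ^ 2 ^ k + B ^ 2 ^ k * f := by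
    intro k
    induction k with
    | zero => intro f _; simp [Lop]
    | succ k ih =>
      intro f hf
      rw [pow_succ 2 k, mul_two, Function.iterate_add_apply, ih f hf]
      set P := B ^ 2 ^ k
      have hg : f * P + P * f + (f * P + P * f) = 0 := by
        calc _ = (f + f) * P + P * (f + f) := by noncomm_ring
          _ = 0 := by rw [hf, zero_mul, mul_zero, add_zero]
      rw [ih _ hg, pow_add]
      calc _ = f * (P * P) + P * P * f + P * (f + f) * P := by noncomm_ring
        _ = _ := by rw [hf, mul_zero, zero_mul, add_zero]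
  have hL1 : Lop V = (B + B) + (B * B + B * B) := by
    have h := eq_neg_of_add_eq_zero_left hid
    show V * B + B * V = _
    rw [h]
    refine neg_eq_of_add_eq_zero_right ?_
    calc _ = ((B + B) + (B + B)) + ((B * B + B * B) + (B * B + B * B)) := by abel
      _ = 0 := by rw [h4E, h4E, add_zero]
  have hL2 : Lop (Lop V) = 0 := by
    rw [hL1]
    show _ * B + B * _ = 0
    calc _ = ((B * B + B * B) + (B * B + B * B)) + ((B * B * B + B * B * B) + (B * B * B + B * B * B)) := by
          noncomm_ring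
      _ = 0 := by rw [h4E, h4E, add_zero]
  obtain ⟨n, -, hn⟩ := FiniteField.card K 2
  have hL0 : ∀ k : ℕ, Lop^[k] 0 = 0 := fun k => Function.iterate_fixed (by simp [Lop]) k
  have hN : Lop^[2 ^ (n : ℕ)] V = 0 := by
    obtain ⟨r, hr⟩ := Nat.exists_eq_add_of_le (show 2 ≤ 2 ^ (n : ℕ) from Nat.le_self_pow n.ne_zero 2)
    rw [hr, add_comm, Function.iterate_add_apply, show Lop^[2] V = 0 from hL2, hL0]
  have haN : a ^ 2 ^ (n : ℕ) = a := by rw [← hn, FiniteField.pow_card]
  rw [hit _ V hV2] at hN
  have hVB : V * B ^ 2 ^ (n : ℕ) = V * B := by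
    ext c
    set z := (B ^ 2 ^ (n : ℕ)) c - B c with hz
    have hzD : (z : M) ∈ D := by
      refine (QuotientAddGroup.eq_zero_iff _).1 ?_
      show π (((B ^ 2 ^ (n : ℕ)) c : fixU K M) - (B c : M)) = 0
      have h1 := hDpow 1 c
      rw [pow_one, pow_one] at h1
      rw [map_sub, hDpow, haN, h1, sub_self]
    have h0 : V z = 0 := Subtype.ext (by
      rw [hV, hS1 _ z.2 (hD2 _ hzD), sub_self]; rfl)
    rw [hz, map_sub, sub_eq_zero] at h0
    exact congrArg Subtype.val h0
  have hBV : B ^ 2 ^ (n : ℕ) * V = B * V := by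
    ext c
    have h2z : ((V c : fixU K M) : M) + (V c : fixU K M) = 0 := hD2 _ (hD1 c c.2)
    have h1 := hSpow 1 (V c) h2z
    rw [pow_one, pow_one] at h1
    show (((B ^ 2 ^ (n : ℕ)) (V c) : fixU K M) : M) = (B (V c) : fixU K M)
    rw [hSpow _ (V c) h2z, haN, h1]
  rw [hVB, hBV] at hN
  rw [hN, zero_add] at hid
  have hfix : ∀ c : fixU K M, (c : M) + c = 0 := by
    intro c
    have h2z : ((c + c : fixU K M) : M) + (c + c : fixU K M) = 0 := h4 c
    have h := congrArg Subtype.val (DFunLike.congr_fun hid c)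
    change (bet c + bet c) + (bet (bet c) + bet (bet c)) = 0 at h
    have hadd : ∀ x y : M, bet (x + y) = bet x + bet y := fun x y => by
      show piC K (A • w • (x + y)) = _
      rw [smul_add, smul_add, piC_add]
    rw [← hadd (bet c), ← hadd (c : M)] at h
    set z : S₂ := ⟨(c : M) + c, h2z⟩ with hzdef
    have hzf : z ∈ fixU K S₂ := hfixS _ ((fixU K M).add_mem c.2 c.2)
    rw [show (c : M) + c = (z : M) from rfl, hSq z hzf,
      hSq _ (qq_mem h2S hrelS a hzf)] at h
    have h' : qq (rho K S₂) (a + a ^ 2) z = 0 := by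
      rw [qq_add_apply h2S hrelS, qq_sq_apply h2S hrelS]
      exact Subtype.ext h
    have hne : a + a ^ 2 ≠ 0 := fun e => by
      rcases mul_eq_zero.1 (show a * (1 + a) = 0 by rw [← e]; ring) with h | h
      · exact ha0 h
      · exact ha1 (by rw [add_eq_zero_iff_eq_neg.1 h, CharTwo.neg_eq])
    have hz1 : z = 0 := by
      calc z = qq (rho K S₂) ((a + a ^ 2)⁻¹ * (a + a ^ 2)) z := by
            rw [inv_mul_cancel₀ hne]
            exact (DFunLike.congr_fun (hyp_rho h2S hrelS).qq_one.1 z).symm
        _ = 0 := by rw [qq_mul_apply h2S hrelS, h', map_zero]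
    exact congrArg Subtype.val hz1
  obtain ⟨hd, hv⟩ := decomp h4 hrel v
  set d := piC K v + piC K v - (T • v + v)
  have h1 : piC K v + piC K v = 0 := hfix ⟨_, piC_mem h4 hrel v⟩
  have h2' : d + d = 0 := hfix ⟨_, hd⟩
  calc v + v = (piC K v + w • d) + (piC K v + w • d) := congrArg (fun x => x + x) hv
    _ = 0 := by rw [add_add_add_comm, ← smul_add, h1, h2', smul_zero, add_zero]

end Four

/-- An abelian `2`-group with the relation has exponent two. -/
theorem add_self_eq_zero_of_rel [Finite K] (hrel : Rel K M) {a : K} (ha0 : a ≠ 0) (ha1 : a ≠ 1)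
    (h : ∀ m : M, ∃ k : ℕ, 2 ^ k • m = 0) (m : M) : m + m = 0 := by
  haveI := Fintype.ofFinite K
  let S₄ : AddSubgroup M := (nsmulAddMonoidHom (α := M) 4).ker
  letI : DistribMulAction (Matrix.SpecialLinearGroup (Fin 2) K) S₄ := subAction S₄ (fun g x hx => by
    show 4 • (g • x) = 0
    rw [smul_comm, show 4 • x = 0 from hx, smul_zero])
  have h44 : ∀ x : S₄, (x + x) + (x + x) = 0 := fun x => Subtype.ext (by
    show ((x : M) + x) + ((x : M) + x) = 0
    rw [← show 4 • (x : M) = ((x : M) + x) + ((x : M) + x) by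
      rw [show (4 : ℕ) = 2 + 2 from rfl, add_nsmul, two_nsmul]]
    exact x.2)
  have hrel4 : Rel K S₄ := fun x => Subtype.ext (hrel (x : M))
  obtain ⟨k, hk⟩ := h m
  induction k generalizing m with
  | zero => rw [pow_zero, one_nsmul] at hk; rw [hk, add_zero]
  | succ k ih =>
    cases k with
    | zero => rwa [pow_one, two_nsmul] at hk
    | succ j =>
      refine ih m ?_
      have hx : 2 ^ j • m ∈ S₄ := by
        show 4 • (2 ^ j • m) = 0
        rw [← mul_nsmul', show 4 * 2 ^ j = 2 ^ (j + 1 + 1) by ring, hk]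
      have := congrArg Subtype.val
        (add_self_eq_zero_of_four (M := S₄) h44 hrel4 ha0 ha1 ⟨_, hx⟩)
      rw [pow_succ, mul_comm, mul_nsmul', two_nsmul]
      exact this

end CfsgLib.Higman
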