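import Cfsg.Agent.RootSubgroups.SL2Pair
import Mathlib.FieldTheory.Finite.Basic
import Mathlib.Tactic.NoncommRing

/-!
A module for `SL₂(2ⁿ)` in characteristic two on which an element of order three satisfies `x² + x + 1 = 0`
is a sum of natural modules (Higman), proved inside an arbitrary ring of characteristic two.
-/

set_option autoImplicit false

namespace CfsgLib.Higman

open Matrix CfsgLib.SL2Pair

variable {K : Type*} [Field K]

local notation "SL2" => Matrix.SpecialLinearGroup (Fin 2) K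

/-- The anti-diagonal element `(0 -t; 1/t 0)`. -/
def wsl (t : K) (ht : t ≠ 0) : SL2 := ⟨!![0, -t; t⁻¹, 0], by simp [Matrix.det_fin_two, ht]⟩

/-- The element `(0 -1; 1 0)`. -/
def w₁ : SL2 := wsl 1 one_ne_zero

/-- The diagonal element `(t 0; 0 1/t)`. -/
def tor (t : K) (ht : t ≠ 0) : SL2 := ⟨!![t, 0; 0, t⁻¹], by simp [Matrix.det_fin_two, ht]⟩

theorem wsl_coe (t : K) (ht : t ≠ 0) :
    ((wsl t ht : SL2) : Matrix (Fin 2) (Fin 2) K) = !![0, -t; t⁻¹, 0] := rfl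

theorem tor_coe (t : K) (ht : t ≠ 0) :
    ((tor t ht : SL2) : Matrix (Fin 2) (Fin 2) K) = !![t, 0; 0, t⁻¹] := rfl

theorem w₁_coe : ((w₁ : SL2) : Matrix (Fin 2) (Fin 2) K) = !![0, -1; 1, 0] := by
  simp [w₁, wsl_coe]

variable [CharP K 2]

theorem neg_eq (a : K) : -a = a := CharTwo.neg_eq a

theorem w₁_sq : (w₁ : SL2) * w₁ = 1 := by
  ext i j; fin_cases i <;> fin_cases j <;> simp [Matrix.mul_apply, w₁_coe, CharTwo.neg_eq]

theorem up_mul_up (a : K) : (up a : SL2) * up a = 1 := by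
  rw [up_mul, CharTwo.add_self_eq_zero, up_zero]

theorem w₁_up_w₁ (a : K) : (w₁ : SL2) * up a * w₁ = low a := by
  ext i j; fin_cases i <;> fin_cases j <;>
    simp [Matrix.mul_apply, w₁_coe, up_coe, low_coe, CharTwo.neg_eq]

theorem wsl_eq (t : K) (ht : t ≠ 0) : (wsl t ht : SL2) = up t * low t⁻¹ * up t := by
  ext i j; fin_cases i <;> fin_cases j <;>
    simp [Matrix.mul_apply, wsl_coe, up_coe, low_coe, CharTwo.neg_eq, ht, CharTwo.add_self_eq_zero]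

theorem tor_eq (t : K) (ht : t ≠ 0) : (tor t ht : SL2) = wsl t ht * w₁ := by
  ext i j; fin_cases i <;> fin_cases j <;>
    simp [Matrix.mul_apply, wsl_coe, w₁_coe, tor_coe, CharTwo.neg_eq]

theorem tor_up (t : K) (ht : t ≠ 0) (a : K) : (tor t ht : SL2) * up a = up (t ^ 2 * a) * tor t ht := by
  ext i j; fin_cases i <;> fin_cases j <;> simp [Matrix.mul_apply, tor_coe, up_coe]
  field_simp

theorem dilate (t : K) (ht : t ≠ 0) :
    (tor t ht : SL2) * (up 1 * w₁) * (tor t ht)⁻¹ = up (t ^ 2) * wsl (t ^ 2) (pow_ne_zero _ ht) := by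
  rw [mul_inv_eq_iff_eq_mul]
  ext i j; fin_cases i <;> fin_cases j <;>
    simp [Matrix.mul_apply, tor_coe, w₁_coe, wsl_coe, up_coe, CharTwo.neg_eq] <;> field_simp

variable {R : Type*} [Ring R]

/-- The hypotheses: characteristic two and `x² + x + 1 = 0`. -/
structure Hyp (ρ : Matrix.SpecialLinearGroup (Fin 2) K →* R) : Prop where
  two : (2 : R) = 0
  rel : ρ (up 1 * w₁) * ρ (up 1 * w₁) + ρ (up 1 * w₁) + 1 = 0

namespace Hyp

variable {ρ : Matrix.SpecialLinearGroup (Fin 2) K →* R} (H : Hyp ρ)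

/-- `ρ(1 a; 0 1) + 1`. -/
def ee (ρ : Matrix.SpecialLinearGroup (Fin 2) K →* R) (a : K) : R := ρ (up a) + 1

/-- `ρ(0 1; 1 0) + 1`. -/
def ff (ρ : Matrix.SpecialLinearGroup (Fin 2) K →* R) : R := ρ w₁ + 1

/-- The coefficient of `E` in `ee a`. -/
def qq (ρ : Matrix.SpecialLinearGroup (Fin 2) K →* R) (a : K) : R :=
  ee ρ a * ff ρ + ff ρ * ee ρ a

/-- The part of `ee a` outside `qq a * E`. -/
def pp (ρ : Matrix.SpecialLinearGroup (Fin 2) K →* R) (a : K) : R :=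
  ee ρ a + qq ρ a * ee ρ 1

/-- `s` commutes with `E` and `F`. -/
def InS (ρ : Matrix.SpecialLinearGroup (Fin 2) K →* R) (s : R) : Prop :=
  s * ee ρ 1 = ee ρ 1 * s ∧ s * ff ρ = ff ρ * s

include H

theorem add_self (r : R) : r + r = 0 := by rw [← two_mul, H.two, zero_mul]

theorem neg_self (r : R) : -r = r := neg_eq_of_add_eq_zero_right (H.add_self r)

theorem eq_of_add (r s : R) (h : r + s = 0) : r = s := by
  rw [eq_neg_of_add_eq_zero_left h, H.neg_self]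

omit H in
theorem rho_up_sq (a : K) : ρ (up a) * ρ (up a) = 1 := by rw [← map_mul, up_mul_up, map_one]

theorem ee_sq (a : K) : ee ρ a * ee ρ a = 0 := by
  have h : ee ρ a * ee ρ a = ρ (up a) * ρ (up a) + 1 + (ρ (up a) + ρ (up a)) := by
    rw [ee]; noncomm_ring
  rw [h, rho_up_sq, H.add_self, H.add_self, add_zero]

theorem ff_sq : ff ρ * ff ρ = 0 := by
  have h : ff ρ * ff ρ = ρ w₁ * ρ w₁ + 1 + (ρ w₁ + ρ w₁) := by rw [ff]; noncomm_ring
  rw [h, ← map_mul, w₁_sq, map_one, H.add_self, H.add_self, add_zero]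

theorem ef : ee ρ 1 * ff ρ + ff ρ * ee ρ 1 = 1 := by
  have hw : ρ w₁ * ρ (up 1) = ρ (w₁ * up 1) := (map_mul ρ _ _).symm
  have h := congrArg (fun r => ρ (w₁ * up 1) * r) H.rel
  simp only [mul_add, mul_zero, mul_one] at h
  rw [← mul_assoc, ← map_mul, show (w₁ * up 1) * (up (1 : K) * w₁) = (1 : Matrix.SpecialLinearGroup (Fin 2) K) by
    rw [mul_assoc, ← mul_assoc (up (1 : K)), up_mul_up, one_mul, w₁_sq], map_one, one_mul] at h
  have h2 : ρ (up 1) * ρ w₁ + ρ w₁ * ρ (up 1) = 1 := by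
    rw [hw, ← map_mul]
    apply H.eq_of_add
    rw [← h]; abel
  calc ee ρ 1 * ff ρ + ff ρ * ee ρ 1
      = (ρ (up 1) * ρ w₁ + ρ w₁ * ρ (up 1)) + ((ρ (up 1) + ρ (up 1)) + (ρ w₁ + ρ w₁) + (1 + 1)) := by
        rw [ee, ff]; noncomm_ring
    _ = 1 := by simp only [h2, H.add_self, add_zero]

theorem fe : ff ρ * ee ρ 1 = ee ρ 1 * ff ρ + 1 := by
  rw [← H.ef, ← add_assoc, H.add_self, zero_add]

theorem efe : ee ρ 1 * ff ρ * ee ρ 1 = ee ρ 1 := by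
  rw [mul_assoc, H.fe, mul_add, mul_one, ← mul_assoc, H.ee_sq, zero_mul, zero_add]

theorem fef : ff ρ * ee ρ 1 * ff ρ = ff ρ := by
  rw [H.fe, add_mul, one_mul, mul_assoc, H.ff_sq, mul_zero, zero_add]

omit H in
theorem ee_comm (a b : K) : ee ρ a * ee ρ b = ee ρ b * ee ρ a := by
  have h : ρ (up a) * ρ (up b) = ρ (up b) * ρ (up a) := by
    rw [← map_mul, ← map_mul, up_mul, up_mul, add_comm]
  simp only [ee, add_mul, mul_add, mul_one, one_mul, h]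
  abel

theorem inS_qq (a : K) : InS ρ (qq ρ a) := by
  constructor
  · calc qq ρ a * ee ρ 1 = ee ρ a * (ff ρ * ee ρ 1) + ff ρ * (ee ρ a * ee ρ 1) := by
          rw [qq]; noncomm_ring
      _ = ee ρ a * (ee ρ 1 * ff ρ + 1) + ff ρ * (ee ρ 1 * ee ρ a) := by rw [H.fe, ee_comm a 1]
      _ = (ee ρ a * ee ρ 1) * ff ρ + (ee ρ a + (ff ρ * ee ρ 1) * ee ρ a) := by noncomm_ring
      _ = (ee ρ 1 * ee ρ a) * ff ρ + (ee ρ a + (ee ρ 1 * ff ρ + 1) * ee ρ a) := by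
          rw [H.fe, ee_comm a 1]
      _ = ee ρ 1 * qq ρ a + (ee ρ a + ee ρ a) := by rw [qq]; noncomm_ring
      _ = ee ρ 1 * qq ρ a := by rw [H.add_self, add_zero]
  · calc qq ρ a * ff ρ = ee ρ a * (ff ρ * ff ρ) + ff ρ * ee ρ a * ff ρ := by rw [qq]; noncomm_ring
      _ = ff ρ * ee ρ a * ff ρ + (ff ρ * ff ρ) * ee ρ a := by rw [H.ff_sq]; noncomm_ring
      _ = ff ρ * qq ρ a := by rw [qq]; noncomm_ring

theorem inS_pp (a : K) : InS ρ (pp ρ a) := by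
  obtain ⟨h1, h2⟩ := H.inS_qq a
  constructor
  · calc pp ρ a * ee ρ 1 = ee ρ a * ee ρ 1 + (qq ρ a * ee ρ 1) * ee ρ 1 := by rw [pp]; noncomm_ring
      _ = ee ρ 1 * ee ρ a + (ee ρ 1 * qq ρ a) * ee ρ 1 := by rw [h1, ee_comm a 1]
      _ = ee ρ 1 * pp ρ a := by rw [pp]; noncomm_ring
  · apply H.eq_of_add
    calc pp ρ a * ff ρ + ff ρ * pp ρ a
        = (ee ρ a * ff ρ + ff ρ * ee ρ a) + (qq ρ a * (ee ρ 1 * ff ρ) + (ff ρ * qq ρ a) * ee ρ 1) := by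
          rw [pp]; noncomm_ring
      _ = qq ρ a + qq ρ a * (ee ρ 1 * ff ρ + ff ρ * ee ρ 1) := by
          rw [← h2, qq]; noncomm_ring
      _ = 0 := by rw [H.ef, mul_one, H.add_self]

theorem ee_eq (a : K) : ee ρ a = pp ρ a + qq ρ a * ee ρ 1 := by
  rw [pp, add_assoc, H.add_self, add_zero]

omit H in
theorem inS_add {s t : R} (hs : InS ρ s) (ht : InS ρ t) : InS ρ (s + t) :=
  ⟨by rw [add_mul, mul_add, hs.1, ht.1], by rw [add_mul, mul_add, hs.2, ht.2]⟩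

omit H in
theorem inS_mul {s t : R} (hs : InS ρ s) (ht : InS ρ t) : InS ρ (s * t) :=
  ⟨by rw [mul_assoc, ht.1, ← mul_assoc, hs.1, mul_assoc],
   by rw [mul_assoc, ht.2, ← mul_assoc, hs.2, mul_assoc]⟩

omit H in
theorem inS_one : InS ρ (1 : R) := ⟨by rw [one_mul, mul_one], by rw [one_mul, mul_one]⟩

theorem eq_zero_of_mul_ee {s : R} (hs : InS ρ s) (h : s * ee ρ 1 = 0) : s = 0 := by
  calc s = s * (ee ρ 1 * ff ρ + ff ρ * ee ρ 1) := by rw [H.ef, mul_one]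
    _ = (s * ee ρ 1) * ff ρ + (s * ff ρ) * ee ρ 1 := by noncomm_ring
    _ = ff ρ * (s * ee ρ 1) := by rw [hs.2, h, zero_mul, zero_add, mul_assoc, h]
    _ = 0 := by rw [h, mul_zero]

/-- The elements `s₀ + s₁E + s₂F + s₃EF` are distinct. -/
theorem coeff_eq_zero {s₀ s₁ s₂ s₃ : R} (h0 : InS ρ s₀) (h1 : InS ρ s₁) (h2 : InS ρ s₂)
    (h3 : InS ρ s₃) (h : s₀ + s₁ * ee ρ 1 + s₂ * ff ρ + s₃ * (ee ρ 1 * ff ρ) = 0) :
    s₀ = 0 ∧ s₁ = 0 ∧ s₂ = 0 ∧ s₃ = 0 := by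
  have e2 : s₂ * ee ρ 1 = 0 := by
    have h' := congrArg (fun r => ee ρ 1 * r * ee ρ 1) h
    simp only [mul_zero, zero_mul] at h'
    rw [← h']
    simp only [mul_add, add_mul, mul_assoc]
    rw [← mul_assoc (ee ρ 1) s₀, ← h0.1, ← mul_assoc (ee ρ 1) s₁, ← h1.1, ← mul_assoc (ee ρ 1) s₂,
      ← h2.1, ← mul_assoc (ee ρ 1) s₃, ← h3.1]
    simp only [mul_assoc, H.ee_sq, mul_zero, zero_add, ← mul_assoc (ee ρ 1) (ff ρ), H.efe,
      add_zero]
  have z2 := H.eq_zero_of_mul_ee h2 e2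
  subst z2
  rw [zero_mul, add_zero] at h
  have e0 : s₀ * ee ρ 1 = 0 := by
    have h' := congrArg (fun r => ee ρ 1 * r) h
    simp only [mul_zero] at h'
    rw [← h']
    simp only [mul_add]
    rw [← mul_assoc (ee ρ 1) s₁, ← h1.1, ← mul_assoc (ee ρ 1) s₃, ← h3.1, ← h0.1]
    simp only [mul_assoc, H.ee_sq, mul_zero, add_zero]
    rw [← mul_assoc (ee ρ 1), H.ee_sq, zero_mul, mul_zero, add_zero]
  have z0 := H.eq_zero_of_mul_ee h0 e0
  subst z0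
  rw [zero_add] at h
  have e3 : s₃ * ee ρ 1 = 0 := by
    have h' := congrArg (fun r => r * ee ρ 1) h
    simp only [zero_mul] at h'
    rw [← h', add_mul, mul_assoc, H.ee_sq, mul_zero, zero_add, mul_assoc, mul_assoc,
      ← mul_assoc (ee ρ 1), H.efe]
  have z3 := H.eq_zero_of_mul_ee h3 e3
  subst z3
  rw [zero_mul, add_zero] at h
  exact ⟨rfl, H.eq_zero_of_mul_ee h1 h, rfl, rfl⟩

/-- `wEw`. -/
theorem conj_ee_one : ρ w₁ * ee ρ 1 * ρ w₁ = 1 + ee ρ 1 + ff ρ := by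
  have hw : ρ w₁ = 1 + ff ρ := by rw [ff, add_comm (ρ w₁) 1, ← add_assoc, H.add_self, zero_add]
  calc ρ w₁ * ee ρ 1 * ρ w₁
      = ee ρ 1 + (ee ρ 1 * ff ρ + ff ρ * ee ρ 1) + ff ρ * ee ρ 1 * ff ρ := by
        rw [hw]; noncomm_ring
    _ = 1 + ee ρ 1 + ff ρ := by rw [H.ef, H.fef]; abel

theorem w₁_eq : ρ w₁ = 1 + ff ρ := by
  rw [ff, add_comm (ρ w₁) 1, ← add_assoc, H.add_self, zero_add]

theorem low_eq (a : K) :
    ρ (low a) + 1 = (pp ρ a + qq ρ a) + qq ρ a * ee ρ 1 + qq ρ a * ff ρ := by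
  have hs : ∀ s, InS ρ s → ρ w₁ * s = s * ρ w₁ := fun s hs => by
    rw [H.w₁_eq, add_mul, mul_add, one_mul, mul_one, hs.2]
  have hsq : ρ w₁ * ρ w₁ = 1 := by rw [← map_mul, w₁_sq, map_one]
  calc ρ (low a) + 1 = ρ w₁ * ee ρ a * ρ w₁ := by
        rw [← w₁_up_w₁, map_mul, map_mul, ee, mul_add, add_mul, mul_one, hsq]
    _ = ρ w₁ * pp ρ a * ρ w₁ + ρ w₁ * qq ρ a * ee ρ 1 * ρ w₁ := by
        conv_lhs => rw [H.ee_eq a]
        noncomm_ring
    _ = pp ρ a * (ρ w₁ * ρ w₁) + qq ρ a * (ρ w₁ * ee ρ 1 * ρ w₁) := by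
        rw [hs _ (H.inS_pp a), hs _ (H.inS_qq a)]; noncomm_ring
    _ = _ := by rw [hsq, H.conj_ee_one]; noncomm_ring

theorem ee_mul_low [Finite K] (t : K) (ht : t ≠ 0) :
    ee ρ t * (ρ (low t⁻¹) + 1) + (ρ (low t⁻¹) + 1) * ee ρ t = 1 := by
  -- conjugate the relation at `t = 1`
  obtain ⟨r, hr⟩ : ∃ g : Matrix.SpecialLinearGroup (Fin 2) K,
      up t * low t⁻¹ = g * (up 1 * low 1) * g⁻¹ := by
    obtain ⟨u, hu⟩ : ∃ u, u ^ 2 = t := by
      obtain ⟨u, hu⟩ := Finite.injective_iff_surjective.1 (frobenius_inj K 2) t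
      exact ⟨u, hu⟩
    have hu0 : u ≠ 0 := fun h => ht (by rw [← hu, h]; simp)
    refine ⟨tor u hu0, ?_⟩
    rw [eq_mul_inv_iff_mul_eq]
    ext i j; fin_cases i <;> fin_cases j <;>
      simp [Matrix.mul_apply, tor_coe, up_coe, low_coe, ← hu] <;> field_simp <;> ring
  have h1 : ρ (up 1 * low 1) * ρ (up 1 * low 1) + ρ (up 1 * low 1) + 1 = 0 := by
    have e : (up 1 * low 1 : Matrix.SpecialLinearGroup (Fin 2) K) = (up 1 * w₁) * (up 1 * w₁) := by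
      rw [← w₁_up_w₁]; group
    have e3 : (up 1 * w₁ : Matrix.SpecialLinearGroup (Fin 2) K) * (up 1 * w₁) * (up 1 * w₁) = 1 := by
      ext i j; fin_cases i <;> fin_cases j <;>
        simp [Matrix.mul_apply, w₁_coe, up_coe, CharTwo.neg_eq, CharTwo.add_self_eq_zero]
    set y := (up 1 * w₁ : Matrix.SpecialLinearGroup (Fin 2) K)
    rw [e, ← map_mul, ← mul_assoc, e3, one_mul, add_comm (ρ y), map_mul]
    exact H.rel
  have h2 : ρ (up t * low t⁻¹) * ρ (up t * low t⁻¹) + ρ (up t * low t⁻¹) + 1 = 0 := by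
    have h := congrArg (fun z => ρ r * z * ρ r⁻¹) h1
    simp only [mul_zero, zero_mul, mul_add, add_mul, mul_one] at h
    rw [← h, hr]
    simp only [← map_mul]
    congr 3 <;> first | (group; done) | (rw [mul_inv_cancel, map_one])
  have hinv : (low t⁻¹ * up t) * (up t * low t⁻¹) = (1 : Matrix.SpecialLinearGroup (Fin 2) K) := by
    rw [mul_assoc, ← mul_assoc (up t), up_mul_up, one_mul, low_mul, CharTwo.add_self_eq_zero,
      low_zero]
  have h3 := congrArg (fun z => ρ (low t⁻¹ * up t) * z) h2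
  simp only [mul_add, mul_zero, mul_one] at h3
  rw [← mul_assoc, ← map_mul, hinv, map_one, one_mul] at h3
  have h4 : ρ (up t) * ρ (low t⁻¹) + ρ (low t⁻¹) * ρ (up t) = 1 := by
    rw [← map_mul, ← map_mul]
    apply H.eq_of_add
    rw [← h3]; abel
  calc ee ρ t * (ρ (low t⁻¹) + 1) + (ρ (low t⁻¹) + 1) * ee ρ t
      = (ρ (up t) * ρ (low t⁻¹) + ρ (low t⁻¹) * ρ (up t)) +
          ((ρ (up t) + ρ (up t)) + (ρ (low t⁻¹) + ρ (low t⁻¹)) + (1 + 1)) := by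
        rw [ee]; noncomm_ring
    _ = 1 := by simp only [h4, H.add_self, add_zero]

theorem ee_mul (a b : K) : ee ρ a * ee ρ b =
    pp ρ a * pp ρ b + (pp ρ a * qq ρ b + qq ρ a * pp ρ b) * ee ρ 1 := by
  have h1 := (H.inS_pp b).1
  have h2 := (H.inS_qq b).1
  calc ee ρ a * ee ρ b = (pp ρ a + qq ρ a * ee ρ 1) * (pp ρ b + qq ρ b * ee ρ 1) := by
        rw [← H.ee_eq, ← H.ee_eq]
    _ = pp ρ a * pp ρ b + pp ρ a * qq ρ b * ee ρ 1 + qq ρ a * (ee ρ 1 * pp ρ b) +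
          qq ρ a * (ee ρ 1 * qq ρ b) * ee ρ 1 := by noncomm_ring
    _ = pp ρ a * pp ρ b + pp ρ a * qq ρ b * ee ρ 1 + qq ρ a * pp ρ b * ee ρ 1 +
          qq ρ a * qq ρ b * (ee ρ 1 * ee ρ 1) := by rw [← h1, ← h2]; noncomm_ring
    _ = _ := by rw [H.ee_sq]; noncomm_ring

theorem pp_comm (a b : K) : pp ρ a * pp ρ b = pp ρ b * pp ρ a ∧
    pp ρ a * qq ρ b + qq ρ a * pp ρ b = pp ρ b * qq ρ a + qq ρ b * pp ρ a := by
  have key := H.ee_mul
  have h := (key a b).symm.trans ((ee_comm a b).trans (key b a))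
  have hP := fun a b => inS_mul (H.inS_pp a) (H.inS_pp b)
  have hM := fun a b => inS_add (inS_mul (H.inS_pp a) (H.inS_qq b)) (inS_mul (H.inS_qq a) (H.inS_pp b))
  obtain ⟨z0, z1, -, -⟩ := H.coeff_eq_zero (inS_add (hP a b) (hP b a)) (inS_add (hM a b) (hM b a))
    (s₂ := 0) (s₃ := 0) ⟨by simp, by simp⟩ ⟨by simp, by simp⟩ (by
      rw [zero_mul, zero_mul, add_zero, add_zero, add_mul]
      calc _ = (pp ρ a * pp ρ b + (pp ρ a * qq ρ b + qq ρ a * pp ρ b) * ee ρ 1) +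
              (pp ρ b * pp ρ a + (pp ρ b * qq ρ a + qq ρ b * pp ρ a) * ee ρ 1) := by abel
        _ = 0 := by rw [h, H.add_self])
  exact ⟨H.eq_of_add _ _ z0, H.eq_of_add _ _ z1⟩

theorem pp_sq (a : K) : pp ρ a * pp ρ a = 0 ∧ Commute (pp ρ a) (qq ρ a) := by
  have h : pp ρ a * pp ρ a + (pp ρ a * qq ρ a + qq ρ a * pp ρ a) * ee ρ 1 = 0 :=
    (H.ee_mul a a).symm.trans (H.ee_sq a)
  obtain ⟨z0, z1, -, -⟩ := H.coeff_eq_zero (inS_mul (H.inS_pp a) (H.inS_pp a))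
    (inS_add (inS_mul (H.inS_pp a) (H.inS_qq a)) (inS_mul (H.inS_qq a) (H.inS_pp a)))
    (s₂ := 0) (s₃ := 0) ⟨by simp, by simp⟩ ⟨by simp, by simp⟩
    (by rw [zero_mul, zero_mul, add_zero, add_zero]; exact h)
  exact ⟨z0, H.eq_of_add _ _ z1⟩

theorem qq_one : qq ρ 1 = 1 ∧ pp ρ 1 = 0 := by
  refine ⟨H.ef, ?_⟩
  rw [pp, show qq ρ 1 = 1 from H.ef, one_mul, H.add_self]

/-- `q(t) q(1/t) = 1` and the commutations that come with it. -/
theorem qq_inv [Finite K] (t : K) (ht : t ≠ 0) : qq ρ t * qq ρ t⁻¹ = 1 ∧ qq ρ t⁻¹ * qq ρ t = 1 := by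
  set p := pp ρ t
  set q := qq ρ t
  set q' := qq ρ t⁻¹
  set r := pp ρ t⁻¹ + qq ρ t⁻¹
  have hp := H.inS_pp t
  have hq := H.inS_qq t
  have hq' := H.inS_qq t⁻¹
  have hr : InS ρ r := inS_add (H.inS_pp t⁻¹) (H.inS_qq t⁻¹)
  have h := H.ee_mul_low t ht
  rw [H.low_eq, H.ee_eq t] at h
  have h' : (p * r + r * p + q' * q + 1) + (p * q' + q' * p + (q * r + r * q)) * ee ρ 1 +
      (p * q' + q' * p) * ff ρ + (q * q' + q' * q) * (ee ρ 1 * ff ρ) = 0 := by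
    calc _ = (p + q * ee ρ 1) * (r + q' * ee ρ 1 + q' * ff ρ) +
          (r + q' * ee ρ 1 + q' * ff ρ) * (p + q * ee ρ 1) + 1 := ?_
      _ = 0 := by rw [h, H.add_self]
    symm
    calc _ = p * r + p * q' * ee ρ 1 + p * q' * ff ρ + q * (ee ρ 1 * r) +
          q * (ee ρ 1 * q') * ee ρ 1 + q * (ee ρ 1 * q') * ff ρ +
          (r * p + r * q * ee ρ 1 + q' * (ee ρ 1 * p) + q' * (ee ρ 1 * q) * ee ρ 1 +
            q' * (ff ρ * p) + q' * (ff ρ * q) * ee ρ 1) + 1 := by noncomm_ring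
      _ = p * r + p * q' * ee ρ 1 + p * q' * ff ρ + q * (r * ee ρ 1) +
          q * (q' * ee ρ 1) * ee ρ 1 + q * (q' * ee ρ 1) * ff ρ +
          (r * p + r * q * ee ρ 1 + q' * (p * ee ρ 1) + q' * (q * ee ρ 1) * ee ρ 1 +
            q' * (p * ff ρ) + q' * (q * ff ρ) * ee ρ 1) + 1 := by
          rw [hp.1, hp.2, hq.1, hq.2, hq'.1, hr.1]
      _ = p * r + r * p + (p * q' + q' * p + (q * r + r * q)) * ee ρ 1 +
          (p * q' + q' * p) * ff ρ + (q * q' + q' * q) * (ee ρ 1 * ee ρ 1) +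
          q * q' * (ee ρ 1 * ff ρ) + q' * q * (ff ρ * ee ρ 1) + 1 := by noncomm_ring
      _ = _ := by rw [H.ee_sq, H.fe]; noncomm_ring
  have hS := fun {s u : R} (hs : InS ρ s) (hu : InS ρ u) => inS_add (inS_mul hs hu) (inS_mul hu hs)
  obtain ⟨z0, z1, z2, z3⟩ := H.coeff_eq_zero
    (inS_add (inS_add (hS hp hr) (inS_mul hq' hq)) inS_one)
    (inS_add (hS hp hq') (hS hq hr)) (hS hp hq') (hS hq hq') h'
  have hc : q * q' = q' * q := H.eq_of_add _ _ z3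
  have hpp := (H.pp_comm t t⁻¹).1
  have hpr : p * r + r * p = 0 := by
    have : p * r + r * p = (p * pp ρ t⁻¹ + pp ρ t⁻¹ * p) + (p * q' + q' * p) := by
      simp only [r, mul_add, add_mul]; abel
    rw [this, z2, hpp, H.add_self, add_zero]
  rw [hpr, zero_add] at z0
  exact ⟨hc.trans (H.eq_of_add _ _ z0), H.eq_of_add _ _ z0⟩

/-- The torus element in coordinates. -/
theorem tor_coord [Finite K] (t : K) (ht : t ≠ 0) :
    ρ (tor t ht) = (pp ρ t + (pp ρ t⁻¹ + qq ρ t⁻¹) + qq ρ t⁻¹ + qq ρ t⁻¹) +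
      (qq ρ t + qq ρ t⁻¹) * ee ρ 1 + (pp ρ t + (pp ρ t⁻¹ + qq ρ t⁻¹) + qq ρ t⁻¹) * ff ρ +
      (qq ρ t + qq ρ t⁻¹) * (ee ρ 1 * ff ρ) := by
  set p := pp ρ t
  set q := qq ρ t
  set q' := qq ρ t⁻¹
  set r := pp ρ t⁻¹ + qq ρ t⁻¹ with hr_def
  set u := p + r + q' with hu_def
  have hp := H.inS_pp t
  have hq := H.inS_qq t
  have hq' := H.inS_qq t⁻¹
  have hr : InS ρ r := inS_add (H.inS_pp t⁻¹) (H.inS_qq t⁻¹)
  have hl : ρ (low t⁻¹) + 1 = r + q' * ee ρ 1 + q' * ff ρ := H.low_eq t⁻¹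
  have hel : ee ρ t * (ρ (low t⁻¹) + 1) * ee ρ t = ee ρ t := by
    have h := H.ee_mul_low t ht
    have h2 : ee ρ t * (ee ρ t * (ρ (low t⁻¹) + 1) + (ρ (low t⁻¹) + 1) * ee ρ t) = ee ρ t := by
      rw [h, mul_one]
    rwa [mul_add, ← mul_assoc, H.ee_sq, zero_mul, zero_add, ← mul_assoc] at h2
  have hW : ρ (wsl t ht) = ee ρ t + (ρ (low t⁻¹) + 1) := by
    have h := H.ee_mul_low t ht
    rw [wsl_eq, map_mul, map_mul]
    have e1 : ρ (up t) = 1 + ee ρ t := by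
      rw [ee, add_comm (ρ (up t)) 1, ← add_assoc, H.add_self, zero_add]
    set l := ρ (low t⁻¹) + 1 with hldef
    have e2 : ρ (low t⁻¹) = 1 + l := by
      rw [hldef, add_comm (ρ (low t⁻¹)) 1, ← add_assoc, H.add_self, zero_add]
    rw [e1, e2]
    calc _ = 1 + l + (ee ρ t + ee ρ t) + (ee ρ t * l + l * ee ρ t) + ee ρ t * ee ρ t +
          ee ρ t * l * ee ρ t := by noncomm_ring
      _ = l + ee ρ t + (1 + 1) := by rw [h, hel, H.add_self, H.ee_sq]; abel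
      _ = _ := by rw [H.add_self, add_zero, add_comm]
  rw [tor_eq, map_mul, hW, hl, H.ee_eq t, H.w₁_eq]
  calc _ = (p + r) + (q + q') * ee ρ 1 + (q' + (p + r)) * ff ρ +
        (q + q') * (ee ρ 1 * ff ρ) + q' * (ff ρ * ff ρ) := by noncomm_ring
    _ = (p + r) + (q + q') * ee ρ 1 + u * ff ρ + (q + q') * (ee ρ 1 * ff ρ) := by
        rw [H.ff_sq, mul_zero, add_zero, hu_def]; abel
    _ = _ := by rw [hu_def, add_assoc (p + r) q' q', H.add_self, add_zero]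

/-- How the torus element moves `ee`. -/
theorem qq_dilate [Finite K] (t : K) (ht : t ≠ 0) : qq ρ (t ^ 2) = qq ρ t * qq ρ t := by
  set p := pp ρ t
  set q := qq ρ t
  set q' := qq ρ t⁻¹
  set r := pp ρ t⁻¹ + qq ρ t⁻¹ with hr_def
  set u := p + r + q' with hu_def
  have hp := H.inS_pp t
  have hq := H.inS_qq t
  have hq' := H.inS_qq t⁻¹
  have hr : InS ρ r := inS_add (H.inS_pp t⁻¹) (H.inS_qq t⁻¹)
  have hD : ρ (tor t ht) = (u + q') + (q + q') * ee ρ 1 + u * ff ρ +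
      (q + q') * (ee ρ 1 * ff ρ) := H.tor_coord t ht
  have hu : InS ρ u := inS_add (inS_add hp hr) hq'
  have heq : ρ (tor t ht) * ee ρ 1 = ee ρ (t ^ 2) * ρ (tor t ht) := by
    have h := congrArg ρ (tor_up t ht 1)
    rw [map_mul, map_mul, mul_one] at h
    rw [ee, ee, mul_add, add_mul, mul_one, one_mul, h]
  set P := pp ρ (t ^ 2)
  set Q := qq ρ (t ^ 2)
  have hP := H.inS_pp (t ^ 2)
  have hQ := H.inS_qq (t ^ 2)
  rw [hD, H.ee_eq (t ^ 2)] at heq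
  set a₀ := u + q'
  set a₁ := q + q'
  have ha₀ : InS ρ a₀ := inS_add hu hq'
  have ha₁ : InS ρ a₁ := inS_add hq hq'
  have h' : (u + P * a₀) + ((a₀ + a₁) + (P * a₁ + Q * a₀)) * ee ρ 1 + (P * u) * ff ρ +
      (u + (P * a₁ + Q * u)) * (ee ρ 1 * ff ρ) = 0 := by
    calc _ = (a₀ + a₁ * ee ρ 1 + u * ff ρ + a₁ * (ee ρ 1 * ff ρ)) * ee ρ 1 +
          (P + Q * ee ρ 1) * (a₀ + a₁ * ee ρ 1 + u * ff ρ + a₁ * (ee ρ 1 * ff ρ)) := ?_
      _ = 0 := by rw [heq, H.add_self]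
    symm
    calc _ = a₀ * ee ρ 1 + a₁ * (ee ρ 1 * ee ρ 1) + u * (ff ρ * ee ρ 1) +
          a₁ * (ee ρ 1 * ff ρ * ee ρ 1) +
          (P * a₀ + P * a₁ * ee ρ 1 + P * u * ff ρ + P * a₁ * (ee ρ 1 * ff ρ) +
          Q * (ee ρ 1 * a₀) + Q * (ee ρ 1 * a₁) * ee ρ 1 + Q * (ee ρ 1 * u) * ff ρ +
          Q * (ee ρ 1 * a₁) * (ee ρ 1 * ff ρ)) := by noncomm_ring
      _ = a₀ * ee ρ 1 + a₁ * (ee ρ 1 * ee ρ 1) + u * (ff ρ * ee ρ 1) +
          a₁ * (ee ρ 1 * ff ρ * ee ρ 1) +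
          (P * a₀ + P * a₁ * ee ρ 1 + P * u * ff ρ + P * a₁ * (ee ρ 1 * ff ρ) +
          Q * a₀ * ee ρ 1 + Q * a₁ * (ee ρ 1 * ee ρ 1) + Q * u * (ee ρ 1 * ff ρ) +
          Q * a₁ * ((ee ρ 1 * ee ρ 1) * ff ρ)) := by
          rw [← ha₀.1, ← ha₁.1, ← hu.1]; noncomm_ring
      _ = _ := by rw [H.ee_sq, H.efe, H.fe]; noncomm_ring
  obtain ⟨-, z1, -, z3⟩ := H.coeff_eq_zero (inS_add hu (inS_mul hP ha₀))
    (inS_add (inS_add ha₀ ha₁) (inS_add (inS_mul hP ha₁) (inS_mul hQ ha₀))) (inS_mul hP hu)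
    (inS_add hu (inS_add (inS_mul hP ha₁) (inS_mul hQ hu))) h'
  have hz : q + Q * q' = 0 := by
    have e : ((a₀ + a₁) + (P * a₁ + Q * a₀)) + (u + (P * a₁ + Q * u)) =
        q + Q * q' + ((u + u) + (q' + q') + (P * a₁ + P * a₁) + (Q * u + Q * u)) := by
      simp only [a₀, a₁, mul_add]; abel
    rw [z1, z3, H.add_self, H.add_self, H.add_self, H.add_self] at e
    simpa [H.add_self] using e.symm
  calc Q = Q * (q' * q) := by rw [(H.qq_inv t ht).2, mul_one]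
    _ = (Q * q') * q := (mul_assoc _ _ _).symm
    _ = q * q := by rw [← H.eq_of_add _ _ hz]

theorem qq_add (a b : K) :
    qq ρ (a + b) = qq ρ a + qq ρ b + (pp ρ a * qq ρ b + qq ρ a * pp ρ b) := by
  set m := pp ρ a * qq ρ b + qq ρ a * pp ρ b
  have hm : InS ρ m :=
    inS_add (inS_mul (H.inS_pp a) (H.inS_qq b)) (inS_mul (H.inS_qq a) (H.inS_pp b))
  set c := pp ρ a * pp ρ b
  have hc : InS ρ c := inS_mul (H.inS_pp a) (H.inS_pp b)
  have e : ee ρ (a + b) = ee ρ a + ee ρ b + ee ρ a * ee ρ b := by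
    calc ee ρ (a + b) = ρ (up a) * ρ (up b) + 1 := by rw [ee, ← map_mul, up_mul]
      _ = ρ (up a) * ρ (up b) + 1 + ((ρ (up a) + ρ (up a)) + (ρ (up b) + ρ (up b)) + (1 + 1)) := by
          simp only [H.add_self, add_zero]
      _ = _ := by rw [ee, ee]; noncomm_ring
  calc qq ρ (a + b) = qq ρ a + qq ρ b + ((ee ρ a * ee ρ b) * ff ρ + ff ρ * (ee ρ a * ee ρ b)) := by
        rw [qq, e, qq, qq]; noncomm_ring
    _ = qq ρ a + qq ρ b + ((c * ff ρ + ff ρ * c) + (m * (ee ρ 1 * ff ρ) + (ff ρ * m) * ee ρ 1)) := by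
        rw [H.ee_mul a b]; simp only [m, c]; noncomm_ring
    _ = qq ρ a + qq ρ b + ((c * ff ρ + c * ff ρ) + m * (ee ρ 1 * ff ρ + ff ρ * ee ρ 1)) := by
        rw [← hc.2, ← hm.2]; noncomm_ring
    _ = _ := by rw [H.add_self, zero_add, H.ef, mul_one]

theorem qq_zero : qq ρ 0 = 0 := by
  have : ee ρ 0 = 0 := by rw [ee, up_zero, map_one, H.add_self]
  rw [qq, this, zero_mul, mul_zero, add_zero]

theorem qq_sq [Finite K] (a : K) : qq ρ (a ^ 2) = qq ρ a * qq ρ a := by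
  by_cases h : a = 0
  · subst h; rw [zero_pow two_ne_zero, H.qq_zero, mul_zero]
  · exact H.qq_dilate a h

theorem qq_pow [Finite K] (a : K) (k : ℕ) : qq ρ (a ^ 2 ^ k) = qq ρ a ^ 2 ^ k := by
  induction k with
  | zero => simp
  | succ k ih => rw [pow_succ 2 k, pow_mul, pow_mul, H.qq_sq, ih, pow_two (qq ρ a ^ 2 ^ k)]

theorem add_pow_two_pow {x y : R} (h : Commute x y) (k : ℕ) :
    (x + y) ^ 2 ^ k = x ^ 2 ^ k + y ^ 2 ^ k := by
  induction k with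
  | zero => simp
  | succ k ih =>
    rw [pow_succ 2 k, pow_mul, pow_mul, pow_mul, ih, pow_two, pow_two, pow_two, add_mul, mul_add,
      mul_add, ((h.pow_pow (2 ^ k) (2 ^ k)).symm.eq)]
    rw [add_add_add_comm, ← add_assoc]
    calc _ = x ^ 2 ^ k * x ^ 2 ^ k + y ^ 2 ^ k * y ^ 2 ^ k +
          (x ^ 2 ^ k * y ^ 2 ^ k + x ^ 2 ^ k * y ^ 2 ^ k) := by abel
      _ = _ := by rw [H.add_self, add_zero]

/-- The unipotent elements act quadratically. -/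
theorem pp_eq_zero [Finite K] (a : K) : pp ρ a = 0 := by
  haveI := Fintype.ofFinite K
  haveI : Fact (Nat.Prime 2) := ⟨Nat.prime_two⟩
  obtain ⟨n, -, hn⟩ := FiniteField.card K 2
  have hfix : ∀ b : K, qq ρ b ^ 2 ^ (n : ℕ) = qq ρ b := fun b => by
    rw [← H.qq_pow, ← hn, FiniteField.pow_card]
  obtain ⟨h1, h2⟩ := H.qq_one
  have e : qq ρ (a + 1) = qq ρ a + pp ρ a + 1 := by
    rw [H.qq_add, h1, h2, mul_zero, add_zero, mul_one]; abel
  obtain ⟨hp2, hpq⟩ := H.pp_sq a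
  have hN : pp ρ a ^ 2 ^ (n : ℕ) = 0 :=
    pow_eq_zero_of_le (show 2 ≤ 2 ^ (n : ℕ) from
      Nat.le_self_pow n.ne_zero 2) (by rw [pow_two]; exact hp2)
  have h := hfix (a + 1)
  rw [e, H.add_pow_two_pow (Commute.one_right _), H.add_pow_two_pow hpq.symm, hN, one_pow,
    add_zero, hfix] at h
  calc pp ρ a = (qq ρ a + pp ρ a + 1) + (qq ρ a + 1) := by
        rw [show (qq ρ a + pp ρ a + 1) + (qq ρ a + 1) =
          pp ρ a + ((qq ρ a + qq ρ a) + (1 + 1)) by abel, H.add_self, H.add_self, add_zero, add_zero]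
    _ = 0 := by rw [← h, H.add_self]

theorem ee_eq' [Finite K] (a : K) : ee ρ a = qq ρ a * ee ρ 1 := by
  rw [H.ee_eq a, H.pp_eq_zero, zero_add]

theorem qq_add' [Finite K] (a b : K) : qq ρ (a + b) = qq ρ a + qq ρ b := by
  rw [H.qq_add, H.pp_eq_zero, H.pp_eq_zero, zero_mul, mul_zero, add_zero, add_zero]

theorem qq_comm [Finite K] (a b : K) : qq ρ a * qq ρ b = qq ρ b * qq ρ a := by
  have h := H.qq_sq (a + b)
  rw [CharTwo.add_sq, H.qq_add', H.qq_add', H.qq_sq, H.qq_sq, add_mul, mul_add, mul_add] at h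
  refine H.eq_of_add _ _ ?_
  rw [show qq ρ a * qq ρ b + qq ρ b * qq ρ a =
    (qq ρ a * qq ρ a + qq ρ a * qq ρ b + (qq ρ b * qq ρ a + qq ρ b * qq ρ b)) -
      (qq ρ a * qq ρ a + qq ρ b * qq ρ b) by abel, ← h, sub_self]

theorem qq_mul [Finite K] (a b : K) : qq ρ (a * b) = qq ρ a * qq ρ b := by
  obtain ⟨t, rfl⟩ : ∃ t, t ^ 2 = a := by
    obtain ⟨u, hu⟩ := Finite.injective_iff_surjective.1 (frobenius_inj K 2) a
    exact ⟨u, hu⟩
  by_cases ht : t = 0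
  · subst ht; rw [zero_pow two_ne_zero, zero_mul, H.qq_zero, zero_mul]
  set D := ρ (tor t ht) with hDdef
  have hD : D = qq ρ t⁻¹ + (qq ρ t + qq ρ t⁻¹) * ee ρ 1 +
      (qq ρ t + qq ρ t⁻¹) * (ee ρ 1 * ff ρ) := by
    rw [hDdef, H.tor_coord, H.pp_eq_zero, H.pp_eq_zero]
    simp only [zero_add, H.add_self, zero_mul, add_zero]
  have hDE : D * ee ρ 1 = qq ρ t * ee ρ 1 := by
    rw [hD, add_mul, add_mul, mul_assoc, H.ee_sq, mul_zero, add_zero, mul_assoc, H.efe, ← add_mul,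
      show qq ρ t⁻¹ + (qq ρ t + qq ρ t⁻¹) = qq ρ t + (qq ρ t⁻¹ + qq ρ t⁻¹) by abel, H.add_self,
      add_zero]
  have hED : ee ρ 1 * D = qq ρ t⁻¹ * ee ρ 1 := by
    rw [hD, mul_add, mul_add, ← mul_assoc (ee ρ 1) (qq ρ t + qq ρ t⁻¹),
      ← mul_assoc (ee ρ 1) (qq ρ t + qq ρ t⁻¹),
      ← (inS_add (H.inS_qq t) (H.inS_qq t⁻¹)).1, mul_assoc, H.ee_sq, mul_zero, add_zero,
      mul_assoc, ← mul_assoc (ee ρ 1) (ee ρ 1), H.ee_sq, zero_mul, mul_zero, add_zero,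
      ← (H.inS_qq t⁻¹).1]
  have hDq : D * qq ρ b = qq ρ b * D := by
    have hS := H.inS_qq b
    have hC : ∀ c, Commute (qq ρ c) (qq ρ b) := fun c => H.qq_comm c b
    rw [hD]
    exact (((hC _).add_left (((hC _).add_left (hC _)).mul_left hS.1.symm)).add_left
      (((hC _).add_left (hC _)).mul_left
        (Commute.mul_left hS.1.symm hS.2.symm))).eq
  have h := congrArg ρ (tor_up t ht b)
  rw [map_mul, map_mul, ← hDdef] at h
  have h' : D * ee ρ b = ee ρ (t ^ 2 * b) * D := by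
    rw [ee, ee, mul_add, add_mul, mul_one, one_mul, h]
  rw [H.ee_eq' b, H.ee_eq' (t ^ 2 * b), ← mul_assoc, hDq, mul_assoc, hDE, mul_assoc, hED,
    ← mul_assoc, ← mul_assoc] at h'
  have h2 : qq ρ b * qq ρ t = qq ρ (t ^ 2 * b) * qq ρ t⁻¹ := by
    refine H.eq_of_add _ _ (H.eq_zero_of_mul_ee (inS_add (inS_mul (H.inS_qq b) (H.inS_qq t))
      (inS_mul (H.inS_qq _) (H.inS_qq _))) ?_)
    rw [add_mul, h', H.add_self]
  calc qq ρ (t ^ 2 * b) = qq ρ (t ^ 2 * b) * (qq ρ t⁻¹ * qq ρ t) := by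
        rw [(H.qq_inv t ht).2, mul_one]
    _ = qq ρ b * qq ρ t * qq ρ t := by rw [← mul_assoc, ← h2]
    _ = qq ρ (t ^ 2) * qq ρ b := by rw [mul_assoc, ← H.qq_sq, H.qq_comm]

/-- The field acting inside the ring. -/
noncomputable def qqHom [Finite K] : K →+* R where
  toFun := qq ρ
  map_one' := H.qq_one.1
  map_mul' := H.qq_mul
  map_zero' := H.qq_zero
  map_add' := H.qq_add'

theorem rho_up [Finite K] (a : K) : ρ (up a) = 1 + qq ρ a * ee ρ 1 := by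
  rw [← H.ee_eq', ee, add_comm (ρ (up a)) 1, ← add_assoc, H.add_self, zero_add]

end Hyp

end CfsgLib.Higman
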