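import Cfsg.Agent.InvChar.UniqueInvolution

/-! A subgroup inside every subgroup it normalizes. -/

set_option autoImplicit false
set_option linter.unusedVariables false

namespace CfsgLib.InsideEvery

open Subgroup

variable {F : Type*} [Group F] [Finite F]

theorem main (H : Subgroup F) (hH : H ≠ ⊥)
    (hmin : ∀ R : Subgroup F, R ≠ ⊥ → H ≤ normalizer (R : Set F) → H ≤ R) :
    ∃ N : Subgroup F, N.Normal ∧ N ≠ ⊥ ∧ (∀ M : Subgroup F, M.Normal → M ≠ ⊥ → N ≤ M) ∧
      IsSimpleGroup ↥N ∧
      (centralizer (N : Set F) = ⊥ ∨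
       (H = N ∧ (Nat.card N).Prime ∧ IsCyclic ↥(centralizer (N : Set F)) ∧
          (∃ k : ℕ, 1 ≤ k ∧ Nat.card ↥(centralizer (N : Set F)) = Nat.card N ^ k) ∧
          (∃ g : F, centralizer (N : Set F) ⊔ zpowers g = ⊤) ∧
          (centralizer (N : Set F)).index ∣ Nat.card N - 1) ∨
       (H = N ∧ Nat.card N = 2 ∧ centralizer (N : Set F) = ⊤ ∧
          ∃ k : ℕ, 1 ≤ k ∧ Nonempty (F ≃* QuaternionGroup (2 ^ k)))) := by
  set N := normalClosure (H : Set F) with hNdef
  have hHN : H ≤ N := le_normalClosure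
  have hN1 : N ≠ ⊥ := fun h => hH (le_bot_iff.mp (h ▸ hHN))
  have hmin' : ∀ M : Subgroup F, M.Normal → M ≠ ⊥ → N ≤ M := fun M hM hM1 => by
    haveI := hM
    exact normalClosure_le_normal (hmin M hM1 (by rw [normalizer_eq_top_iff.mpr hM]; exact le_top))
  have : Nontrivial N := (nontrivial_iff_ne_bot N).mpr hN1
  have hsimp : IsSimpleGroup ↥N := by
    refine ⟨fun A hA => or_iff_not_imp_left.mpr fun hA1 => ?_⟩
    rw [eq_top_iff]
    intro x _
    have hgen : ∀ f : F, ∀ h ∈ H, ∃ a ∈ A, (a : F) = f * h * f⁻¹ := by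
      intro f h hh
      set B := (A.map N.subtype).map (MulAut.conj f⁻¹).toMonoidHom with hB
      have hB1 : B ≠ ⊥ := by
        rw [hB, Ne, map_eq_bot_iff_of_injective _ (MulAut.conj f⁻¹).injective,
          map_eq_bot_iff_of_injective _ N.subtype_injective]
        exact hA1
      have hNB : N ≤ normalizer (B : Set F) := by
        intro n hn
        refine mem_normalizer_iff'.mpr fun z => ?_
        have key : ∀ (m : F), m ∈ N → ∀ z ∈ B, m * z * m⁻¹ ∈ B := by
          rintro m hm _ ⟨_, ⟨a, ha, rfl⟩, rfl⟩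
          have hm' : f * m * f⁻¹ ∈ N := normalClosure_normal.conj_mem m hm f
          refine ⟨_, ⟨⟨_, hm'⟩ * a * ⟨_, hm'⟩⁻¹, hA.conj_mem a ha _, rfl⟩, ?_⟩
          simp [mul_assoc]
        constructor
        · intro hz
          have := key n hn _ hz
          simpa [mul_assoc] using this
        · intro hz
          have := key n⁻¹ (inv_mem hn) _ hz
          simpa [mul_assoc] using this
      obtain ⟨_, ⟨a, ha, rfl⟩, e⟩ := hmin B hB1 (hHN.trans hNB) hh
      exact ⟨a, ha, by rw [← e]; simp [mul_assoc]⟩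
    have hle : N ≤ A.map N.subtype := by
      refine (closure_le _).mpr fun y hy => ?_
      obtain ⟨h, hh, hc⟩ := Group.mem_conjugatesOfSet_iff.mp hy
      obtain ⟨f, rfl⟩ := isConj_iff.mp hc
      obtain ⟨a, ha, e⟩ := hgen f h hh
      exact ⟨a, ha, e⟩
    obtain ⟨a, ha, e⟩ := hle x.2
    rwa [← Subtype.ext e]
  refine ⟨N, normalClosure_normal, hN1, hmin', hsimp, ?_⟩
  set C := centralizer (N : Set F) with hC
  rcases eq_or_ne C ⊥ with hC1 | hC1
  · exact Or.inl hC1
  right
  have hCn : C.Normal := by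
    haveI : N.Normal := normalClosure_normal
    infer_instance
  have hNC : N ≤ C := hmin' C hCn hC1
  have hinC : ∀ R : Subgroup F, R ≤ C → R ≠ ⊥ → H ≤ R := fun R hR hR1 => hmin R hR1 <| by
    refine le_trans (fun h hh => mem_centralizer_iff.mpr fun r hr => ?_) (centralizer_le_normalizer _)
    exact (mem_centralizer_iff.mp (hR hr) h (hHN hh)).symm
  haveI hcomm : IsMulCommutative N :=
    ⟨⟨fun a b => Subtype.ext (mem_centralizer_iff.mp (hNC b.2) a a.2)⟩⟩
  have hp : (Nat.card N).Prime := by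
    have hc : ∀ a b : N, a * b = b * a := fun a b => hcomm.is_comm.comm a b
    letI : CommGroup N := { (inferInstance : Group N) with mul_comm := hc }
    exact IsSimpleGroup.prime_card
  have hHeq : H = N := eq_of_le_of_card_ge hHN (by
    rcases (Nat.dvd_prime hp).mp (card_dvd_of_le hHN) with h | h
    · exact absurd (eq_bot_of_card_eq _ h) hH
    · exact h.ge)
  set p := Nat.card N with hpdef
  haveI : Fact p.Prime := ⟨hp⟩
  have hsub : ∀ x : F, x ∈ C → x ≠ 1 → N ≤ zpowers x := fun x hx hx1 =>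
    hHeq ▸ hinC _ (zpowers_le.mpr hx) (by rwa [Ne, zpowers_eq_bot])
  have hP : IsPGroup p C := by
    refine IsPGroup.iff_card.mpr ⟨(Nat.card C).primeFactorsList.length, ?_⟩
    refine Nat.eq_prime_pow_of_unique_prime_dvd Nat.card_pos.ne' fun {q} hq hqd => ?_
    haveI : Fact q.Prime := ⟨hq⟩
    obtain ⟨x, hx⟩ := exists_prime_orderOf_dvd_card' q hqd
    have h1 := card_dvd_of_le (hsub x x.2 (fun e => by
      rw [show x = 1 from Subtype.ext e, orderOf_one] at hx
      exact hq.one_lt.ne hx))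
    rw [Nat.card_zpowers, Subgroup.orderOf_coe, hx] at h1
    exact ((Nat.prime_dvd_prime_iff_eq hp hq).mp h1).symm
  have hu : ∀ x y : C, orderOf x = p → orderOf y = p → y ∈ zpowers x := by
    intro x y hx hy
    have he : ∀ z : C, orderOf z = p → zpowers (z : F) = N := fun z hz =>
      (eq_of_le_of_card_ge (hsub z z.2 (fun e => by
        rw [show z = 1 from Subtype.ext e, orderOf_one] at hz
        exact hp.one_lt.ne hz)) (by rw [Nat.card_zpowers, Subgroup.orderOf_coe, hz])).symm
    have h1 : (y : F) ∈ zpowers (x : F) := by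
      rw [he x hx, ← he y hy]; exact mem_zpowers _
    obtain ⟨i, hi⟩ := mem_zpowers_iff.mp h1
    exact mem_zpowers_iff.mpr ⟨i, Subtype.ext hi⟩
  obtain ⟨k, hk⟩ := IsPGroup.iff_card.mp hP
  have hk1 : 1 ≤ k := by
    rcases k with _ | k
    · rw [pow_zero] at hk
      exact absurd (eq_bot_of_card_eq _ hk) hC1
    · omega
  -- the action on `N`
  haveI hNn : N.Normal := normalClosure_normal
  set ψ : F →* MulAut N := MulAut.conjNormal with hψ
  have hker : ψ.ker = C := by
    ext f
    rw [MonoidHom.mem_ker, hC, mem_centralizer_iff]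
    constructor
    · intro h n hn
      have h1 := congrArg (fun e : MulAut N => ((e ⟨n, hn⟩ : N) : F)) h
      simp only [hψ, MulAut.conjNormal_apply, MulAut.one_apply] at h1
      exact (mul_inv_eq_iff_eq_mul.mp h1).symm
    · intro h
      refine MulEquiv.ext fun n => Subtype.ext ?_
      simp only [hψ, MulAut.conjNormal_apply, MulAut.one_apply]
      exact mul_inv_eq_iff_eq_mul.mpr (h n n.2).symm
  haveI hNcyc : IsCyclic N := isCyclic_of_prime_card hpdef.symm
  have hidx : C.index ∣ p - 1 := by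
    rw [← hker, index_ker]
    refine (card_subgroup_dvd_card _).trans ?_
    rw [IsCyclic.card_mulAut, ← hpdef, Nat.totient_prime hp]
  rcases CfsgLib.UniqueInvol.cyclic_or_quaternion hP hu with hcyc | ⟨hp2, n, hn, ⟨e⟩⟩
  · refine Or.inl ⟨hHeq, hp, hcyc, ⟨k, hk1, hk⟩, ?_, hidx⟩
    haveI : IsCyclic (MulAut N) := by
      haveI : IsCyclic (ZMod (Nat.card N))ˣ := inferInstance
      exact isCyclic_of_surjective _ (IsCyclic.mulAutMulEquiv N).symm.surjective
    obtain ⟨⟨r, g, rfl⟩, hg⟩ := IsCyclic.exists_generator (α := ψ.range)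
    refine ⟨g, eq_top_iff.mpr fun f _ => ?_⟩
    obtain ⟨i, hi⟩ := mem_zpowers_iff.mp (hg ⟨ψ f, f, rfl⟩)
    have h1 : f * (g ^ i)⁻¹ ∈ C := by
      rw [← hker, MonoidHom.mem_ker, map_mul, map_inv, map_zpow]
      have h2 : ψ g ^ i = ψ f := congrArg Subtype.val hi
      rw [h2, mul_inv_cancel]
    have : f = f * (g ^ i)⁻¹ * g ^ i := by group
    rw [this]
    exact mul_mem (mem_sup_left h1) (mem_sup_right (zpow_mem (mem_zpowers g) i))
  · have hCtop : C = ⊤ := by
      rw [← index_eq_one]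
      rw [hp2] at hidx
      exact Nat.dvd_one.mp hidx
    exact Or.inr ⟨hHeq, hp2, hCtop, n, hn,
      ⟨(topEquiv.symm.trans (MulEquiv.subgroupCongr hCtop.symm)).trans e⟩⟩

end CfsgLib.InsideEvery
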