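import Cfsg.Agent.Char.FrobeniusKernel
import Mathlib.GroupTheory.SchurZassenhaus
import Mathlib.GroupTheory.Sylow
import Mathlib.GroupTheory.Nilpotent

/-! An isolated `p`-element centralizing the `p'`-subgroups it normalizes is central. -/

set_option autoImplicit false
set_option linter.unusedVariables false
set_option linter.unusedSectionVars false

namespace CfsgLib.IsolatedCentral

open Subgroup
open scoped Pointwise

universe u

theorem central_aux {p : ℕ} [hp : Fact p.Prime] : ∀ (n : ℕ) (H : Type u) [Group H] [Finite H] (x : H),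
    Nat.card H ≤ n → IsPGroup p (zpowers x) →
    (∀ g : H, IsPGroup p (closure ({x, g * x * g⁻¹} : Set H)) → g * x * g⁻¹ = x) →
    (∀ C : Subgroup H, (Nat.card C).Coprime p → (∀ c ∈ C, x * c * x⁻¹ ∈ C) → ∀ c ∈ C, x * c = c * x) →
    x ∈ center H := by
  intro n
  induction n with
  | zero =>
    intro H _ _ x hn
    exact absurd hn (not_le.mpr Nat.card_pos)
  | succ n ih =>
    intro H _ _ x hn hx hiso hb
    by_contra hxZ
    set M := centralizer ({x} : Set H) with hM
    have hxM : x ∈ M := mem_centralizer_singleton_iff.mpr rfl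
    -- proper subgroups containing `x` centralize it
    have hsub : ∀ Y : Subgroup H, x ∈ Y → Y ≠ ⊤ → ∀ y ∈ Y, x * y = y * x := by
      intro Y hxY hY y hy
      have hlt : Nat.card Y < Nat.card H := by
        refine lt_of_le_of_ne (Subgroup.card_le_card_group _) fun e => hY ?_
        exact eq_top_of_card_eq _ e
      have hc := ih Y ⟨x, hxY⟩ (by omega) ?_ ?_ ?_
      · exact congrArg Subtype.val (mem_center_iff.mp hc ⟨y, hy⟩).symm
      · rintro ⟨z, hz⟩
        obtain ⟨i, rfl⟩ := mem_zpowers_iff.mp hz
        obtain ⟨k, hk⟩ := hx ⟨x ^ i, zpow_mem (mem_zpowers x) i⟩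
        exact ⟨k, Subtype.ext (Subtype.ext (by simpa using congrArg Subtype.val hk))⟩
      · intro g hg
        refine Subtype.ext (hiso g ?_)
        have := hg.map Y.subtype
        rwa [MonoidHom.map_closure, Set.image_pair] at this
      · intro C hC hn' c hc'
        refine Subtype.ext (hb (C.map Y.subtype) ?_ ?_ c ⟨c, hc', rfl⟩)
        · rwa [Nat.card_congr (C.equivMapOfInjective Y.subtype Y.subtype_injective).toEquiv] at hC
        · rintro _ ⟨d, hd, rfl⟩
          exact ⟨_, hn' d hd, rfl⟩
    -- a conjugate commuting with `x` equals it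
    have hcomm : ∀ g : H, x * (g * x * g⁻¹) = g * x * g⁻¹ * x → g * x * g⁻¹ = x := by
      intro g hg
      refine hiso g ?_
      have hgx : IsPGroup p (zpowers (g * x * g⁻¹)) := by
        have h := hx.map (MulAut.conj g).toMonoidHom
        rw [MonoidHom.map_zpowers] at h
        exact h
      have hle : zpowers (g * x * g⁻¹) ≤ normalizer (zpowers x : Set H) := by
        refine le_trans ?_ (centralizer_le_normalizer _)
        refine zpowers_le.mpr (mem_centralizer_iff.mpr fun z hz => ?_)
        obtain ⟨i, rfl⟩ := mem_zpowers_iff.mp hz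
        exact ((show Commute x (g * x * g⁻¹) from hg).zpow_left i).eq
      refine (hx.to_sup_of_normal_left' hgx hle).to_le ((closure_le _).mpr ?_)
      rintro z (rfl | rfl)
      · exact mem_sup_left (mem_zpowers z)
      · exact mem_sup_right (mem_zpowers _)
    -- `M` modulo the centre is malnormal
    have hTI : ∀ g : H, g ∉ M → ∀ z ∈ M, g * z * g⁻¹ ∈ M → g * z * g⁻¹ ∈ center H := by
      intro g hg z hz hgz
      by_contra hzc
      set w := g * z * g⁻¹
      have hC : centralizer ({w} : Set H) ≠ ⊤ := fun h => hzc (mem_center_iff.mpr fun a =>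
        mem_centralizer_singleton_iff.mp (h.ge (mem_top a)))
      have hx' : x ∈ centralizer ({w} : Set H) := mem_centralizer_singleton_iff.mpr
        (mem_centralizer_singleton_iff.mp hgz).symm
      have hgx : g * x * g⁻¹ ∈ centralizer ({w} : Set H) := by
        refine mem_centralizer_singleton_iff.mpr ?_
        have h := mem_centralizer_singleton_iff.mp hz
        calc g * x * g⁻¹ * (g * z * g⁻¹) = g * (x * z) * g⁻¹ := by group
          _ = g * (z * x) * g⁻¹ := by rw [h]
          _ = g * z * g⁻¹ * (g * x * g⁻¹) := by group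
      refine hg (mem_centralizer_singleton_iff.mpr ?_)
      exact mul_inv_eq_iff_eq_mul.mp (hcomm g (hsub _ hx' hC _ hgx))
    have hZM : center H ≤ M := fun z hz =>
      mem_centralizer_singleton_iff.mpr (mem_center_iff.mp hz x).symm
    set q := QuotientGroup.mk' (center H) with hq
    have hMq : ∀ g : H, q g ∈ M.map q ↔ g ∈ M := by
      refine fun g => ⟨?_, fun h => ⟨g, h, rfl⟩⟩
      rintro ⟨m, hm, e⟩
      have h1 : m⁻¹ * g ∈ center H := QuotientGroup.eq.mp e
      have := M.mul_mem hm (hZM h1)
      rwa [mul_inv_cancel_left] at this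
    obtain ⟨K, hKn, hKM, hKsup, hKc, -⟩ :=
      CfsgLib.Char.exists_frobenius_kernel (M.map q) (by
        intro g hg h hh hgh
        obtain ⟨a, rfl⟩ := QuotientGroup.mk'_surjective _ g
        obtain ⟨m, hm, rfl⟩ := hh
        have h1 : a * m * a⁻¹ ∈ M := (hMq _).mp (by rw [map_mul, map_mul, map_inv]; exact hgh)
        have h2 := hTI a (fun h => hg ((hMq a).mpr h)) m hm h1
        have h3 : m ∈ center H := by
          have := (inferInstance : (center H).Normal).conj_mem _ h2 a⁻¹
          simpa [mul_assoc] using this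
        exact (QuotientGroup.eq_one_iff _).mpr h3)
    -- `M` contains a Sylow subgroup
    have hidx : ¬ p ∣ M.index := by
      obtain ⟨P, hP⟩ := (show IsPGroup p ((zpowers x).subgroupOf M) from
        hx.of_equiv (subgroupOfEquivOfLe (zpowers_le.mpr hxM)).symm).exists_le_sylow
      set P' := (P : Subgroup M).map M.subtype with hP'
      have hxP : x ∈ P' := ⟨⟨x, hxM⟩, hP (show x ∈ zpowers x from mem_zpowers x), rfl⟩
      have hP'p : IsPGroup p P' := P.2.map _
      obtain ⟨R, hR⟩ := hP'p.exists_le_sylow
      have hNM : normalizer (P' : Set H) ≤ M := by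
        intro g hg
        refine mem_centralizer_singleton_iff.mpr (mul_inv_eq_iff_eq_mul.mp (hiso g ?_))
        refine hP'p.to_le ((closure_le _).mpr ?_)
        rintro z (rfl | rfl)
        · exact hxP
        · exact (mem_normalizer_iff.mp hg x).mp hxP
      have hPR : P' = R := by
        by_contra hne
        have hnil : Group.IsNilpotent R := R.2.isNilpotent
        have hlt : P'.subgroupOf R < ⊤ := lt_top_iff_ne_top.mpr fun h =>
          hne (le_antisymm hR (subgroupOf_eq_top.mp h))
        obtain ⟨u, hu, huP⟩ := SetLike.exists_of_lt (Group.normalizerCondition_of_isNilpotent (G := (R : Subgroup H)) _ hlt :)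
        have hun : (u : H) ∈ normalizer (P' : Set H) := by
          refine mem_normalizer_iff.mpr fun z => ?_
          have key := mem_normalizer_iff.mp hu
          refine ⟨fun hz => ?_, fun hz => ?_⟩
          · exact (key ⟨z, hR hz⟩).mp hz
          · have hzR : z ∈ (R : Subgroup H) := by
              have := mul_mem (mul_mem (inv_mem u.2) (hR hz)) u.2
              simpa [mul_assoc] using this
            exact (key ⟨z, hzR⟩).mpr hz
        have huM := hNM hun
        -- the Sylow subgroup of `M` absorbs `u`
        have hRM : IsPGroup p (((R : Subgroup H) ⊓ M).subgroupOf M) :=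
          (R.2.to_le inf_le_left).of_equiv (subgroupOfEquivOfLe inf_le_right).symm
        have hle : (P : Subgroup M) ≤ ((R : Subgroup H) ⊓ M).subgroupOf M := fun z hz =>
          ⟨hR ⟨z, hz, rfl⟩, z.2⟩
        have he := P.is_maximal' hRM hle
        refine huP ?_
        show (u : H) ∈ P'
        refine ⟨⟨u, huM⟩, ?_, rfl⟩
        rw [← he]; exact ⟨u.2, huM⟩
      intro hd
      have h1 : (R : Subgroup H).index = (P : Subgroup M).index * M.index := by
        rw [← hPR, hP', index_map_subtype]
      exact R.not_dvd_index (h1 ▸ hd.mul_left _)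
    set Khat := K.comap q with hKhat
    have hZK : center H ≤ Khat := fun z hz => by
      show q z ∈ K
      rw [show q z = 1 from (QuotientGroup.eq_one_iff z).mpr hz]
      exact one_mem K
    have hKcard : Nat.card K = M.index := by
      rw [← hKc.index_eq_card]
      exact index_map_eq _ (QuotientGroup.mk'_surjective _) (by rwa [QuotientGroup.ker_mk'])
    -- the complement of the centre in the preimage
    set Z := (center H).subgroupOf Khat with hZ
    obtain ⟨P⟩ : Nonempty (Sylow p Khat) := inferInstance
    have hZidx : Z.index = Nat.card K := by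
      have h1 := relIndex_mul_index hZK
      have h2 : Khat.index = K.index := index_comap_of_surjective _ (QuotientGroup.mk'_surjective _)
      have h3 : (center H).index = Nat.card K * K.index := (card_mul_index K).symm
      rw [h2, h3] at h1
      exact Nat.eq_of_mul_eq_mul_right (Nat.pos_of_ne_zero FiniteIndex.index_ne_zero) h1
    have hPZ : (P : Subgroup Khat) ≤ Z := by
      have hcop : (Nat.card (P : Subgroup Khat)).Coprime Z.index := by
        obtain ⟨k, hk⟩ := P.2.exists_card_eq
        rw [hk, hZidx, hKcard]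
        exact Nat.Coprime.pow_left _ (hp.out.coprime_iff_not_dvd.mpr hidx)
      have : Z.Normal := (inferInstance : (center H).Normal).subgroupOf Khat
      intro z hz
      rw [← QuotientGroup.eq_one_iff]
      refine orderOf_eq_one_iff.mp (Nat.eq_one_of_dvd_coprimes hcop ?_ ?_)
      · exact ((orderOf_map_dvd (QuotientGroup.mk' Z) z).trans
          (orderOf_submonoid (⟨z, hz⟩ : (P : Subgroup Khat)) ▸ orderOf_dvd_natCard _))
      · rw [index]; exact orderOf_dvd_natCard _
    have hPc : (P : Subgroup Khat) ≤ center Khat := fun z hz => mem_center_iff.mpr fun a =>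
      Subtype.ext (mem_center_iff.mp (hPZ hz : (z : H) ∈ center H) a)
    have : (P : Subgroup Khat).Normal := ⟨fun z hz a => by
      rw [mem_center_iff.mp (hPc hz) a, mul_inv_cancel_right]; exact hz⟩
    obtain ⟨C, hC⟩ := exists_right_complement'_of_coprime P.card_coprime_index
    have hCcard : (Nat.card C).Coprime p := by
      rw [← hC.symm.index_eq_card] at *
      exact (hp.out.coprime_iff_not_dvd.mpr P.not_dvd_index).symm
    have hCn : C.Normal := ⟨fun c hc a => by
      obtain ⟨s, hs, d, hd, rfl⟩ := Set.mem_mul.mp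
        (hC.mul_eq.ge (Set.mem_univ a) : a ∈ ((P : Subgroup Khat) : Set Khat) * (C : Set Khat))
      have e : s * d * c * (s * d)⁻¹ = s * (d * c * d⁻¹) * s⁻¹ := by group
      rw [e, ← mem_center_iff.mp (hPc hs), mul_inv_cancel_right]
      exact mul_mem (mul_mem hd hc) (inv_mem hd)⟩
    have hmemC : ∀ z : Khat, (orderOf z).Coprime p → z ∈ C := by
      intro z hz
      rw [← QuotientGroup.eq_one_iff]
      refine orderOf_eq_one_iff.mp (Nat.eq_one_of_dvd_coprimes
        (a := orderOf z) (b := Nat.card (P : Subgroup Khat)) ?_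
        (orderOf_map_dvd (QuotientGroup.mk' C) z) ?_)
      · obtain ⟨k, hk⟩ := P.2.exists_card_eq
        rw [hk]; exact hz.pow_right _
      · rw [← hC.index_eq_card, index]; exact orderOf_dvd_natCard _
    have hCM : ∀ c ∈ C, (c : H) ∈ M := by
      intro c hc
      refine mem_centralizer_singleton_iff.mpr (hb (C.map Khat.subtype) ?_ ?_ c ⟨c, hc, rfl⟩).symm
      · rwa [Nat.card_congr (C.equivMapOfInjective Khat.subtype Khat.subtype_injective).toEquiv] at hCcard
      · rintro _ ⟨d, hd, rfl⟩
        have hmem : x * (d : H) * x⁻¹ ∈ Khat :=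
          (hKn.comap q).conj_mem _ d.2 x
        refine ⟨⟨_, hmem⟩, hmemC _ ?_, rfl⟩
        have ho : orderOf (⟨_, hmem⟩ : Khat) = orderOf d := by
          rw [← orderOf_injective Khat.subtype Khat.subtype_injective,
            ← orderOf_injective Khat.subtype Khat.subtype_injective d]
          exact orderOf_injective (MulAut.conj x).toMonoidHom (MulAut.conj x).injective _
        rw [ho]
        exact Nat.Coprime.coprime_dvd_left
          (orderOf_submonoid (⟨d, hd⟩ : C) ▸ orderOf_dvd_natCard _) hCcard
    have hKhatM : ∀ a : Khat, (a : H) ∈ M := fun a => by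
      obtain ⟨s, hs, d, hd, rfl⟩ := Set.mem_mul.mp
        (hC.mul_eq.ge (Set.mem_univ a) : a ∈ ((P : Subgroup Khat) : Set Khat) * (C : Set Khat))
      exact mul_mem (hZM (hPZ hs)) (hCM d hd)
    refine hxZ (mem_center_iff.mpr fun g => ?_)
    have hg : q g ∈ M.map q := by
      have htop : q g ∈ K ⊔ M.map q := by rw [hKsup]; exact mem_top _
      have hle : K ≤ M.map q := by
        intro k hk
        obtain ⟨a, rfl⟩ := QuotientGroup.mk'_surjective _ k
        exact (hMq a).mpr (hKhatM ⟨a, hk⟩)
      exact (sup_le hle (le_refl (M.map q)) : K ⊔ M.map q ≤ M.map q) htop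
    exact mem_centralizer_singleton_iff.mp ((hMq g).mp hg)

theorem mem_center_of_isolated {G : Type u} [Group G] [Finite G] {p : ℕ} [Fact p.Prime]
    (S : Sylow p G) (x : G) (hx : x ∈ S)
    (hU : ∀ g : G, g⁻¹ * x * g ∈ S → g⁻¹ * x * g = x)
    (hb : ∀ H : Subgroup G, (Nat.card H).Coprime p → (∀ h ∈ H, x * h * x⁻¹ ∈ H) →
      ∀ h ∈ H, x * h = h * x) : x ∈ center G := by
  refine central_aux _ G x le_rfl (S.2.to_le (zpowers_le.mpr hx)) (fun g hg => ?_) hb
  obtain ⟨R, hR⟩ := hg.exists_le_sylow
  obtain ⟨h, rfl⟩ := MulAction.exists_smul_eq G S R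
  have hmem : ∀ z ∈ ({x, g * x * g⁻¹} : Set G), h⁻¹ * z * h ∈ S := fun z hz => by
    obtain ⟨s, hs, e⟩ := hR (subset_closure hz)
    rw [← e]
    show h⁻¹ * (h * s * h⁻¹) * h ∈ S
    simpa [mul_assoc] using hs
  have h1 : h⁻¹ * x * h = x := hU h (hmem x (Or.inl rfl))
  have e : h⁻¹ * (g * x * g⁻¹) * h = (g⁻¹ * h)⁻¹ * x * (g⁻¹ * h) := by group
  have h2 := hmem (g * x * g⁻¹) (Or.inr rfl)
  rw [e] at h2
  have h3 := hU _ h2
  calc g * x * g⁻¹ = h * (h⁻¹ * (g * x * g⁻¹) * h) * h⁻¹ := by group
    _ = h * x * h⁻¹ := by rw [e, h3]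
    _ = h * (h⁻¹ * x * h) * h⁻¹ := by rw [h1]
    _ = x := by group

end CfsgLib.IsolatedCentral
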