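import Cfsg.Agent.LocalB.Isolated
import Cfsg.Agent.Solvable.CoprimeAct
import Cfsg.Agent.Solvable.Basics
import Cfsg.Prelude.Def_Solvable

/-!
Subgroups invariant under an isolated element in a minimal counterexample to `Z*ₚ`.
-/

set_option autoImplicit false

namespace CfsgLib.LocalB

open scoped Pointwise

variable {G : Type*} [Group G] [Finite G] {p : ℕ} [Fact p.Prime] {x : G}

/-- Invariant Sylow subgroups are conjugate by the centralizer. -/
theorem isolated_invariant_sylow_conj (hiso : Cfsg.IsIsolated x) (hx : orderOf x = p) {q : ℕ}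
    [Fact q.Prime] (S₁ S₂ : Sylow q G)
    (h₁ : x ∈ Subgroup.normalizer ((S₁ : Subgroup G) : Set G))
    (h₂ : x ∈ Subgroup.normalizer ((S₂ : Subgroup G) : Set G)) :
    ∃ c ∈ Subgroup.centralizer ({x} : Set G),
      (S₁ : Subgroup G).map (MulAut.conj c).toMonoidHom = (S₂ : Subgroup G) := by
  obtain ⟨g, hg⟩ := MulAction.exists_smul_eq G S₁ S₂
  have hg' : (S₁ : Subgroup G).map (MulAut.conj g).toMonoidHom = (S₂ : Subgroup G) := by
    rw [← hg]; rfl
  have hmem : ∀ s, s ∈ (S₁ : Subgroup G) ↔ g * s * g⁻¹ ∈ (S₂ : Subgroup G) := fun s => by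
    rw [← hg']
    refine ⟨fun hs => ⟨s, hs, rfl⟩, ?_⟩
    rintro ⟨t, ht, e⟩
    have e' : g * t * g⁻¹ = g * s * g⁻¹ := e
    rwa [mul_left_cancel (mul_right_cancel e')] at ht
  have hN : g⁻¹ * x * g⁻¹⁻¹ ∈ Subgroup.normalizer ((S₁ : Subgroup G) : Set G) := by
    refine Subgroup.mem_normalizer_iff.mpr fun s => ?_
    rw [hmem s, hmem, Subgroup.mem_normalizer_iff.mp h₂ (g * s * g⁻¹)]
    refine Iff.of_eq (congrArg (· ∈ (S₂ : Subgroup G)) ?_)
    group
  obtain ⟨n, hn, hnx⟩ := isolated_conj_mem hiso ⟨1, by rw [hx, pow_one]⟩ h₁ hN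
  have hc : n * g⁻¹ ∈ Subgroup.centralizer ({x} : Set G) :=
    Subgroup.mem_centralizer_singleton_iff.mpr (mul_inv_eq_iff_eq_mul.mp hnx)
  refine ⟨(n * g⁻¹)⁻¹, inv_mem hc, le_antisymm ?_ ?_⟩
  · rintro _ ⟨s, hs, rfl⟩
    show (n * g⁻¹)⁻¹ * s * ((n * g⁻¹)⁻¹)⁻¹ ∈ (S₂ : Subgroup G)
    rw [show (n * g⁻¹)⁻¹ * s * ((n * g⁻¹)⁻¹)⁻¹ = g * (n⁻¹ * s * n⁻¹⁻¹) * g⁻¹ by group, ← hmem]
    exact (Subgroup.mem_normalizer_iff.mp (inv_mem hn) s).mp hs
  · intro t ht
    refine ⟨n * g⁻¹ * t * (n * g⁻¹)⁻¹, ?_, ?_⟩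
    · rw [show n * g⁻¹ * t * (n * g⁻¹)⁻¹ = n * (g⁻¹ * t * g) * n⁻¹ by group]
      refine (Subgroup.mem_normalizer_iff.mp hn _).mp ((hmem _).mpr ?_)
      rwa [show g * (g⁻¹ * t * g) * g⁻¹ = t by group]
    · show (n * g⁻¹)⁻¹ * (n * g⁻¹ * t * (n * g⁻¹)⁻¹) * ((n * g⁻¹)⁻¹)⁻¹ = t
      group

/-- No `q`-subgroup is normal in a minimal counterexample, `q ≠ p`. -/
theorem inZStar_of_normal_pgroup {q : ℕ} [Fact q.Prime] (hpq : q ≠ p) (Q : Subgroup G) [Q.Normal]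
    (hQ : IsPGroup q Q) (h : Cfsg.InZStar p (QuotientGroup.mk x : G ⧸ Q)) :
    Cfsg.InZStar p x := by
  obtain ⟨hn, hc⟩ := CfsgLib.Solvable.pPrimeCore_spec (p := p) (G := G ⧸ Q)
  have := hn
  set M := (Cfsg.pPrimeCore p (G ⧸ Q)).comap (QuotientGroup.mk' Q) with hMdef
  have hM : M ∈ {N : Subgroup G | N.Normal ∧ (Nat.card N).Coprime p} := by
    refine ⟨hn.comap _, ?_⟩
    have h1 : Nat.card M = Nat.card Q * Nat.card (Cfsg.pPrimeCore p (G ⧸ Q)) := by
      have e1 : M.index = (Cfsg.pPrimeCore p (G ⧸ Q)).index :=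
        Subgroup.index_comap_of_surjective _ (QuotientGroup.mk'_surjective Q)
      have e2 := M.card_mul_index
      rw [Subgroup.card_eq_card_quotient_mul_card_subgroup Q,
        ← (Cfsg.pPrimeCore p (G ⧸ Q)).card_mul_index, e1] at e2
      refine Nat.eq_of_mul_eq_mul_right (Subgroup.index_ne_zero_of_finite
        (H := Cfsg.pPrimeCore p (G ⧸ Q))).bot_lt (e2.trans (by ring))
    rw [h1]
    obtain ⟨k, hk⟩ := IsPGroup.iff_card.mp hQ
    refine Nat.Coprime.mul_left ?_ hc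
    rw [hk]
    exact Nat.Coprime.pow_left k ((Nat.coprime_primes Fact.out Fact.out).mpr hpq)
  intro g
  refine le_sSup hM ?_
  rw [hMdef, Subgroup.mem_comap, map_mul, map_mul, map_mul, map_inv, map_inv]
  exact h (QuotientGroup.mk g)

/-- A maximal invariant `q`-subgroup is trivial or a Sylow subgroup. -/
theorem isolated_maximal_invariant (hiso : Cfsg.IsIsolated x) (hx : orderOf x = p)
    (hnz : ¬ Cfsg.InZStar p x)
    (hmin : ∀ (H : Subgroup G) (hxH : x ∈ H), H ≠ ⊤ → Cfsg.InZStar p (⟨x, hxH⟩ : H))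
    (hquot : ∀ (N : Subgroup G) [N.Normal], N ≠ ⊥ → Cfsg.InZStar p (QuotientGroup.mk x : G ⧸ N))
    {q : ℕ} [Fact q.Prime] {Q : Subgroup G} (hQ : IsPGroup q Q)
    (hxQ : x ∈ Subgroup.normalizer (Q : Set G))
    (hmax : ∀ R : Subgroup G, IsPGroup q R → x ∈ Subgroup.normalizer (R : Set G) → Q ≤ R → R = Q) :
    Q = ⊥ ∨ ∃ S : Sylow q G, (S : Subgroup G) = Q := by
  by_cases hpq : q = p
  · subst hpq
    right
    have hz : IsPGroup q (Subgroup.zpowers x) := IsPGroup.of_card (n := 1) (by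
      rw [Nat.card_zpowers, hx, pow_one])
    have hle : Subgroup.zpowers x ≤ Subgroup.normalizer (Q : Set G) :=
      Subgroup.zpowers_le.mpr hxQ
    have hU := hmax _ (IsPGroup.to_sup_of_normal_right' hz hQ hle)
      (Subgroup.le_normalizer (Subgroup.mem_sup_left (Subgroup.mem_zpowers x))) le_sup_right
    have hxQ' : x ∈ Q := hU ▸ Subgroup.mem_sup_left (Subgroup.mem_zpowers x)
    obtain ⟨S, hS⟩ := hQ.exists_le_sylow
    exact ⟨S, hmax _ S.isPGroup' (Subgroup.le_normalizer (hS hxQ')) hS⟩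
  by_cases hQ1 : Q = ⊥
  · exact Or.inl hQ1
  right
  have hN : Subgroup.normalizer (Q : Set G) ≠ ⊤ := fun htop => by
    haveI : Q.Normal := Subgroup.normalizer_eq_top_iff.mp htop
    exact hnz (inZStar_of_normal_pgroup hpq Q hQ (hquot Q hQ1))
  set N := Subgroup.normalizer (Q : Set G) with hNdef
  have hz := hmin N hxQ hN
  obtain ⟨hOn, hOc⟩ := CfsgLib.Solvable.pPrimeCore_spec (p := p) (G := N)
  set O := (Cfsg.pPrimeCore p N).map N.subtype with hOdef
  have hQN : Q ≤ N := Subgroup.le_normalizer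
  obtain ⟨R, hR⟩ := (hQ.comap_subtype (K := N)).exists_le_sylow
  set R' := (R : Subgroup N).map N.subtype with hR'
  have hQR : Q ≤ R' := fun a ha => ⟨⟨a, hQN ha⟩, hR ha, rfl⟩
  have hON : N ≤ Subgroup.normalizer (O : Set G) := by
    intro g hg
    refine Subgroup.mem_normalizer_iff.mpr fun h => ⟨?_, ?_⟩
    · rintro ⟨a, ha, rfl⟩
      exact ⟨⟨g, hg⟩ * a * ⟨g, hg⟩⁻¹, hOn.conj_mem a ha _, rfl⟩
    · rintro ⟨a, ha, e⟩
      refine ⟨⟨g, hg⟩⁻¹ * a * (⟨g, hg⟩ : N)⁻¹⁻¹, hOn.conj_mem a ha _, ?_⟩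
      show g⁻¹ * (a : G) * g⁻¹⁻¹ = h
      rw [show (a : G) = g * h * g⁻¹ from e]
      group
  set L := R' ⊔ O with hL
  have hLN : R' ≤ Subgroup.normalizer (O : Set G) := (Subgroup.map_subtype_le _).trans hON
  have hcard : (Nat.card L).Coprime p := by
    have h1 := CfsgLib.Solvable.card_sup_mul_card_inf hLN
    have h2 : (Nat.card R' * Nat.card O).Coprime p := by
      refine Nat.Coprime.mul_left ?_ ?_
      · obtain ⟨k, hk⟩ := IsPGroup.iff_card.mp (R.isPGroup'.map N.subtype)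
        rw [hR', hk]
        exact Nat.Coprime.pow_left k ((Nat.coprime_primes Fact.out Fact.out).mpr hpq)
      · rw [hOdef, Subgroup.card_map_of_injective N.subtype_injective]
        exact hOc
    exact Nat.Coprime.coprime_dvd_left (Dvd.intro _ h1) h2
  have hcomm : ∀ n ∈ N, n * x * n⁻¹ * x⁻¹ ∈ O := fun n hn => ⟨_, hz ⟨n, hn⟩, rfl⟩
  have hxL : Subgroup.zpowers x ≤ Subgroup.normalizer (L : Set G) := by
    have key : ∀ z ∈ N, (∀ r ∈ R', z * r * z⁻¹ * r⁻¹ ∈ O) → ∀ l ∈ L, z * l * z⁻¹ ∈ L := by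
      intro z hz' hzr l hl
      rw [hL, ← SetLike.mem_coe, Subgroup.coe_mul_of_left_le_normalizer_right _ _ hLN] at hl
      obtain ⟨r, hr, o, ho, rfl⟩ := hl
      rw [show z * (r * o) * z⁻¹ = (z * r * z⁻¹ * r⁻¹) * r * (z * o * z⁻¹) by group]
      exact mul_mem (mul_mem (Subgroup.mem_sup_right (hzr r hr)) (Subgroup.mem_sup_left hr))
        (Subgroup.mem_sup_right ((Subgroup.mem_normalizer_iff.mp (hON hz') o).mp ho))
    refine Subgroup.zpowers_le.mpr (Subgroup.mem_normalizer_iff.mpr fun l => ⟨?_, ?_⟩)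
    · refine key x hxQ (fun r hr => ?_) l
      have := inv_mem (hcomm r (Subgroup.map_subtype_le _ hr))
      rwa [show (r * x * r⁻¹ * x⁻¹)⁻¹ = x * r * x⁻¹ * r⁻¹ by group] at this
    · intro hl
      have h := key x⁻¹ (inv_mem hxQ) (fun r hr => ?_) _ hl
      · rwa [show x⁻¹ * (x * l * x⁻¹) * x⁻¹⁻¹ = l by group] at h
      · have h1 := (Subgroup.mem_normalizer_iff.mp (hON (inv_mem hxQ)) _).mp
          (hcomm r (Subgroup.map_subtype_le _ hr))
        rwa [show x⁻¹ * (r * x * r⁻¹ * x⁻¹) * x⁻¹⁻¹ = x⁻¹ * r * x * r⁻¹ by group,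
          ← inv_inv x, show x⁻¹⁻¹⁻¹ = x⁻¹ by group] at h1
  obtain ⟨P, hQP, hPx⟩ := CfsgLib.CoprimeAct.exists_invariant_sylow_ge hxL
    (by rw [Nat.card_zpowers, hx]; exact hcard.symm)
    (Or.inl (Group.isSolvable_of_comm fun a b => mul_comm' a b)) q (hQR.trans le_sup_left) hQ (Subgroup.zpowers_le.mpr hxQ)
  have hPQ : (P : Subgroup L).map L.subtype = Q :=
    hmax _ (P.isPGroup'.map _) (hPx (Subgroup.mem_zpowers x)) hQP
  have hRQ : R' = Q := by
    refine (Subgroup.eq_of_le_of_card_ge hQR ?_).symm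
    obtain ⟨k, hk⟩ := IsPGroup.iff_card.mp (R.isPGroup'.map N.subtype)
    rw [← hPQ, Subgroup.card_map_of_injective L.subtype_injective, P.card_eq_multiplicity,
      ← hR'] at *
    rw [hk]
    refine Nat.pow_le_pow_right (Fact.out : q.Prime).pos ?_
    refine ((Fact.out : q.Prime).pow_dvd_iff_le_factorization Nat.card_pos.ne').mp ?_
    rw [← hk]
    exact Subgroup.card_dvd_of_le le_sup_left
  obtain ⟨S, hS⟩ := hQ.exists_le_sylow
  refine ⟨S, ?_⟩
  by_contra hne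
  obtain ⟨y, hyS, hyn, hyQ⟩ := exists_mem_normalizer_not_mem S.isPGroup' hS fun e => hne e.symm
  have hU : IsPGroup q (Subgroup.zpowers y) := S.isPGroup'.to_le (Subgroup.zpowers_le.mpr hyS)
  obtain ⟨m, hm⟩ := MulAction.exists_smul_eq N (R : Sylow q N) R
  have hle : Q ⊔ Subgroup.zpowers y ≤ (S : Subgroup G) := sup_le hS (Subgroup.zpowers_le.mpr hyS)
  have hle' : (Q ⊔ Subgroup.zpowers y).subgroupOf N = (R : Subgroup N) :=
    R.is_maximal' ((S.isPGroup'.to_le hle).comap_subtype) (by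
      intro a ha
      have : (a : G) ∈ R' := ⟨a, ha, rfl⟩
      rw [hRQ] at this
      exact Subgroup.mem_sup_left this)
  have : y ∈ R' := ⟨⟨y, hyn⟩, hle' ▸ (Subgroup.mem_sup_right (Subgroup.mem_zpowers y)), rfl⟩
  rw [hRQ] at this
  exact hyQ this

end CfsgLib.LocalB
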