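import Cfsg.Agent.CharP.Subnormal
import Cfsg.Agent.Comp.Basic
import Cfsg.Agent.LocalB.ChermakDelgado
import Cfsg.Agent.Solvable.CoprimeAct
import Cfsg.Agent.Solvable.Basics
import Mathlib.GroupTheory.Sylow

/-!
The group modulo its `p`-core for an isolated `p`-minimal subgroup: the normal closure `Y` of the
residual `A` of the isolated subgroup is either `A` itself, a `t`-group of class at most two, or a
layer whose components are transitively permuted by the Sylow subgroup.
-/

set_option autoImplicit false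
set_option linter.style.haveILetI false

namespace CfsgLib.Isolated

open Subgroup
open scoped commutatorElement Pointwise

variable {H : Type*} [Group H] [Finite H] {p : ℕ} [Fact p.Prime]

/-- The configuration in `H = G / O_p(G)`. -/
structure Setting (p : ℕ) [Fact p.Prime] (S L Q A Y : Subgroup H) : Prop where
  hS : IsPGroup p S
  hOp : Cfsg.pCore p H = ⊥
  hSL : S ≤ L
  hQS : Q ≤ S
  hLQ : L ≤ normalizer (Q : Set H)
  hA : ¬ A ≤ L
  hSA : S ≤ normalizer (A : Set H)
  hAQ : A ≤ normalClosure (Q : Set H)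
  hY : Y = normalClosure (A : Set H)
  hYL : Y ⊔ L = ⊤
  gen : ∀ X : Subgroup H, S ≤ X → X ≤ (X ⊓ L) ⊔ A
  dich : ∀ X : Subgroup H, S ≤ X → ¬ X ≤ L → A ≤ X
  strip : ∀ N : Subgroup H, S ≤ normalizer (N : Set H) → A ≤ N ⊔ S → A ≤ N

variable {S L Q A Y : Subgroup H}

theorem normal_Y (D : Setting p S L Q A Y) : Y.Normal := by rw [D.hY]; infer_instance

theorem A_le_Y (D : Setting p S L Q A Y) : A ≤ Y := by rw [D.hY]; exact subset_normalClosure

theorem S_le_nY (D : Setting p S L Q A Y) : S ≤ normalizer (Y : Set H) := by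
  haveI := normal_Y D
  exact le_normalizer_of_normal

theorem commutator_eq_bot_of_le (D : Setting p S L Q A Y) {N : Subgroup H} (hN : N.IsSubnormal) (hNL : N ≤ L)
    (hQN : Q ≤ normalizer (N : Set H)) : ⁅N, Q⁆ = ⊥ := by
  have hNQ : N ≤ normalizer (Q : Set H) := hNL.trans D.hLQ
  have hle : ⁅N, Q⁆ ≤ N ⊓ Q :=
    le_inf (le_normalizer_iff_commutator_le_left.1 hQN) (le_normalizer_iff_commutator_le_right.1 hNQ)
  have hn : N ≤ normalizer ((N ⊓ Q : Subgroup H) : Set H) :=
    (le_inf Subgroup.le_normalizer hNQ).trans inf_normalizer_le_normalizer_inf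
  have hsub : (N ⊓ Q).IsSubnormal := IsSubnormal.step _ _ inf_le_left hN
    ((normal_subgroupOf_iff_le_normalizer inf_le_left).2 hn)
  have hbot := CfsgLib.CharP.subnormal_pGroup_le_pCore hsub ((D.hS.to_le D.hQS).to_le inf_le_right)
  rw [D.hOp] at hbot
  exact le_bot_iff.1 (hle.trans hbot)

/-- `normalClosure Q` lies in every subgroup containing the `Y`-conjugates of `Q`. -/
theorem Y_le_of_conj (D : Setting p S L Q A Y) {W : Subgroup H}
    (h : ∀ y ∈ Y, ∀ q ∈ Q, y * q * y⁻¹ ∈ W) : normalClosure (Q : Set H) ≤ W := by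
  rw [normalClosure, closure_le]
  intro x hx
  rw [Group.mem_conjugatesOfSet_iff] at hx
  obtain ⟨q, hq, hc⟩ := hx
  obtain ⟨c, rfl⟩ := isConj_iff.1 hc
  haveI := normal_Y D
  obtain ⟨y, hy, l, hl, rfl⟩ := mem_sup_of_normal_left.1 (D.hYL.ge (mem_top c))
  have := h y hy _ ((mem_normalizer_iff.1 (D.hLQ hl) q).1 hq)
  simpa [mul_assoc] using this

theorem normal_le_L (D : Setting p S L Q A Y) {N : Subgroup H} (hN : N.Normal) (hAN : ¬ A ≤ N) : N ≤ L := by
  by_contra h
  refine hAN (D.strip N le_normalizer_of_normal ?_)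
  exact D.dich _ le_sup_right fun h' => h (le_sup_left.trans h')

theorem central_of_normal (D : Setting p S L Q A Y) {N : Subgroup H} (hN : N.Normal) (hNL : N ≤ L) :
    Y ≤ centralizer (N : Set H) := by
  haveI := hN
  have h1 : Q ≤ centralizer (N : Set H) := by
    have := commutator_eq_bot_of_le D hN.isSubnormal hNL le_normalizer_of_normal
    rw [commutator_comm] at this
    exact commutator_eq_bot_iff_le_centralizer.1 this
  have h2 : normalClosure (Q : Set H) ≤ centralizer (N : Set H) := normalClosure_le_normal h1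
  rw [D.hY]
  exact normalClosure_le_normal (D.hAQ.trans h2)

theorem proper_central (D : Setting p S L Q A Y) {N : Subgroup H} (hN : N.Normal) (hNY : N ≤ Y) (hne : N ≠ Y) :
    N ≤ L ∧ Y ≤ centralizer (N : Set H) := by
  have h : N ≤ L := normal_le_L D hN fun hA => by
    haveI := hN
    refine hne (le_antisymm hNY ?_)
    rw [D.hY]
    exact normalClosure_le_normal hA
  exact ⟨h, central_of_normal D hN h⟩

theorem Y_not_le (D : Setting p S L Q A Y) : ¬ Y ≤ L := fun h => D.hA ((A_le_Y D).trans h)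

theorem derived_normal (D : Setting p S L Q A Y) : (⁅Y, Y⁆ : Subgroup H).Normal := by
  haveI := normal_Y D
  infer_instance

theorem derived_central (D : Setting p S L Q A Y) (hne : ⁅Y, Y⁆ ≠ Y) : ⁅⁅Y, Y⁆, Y⁆ = ⊥ := by
  obtain ⟨-, h⟩ := proper_central D (derived_normal D) (commutator_le_self Y) hne
  rw [commutator_comm]
  exact commutator_eq_bot_iff_le_centralizer.2 h

theorem not_dvd_of_derived_ne (D : Setting p S L Q A Y) (hne : ⁅Y, Y⁆ ≠ Y) : ¬ p ∣ Nat.card Y := by
  haveI hYn := normal_Y D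
  haveI : Group.IsNilpotent Y := by
    refine Subgroup.isNilpotent_iff_lowerCentralSeries Y |>.2 ⟨2, ?_⟩
    show ⁅⁅Y, Y⁆, Y⁆ = ⊥
    exact derived_central D hne
  intro hd
  obtain ⟨R⟩ := (inferInstance : Nonempty (Sylow p Y))
  haveI : (R : Subgroup Y).Normal := Sylow.normal_of_normalizerCondition (normalizerCondition_of_isNilpotent) R
  haveI : (R : Subgroup Y).Characteristic := Sylow.characteristic_of_normal R inferInstance
  have hn : ((R : Subgroup Y).map Y.subtype).Normal := inferInstance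
  have h1 := Solvable.le_pCore p hn (R.2.map _)
  rw [D.hOp, le_bot_iff, map_eq_bot_iff_of_injective _ Y.subtype_injective] at h1
  exact R.ne_bot_of_dvd_card hd h1

theorem exists_pGroup (D : Setting p S L Q A Y) (hpY : ¬ p ∣ Nat.card Y) :
    ∃ t : ℕ, t.Prime ∧ t ≠ p ∧ IsPGroup t Y := by
  classical
  haveI hYn := normal_Y D
  have hYp : (Nat.card Y).Coprime p := ((Fact.out : p.Prime).coprime_iff_not_dvd.2 hpY).symm
  have hcop : (Nat.card S).Coprime (Nat.card Y) := by
    obtain ⟨k, hk⟩ := D.hS.exists_card_eq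
    rw [hk]; exact hYp.symm.pow_left k
  have hdisj : Y ⊓ Q = ⊥ := by
    refine Subgroup.inf_eq_bot_of_coprime ?_
    obtain ⟨k, hk⟩ := (D.hS.to_le D.hQS).exists_card_eq
    rw [hk]; exact hYp.pow_right k
  haveI : Group.IsNilpotent S := D.hS.isNilpotent
  haveI : Group.IsSolvable S := IsNilpotent.to_isSolvable
  -- invariant Sylow subgroups
  have hinv : ∀ t : ℕ, t.Prime → ∃ X : Subgroup H, X ≤ Y ∧ S ≤ normalizer (X : Set H) ∧
      IsPGroup t X ∧ ∀ k, t ^ k ∣ Nat.card Y → t ^ k ∣ Nat.card X := by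
    intro t ht
    haveI := Fact.mk ht
    obtain ⟨R, hR⟩ := CoprimeAct.exists_invariant_sylow (S_le_nY D) hcop (Or.inl inferInstance) t
    refine ⟨(R : Subgroup Y).map Y.subtype, map_subtype_le _, hR, R.2.map _, fun k hk => ?_⟩
    rw [card_map_of_injective Y.subtype_injective]
    exact R.pow_dvd_card_of_pow_dvd_card hk
  choose X hXY hXS hXp hXd using hinv
  have hXdich : ∀ t (ht : t.Prime), X t ht ≤ L ∨ A ≤ X t ht := by
    intro t ht
    by_cases h : X t ht ≤ L
    · exact Or.inl h
    · exact Or.inr (D.strip _ (hXS t ht) (D.dich _ le_sup_right fun h' => h (le_sup_left.trans h')))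
  have hAY : A ≤ Y := A_le_Y D
  have hex : ∃ t, ∃ ht : Nat.Prime t, A ≤ X t ht := by
    by_contra h
    push Not at h
    refine Y_not_le D ?_
    have hdvd : Nat.card Y ∣ Nat.card (Y ⊓ L : Subgroup H) := by
      rw [Nat.dvd_iff_prime_pow_dvd_dvd]
      intro t k ht hk
      exact (hXd t ht k hk).trans (card_dvd_of_le (le_inf (hXY t ht) ((hXdich t ht).resolve_right (h t ht))))
    have := Subgroup.eq_of_le_of_card_ge (inf_le_left : Y ⊓ L ≤ Y) (Nat.le_of_dvd Nat.card_pos hdvd)
    exact inf_eq_left.1 this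
  obtain ⟨t, ht, hAt⟩ := hex
  refine ⟨t, ht, ?_, ?_⟩
  · rintro rfl
    have hbot : A = ⊥ := by
      have h1 : Nat.card A ∣ Nat.card Y := card_dvd_of_le hAY
      obtain ⟨k, hk⟩ := ((hXp _ ht).to_le hAt).exists_card_eq
      rcases k with _ | k
      · exact Subgroup.card_eq_one.1 (by rw [hk, pow_zero])
      · exact absurd ((dvd_pow_self _ k.succ_ne_zero).trans (hk ▸ h1)) hpY
    exact D.hA (hbot ▸ bot_le)
  set X0 := X t ht
  set C := Y ⊓ centralizer (Q : Set H)
  have hother : ∀ s (hs : s.Prime), s ≠ t → X s hs ≤ C := by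
    intro s hs hst
    refine le_inf (hXY s hs) ?_
    have hL : X s hs ≤ L := (hXdich s hs).resolve_right fun hA => by
      have : A = ⊥ := le_bot_iff.1 ((le_inf hA hAt).trans (le_of_eq (Subgroup.inf_eq_bot_of_coprime (by
        haveI := Fact.mk hs; haveI := Fact.mk ht
        exact IsPGroup.coprime_card_of_ne s t hst (X s hs) X0 (hXp s hs) (hXp t ht)))))
      exact D.hA (this ▸ bot_le)
    refine commutator_eq_bot_iff_le_centralizer.1 (le_bot_iff.1 (hdisj ▸ le_inf ?_ ?_))
    · exact (commutator_mono (hXY s hs) le_rfl).trans (commutator_le_left Y Q)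
    · exact le_normalizer_iff_commutator_le_right.1 (hL.trans D.hLQ)
  -- `Y = X0 C` as sets
  have hset : (Y : Set H) ⊆ (X0 : Set H) * (C : Set H) := by
    have hsub : ((X0 : Set H) * (C : Set H)) ⊆ Y := by
      rintro _ ⟨a, ha, c, hc, rfl⟩
      exact Y.mul_mem (hXY t ht ha) hc.1
    refine (Set.eq_of_subset_of_ncard_le hsub ?_ (Set.toFinite _)).ge
    have hmul := CfsgLib.LocalB.CD.ncard_mul X0 C
    have hdvd : Nat.card Y ∣ ((X0 : Set H) * (C : Set H)).ncard := by
      rw [Nat.dvd_iff_prime_pow_dvd_dvd]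
      intro s k hs hk
      rcases Nat.eq_zero_or_pos k with rfl | hk0
      · simp
      haveI := Fact.mk ht
      obtain ⟨i, hi⟩ := ((hXp t ht).to_le (inf_le_left : X0 ⊓ C ≤ X0)).exists_card_eq
      have h2 : s ^ k ∣ ((X0 : Set H) * (C : Set H)).ncard * Nat.card (X0 ⊓ C : Subgroup H) := by
        rw [hmul]
        by_cases hst : s = t
        · subst hst; exact (hXd s hs k hk).mul_right _
        · exact ((hXd s hs k hk).trans (card_dvd_of_le (hother s hs hst))).mul_left _
      by_cases hst : s = t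
      · subst hst
        obtain ⟨j, hj⟩ : ∃ j, Nat.card C = Nat.card (X0 ⊓ C : Subgroup H) * j := card_dvd_of_le inf_le_right
        have h3 : ((X0 : Set H) * (C : Set H)).ncard = Nat.card X0 * j := by
          apply Nat.eq_of_mul_eq_mul_right (Nat.card_pos (α := (X0 ⊓ C : Subgroup H)))
          rw [hmul, hj]; ring
        rw [h3]
        exact (hXd s hs k hk).mul_right _
      · rw [hi] at h2
        exact (((Nat.coprime_primes hs ht).2 hst).pow k i).dvd_of_dvd_mul_right h2
    rw [← Nat.card_coe_set_eq]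
    refine Nat.le_of_dvd ?_ hdvd
    exact (Set.ncard_pos (Set.toFinite _)).2 ⟨1 * 1, 1, X0.one_mem, 1, C.one_mem, rfl⟩
  have hle : normalClosure (Q : Set H) ≤ X0 ⊔ Q := by
    refine Y_le_of_conj D fun y hy q hq => ?_
    obtain ⟨a, ha, c, hc, rfl⟩ := hset hy
    have : a * c * q * (a * c)⁻¹ = a * q * a⁻¹ := by
      calc a * c * q * (a * c)⁻¹ = a * (c * q * c⁻¹) * a⁻¹ := by group
        _ = a * q * a⁻¹ := by rw [← mem_centralizer_iff.1 hc.2 q hq, mul_inv_cancel_right]
    rw [this]
    exact mul_mem (mul_mem (mem_sup_left ha) (mem_sup_right hq)) (inv_mem (mem_sup_left ha))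
  have hYX : Y ≤ X0 := by
    intro y hy
    have hy' : y ∈ normalClosure (Q : Set H) := by
      rw [D.hY] at hy
      exact normalClosure_le_normal D.hAQ hy
    have hy2 := hle hy'
    rw [← SetLike.mem_coe, Subgroup.coe_mul_of_right_le_normalizer_left _ _ (D.hQS.trans (hXS t ht))] at hy2
    obtain ⟨a, ha, q, hq, rfl⟩ := hy2
    have hqY : q ∈ Y ⊓ Q := ⟨(Y.mul_mem_cancel_left (hXY t ht ha)).1 hy, hq⟩
    rw [hdisj, mem_bot] at hqY
    show a * q ∈ X0
    rw [hqY, mul_one]
    exact ha
  exact (hXp t ht).to_le hYX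

/-- The solvable case. -/
theorem small_case (D : Setting p S L Q A Y) (hne : ⁅Y, Y⁆ ≠ Y) : Y = A := by
  classical
  haveI hYn := normal_Y D
  have hAY : A ≤ Y := A_le_Y D
  have hdisj : ∀ x ∈ Y, x ∈ S → x = 1 := by
    intro x hx hxS
    have h : Y ⊓ S = ⊥ := Subgroup.inf_eq_bot_of_coprime (by
      obtain ⟨k, hk⟩ := D.hS.exists_card_eq
      rw [hk]
      exact (((Fact.out : p.Prime).coprime_iff_not_dvd.2 (not_dvd_of_derived_ne D hne)).symm).pow_right k)
    exact mem_bot.1 (h ▸ ⟨hx, hxS⟩)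
  set U := Y ⊓ L
  have hd : ⁅Y, Y⁆ ≤ U := le_inf (commutator_le_self Y) (proper_central D (derived_normal D) (commutator_le_self Y) hne).1
  have hUn : U.Normal := by
    refine normalizer_eq_top_iff.1 (top_le_iff.1 (D.hYL.ge.trans (sup_le ?_ ?_)))
    · exact le_normalizer_iff_commutator_le_left.2 ((commutator_mono inf_le_left le_rfl).trans hd)
    · exact (le_inf le_normalizer_of_normal le_normalizer).trans inf_normalizer_le_normalizer_inf
  obtain ⟨-, hUc⟩ := proper_central D hUn inf_le_left fun h => Y_not_le D (h ▸ inf_le_right)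
  have hSU : S ≤ normalizer (U : Set H) := le_normalizer_of_normal
  have hgen := D.gen (Y ⊔ S) le_sup_right
  have hAU : A ≤ normalizer (U : Set H) := le_normalizer_of_normal
  have hYAU : ∀ y ∈ Y, ∃ a ∈ A, ∃ u ∈ U, y = a * u := by
    intro y hy
    have hsub : (Y ⊔ S) ⊓ L ≤ U ⊔ S := by
      rintro x ⟨hx, hxL⟩
      obtain ⟨a, ha, s, hs, rfl⟩ := mem_sup_of_normal_left.1 hx
      exact mul_mem_sup ⟨ha, (L.mul_mem_cancel_right (D.hSL hs)).1 hxL⟩ hs
    have h2 : y ∈ (A ⊔ U) ⊔ S := by
      refine (hgen.trans ?_) (mem_sup_left hy)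
      exact sup_le (hsub.trans (sup_le (le_sup_right.trans le_sup_left) le_sup_right)) (le_sup_left.trans le_sup_left)
    haveI := hUn
    have hSAU : S ≤ normalizer ((A ⊔ U : Subgroup H) : Set H) := fun s hs => by
      rw [mem_normalizer_iff_map_conj_eq, Subgroup.map_sup, mem_normalizer_iff_map_conj_eq.1 (D.hSA hs),
        mem_normalizer_iff_map_conj_eq.1 (hSU hs)]
    rw [← SetLike.mem_coe, Subgroup.coe_mul_of_right_le_normalizer_left _ _ hSAU] at h2
    obtain ⟨w, hw, s, hs, rfl⟩ := h2
    have hwY : w ∈ Y := (sup_le hAY (inf_le_left : U ≤ Y)) hw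
    rw [hdisj s ((Y.mul_mem_cancel_left hwY).1 hy) hs]
    simp only [mul_one]
    obtain ⟨a, ha, u, hu, rfl⟩ := mem_sup_of_normal_right.1 hw
    exact ⟨a, ha, u, hu, rfl⟩
  have hUQ : ⁅U, Q⁆ = ⊥ := commutator_eq_bot_of_le D hUn.isSubnormal inf_le_right le_normalizer_of_normal
  have hQA : Q ≤ normalizer (A : Set H) := D.hQS.trans D.hSA
  have hle : normalClosure (Q : Set H) ≤ A ⊔ Q := by
    refine Y_le_of_conj D fun y hy q hq => ?_
    obtain ⟨a, ha, u, hu, rfl⟩ := hYAU y hy
    have huq : u * q * u⁻¹ = q := by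
      rw [← mem_centralizer_iff.1 ((commutator_eq_bot_iff_le_centralizer.1 hUQ) hu) q hq, mul_inv_cancel_right]
    rw [show a * u * q * (a * u)⁻¹ = a * (u * q * u⁻¹) * a⁻¹ by group, huq]
    exact mul_mem (mul_mem (mem_sup_left ha) (mem_sup_right hq)) (inv_mem (mem_sup_left ha))
  refine le_antisymm (fun y hy => ?_) hAY
  have hy' : y ∈ normalClosure (Q : Set H) := by
    rw [D.hY] at hy
    exact normalClosure_le_normal D.hAQ hy
  have hy2 := hle hy'
  rw [← SetLike.mem_coe, Subgroup.coe_mul_of_right_le_normalizer_left _ _ hQA] at hy2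
  obtain ⟨a, ha, q, hq, rfl⟩ := hy2
  show a * q ∈ A
  rw [hdisj q ((Y.mul_mem_cancel_left (hAY ha)).1 hy) (D.hQS hq), mul_one]
  exact ha

/-- The perfect case: `Y` is a layer. -/
theorem layer_eq_top (D : Setting p S L Q A Y) (hperf : ⁅Y, Y⁆ = Y) : Cfsg.layer ↥Y = ⊤ := by
  classical
  haveI hYn := normal_Y D
  have hnab : ¬ ∀ a ∈ Y, ∀ b ∈ Y, a * b = b * a := by
    intro h
    refine Y_not_le D ?_
    rw [← hperf, (commutator_eq_bot_iff_le_centralizer (H₁ := Y) (H₂ := Y)).2
      fun a ha => mem_centralizer_iff.2 fun b hb => h b hb a ha]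
    exact bot_le
  have key : ∀ W : Subgroup Y, W.Characteristic → W ≠ ⊤ → W ≤ center Y := by
    intro W hW hne
    haveI := hW
    have hn : (W.map Y.subtype).Normal := inferInstance
    obtain ⟨-, hc⟩ := proper_central D hn (map_subtype_le W) (fun h => hne (map_injective Y.subtype_injective
      (h.trans (by rw [← MonoidHom.range_eq_map, range_subtype]))))
    intro w hw
    rw [mem_center_iff]
    intro y
    exact Subtype.ext (mem_centralizer_iff.1 (hc y.2) _ (mem_map_of_mem _ hw)).symm
  by_contra hne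
  have hLc : Cfsg.layer ↥Y ≤ center Y := key _ (Comp.layer_characteristic) hne
  have hFc : Cfsg.fittingSubgroup ↥Y ≤ center Y := by
    refine key _ (Comp.fitting_characteristic) fun htop => ?_
    haveI := Comp.fitting_isSolvable (G := ↥Y)
    refine Y_not_le D ?_
    have hs : Group.IsSolvable ↥Y := by
      have : Group.IsSolvable ↥(⊤ : Subgroup Y) := htop ▸ inferInstance
      exact solvable_of_surjective (f := (topEquiv : (⊤ : Subgroup Y) ≃* Y).toMonoidHom) (MulEquiv.surjective _)
    by_cases hbot : Y = ⊥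
    · exact hbot.trans_le bot_le
    · haveI := (nontrivial_iff_ne_bot Y).2 hbot
      refine absurd (map_injective Y.subtype_injective ?_) (Group.IsSolvable.commutator_lt_top_of_nontrivial (↥Y)).ne
      rw [map_subtype_commutator, hperf, ← MonoidHom.range_eq_map, range_subtype]
  have hstar : Cfsg.generalizedFittingSubgroup ↥Y ≤ center Y := sup_le hLc hFc
  have h2 : (⊤ : Subgroup Y) ≤ center Y := fun y _ => hstar (Comp.centralizer_Fstar_le
    (mem_centralizer_iff.2 fun z hz => (mem_center_iff.1 (hstar hz) y).symm))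
  exact hnab fun a ha b hb => congrArg Subtype.val (mem_center_iff.1 (h2 (mem_top ⟨b, hb⟩)) ⟨a, ha⟩)

/-- Two components of `Y` are conjugate under `S`. -/
theorem transitive (D : Setting p S L Q A Y) (hperf : ⁅Y, Y⁆ = Y) {K₁ K₂ : Subgroup H}
    (h₁ : Cfsg.IsComponent K₁) (h₁Y : K₁ ≤ Y) (h₂ : Cfsg.IsComponent K₂) (h₂Y : K₂ ≤ Y) :
    ∃ s ∈ S, K₂ = K₁.map (MulAut.conj s).toMonoidHom := by
  classical
  haveI hYn := normal_Y D
  -- `Y` normalizes the components inside it
  have hYlayer : Y ≤ Cfsg.layer H := by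
    have h1 := layer_eq_top D hperf
    intro y hy
    have h2 : (⟨y, hy⟩ : Y) ∈ Cfsg.layer ↥Y := h1 ▸ mem_top _
    have h3 : (Cfsg.layer ↥Y).map Y.subtype ≤ Cfsg.layer H := by
      rw [map_le_iff_le_comap]
      exact Comp.layer_le fun M hM => map_le_iff_le_comap.1
        (Comp.component_le_layer (Comp.component_map_subtype hYn.isSubnormal hM))
    exact h3 (mem_map_of_mem _ h2)
  set W : Subgroup H → Subgroup H := fun K => ⨆ s : S, K.map (MulAut.conj (s : H)).toMonoidHom
  have hWS : ∀ K, S ≤ normalizer (W K : Set H) := by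
    intro K g hg
    refine mem_normalizer_fintype fun x hx => ?_
    have h : (W K).map (MulAut.conj g).toMonoidHom ≤ W K := by
      rw [Subgroup.map_iSup]
      refine iSup_le fun s => le_trans ?_ (le_iSup _ (⟨g, hg⟩ * s))
      rw [Subgroup.map_map]
      refine le_of_eq (congrArg (fun f => K.map f) (MonoidHom.ext fun y => ?_))
      simp [mul_assoc]
    exact h ⟨x, hx, rfl⟩
  have hKW : ∀ K, K ≤ W K := fun K => le_trans (show K ≤ K.map (MulAut.conj ((1 : S) : H)).toMonoidHom from fun x hx => ⟨x, hx, by simp⟩)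
    (le_iSup (fun s : S => K.map (MulAut.conj (s : H)).toMonoidHom) 1)
  have hWY : ∀ K, K ≤ Y → W K ≤ Y := fun K hK => iSup_le fun s => by
    rintro _ ⟨x, hx, rfl⟩; exact hYn.conj_mem x (hK hx) _
  have hYW : ∀ K, Cfsg.IsComponent K → Y ≤ normalizer (W K : Set H) := by
    intro K hK g hg
    rw [mem_normalizer_iff_map_conj_eq, Subgroup.map_iSup]
    refine iSup_congr fun s => ?_
    exact mem_normalizer_iff_map_conj_eq.1 (Comp.layer_le_normalizer_component (Comp.component_conj _ hK) (hYlayer hg))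
  have hA : ∀ K, Cfsg.IsComponent K → K ≤ Y → A ≤ W K := by
    intro K hK hKY
    by_cases h : W K ≤ L
    swap
    · exact D.strip _ (hWS K) (D.dich _ le_sup_right fun h' => h (le_sup_left.trans h'))
    exfalso
    have hsub : (W K).IsSubnormal := IsSubnormal.step _ _ (hWY K hKY) hYn.isSubnormal
      ((normal_subgroupOf_iff_le_normalizer (hWY K hKY)).2 (hYW K hK))
    have hc := commutator_eq_bot_iff_le_centralizer.1 (commutator_eq_bot_of_le D hsub h (D.hQS.trans (hWS K)))
    have hle : normalClosure (Q : Set H) ≤ centralizer (W K : Set H) := by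
      refine Y_le_of_conj D fun y hy q hq => mem_centralizer_iff.2 fun w hw => ?_
      have hw' : y⁻¹ * w * y ∈ W K := by
        simpa using (mem_normalizer_iff.1 (inv_mem (hYW K hK hy)) w).1 hw
      have h3 : q * (y⁻¹ * w * y) = (y⁻¹ * w * y) * q := mem_centralizer_iff.1 (hc hw') q hq
      calc w * (y * q * y⁻¹) = y * ((y⁻¹ * w * y) * q) * y⁻¹ := by group
        _ = y * (q * (y⁻¹ * w * y)) * y⁻¹ := by rw [h3]
        _ = _ := by group
    have hYc : Y ≤ centralizer (W K : Set H) := fun y hy => hle (by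
      rw [D.hY] at hy; exact normalClosure_le_normal D.hAQ hy)
    exact Comp.component_not_comm hK (commutator_eq_bot_iff_le_centralizer.2
      (fun x hx => centralizer_le (hKW K) (hYc (hKY hx))))
  by_contra hno
  push Not at hno
  -- the two orbits commute
  have hcomm : W K₁ ≤ centralizer (W K₂ : Set H) := by
    refine iSup_le fun s => le_centralizer_iff.1 (iSup_le fun r => le_centralizer_iff.1 ?_)
    refine commutator_eq_bot_iff_le_centralizer.1 ((Comp.component_eq_or_commute
      (Comp.component_conj _ h₁) (Comp.component_conj _ h₂)).resolve_left fun he => ?_)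
    refine hno ((r : H)⁻¹ * s) (mul_mem (inv_mem r.2) s.2) ?_
    calc K₂ = (K₂.map (MulAut.conj (r : H)).toMonoidHom).map (MulAut.conj (r : H)⁻¹).toMonoidHom := by
          rw [Subgroup.map_map]; ext x; simp [mul_assoc]
      _ = (K₁.map (MulAut.conj (s : H)).toMonoidHom).map (MulAut.conj (r : H)⁻¹).toMonoidHom := by rw [← he]
      _ = _ := by
          rw [Subgroup.map_map]
          exact congrArg (fun f => K₁.map f) (MonoidHom.ext fun y => by simp [mul_assoc])
  -- so `A` centralizes `Y`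
  have hAc : A ≤ centralizer (Y : Set H) := by
    rw [le_centralizer_iff]
    intro y hy
    have h2 : (⟨y, hy⟩ : Y) ∈ Cfsg.layer ↥Y := layer_eq_top D hperf ▸ mem_top _
    have h3 : (Cfsg.layer ↥Y).map Y.subtype ≤ centralizer (A : Set H) := by
      rw [map_le_iff_le_comap]
      refine Comp.layer_le fun M hM => map_le_iff_le_comap.1 ?_
      have hK := Comp.component_map_subtype hYn.isSubnormal hM
      set K := M.map Y.subtype
      -- `K` commutes with one of the two orbits
      have hK1 : ∀ K', Cfsg.IsComponent K' → (¬ ∃ s : S, K = K'.map (MulAut.conj (s : H)).toMonoidHom) →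
          K ≤ centralizer (W K' : Set H) := fun K' hK' hn => le_centralizer_iff.1 (iSup_le fun s =>
        le_centralizer_iff.1 (commutator_eq_bot_iff_le_centralizer.1
          ((Comp.component_eq_or_commute hK (Comp.component_conj _ hK')).resolve_left fun he => hn ⟨s, he⟩)))
      by_cases hin : ∃ s : S, K = K₁.map (MulAut.conj (s : H)).toMonoidHom
      · obtain ⟨s, hs⟩ := hin
        refine le_trans ?_ (centralizer_le (hA K₂ h₂ h₂Y))
        rw [hs]
        exact (le_iSup (fun s : S => K₁.map (MulAut.conj (s : H)).toMonoidHom) s).trans hcomm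
      · exact (hK1 K₁ h₁ hin).trans (centralizer_le (hA K₁ h₁ h₁Y))
    exact h3 (mem_map_of_mem _ h2)
  have hAc2 : Y ≤ centralizer (Y : Set H) := by
    conv_lhs => rw [D.hY]
    exact normalClosure_le_normal hAc
  exact Y_not_le D (hperf.symm.le.trans ((commutator_eq_bot_iff_le_centralizer.2 hAc2).le.trans bot_le))

theorem A_le_Fstar (D : Setting p S L Q A Y) : A ≤ Cfsg.generalizedFittingSubgroup H := by
  haveI hYn := normal_Y D
  by_cases hperf : ⁅Y, Y⁆ = Y
  · intro a ha
    have h2 : (⟨a, A_le_Y D ha⟩ : Y) ∈ Cfsg.layer ↥Y := layer_eq_top D hperf ▸ mem_top _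
    have h3 : (Cfsg.layer ↥Y).map Y.subtype ≤ Cfsg.layer H := by
      rw [map_le_iff_le_comap]
      exact Comp.layer_le fun M hM => map_le_iff_le_comap.1
        (Comp.component_le_layer (Comp.component_map_subtype hYn.isSubnormal hM))
    exact Comp.layer_le_Fstar (h3 (mem_map_of_mem _ h2))
  · have hnil : Group.IsNilpotent Y := by
      refine Subgroup.isNilpotent_iff_lowerCentralSeries Y |>.2 ⟨2, ?_⟩
      exact derived_central D hperf
    exact ((A_le_Y D).trans (Comp.le_fitting hYn hnil)).trans Comp.fitting_le_Fstar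

end CfsgLib.Isolated
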