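import Cfsg.Agent.LocalB.JPlane

/-! Two components with different overgroups do not commute. -/

set_option autoImplicit false
set_option linter.unusedVariables false
set_option linter.unusedSectionVars false

namespace CfsgLib.JComp

open Subgroup Cfsg CfsgLib
open scoped CfsgLib.Functor

variable {G : Type*} [Group G] [Finite G] {T L₁ L₂ K₁ K₂ : Subgroup G} {v₁ v₂ : G}

namespace OutComp

variable (o₁ : OutComp T K₁ L₁ v₁) (o₂ : OutComp T K₂ L₂ v₂)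
include o₁ o₂

theorem core_pair_eq_bot (hne : L₁ ≠ L₂) : pCoreOf 2 ((K₁ ⊔ T) ⊔ (K₂ ⊔ T)) = ⊥ := by
  have : Fact (Nat.Prime 2) := ⟨Nat.prime_two⟩
  by_contra h
  obtain ⟨N, hN, hle⟩ := exists_maximal_twoLocal
    (⟨_, Functor.isPGroup_pCoreOf _, h, rfl⟩ :
      IsTwoLocal (normalizer (pCoreOf 2 ((K₁ ⊔ T) ⊔ (K₂ ⊔ T)) : Set G)))
  have hP := (Functor.le_normalizer_pCoreOf 2 ((K₁ ⊔ T) ⊔ (K₂ ⊔ T))).trans hle
  refine hne ((o₁.unique N hN ?_).symm.trans (o₂.unique N hN ?_))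
  · exact (sup_le_sup_left (Thompson.thompsonSubgroupOf_le T) _).trans (le_sup_left.trans hP)
  · exact (sup_le_sup_left (Thompson.thompsonSubgroupOf_le T) _).trans (le_sup_right.trans hP)

theorem eq_bot_of_normalized (hne : L₁ ≠ L₂) {X : Subgroup G} (hXT : X ≤ T)
    (h₁ : K₁ ⊔ T ≤ normalizer (X : Set G)) (h₂ : K₂ ⊔ T ≤ normalizer (X : Set G)) : X = ⊥ := by
  have : Fact (Nat.Prime 2) := ⟨Nat.prime_two⟩
  rw [← le_bot_iff, ← o₁.core_pair_eq_bot o₂ hne]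
  exact Functor.le_pCoreOf (hXT.trans (le_sup_right.trans le_sup_left)) (_root_.sup_le h₁ h₂)
    (o₁.isP.to_le hXT)

theorem coreT_not_le (hne : L₁ ≠ L₂) : ¬ coreT T K₂ ≤ coreT T K₁ := by
  intro h
  have hc : Nat.card (coreT T K₁) = Nat.card (coreT T K₂) := by
    have h1 := o₁.card_T
    have h2 := o₂.card_T
    omega
  have he := eq_of_le_of_card_ge h hc.le
  have hb := o₁.eq_bot_of_normalized o₂ hne (X := coreT T K₁) inf_le_left o₁.normalizes_coreT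
    (he ▸ o₂.normalizes_coreT)
  exact o₁.ne_one (by
    have h' : v₁ ∈ coreT T K₁ := o₁.w_le_coreT o₁.memW
    rw [hb] at h'
    exact mem_bot.mp h')

theorem not_normalizes (hG : Hyp G) (hne : L₁ ≠ L₂) {y : G} (hy : y ∈ K₂)
    (hyQ : y ∉ pCoreOf 2 K₂) : y ∉ normalizer (wOf K₁ : Set G) := by
  intro h
  have hK₂ : K₂ ≤ L₁ := o₂.data.le_of_core_le (o₂.core_le.trans o₁.set.le) hy hyQ
    (o₁.normalizer_w_le hG h)
  exact hne (o₂.unique L₁ o₁.max
    (_root_.sup_le hK₂ ((Thompson.thompsonSubgroupOf_le T).trans o₁.set.le)))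

/-- If the modules commute then `K₂` centralizes `v₁`. -/
theorem fixes_of_commute (hG : Hyp G) (hne : L₁ ≠ L₂)
    (hc : wOf K₁ ≤ centralizer (wOf K₂ : Set G)) : K₂ ≤ centralizer ({v₁} : Set G) := by
  have : Fact (Nat.Prime 2) := ⟨Nat.prime_two⟩
  obtain ⟨y, hy, hyQ⟩ := o₂.data.exists_mem_not_core
  have hy3T : y ^ 3 ∈ T := o₂.core_le (o₂.cube_fix hy hyQ)
  suffices hfix : y * v₁ * y⁻¹ = v₁ from o₂.data.le_of_core_le
    (fun q hq => mem_centralizer_singleton_iff.mpr (o₁.v_comm (o₂.core_le hq))) hy hyQ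
    (mem_centralizer_singleton_iff.mpr (mul_inv_eq_iff_eq_mul.mp hfix))
  have hWQ : wOf K₁ ≤ coreT T K₂ := le_inf o₁.w_le hc
  have hmove : ∀ z ∈ K₂, ∀ x ∈ wOf K₁, z * x * z⁻¹ ∈ coreT T K₂ := fun z hz x hx =>
    o₂.conj_mem_coreT (mem_sup_left hz) (hWQ hx)
  have hnormW : ∀ z ∈ K₂, coreT T K₂ ≤ normalizer ((z ⋆ wOf K₁ : Subgroup G) : Set G) := by
    intro z hz q hq
    refine Functor.mem_normalizer_iff_cj.2 ?_
    rw [Functor.cj_cj, show q * z = z * (z⁻¹ * q * z) by group, ← Functor.cj_cj,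
      Functor.mem_normalizer_iff_cj.1 (o₁.norm_w ?_)]
    have h := o₂.conj_mem_coreT (mem_sup_left (inv_mem hz)) hq
    rw [inv_inv] at h
    exact h.1
  -- a non-commuting pair
  by_cases hpair : ∃ z, (z = y ∨ z = y⁻¹) ∧ ∃ x ∈ wOf K₁, ∃ u ∈ wOf K₁,
      x * (z * u * z⁻¹) ≠ z * u * z⁻¹ * x
  · obtain ⟨z, hz, x, hx, u, hu, hxu⟩ := hpair
    have hzK : z ∈ K₂ := by
      rcases hz with rfl | rfl
      · exact hy
      · exact inv_mem hy
    set b := z * u * z⁻¹ with hbdef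
    have hb : b ∈ T := (hmove z hzK u hu).1
    set c := x * b * x⁻¹ * b⁻¹ with hcdef
    have hc1 : c ≠ 1 := fun e => hxu (mul_inv_eq_iff_eq_mul.mp (mul_inv_eq_one.mp e))
    have hcv : c = v₁ := by
      rcases o₁.conj_cases hb (inv_mem hx) with h | h
      · refine absurd ?_ hc1
        rw [hcdef, show x * b * x⁻¹ * b⁻¹ = x * (b * x⁻¹ * b⁻¹) by group, h, mul_inv_cancel]
      · rw [hcdef, show x * b * x⁻¹ * b⁻¹ = x * (b * x⁻¹ * b⁻¹) by group, h, ← mul_assoc,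
          mul_inv_cancel, one_mul]
    have hx' : z⁻¹ * x * z ∈ T := by
      have := hmove z⁻¹ (inv_mem hzK) x hx
      rw [inv_inv] at this
      exact this.1
    have hcz : c = z * ((z⁻¹ * x * z) * u * (z⁻¹ * x * z)⁻¹ * u⁻¹) * z⁻¹ := by
      rw [hcdef, hbdef]; group
    rcases o₁.conj_cases hx' hu with h | h
    · exact absurd (by rw [hcz, h]; group) hc1
    · have hzv : z * v₁ * z⁻¹ = v₁ := by
        conv_rhs => rw [← hcv, hcz, h, o₁.v_comm (o₁.w_le hu), mul_inv_cancel_right]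
      rcases hz with rfl | rfl
      · exact hzv
      · calc y * v₁ * y⁻¹ = y * (y⁻¹ * v₁ * y⁻¹⁻¹) * y⁻¹ := by rw [hzv]
          _ = v₁ := by group
  simp only [not_exists, not_and, ne_eq, not_not] at hpair
  -- all three conjugates commute
  obtain ⟨A, hA, hAQ⟩ : ∃ A ∈ Thompson.maxIn 2 T, ¬ A ≤ coreT T K₂ := by
    by_contra h
    simp only [not_exists, not_and, not_not] at h
    obtain ⟨w, hw, hw1, hwv⟩ := o₂.data.exists_other v₂
    have hJ : thompsonSubgroupOf 2 T ≤ coreT T K₂ :=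
      (Thompson.thompsonSubgroupOf_eq (p := 2) T).le.trans (sSup_le h)
    exact (o₂.only w hw (mem_centralizer_iff.mpr fun j hj =>
      (mem_centralizer_iff.mp (hJ hj).2 w hw).symm)).elim hw1 hwv
  obtain ⟨a, haA, haQ⟩ := SetLike.not_le_iff_exists.mp hAQ
  have haT : a ∈ T := hA.1 haA
  set W' := y ⋆ wOf K₁ with hW'
  set W'' := y⁻¹ ⋆ wOf K₁ with hW''
  have hW'Q : W' ≤ coreT T K₂ := by rintro _ ⟨x, hx, rfl⟩; exact hmove y hy x hx
  have hW''Q : W'' ≤ coreT T K₂ := by rintro _ ⟨x, hx, rfl⟩; exact hmove y⁻¹ (inv_mem hy) x hx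
  have hcube : ∀ h : G, (h * y ^ 3) ⋆ wOf K₁ = h ⋆ wOf K₁ := fun h => by
    rw [← Functor.cj_cj, Functor.mem_normalizer_iff_cj.1 (o₁.norm_w hy3T)]
  have hswap : a ⋆ W' = W'' := by
    rw [hW', Functor.cj_cj, show a * y = (a * y * a⁻¹ * y) * y⁻¹ * a by group, ← Functor.cj_cj,
      Functor.mem_normalizer_iff_cj.1 (o₁.norm_w haT), ← Functor.cj_cj]
    exact Functor.mem_normalizer_iff_cj.1
      (hnormW y⁻¹ (inv_mem hy) (o₂.inverts haT haQ hy hyQ))
  have hyy : ∀ z : G, z ⋆ W' = (z * y) ⋆ wOf K₁ := fun z => by rw [hW', Functor.cj_cj]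
  by_cases hdis : W' ⊓ W'' = ⊥
  · exfalso
    have hcomm : W' ≤ centralizer (W'' : Set G) := by
      rintro _ ⟨x, hx, rfl⟩
      refine mem_centralizer_iff.mpr ?_
      rintro _ ⟨u, hu, rfl⟩
      show y⁻¹ * u * y⁻¹⁻¹ * (y * x * y⁻¹) = y * x * y⁻¹ * (y⁻¹ * u * y⁻¹⁻¹)
      have hu' : (y ^ 3)⁻¹ * u * y ^ 3 ∈ wOf K₁ := by
        simpa using (mem_normalizer_iff.mp (inv_mem (o₁.norm_w hy3T)) u).mp hu
      have h1 := hpair y (Or.inl rfl) x hx _ hu'
      calc y⁻¹ * u * y⁻¹⁻¹ * (y * x * y⁻¹)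
          = y * ((y * ((y ^ 3)⁻¹ * u * y ^ 3) * y⁻¹) * x) * y⁻¹ := by simp only [pow_succ, pow_zero, one_mul]; group
        _ = y * (x * (y * ((y ^ 3)⁻¹ * u * y ^ 3) * y⁻¹)) * y⁻¹ := by rw [h1]
        _ = y * x * y⁻¹ * (y⁻¹ * u * y⁻¹⁻¹) := by simp only [pow_succ, pow_zero, one_mul]; group
    have hWe : IsElementaryAbelian 2 W' := Thompson.elab_map _
      ⟨⟨⟨fun u w => Subtype.ext (mem_centralizer_iff.mp (o₁.w_abelian w.2) u u.2)⟩⟩,
        fun w hw => by rw [pow_two]; exact o₁.data.sq w hw⟩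
    have h4 : Nat.card W' ≤ 2 := card_le_two hWe hA.2.1 inf_le_left (o₂.relIndex_inf A hA.1 hAQ) haA
      (inf_le_right.trans (hnormW y hy)) (hswap ▸ hdis) (hswap ▸ hcomm)
      fun B hB hBe => hA.2.2 B (hB.trans (_root_.sup_le hA.1 (_root_.sup_le
        (hW'Q.trans inf_le_left) (hswap ▸ hW''Q.trans inf_le_left)))) hBe
    rw [hW', Functor.card_cj, o₁.data.card] at h4
    omega
  obtain ⟨x, hx, hx1⟩ := (nontrivial_iff_exists_ne_one _).mp ((nontrivial_iff_ne_bot _).mpr hdis)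
  obtain ⟨hxy, hxy'⟩ := hx
  have hxy1 : y⁻¹ * x * y ∈ wOf K₁ := Functor.mem_cj.mp hxy
  have hxy2 : y * x * y⁻¹ ∈ wOf K₁ := by simpa using Functor.mem_cj.mp hxy'
  set e := y * x * y⁻¹ with hedef
  set e' := y⁻¹ * x * y with he'def
  have heW'' : e ∈ W'' := by
    refine Functor.mem_cj.mpr ?_
    have h1 : (y ^ 3) * (y⁻¹ * x * y) * (y ^ 3)⁻¹ ∈ wOf K₁ :=
      (mem_normalizer_iff.mp (o₁.norm_w hy3T) _).mp hxy1
    convert h1 using 1
    rw [hedef]; simp only [pow_succ, pow_zero, one_mul]; group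
  have he'W' : e' ∈ W' := by
    refine Functor.mem_cj.mpr ?_
    have h1 : (y ^ 3)⁻¹ * (y * x * y⁻¹) * (y ^ 3) ∈ wOf K₁ := by
      simpa using (mem_normalizer_iff.mp (inv_mem (o₁.norm_w hy3T)) _).mp hxy2
    convert h1 using 1
    rw [he'def]; simp only [pow_succ, pow_zero, one_mul]; group
  have he1 : e ≠ 1 := fun h => hx1 (conj_eq_one_iff.mp h)
  have he'1 : e' ≠ 1 := fun h => hx1 (by
    rw [show x = y * e' * y⁻¹ by rw [he'def]; group, h]; group)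
  have huniq : ∀ z ∈ K₂, z ∉ pCoreOf 2 K₂ → ∀ p q : G, p ∈ wOf K₁ → q ∈ wOf K₁ → p ∈ z ⋆ wOf K₁ →
      q ∈ z ⋆ wOf K₁ → p ≠ 1 → q ≠ 1 → p = q := by
    intro z hz hzQ p q hp hq hp' hq' hp1 hq1
    by_contra hpq
    refine o₁.not_normalizes o₂ hG hne hz hzQ (Functor.mem_normalizer_iff_cj.2 ?_)
    refine (eq_of_le_of_card_ge (fun u hu => ?_) (Functor.card_cj z _).le).symm
    rcases o₁.data.mem_w_cases hp hq hp1 hq1 hpq hu with h | h | h | h
    · rw [h]; exact one_mem _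
    · rw [h]; exact hp'
    · rw [h]; exact hq'
    · rw [h]; exact mul_mem hp' hq'
  have hyiQ : y⁻¹ ∉ pCoreOf 2 K₂ := fun h => hyQ (by simpa using inv_mem h)
  have hQfix : ∀ q ∈ coreT T K₂, q * e * q⁻¹ = e ∧ q * e' * q⁻¹ = e' := fun q hq =>
    ⟨huniq y⁻¹ (inv_mem hy) hyiQ _ _ ((mem_normalizer_iff.mp (o₁.norm_w hq.1) e).mp hxy2) hxy2
        ((mem_normalizer_iff.mp (hnormW y⁻¹ (inv_mem hy) hq) e).mp heW'') heW''
        (fun h => he1 (conj_eq_one_iff.mp h)) he1,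
      huniq y hy hyQ _ _ ((mem_normalizer_iff.mp (o₁.norm_w hq.1) e').mp hxy1) hxy1
        ((mem_normalizer_iff.mp (hnormW y hy hq) e').mp he'W') he'W'
        (fun h => he'1 (conj_eq_one_iff.mp h)) he'1⟩
  have hee : e = e' := by
    by_contra hee
    refine o₁.coreT_not_le o₂ hne fun q hq => ⟨hq.1, mem_centralizer_iff.mpr fun u hu => ?_⟩
    obtain ⟨h1, h2⟩ := hQfix q hq
    have c1 : Commute e q := (mul_inv_eq_iff_eq_mul.mp h1).symm
    have c2 : Commute e' q := (mul_inv_eq_iff_eq_mul.mp h2).symm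
    rcases o₁.data.mem_w_cases hxy2 hxy1 he1 he'1 hee hu with h | h | h | h
    · rw [h]; simp
    · rw [h]; exact c1.eq
    · rw [h]; exact c2.eq
    · rw [h]; exact (c1.mul_left c2).eq
  -- `y` fixes `e`
  have hy2e : y * y * e * (y * y)⁻¹ = e := by
    conv_lhs => rw [hee, he'def]
    rw [hedef]; group
  have hy3e : y ^ 3 * e * (y ^ 3)⁻¹ = e :=
    (hQfix _ ⟨hy3T, mem_centralizer_iff.mpr fun u hu =>
      (mem_centralizer_iff.mp (wOf_le_centralizer_core K₂ hu) _ (o₂.cube_fix hy hyQ)).symm⟩).1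
  have hye : y * e * y⁻¹ = e := by
    conv_rhs => rw [← hy3e]
    calc y * e * y⁻¹ = y * (y * y * e * (y * y)⁻¹) * y⁻¹ := by rw [hy2e]
      _ = _ := by simp only [pow_succ, pow_zero, one_mul]; group
  -- `a` fixes `e`
  have hae : a * e * a⁻¹ = e := by
    refine huniq y⁻¹ (inv_mem hy) hyiQ _ _ ((mem_normalizer_iff.mp (o₁.norm_w haT) e).mp hxy2) hxy2 ?_
      heW'' (fun h => he1 (conj_eq_one_iff.mp h)) he1
    show a * e * a⁻¹ ∈ W''
    rw [← hswap]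
    exact ⟨e, hee ▸ he'W', rfl⟩
  have hev : e = v₁ := by
    refine (o₁.only e hxy2 (mem_centralizer_iff.mpr fun j hj => ?_)).resolve_left he1
    have hjT := Thompson.thompsonSubgroupOf_le T hj
    by_cases hjQ : j ∈ coreT T K₂
    · exact mul_inv_eq_iff_eq_mul.mp (hQfix j hjQ).1
    · have hja : a⁻¹ ∉ coreT T K₂ := fun h => haQ (by simpa using inv_mem h)
      have h := o₂.mul_mem_coreT (inv_mem haT) hjT hja hjQ
      have h1 : Commute (j * a⁻¹) e := mul_inv_eq_iff_eq_mul.mp (hQfix _ h).1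
      have h2 : Commute a e := mul_inv_eq_iff_eq_mul.mp hae
      simpa using (h1.mul_left h2).eq
  rw [← hev]
  exact hye

/-- If `v₁` and `v₂` are centralized by the other component then the conjugates commute. -/
theorem commute_conj (hne : L₁ ≠ L₂) (hc : wOf K₁ ≤ centralizer (wOf K₂ : Set G))
    (h₂ : K₂ ≤ centralizer ({v₁} : Set G)) (h₁ : K₁ ≤ centralizer ({v₂} : Set G))
    {y : G} (hy : y ∈ K₂) (hyQ : y ∉ pCoreOf 2 K₂) :
    wOf K₁ ≤ centralizer ((y ⋆ wOf K₁ : Subgroup G) : Set G) := by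
  have hv : v₁ ≠ v₂ := fun e => o₂.moves (e ▸ h₂)
  have hsq := o₁.sq o₁.memZ
  have hyv : y * v₁ * y⁻¹ = v₁ :=
    mul_inv_eq_iff_eq_mul.mpr (mem_centralizer_singleton_iff.mp (h₂ hy))
  have hyiv : y⁻¹ * v₁ * y = v₁ := by
    conv_lhs => rw [← hyv]
    group
  have hy3T : y ^ 3 ∈ T := o₂.core_le (o₂.cube_fix hy hyQ)
  intro x hx
  refine mem_centralizer_iff.mpr ?_
  rintro _ ⟨u, hu, rfl⟩
  show y * u * y⁻¹ * x = x * (y * u * y⁻¹)
  by_contra hxu
  have hWQ : wOf K₁ ≤ coreT T K₂ := le_inf o₁.w_le hc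
  have hmove : ∀ z ∈ K₂, ∀ x ∈ wOf K₁, z * x * z⁻¹ ∈ coreT T K₂ := fun z hz x hx =>
    o₂.conj_mem_coreT (mem_sup_left hz) (hWQ hx)
  have hx1 : x ≠ 1 := fun e => hxu (by rw [e]; simp)
  have hxv : x ≠ v₁ := fun e => hxu (by rw [e]; exact o₁.v_comm (hmove y hy u hu).1)
  set w := x with hwdef
  set w' := y * w * y⁻¹ with hw'def
  set w'' := y⁻¹ * w * y with hw''def
  have hw'Q : w' ∈ coreT T K₂ := hmove y hy w hx
  have hw''Q : w'' ∈ coreT T K₂ := by simpa [hw''def] using hmove y⁻¹ (inv_mem hy) w hx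
  have hww : w * w = 1 := o₁.data.sq w hx
  have hwv : w * v₁ = v₁ * w := o₁.v_comm (o₁.w_le hx)
  -- `w` and `w'` do not commute
  have hA : w' * w = w * w' * v₁ := by
    have h0 : w' * w * w'⁻¹ = w * v₁ := by
      refine (o₁.conj_cases hw'Q.1 hx).resolve_left fun h => hxu ?_
      have hcw : Commute w' w := mul_inv_eq_iff_eq_mul.mp h
      rcases o₁.data.mem_w_cases o₁.memW hx o₁.ne_one hx1 (Ne.symm hxv) hu with e | e | e | e
      · rw [e]; simp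
      · rw [e, hyv]; exact hwv.symm
      · rw [e]; exact hcw.eq
      · rw [e, show y * (v₁ * w) * y⁻¹ = (y * v₁ * y⁻¹) * w' by rw [hw'def]; group, hyv]
        exact ((show Commute v₁ w from hwv.symm).mul_left hcw).eq
    rw [mul_inv_eq_iff_eq_mul] at h0
    rw [h0, mul_assoc, ← o₁.v_comm hw'Q.1, ← mul_assoc]
  have hB : w * w'' = w'' * w * v₁ := by
    calc w * w'' = y⁻¹ * (w' * w) * y := by rw [hw'def, hw''def]; group
      _ = y⁻¹ * (w * w') * y * (y⁻¹ * v₁ * y) := by rw [hA]; group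
      _ = w'' * w * v₁ := by rw [hyiv, hw'def, hw''def]; group
  have hfix3 : y ^ 3 * w * (y ^ 3)⁻¹ = w ∨ y ^ 3 * w * (y ^ 3)⁻¹ = w * v₁ :=
    o₁.conj_cases hy3T hx
  have hC : w'' * w' = w' * w'' * v₁ := by
    have hAy : y * w' * y⁻¹ = y⁻¹ * (y ^ 3 * w * (y ^ 3)⁻¹) * y := by rw [hw'def]; simp only [pow_succ, pow_zero, one_mul]; group
    have hAy' : y * w' * y⁻¹ = w'' ∨ y * w' * y⁻¹ = w'' * v₁ := by
      rcases hfix3 with h | h
      · left; rw [hAy, h]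
      · right
        rw [hAy, h, show y⁻¹ * (w * v₁) * y = y⁻¹ * w * y * (y⁻¹ * v₁ * y) by group, hyiv]
    have h1 : (y * w' * y⁻¹) * w' = w' * (y * w' * y⁻¹) * v₁ := by
      calc (y * w' * y⁻¹) * w' = y * (w' * w) * y⁻¹ := by rw [hw'def]; group
        _ = y * (w * w') * y⁻¹ * (y * v₁ * y⁻¹) := by rw [hA]; group
        _ = w' * (y * w' * y⁻¹) * v₁ := by rw [hyv, hw'def]; group
    rcases hAy' with h | h
    · rwa [h] at h1
    · rw [h] at h1
      refine mul_right_cancel (b := v₁) ?_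
      rw [mul_assoc w'' w', o₁.v_comm hw'Q.1, ← mul_assoc, h1, ← mul_assoc]
  have hw'sq : w' * w' = 1 := by
    rw [hw'def, show y * w * y⁻¹ * (y * w * y⁻¹) = y * (w * w) * y⁻¹ by group, hww]; group
  have hw''sq : w'' * w'' = 1 := by
    rw [hw''def, show y⁻¹ * w * y * (y⁻¹ * w * y) = y⁻¹ * (w * w) * y by group, hww]; group
  set d := w * w' * w'' with hddef
  have hdQ : d ∈ coreT T K₂ := mul_mem (mul_mem (hWQ hx) hw'Q) hw''Q
  have hc' : ∀ t ∈ coreT T K₂, v₁ * t = t * v₁ := fun t ht => (o₁.v_comm ht.1).symm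
  have hdw : d * w = w * d := by
    have h1 : w'' * w = w * w'' * v₁ := by
      rw [hB, mul_assoc (w'' * w), hsq, mul_one]
    calc d * w = w * w' * (w'' * w) := by rw [hddef]; group
      _ = w * (w' * w) * w'' * v₁ := by rw [h1]; group
      _ = w * (w * w') * (v₁ * w'') * v₁ := by rw [hA]; group
      _ = w * (w * w' * w'') * (v₁ * v₁) := by rw [hc' _ hw''Q]; group
      _ = w * d := by rw [hsq, mul_one]
  have hdd : d * d = v₁ := by
    calc d * d = (d * w) * (w' * w'') := by rw [hddef]; group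
      _ = (w * w) * (w' * (w'' * w') * w'') := by rw [hdw, hddef]; group
      _ = w' * w' * w'' * (v₁ * w'') := by rw [hww, one_mul, hC]; group
      _ = (w'' * w'') * v₁ := by rw [hw'sq, one_mul, hc' _ hw''Q, ← mul_assoc]
      _ = v₁ := by rw [hw''sq, one_mul]
  have hdC : ∀ u ∈ wOf K₁, d * u = u * d := by
    intro u hu
    rcases o₁.data.mem_w_cases o₁.memW hx o₁.ne_one hx1 (Ne.symm hxv) hu with e | e | e | e
    · rw [e]; simp
    · rw [e]; exact o₁.v_comm hdQ.1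
    · rw [e]; exact hdw
    · rw [e]; exact ((show Commute d v₁ from o₁.v_comm hdQ.1).mul_right hdw).eq
  -- the other side
  obtain ⟨y₁, hy₁, hy₁Q⟩ := o₁.data.exists_mem_not_core
  have hy₁v : y₁ * v₂ * y₁⁻¹ = v₂ :=
    mul_inv_eq_iff_eq_mul.mpr (mem_centralizer_singleton_iff.mp (h₁ hy₁))
  obtain ⟨r, hr, hr1, hrv⟩ := o₂.data.exists_other v₂
  have hW₂Q₁ : wOf K₂ ≤ coreT T K₁ := le_inf o₂.w_le fun a ha =>
    mem_centralizer_iff.mpr fun b hb => (mem_centralizer_iff.mp (hc hb) a ha).symm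
  set r' := y₁⁻¹ * r * y₁ with hr'def
  have hr'Q : r' ∈ coreT T K₁ := by
    simpa [hr'def] using o₁.conj_mem_coreT (mem_sup_left (inv_mem hy₁)) (hW₂Q₁ hr)
  suffices hd : ∃ d', d' ∈ coreT T K₁ ∧ d' * d' = v₁ ∧ d' * r' = r' * d' by
    obtain ⟨d', hd'₁, hd'v, hd'r⟩ := hd
    set e := y₁ * d' * y₁⁻¹ with hedef
    have heQ₁ : e ∈ coreT T K₁ := o₁.conj_mem_coreT (mem_sup_left hy₁) hd'₁
    have her : e * r * e⁻¹ = r := by
      calc e * r * e⁻¹ = y₁ * (d' * r') * d'⁻¹ * y₁⁻¹ := by rw [hedef, hr'def]; group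
        _ = r := by rw [hd'r, hr'def]; group
    have heQ₂ : e ∈ coreT T K₂ := o₂.mem_coreT_of_fix heQ₁.1 hr hr1 hrv her
    obtain ⟨hpW, hp1, hpv, -, -⟩ := o₁.cycle hy₁ hy₁Q
    have hee : e * e = y₁ * v₁ * y₁⁻¹ := by
      rw [hedef, show y₁ * d' * y₁⁻¹ * (y₁ * d' * y₁⁻¹) = y₁ * (d' * d') * y₁⁻¹ by group, hd'v]
    have hew : e * e * w' * (e * e)⁻¹ = w' := by
      have h0 : y⁻¹ * e * y ∈ T := by
        have h := o₂.conj_mem_coreT (mem_sup_left (inv_mem hy)) heQ₂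
        rw [inv_inv] at h
        exact h.1
      have h1 : ∀ t, t = e * w' * e⁻¹ → t = w' ∨ t = w' * v₁ := by
        rintro t rfl
        rw [show e * w' * e⁻¹ = y * ((y⁻¹ * e * y) * w * (y⁻¹ * e * y)⁻¹) * y⁻¹ by
          rw [hw'def]; group]
        rcases o₁.conj_cases h0 hx with h | h
        · left; rw [h]
        · right
          rw [h, show y * (w * v₁) * y⁻¹ = y * w * y⁻¹ * (y * v₁ * y⁻¹) by group, hyv]
      rw [show e * e * w' * (e * e)⁻¹ = e * (e * w' * e⁻¹) * e⁻¹ by group]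
      rcases h1 _ rfl with h | h
      · rw [h, h]
      · rw [h, show e * (w' * v₁) * e⁻¹ = e * w' * e⁻¹ * (e * v₁ * e⁻¹) by group, h,
          mul_inv_eq_iff_eq_mul.mpr (o₁.v_comm heQ₂.1), mul_assoc, hsq, mul_one]
    rw [hee] at hew
    -- but `e * e` moves `w'`
    rcases o₁.data.mem_w_cases o₁.memW hx o₁.ne_one hx1 (Ne.symm hxv) hpW with h | h | h | h
    · exact hp1 h
    · exact hpv h
    · rw [h] at hew
      have h2 := mul_inv_eq_iff_eq_mul.mp hew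
      rw [hA] at h2
      exact o₁.ne_one (left_eq_mul.mp h2)
    · rw [h] at hew
      have h2 := mul_inv_eq_iff_eq_mul.mp hew
      have h3 : w' * (v₁ * w) = v₁ * w * w' * v₁ := by
        rw [← mul_assoc, ← hc' _ hw'Q, mul_assoc v₁ w', hA]; group
      rw [h3] at h2
      exact o₁.ne_one (left_eq_mul.mp h2)
  have hdT : d ∈ T := hdQ.1
  have hd₁ : d ∈ coreT T K₁ := ⟨hdT, mem_centralizer_iff.mpr fun u hu => (hdC u hu).symm⟩
  by_cases hdr : d * r' = r' * d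
  · exact ⟨d, hd₁, hdd, hdr⟩
  have hdr' : d * r' * d⁻¹ = r' * v₂ := by
    have h0 : y₁ * d * y₁⁻¹ ∈ T := (o₁.conj_mem_coreT (mem_sup_left hy₁) hd₁).1
    have e : d * r' * d⁻¹ = y₁⁻¹ * ((y₁ * d * y₁⁻¹) * r * (y₁ * d * y₁⁻¹)⁻¹) * y₁ := by
      rw [hr'def]; group
    rcases o₂.conj_cases h0 hr with h | h
    · refine absurd (mul_inv_eq_iff_eq_mul.mp ?_) hdr
      rw [e, h]
    · rw [e, h, show y₁⁻¹ * (r * v₂) * y₁ = r' * (y₁⁻¹ * v₂ * y₁) by rw [hr'def]; group,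
        show y₁⁻¹ * v₂ * y₁ = v₂ by
          have e2 : y₁⁻¹ * (y₁ * v₂ * y₁⁻¹) * y₁ = v₂ := by group
          rwa [hy₁v] at e2]
  by_cases hrr : r * r' = r' * r
  · exfalso
    have hr'Q₂ : r' ∈ coreT T K₂ :=
      o₂.mem_coreT_of_fix hr'Q.1 hr hr1 hrv (mul_inv_eq_iff_eq_mul.mpr hrr.symm)
    -- `Q₂` moves `d` at most by `v₁`
    have hq : ∀ q ∈ coreT T K₂, ∀ z ∈ K₂,
        q * (z * w * z⁻¹) * q⁻¹ * (z * w * z⁻¹)⁻¹ ∈ zpowers v₁ := by
      intro q hq z hz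
      have hz' : z⁻¹ * q * z ∈ T := by
        have h := o₂.conj_mem_coreT (mem_sup_left (inv_mem hz)) hq
        rw [inv_inv] at h
        exact h.1
      have e : q * (z * w * z⁻¹) * q⁻¹ * (z * w * z⁻¹)⁻¹
          = z * ((z⁻¹ * q * z) * w * (z⁻¹ * q * z)⁻¹ * w⁻¹) * z⁻¹ := by group
      rw [e]
      rcases o₁.conj_cases hz' hx with h | h
      · rw [h, mul_inv_cancel, mul_one, mul_inv_cancel]; exact one_mem _
      · rw [h, hwv, mul_inv_cancel_right,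
          mul_inv_eq_iff_eq_mul.mpr (mem_centralizer_singleton_iff.mp (h₂ hz))]
        exact mem_zpowers _
    have hzc : ∀ s ∈ zpowers v₁, ∀ t ∈ T, t * s * t⁻¹ = s := by
      rintro _ ⟨i, rfl⟩ t ht
      exact mul_inv_eq_iff_eq_mul.mpr ((show Commute t v₁ from o₁.v_comm ht).zpow_right i).eq
    have hmem : r' * d * r'⁻¹ * d⁻¹ ∈ zpowers v₁ := by
      have a1 := hq r' hr'Q₂ 1 (one_mem _)
      have a2 := hq r' hr'Q₂ y hy
      have a3 := hq r' hr'Q₂ y⁻¹ (inv_mem hy)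
      simp only [one_mul, inv_one, mul_one] at a1
      rw [inv_inv] at a3
      rw [← hw'def] at a2
      rw [← hw''def] at a3
      have e : r' * d * r'⁻¹ * d⁻¹ = (r' * w * r'⁻¹ * w⁻¹) *
          ((w) * (r' * w' * r'⁻¹ * w'⁻¹) * w⁻¹) *
          ((w * w') * (r' * w'' * r'⁻¹ * w''⁻¹) * (w * w')⁻¹) := by rw [hddef]; group
      rw [e, hzc _ a2 w (o₁.w_le hx), hzc _ a3 _ (mul_mem (o₁.w_le hx) hw'Q.1)]
      exact mul_mem (mul_mem a1 a2) a3
    have hd2 : r' * d * r'⁻¹ * d⁻¹ = v₂⁻¹ := by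
      have h1 : r'⁻¹ * (d * r' * d⁻¹) = v₂ := by rw [hdr']; group
      calc r' * d * r'⁻¹ * d⁻¹ = r' * (r'⁻¹ * (d * r' * d⁻¹))⁻¹ * r'⁻¹ := by group
        _ = r' * v₂⁻¹ * r'⁻¹ := by rw [h1]
        _ = v₂⁻¹ := mul_inv_eq_iff_eq_mul.mpr
          (show Commute r' v₂ from o₂.v_comm hr'Q.1).inv_right.eq
    rw [hd2, inv_mem_iff] at hmem
    obtain ⟨i, hi⟩ := mem_zpowers_iff.mp hmem
    rcases Int.even_or_odd i with ⟨m, rfl⟩ | ⟨m, rfl⟩
    · refine o₂.ne_one ?_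
      rw [← hi, ← two_mul, zpow_mul, show v₁ ^ (2 : ℤ) = 1 by rw [zpow_two, hsq], one_zpow]
    · refine hv ?_
      rw [← hi, zpow_add, zpow_mul, show v₁ ^ (2 : ℤ) = 1 by rw [zpow_two, hsq], one_zpow, one_mul,
        zpow_one]
  · refine ⟨d * r, mul_mem hd₁ (hW₂Q₁ hr), ?_, ?_⟩
    · have h1 : r * d = d * r := mem_centralizer_iff.mp hdQ.2 r hr
      calc d * r * (d * r) = d * (r * d) * r := by group
        _ = (d * d) * (r * r) := by rw [h1]; group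
        _ = v₁ := by rw [hdd, o₂.data.sq r hr, mul_one]
    · have h1 : r' * r * r'⁻¹ = r * v₂ := (o₂.conj_cases hr'Q.1 hr).resolve_left
        fun h => hrr (mul_inv_eq_iff_eq_mul.mp h).symm
      have h1' : r * r' = r' * r * v₂ := by
        calc r * r' = r * r' * (v₂ * v₂) := by rw [o₂.sq o₂.memZ, mul_one]
          _ = r * (r' * v₂) * v₂ := by group
          _ = r * (v₂ * r') * v₂ := by rw [o₂.v_comm hr'Q.1]
          _ = r' * r * v₂ := by rw [mul_inv_eq_iff_eq_mul.mp h1]; group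
      have h2 : d * r' = r' * v₂ * d := mul_inv_eq_iff_eq_mul.mp hdr'
      calc d * r * r' = d * (r' * r * v₂) := by rw [mul_assoc, h1']
        _ = (d * r') * (r * v₂) := by group
        _ = r' * (v₂ * d) * r * v₂ := by rw [h2]; group
        _ = r' * d * (v₂ * r) * v₂ := by rw [← o₂.v_comm hdT]; group
        _ = r' * (d * r) := by
          rw [← o₂.v_comm (o₂.w_le hr), mul_assoc (r' * d) (r * v₂), mul_assoc r, o₂.sq o₂.memZ,
            mul_one, mul_assoc]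

end OutComp

end CfsgLib.JComp
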