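import Cfsg.Agent.LocalB.JStructureMain

/-! Instances of the hypotheses on overgroups. -/

set_option autoImplicit false
set_option linter.unusedVariables false
set_option linter.unusedSectionVars false

namespace CfsgLib.JComp

open Subgroup Cfsg CfsgLib

variable {G : Type*} [Group G] [Finite G] {T L K : Subgroup G}

theorem setting_of (hN : ∀ N : Subgroup G, IsTwoLocal N → Group.IsSolvable ↥N)
    (hZ : ∀ S : Sylow 2 G,
      centralizer (omegaCenterOf (S : Subgroup G) : Set G) ≤ normalizer ((S : Subgroup G) : Set G))
    (hLT : L ∈ jOvergroups T) : Setting T L := by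
  have : Fact (Nat.Prime 2) := ⟨Nat.prime_two⟩
  refine ⟨hLT, ?_, hZ⟩
  have hne : pCoreOf 2 L ≠ ⊥ := by
    intro h
    apply hLT.2.1
    intro x hx
    refine hLT.2.2 ?_
    rw [h]
    exact mem_centralizer_iff.mpr fun y hy => by
      rw [SetLike.mem_coe, mem_bot] at hy
      subst hy; simp
  have hsol := hN _ ⟨_, Functor.isPGroup_pCoreOf L, hne, rfl⟩
  exact Group.isSolvable_of_isSolvable_injective
    (Subgroup.inclusion_injective (Functor.le_normalizer_pCoreOf 2 L))

theorem isJComponent_congr {T' : Subgroup G}
    (h : thompsonSubgroupOf 2 T = thompsonSubgroupOf 2 T') (hK : IsJComponent T K) :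
    IsJComponent T' K := by
  unfold IsJComponent at hK ⊢
  rwa [← h]

end CfsgLib.JComp
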