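import Cfsg.Agent.LocalB.JNormal

/-! The centre of `J(T)` for a component outside `M`. -/

set_option autoImplicit false
set_option linter.unusedVariables false
set_option linter.unusedSectionVars false

namespace CfsgLib.JComp

open Subgroup Cfsg CfsgLib
open scoped CfsgLib.Functor

variable {G : Type*} [Group G] [Finite G] {T L M K : Subgroup G} {v : G}

/-- What we know about a component outside some `M`, its overgroup and its fixed point. -/
structure OutComp (T K L : Subgroup G) (v : G) : Prop where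
  ne_bot : T ≠ ⊥
  set : Setting T L
  max : IsMaximalTwoLocal L
  comp : IsJComponent T K
  zero : K ∈ jComponentsZero T
  norm : T ≤ normalizer (K : Set G)
  le : K ≤ L
  memW : v ∈ wOf K
  ne_one : v ≠ 1
  memZ : v ∈ omegaCenterOf T
  only : ∀ w ∈ wOf K, w ∈ centralizer (thompsonSubgroupOf 2 T : Set G) → w = 1 ∨ w = v
  unique : ∀ N, IsMaximalTwoLocal N → K ⊔ thompsonSubgroupOf 2 T ≤ N → N = L
  omega : omegaCenterOf T = omegaCenterOf (thompsonSubgroupOf 2 T)
  fixes_le : ∀ e ∈ omegaCenterOf T, e ≠ 1 → K ≤ centralizer ({e} : Set G) →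
    centralizer ({e} : Set G) ≤ L
  fixes_eq : ∀ e ∈ omegaCenterOf T, ∀ f ∈ omegaCenterOf T, e ≠ 1 → f ≠ 1 →
    K ≤ centralizer ({e} : Set G) → K ≤ centralizer ({f} : Set G) → e = f
  normJ : ∀ h ∈ normalizer (thompsonSubgroupOf 2 T : Set G), ∀ e ∈ omegaCenterOf T, e ≠ 1 →
    K ≤ centralizer ({e} : Set G) → K ≤ centralizer ({h * e * h⁻¹} : Set G) → h ∈ L

theorem omega_le_omega_thompson (T : Subgroup G) :
    omegaCenterOf T ≤ omegaCenterOf (thompsonSubgroupOf 2 T) := by
  intro z hz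
  obtain ⟨hzT, hzC, hz2⟩ := Setting.omega_spec hz
  obtain ⟨A, hA⟩ := Thompson.exists_maxIn (p := 2) T
  have hzA := Data.mem_of_commute_maxIn hA hzT hz2
    (fun b hb => mem_centralizer_iff.mp hzC b (hA.1 hb))
  exact Thompson.mem_omegaOne ⟨maxIn_le_thompson hA hzA,
    mem_centralizer_iff.mpr fun j hj =>
      mem_centralizer_iff.mp hzC j (Thompson.thompsonSubgroupOf_le T hj)⟩ hz2

theorem omega_le_omega_setting (s : Setting T L) {S : Subgroup G} (hTS : T ≤ S) :
    omegaCenterOf S ≤ omegaCenterOf T := by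
  intro z hz
  obtain ⟨hzS, hzC, hz2⟩ := Setting.omega_spec hz
  have hzT : z ∈ T := s.core_le (s.ovg.2.2 (mem_centralizer_iff.mpr fun r hr =>
    mem_centralizer_iff.mp hzC r (hTS (s.core_le hr))))
  exact Thompson.mem_omegaOne
    ⟨hzT, mem_centralizer_iff.mpr fun t ht => mem_centralizer_iff.mp hzC t (hTS ht)⟩ hz2

theorem outside_spec (hG : Hyp G) (hO : pCore 2 G = ⊥) (S : Sylow 2 G)
    (hMJ : normalizer (thompsonSubgroupOf 2 (S : Subgroup G) : Set G) ≤ M)
    (hT : T ∈ maxStraddlingTwoSubgroups M) (hK : K ∈ jComponentsOutside M T) :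
    ∃ L v, OutComp T K L v := by
  have : Fact (Nat.Prime 2) := ⟨Nat.prime_two⟩
  have hTN := component_normalized hG hO S hMJ hT hK
  obtain ⟨hTp, hT1, hTM, -⟩ := hT.1
  obtain ⟨L, hLm, hKJ, huniq, -, hov⟩ := outside_overgroup hG S hMJ hT hK
  obtain ⟨hKz, hKM, -⟩ := hK
  have hKc := hKz.1
  have s := setting_of hG.solv hG.zc hov
  have hTL : T ≤ L := s.le
  have hTS := sylowTwo_iff.1 hov.1
  have d := data_of_isJComponent hTp hKc
  have hKL : K ≤ L := le_sup_left.trans hKJ
  set J := thompsonSubgroupOf 2 T with hJdef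
  set Z₀ := omegaCenterOf J with hZ₀def
  obtain ⟨v, hvW, hv1, hvfix, hvu⟩ := d.exists_fixed_other
  have hvZ₀ : v ∈ Z₀ := Thompson.mem_omegaOne ⟨d.fixed_mem hvW hvfix,
    mem_centralizer_iff.mpr fun j hj => hvfix j (mem_sup_right hj)⟩
    (by rw [pow_two]; exact d.sq _ hvW)
  have hJn : T ≤ normalizer (J : Set G) :=
    Subgroup.le_normalizer.trans (Thompson.normalizer_le_normalizer_thompsonSubgroupOf T)
  have hconjZ : ∀ h ∈ normalizer (J : Set G), ∀ e ∈ Z₀, h * e * h⁻¹ ∈ Z₀ := fun h hh e he =>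
    (mem_normalizer_iff.mp (normalizer_le_normalizer_omegaCenterOf J hh) e).mp he
  have hJC : ∀ e ∈ Z₀, J ≤ centralizer ({e} : Set G) := fun e he j hj =>
    mem_centralizer_singleton_iff.mpr (mem_centralizer_iff.mp (Setting.omega_spec he).2.1 j hj)
  have hsq : ∀ e ∈ Z₀, e * e = 1 := fun e he => by rw [← pow_two]; exact (Setting.omega_spec he).2.2
  -- `T` fixes `v`
  have hvT : ∀ t ∈ T, t * v * t⁻¹ = v := fun t ht =>
    (hvu _ ((mem_normalizer_iff.mp (normalizer_le_normalizer_wOf K (hTN ht)) v).mp hvW)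
      (Setting.omega_spec (hconjZ t (hJn ht) v hvZ₀)).2.1).resolve_left
      fun e => hv1 (conj_eq_one_iff.mp e)
  have hsplit : ∀ e ∈ Z₀, K ≤ centralizer ({e} : Set G) ∨ K ≤ centralizer ({e * v} : Set G) :=
    fun e he => omega_split d hvu he
  have hcent : ∀ e ∈ Z₀, e ≠ 1 → K ≤ centralizer ({e} : Set G) → centralizer ({e} : Set G) ≤ L :=
    fun e he he1 hKe =>
      centralizer_le_unique hG S hMJ hT hKc hKM hLm hKJ (hsq e he) he1 (sup_le hKe (hJC e he))
  have hprod : ∀ x y : G, K ≤ centralizer ({x} : Set G) → K ≤ centralizer ({y} : Set G) →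
      K ≤ centralizer ({x * y} : Set G) := fun x y hx hy k hk =>
    mem_centralizer_singleton_iff.mpr
      ((show Commute k x from mem_centralizer_singleton_iff.mp (hx hk)).mul_right
        (mem_centralizer_singleton_iff.mp (hy hk))).eq
  have hcommon : ∀ h ∈ normalizer (J : Set G), ∀ x ∈ Z₀, x ≠ 1 → K ≤ centralizer ({x} : Set G) →
      K ≤ centralizer ({h * x * h⁻¹} : Set G) → h ∈ L := by
    intro h hh x hx hx1 hKx hKhx
    have hC := hcent _ (hconjZ h hh x hx) (fun e => hx1 (conj_eq_one_iff.mp e)) hKhx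
    refine mem_of_comp_le hG S hMJ hT hKc hKM hLm hKJ hh (normalizer_thompson_le S hMJ hT hh)
      (le_trans ?_ hC)
    rintro _ ⟨k, hk, rfl⟩
    refine mem_centralizer_singleton_iff.mpr ?_
    show h * k * h⁻¹ * (h * x * h⁻¹) = h * x * h⁻¹ * (h * k * h⁻¹)
    have h1 := mem_centralizer_singleton_iff.mp (hKx hk)
    calc h * k * h⁻¹ * (h * x * h⁻¹) = h * (k * x) * h⁻¹ := by group
      _ = _ := by rw [h1]; group
  -- at most one involution of `Z₀` centralizes `K`
  have hone : ∀ e ∈ Z₀, ∀ f ∈ Z₀, e ≠ 1 → f ≠ 1 → K ≤ centralizer ({e} : Set G) →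
      K ≤ centralizer ({f} : Set G) → e = f := by
    intro e he f hf he1 hf1 hKe hKf
    by_contra hef
    have hef1 : e * f ≠ 1 := fun h => hef (mul_right_cancel (h.trans (hsq f hf).symm))
    by_cases hNJ : normalizer (J : Set G) ≤ L
    · obtain ⟨P, hP⟩ := hTp.exists_le_sylow
      have hPT := sylow_of_normalizer_le hTp hTS hTL
        ((Thompson.normalizer_le_normalizer_thompsonSubgroupOf T).trans hNJ) hP
      have hMJ' : normalizer (thompsonSubgroupOf 2 (P : Subgroup G) : Set G) ≤ L := by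
        rw [hPT]; exact hNJ
      obtain ⟨A, hA, hVA⟩ := s.exists_maxIn_modV
      by_cases hsm : ∀ X : Subgroup G, IsTwoLocal X → ¬ X ≤ L → ∀ B : Subgroup G,
          IsElementaryAbelian 2 B → B ≤ L ⊓ X → Nat.card B < Nat.card A
      · have hU := modV_card_le_four hG hO hLm s P hPT hMJ' hA hVA hsm
        set D := Z₀ ⊓ centralizer (K : Set G) with hDdef
        have hmem : ∀ x ∈ Z₀, K ≤ centralizer ({x} : Set G) → x ∈ D := fun x hx h =>
          ⟨hx, mem_centralizer_iff.mpr fun k hk => mem_centralizer_singleton_iff.mp (h hk)⟩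
        have hDn : T ≤ normalizer (D : Set G) := fun t ht =>
          LocalB.mem_normalizer_of_conj_le fun x hx => ⟨hconjZ t (hJn ht) x hx.1,
            mem_centralizer_iff.mpr fun k hk => by
              have hk' : t⁻¹ * k * t ∈ K := by
                simpa using (mem_normalizer_iff.mp (inv_mem (hTN ht)) k).mp hk
              have h1 := mem_centralizer_iff.mp hx.2 _ hk'
              calc k * (t * x * t⁻¹) = t * (t⁻¹ * k * t * x) * t⁻¹ := by group
                _ = t * x * t⁻¹ * k := by rw [h1]; group⟩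
        have hDp : IsPGroup 2 D :=
          hTp.to_le ((inf_le_left : D ≤ Z₀).trans fun x hx =>
            Thompson.thompsonSubgroupOf_le T (Setting.omega_spec hx).1)
        obtain ⟨x, hx, hx1, hxC⟩ := exists_fixed_point hDp hTp hDn (fun h => he1 (by
          have := hmem e he hKe
          rw [h] at this
          exact mem_bot.mp this))
        obtain ⟨hxJ, -, hx2⟩ := Setting.omega_spec hx.1
        have hxU : x ∈ modV T L := Setting.omegaT_le T L
          (Thompson.mem_omegaOne ⟨Thompson.thompsonSubgroupOf_le T hxJ, hxC⟩ hx2)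
        have hWU : wOf K = modV T L := eq_of_le_of_card_ge (s.wOf_le_modV d hKL) (by
          rw [d.card]; exact hU)
        rw [← hWU] at hxU
        obtain ⟨y, hy, hyQ⟩ := d.exists_mem_not_core
        exact hx1 (d.fixed_eq_one hy hyQ hxU (mem_centralizer_iff.mp hx.2 y hy))
      · push Not at hsm
        obtain ⟨X, hX, hXL, B, hB, hBLX, hlt⟩ := hsm
        obtain ⟨K', v', hK'L, hsp⟩ :=
          straddling_split hG P hMJ' hTp hT1 hTS hA hX hXL hB hBLX hlt
        have hgood : ∀ x ∈ Z₀, x ≠ 1 → K ≤ centralizer ({x} : Set G) →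
            K' ≤ centralizer ({x * v'} : Set G) := fun x hx hx1 h =>
          (hsp x hx).resolve_left fun h' => hK'L (h'.trans (hcent x hx hx1 h))
        refine hK'L (le_trans (fun k hk => ?_) (hcent _ (mul_mem he hf) hef1 (hprod e f hKe hKf)))
        have h1 : Commute k (e * v' * (f * v')⁻¹) :=
          (show Commute k (e * v') from
            mem_centralizer_singleton_iff.mp (hgood e he he1 hKe hk)).mul_right
          (show Commute k (f * v') from
            mem_centralizer_singleton_iff.mp (hgood f hf hf1 hKf hk)).inv_right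
        rw [show e * v' * (f * v')⁻¹ = e * f⁻¹ by group,
          inv_eq_of_mul_eq_one_right (hsq f hf)] at h1
        exact mem_centralizer_singleton_iff.mpr h1.eq
    · obtain ⟨h, hh, hhL⟩ := SetLike.not_le_iff_exists.mp hNJ
      have hmove : ∀ x ∈ Z₀, x ≠ 1 → K ≤ centralizer ({x} : Set G) →
          K ≤ centralizer ({h * x * h⁻¹ * v} : Set G) := fun x hx hx1 hKx =>
        (hsplit _ (hconjZ h hh x hx)).resolve_left fun h1 => hhL (hcommon h hh x hx hx1 hKx h1)
      refine hhL (hcommon h hh (e * f) (mul_mem he hf) hef1 (hprod e f hKe hKf) ?_)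
      have h1 := hprod _ _ (hmove e he he1 hKe) (hmove f hf hf1 hKf)
      have h2 : v * (h * f * h⁻¹) = h * f * h⁻¹ * v :=
        mem_centralizer_iff.mp (Setting.omega_spec (hconjZ h hh f hf)).2.1 v
          (Setting.omega_spec hvZ₀).1
      rwa [show h * e * h⁻¹ * v * (h * f * h⁻¹ * v) = h * e * h⁻¹ * ((v * (h * f * h⁻¹)) * v) by group,
        h2, mul_assoc (h * f * h⁻¹), hsq v hvZ₀, mul_one, show h * e * h⁻¹ * (h * f * h⁻¹)
          = h * (e * f) * h⁻¹ by group] at h1
  -- `Z₀` is central in `T`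
  have homega : omegaCenterOf T = Z₀ := by
    refine le_antisymm (omega_le_omega_thompson T) ?_
    intro e he
    obtain ⟨heJ, -, he2⟩ := Setting.omega_spec he
    refine Thompson.mem_omegaOne ⟨Thompson.thompsonSubgroupOf_le T heJ,
      mem_centralizer_iff.mpr fun t ht => mul_inv_eq_iff_eq_mul.mp ?_⟩ he2
    have hfix : ∀ x ∈ Z₀, K ≤ centralizer ({x} : Set G) → t * x * t⁻¹ = x := by
      intro x hx hKx
      rcases eq_or_ne x 1 with rfl | hx1
      · group
      refine (hone x hx _ (hconjZ t (hJn ht) x hx) hx1 (fun e => hx1 (conj_eq_one_iff.mp e)) hKx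
        fun k hk => mem_centralizer_singleton_iff.mpr ?_).symm
      have hk' : t⁻¹ * k * t ∈ K := by
        simpa using (mem_normalizer_iff.mp (inv_mem (hTN ht)) k).mp hk
      have h1 := mem_centralizer_singleton_iff.mp (hKx hk')
      calc k * (t * x * t⁻¹) = t * (t⁻¹ * k * t * x) * t⁻¹ := by group
        _ = t * x * t⁻¹ * k := by rw [h1]; group
    rcases hsplit e he with h | h
    · exact hfix e he h
    · have h1 := hfix _ (mul_mem he hvZ₀) h
      rw [show t * (e * v) * t⁻¹ = t * e * t⁻¹ * (t * v * t⁻¹) by group, hvT t ht] at h1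
      exact mul_right_cancel h1
  exact ⟨L, v, hT1, s, hLm, hKc, hKz, hTN, hKL, hvW, hv1, homega ▸ hvZ₀, hvu, huniq, homega,
    fun e he => hcent e (homega ▸ he), fun e he f hf => hone e (homega ▸ he) f (homega ▸ hf),
    fun h hh e he => hcommon h hh e (homega ▸ he)⟩

namespace OutComp

theorem isP (o : OutComp T K L v) : IsPGroup 2 T := o.set.isP

theorem data (o : OutComp T K L v) : Data (thompsonSubgroupOf 2 T) K :=
  data_of_isJComponent o.isP o.comp

theorem split (o : OutComp T K L v) {e : G} (he : e ∈ omegaCenterOf T) :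
    K ≤ centralizer ({e} : Set G) ∨ K ≤ centralizer ({e * v} : Set G) :=
  omega_split o.data o.only (o.omega ▸ he)

theorem comm (o : OutComp T K L v) {e f : G} (he : e ∈ omegaCenterOf T)
    (hf : f ∈ omegaCenterOf T) : e * f = f * e :=
  mem_centralizer_iff.mp (Setting.omega_spec hf).2.1 e (Setting.omega_spec he).1

theorem sq (o : OutComp T K L v) {e : G} (he : e ∈ omegaCenterOf T) : e * e = 1 := by
  rw [← pow_two]; exact (Setting.omega_spec he).2.2

theorem moves (o : OutComp T K L v) : ¬ K ≤ centralizer ({v} : Set G) := fun h => by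
  obtain ⟨y, hy, hyQ⟩ := o.data.exists_mem_not_core
  exact o.ne_one (o.data.fixed_eq_one hy hyQ o.memW (mem_centralizer_singleton_iff.mp (h hy)))

/-- The shape of `Ω₁(Z(T))`. -/
theorem cases (o : OutComp T K L v) :
    (∀ e ∈ omegaCenterOf T, e = 1 ∨ e = v) ∨
      ∃ c ∈ omegaCenterOf T, c ≠ 1 ∧ c ≠ v ∧ K ≤ centralizer ({c} : Set G) ∧
        ∀ e ∈ omegaCenterOf T, e = 1 ∨ e = v ∨ e = c ∨ e = c * v := by
  by_cases hex : ∃ c ∈ omegaCenterOf T, c ≠ 1 ∧ K ≤ centralizer ({c} : Set G)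
  · obtain ⟨c, hc, hc1, hKc⟩ := hex
    refine Or.inr ⟨c, hc, hc1, fun h => o.moves (h ▸ hKc), hKc, fun e he => ?_⟩
    rcases o.split he with h | h
    · rcases eq_or_ne e 1 with h1 | h1
      · exact Or.inl h1
      · exact Or.inr (Or.inr (Or.inl (o.fixes_eq e he c hc h1 hc1 h hKc)))
    · rcases eq_or_ne (e * v) 1 with h1 | h1
      · exact Or.inr (Or.inl (mul_right_cancel (h1.trans (o.sq o.memZ).symm)))
      · refine Or.inr (Or.inr (Or.inr ?_))
        rw [← o.fixes_eq _ (mul_mem he o.memZ) c hc h1 hc1 h hKc, mul_assoc, o.sq o.memZ, mul_one]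
  · refine Or.inl fun e he => ?_
    rcases o.split he with h | h
    · exact Or.inl (not_not.mp fun h1 => hex ⟨e, he, h1, h⟩)
    · refine Or.inr (mul_right_cancel (Eq.trans ?_ (o.sq o.memZ).symm))
      exact not_not.mp fun h1 => hex ⟨_, mul_mem he o.memZ, h1, h⟩

theorem card_two_or_four (o : OutComp T K L v) :
    Nat.card ↥(omegaCenterOf T) = 2 ∨ Nat.card ↥(omegaCenterOf T) = 4 := by
  have key : ∀ X : Subgroup G, Nat.card X = (X : Set G).ncard := fun X => Nat.card_coe_set_eq _
  rcases o.cases with h | ⟨c, hc, hc1, hcv, -, h⟩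
  · left
    rw [key, show (omegaCenterOf T : Set G) = {1, v} from Set.ext fun e => ⟨fun he => h e he, ?_⟩,
      Set.ncard_pair (Ne.symm o.ne_one)]
    rintro (rfl | rfl)
    · exact one_mem _
    · exact o.memZ
  · right
    rw [key, show (omegaCenterOf T : Set G) = {1, v, c, c * v} from
      Set.ext fun e => ⟨fun he => h e he, ?_⟩]
    · rw [Set.ncard_insert_of_notMem, Set.ncard_insert_of_notMem, Set.ncard_pair]
      · exact fun e => o.ne_one (left_eq_mul.mp e)
      · rintro (e | e)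
        · exact hcv e.symm
        · exact hc1 (right_eq_mul.mp e)
      · rintro (e | e | e)
        · exact o.ne_one e.symm
        · exact hc1 e.symm
        · exact hcv (mul_right_cancel (e.symm.trans (o.sq o.memZ).symm))
    · rintro (rfl | rfl | rfl | rfl)
      · exact one_mem _
      · exact o.memZ
      · exact hc
      · exact mul_mem hc o.memZ

/-- A central involution of a Sylow subgroup centralizing `K` forces `T = S`. -/
theorem eq_sylow_of_fixes (o : OutComp T K L v) (S : Sylow 2 G) (hTS : T ≤ S) {e : G}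
    (he : e ∈ omegaCenterOf (S : Subgroup G)) (he1 : e ≠ 1)
    (hKe : K ≤ centralizer ({e} : Set G)) : T = S := by
  have : Fact (Nat.Prime 2) := ⟨Nat.prime_two⟩
  have hSL : (S : Subgroup G) ≤ L := fun x hx => o.fixes_le e
    (omega_le_omega_setting o.set hTS he) he1 hKe
    (mem_centralizer_singleton_iff.mpr (mem_centralizer_iff.mp (Setting.omega_spec he).2.1 x hx))
  exact (o.set.eq_of_le S.2 hTS hSL).symm

end OutComp

theorem center_cases (hG : Hyp G) (hO : pCore 2 G = ⊥) (S : Sylow 2 G)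
    (hMJ : normalizer (thompsonSubgroupOf 2 (S : Subgroup G) : Set G) ≤ M)
    (hT : T ∈ maxStraddlingTwoSubgroups M) (hTS : T ≤ S) (hK : K ∈ jComponentsOutside M T)
    (hLm : IsMaximalTwoLocal L) (hKJ : K ⊔ thompsonSubgroupOf 2 T ≤ L) :
    omegaCenterOf (thompsonSubgroupOf 2 T) ⊓ wOf K ≠ ⊥ ∧
      ((omegaCenterOf (S : Subgroup G) = omegaCenterOf (thompsonSubgroupOf 2 T) ∧
          Nat.card ↥(omegaCenterOf (thompsonSubgroupOf 2 T)) = 2) ∨
        (omegaCenterOf (S : Subgroup G) = omegaCenterOf (thompsonSubgroupOf 2 T) ∧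
          Nat.card ↥(omegaCenterOf (thompsonSubgroupOf 2 T)) = 4 ∧ T = (S : Subgroup G)) ∨
        (omegaCenterOf T = omegaCenterOf (thompsonSubgroupOf 2 T) ∧
          Nat.card ↥(omegaCenterOf (thompsonSubgroupOf 2 T)) = 4 ∧
          (L ⊓ centralizer (omegaCenterOf (thompsonSubgroupOf 2 T) : Set G)).relIndex
            (normalizer (omegaCenterOf (thompsonSubgroupOf 2 T) : Set G)) = 2)) := by
  have : Fact (Nat.Prime 2) := ⟨Nat.prime_two⟩
  obtain ⟨L₁, v, o⟩ := outside_spec hG hO S hMJ hT hK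
  obtain rfl := o.unique L hLm hKJ
  rw [← o.omega]
  refine ⟨fun h => o.ne_one (by
    have : v ∈ omegaCenterOf T ⊓ wOf K := ⟨o.memZ, o.memW⟩
    rw [h] at this
    exact mem_bot.mp this), ?_⟩
  have hle := omega_le_omega_setting o.set hTS
  rcases o.card_two_or_four with h2 | h4
  · refine Or.inl ⟨eq_of_le_of_card_ge hle ?_, h2⟩
    obtain ⟨z, hz, hz1⟩ := exists_omega_ne_one S.2 (fun h => o.ne_bot (le_bot_iff.mp (h ▸ hTS)))
    rw [h2]
    exact Finite.one_lt_card_iff_nontrivial.mpr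
      ((nontrivial_iff_ne_bot _).mpr fun h => hz1 (by rw [h] at hz; exact mem_bot.mp hz))
  obtain ⟨c, hc, hc1, hcv, hKc, hcases⟩ := o.cases.resolve_left (by
    intro h
    have : Nat.card ↥(omegaCenterOf T) ≤ 2 := by
      rw [show Nat.card ↥(omegaCenterOf T) = (omegaCenterOf T : Set G).ncard from
        Nat.card_coe_set_eq _]
      exact (Set.ncard_le_ncard (fun e he => h e he : _ ⊆ ({1, v} : Set G))).trans
        (Set.ncard_insert_le 1 {v}) |>.trans (by rw [Set.ncard_singleton])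
    omega)
  by_cases hTeq : T = (S : Subgroup G)
  · exact Or.inr (Or.inl ⟨by rw [← hTeq], h4, hTeq⟩)
  refine Or.inr (Or.inr ⟨rfl, h4, ?_⟩)
  set Z₀ := omegaCenterOf T with hZ₀
  obtain ⟨z, hz, hz1⟩ := exists_omega_ne_one S.2 (fun h => o.ne_bot (le_bot_iff.mp (h ▸ hTS)))
  have hzZ : z ∈ Z₀ := hle hz
  have hzc : z ≠ c := fun e => hTeq (o.eq_sylow_of_fixes S hTS hz hz1 (e ▸ hKc))
  have hcC : centralizer ({c} : Set G) ≤ L := o.fixes_le c hc hc1 hKc
  have hnot : ∀ g : G, g * c * g⁻¹ ≠ z := by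
    intro g e
    have hSL : g⁻¹ ⋆ (S : Subgroup G) ≤ L := by
      refine le_trans ?_ hcC
      rintro _ ⟨x, hx, rfl⟩
      refine mem_centralizer_singleton_iff.mpr ?_
      show g⁻¹ * x * g⁻¹⁻¹ * c = c * (g⁻¹ * x * g⁻¹⁻¹)
      have h1 : x * z = z * x := mem_centralizer_iff.mp (Setting.omega_spec hz).2.1 x hx
      rw [← e] at h1
      calc g⁻¹ * x * g⁻¹⁻¹ * c = g⁻¹ * (x * (g * c * g⁻¹)) * g := by group
        _ = _ := by rw [h1]; group
    obtain ⟨l, hl, hlT⟩ := (sylowTwo_iff.1 o.set.ovg.1).exists_cj_le (Functor.isPGroup_cj _ S.2) hSL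
    have hcard := Nat.card_le_card_of_injective _ (inclusion_injective hlT)
    rw [Functor.card_cj, Functor.card_cj] at hcard
    exact hTeq (eq_of_le_of_card_ge hTS hcard)
  have hcv' : ∀ e ∈ Z₀, e = 1 ∨ e = z ∨ e = c ∨ e = c * z := by
    intro e he
    rcases hcases z hzZ with rfl | rfl | rfl | rfl
    · exact absurd rfl hz1
    · exact hcases e he
    · exact absurd rfl hzc
    · rcases hcases e he with h | h | h | h
      · exact Or.inl h
      · refine Or.inr (Or.inr (Or.inr ?_))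
        rw [h, ← mul_assoc, o.sq hc, one_mul]
      · exact Or.inr (Or.inr (Or.inl h))
      · exact Or.inr (Or.inl h)
  have hconj : ∀ g ∈ normalizer (Z₀ : Set G), ∀ e ∈ Z₀, g * e * g⁻¹ ∈ Z₀ := fun g hg e he =>
    (mem_normalizer_iff.mp hg e).mp he
  have hgc : ∀ g ∈ normalizer (Z₀ : Set G), g * c * g⁻¹ = c ∨ g * c * g⁻¹ = c * z := fun g hg => by
    rcases hcv' _ (hconj g hg c hc) with h | h | h | h
    · exact absurd (conj_eq_one_iff.mp h) hc1
    · exact absurd h (hnot g)
    · exact Or.inl h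
    · exact Or.inr h
  -- an element moving `c`
  obtain ⟨x, hxS, hxN, hxT⟩ := LocalB.exists_mem_normalizer_not_mem S.2 hTS hTeq
  have hxL : x ∉ L := fun h => hxT (by
    have := (o.set.eq_of_le (P := (S : Subgroup G) ⊓ L) (S.2.to_le inf_le_left)
      (le_inf hTS o.set.le) inf_le_right)
    exact this ▸ ⟨hxS, h⟩)
  have hxZ : x ∈ normalizer (Z₀ : Set G) := normalizer_le_normalizer_omegaCenterOf T hxN
  have hxc : x * c * x⁻¹ = c * z := (hgc x hxZ).resolve_left fun h =>
    hxL (hcC (mem_centralizer_singleton_iff.mpr (mul_inv_eq_iff_eq_mul.mp h)))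
  have hfixz : ∀ g ∈ normalizer (Z₀ : Set G), g * z * g⁻¹ = z := fun g hg => by
    rcases hcv' _ (hconj g hg z hzZ) with h | h | h | h
    · exact absurd (conj_eq_one_iff.mp h) hz1
    · exact h
    · exact absurd (show g⁻¹ * c * g⁻¹⁻¹ = z by rw [← h]; group) (hnot g⁻¹)
    · exact absurd (show g⁻¹ * x * c * (g⁻¹ * x)⁻¹ = z by
        rw [show g⁻¹ * x * c * (g⁻¹ * x)⁻¹ = g⁻¹ * (x * c * x⁻¹) * g by group, hxc, ← h]
        group) (hnot _)
  have hmem : ∀ g ∈ normalizer (Z₀ : Set G),
      g ∈ L ⊓ centralizer (Z₀ : Set G) ↔ g * c * g⁻¹ = c := by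
    refine fun g hg => ⟨fun h => mul_inv_eq_iff_eq_mul.mpr (mem_centralizer_iff.mp h.2 c hc).symm,
      fun h => ⟨hcC (mem_centralizer_singleton_iff.mpr (mul_inv_eq_iff_eq_mul.mp h)),
        mem_centralizer_iff.mpr fun e he => ?_⟩⟩
    have hgz := mul_inv_eq_iff_eq_mul.mp (hfixz g hg)
    have hgc' := mul_inv_eq_iff_eq_mul.mp h
    rcases hcv' e he with rfl | rfl | rfl | rfl
    · simp
    · exact hgz.symm
    · exact hgc'.symm
    · exact ((show Commute g c from hgc').mul_right hgz).eq.symm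
  rw [relIndex, index_eq_two_iff]
  refine ⟨⟨x, hxZ⟩, fun b => ?_⟩
  rw [mem_subgroupOf, mem_subgroupOf, Subgroup.coe_mul, hmem _ (mul_mem b.2 hxZ), hmem _ b.2]
  have hbx : (b : G) * x * c * ((b : G) * x)⁻¹ = (b : G) * c * (b : G)⁻¹ * z := by
    rw [show (b : G) * x * c * ((b : G) * x)⁻¹ = (b : G) * (x * c * x⁻¹) * (b : G)⁻¹ by group, hxc,
      show (b : G) * (c * z) * (b : G)⁻¹ = (b : G) * c * (b : G)⁻¹ * ((b : G) * z * (b : G)⁻¹) by
        group, hfixz _ b.2]
  rcases hgc _ b.2 with h | h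
  · refine Or.inr ⟨h, fun h' => hz1 ?_⟩
    rw [hbx, h] at h'
    exact left_eq_mul.mp h'.symm
  · refine Or.inl ⟨?_, fun h' => hz1 (left_eq_mul.mp (h'.symm.trans h))⟩
    rw [hbx, h, mul_assoc, o.sq hzZ, mul_one]

end CfsgLib.JComp
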