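import Cfsg.Prelude.Def_JComponents
import Cfsg.Agent.PLocal.Thompson
import Cfsg.Agent.Functor.Relative
import Cfsg.Agent.Solvable.PGroupBasic
import Cfsg.Agent.LocalB.Embedded

/-! The structure of a `J(T)`-component. -/

set_option autoImplicit false
set_option linter.unusedVariables false

namespace CfsgLib.JComp

open Subgroup Cfsg CfsgLib
open scoped commutatorElement

variable {G : Type*} [Group G]

/-- The data of a `J(T)`-component, with `J` the Thompson subgroup. -/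
structure Data (J K : Subgroup G) : Prop where
  gen : closure {g : G | g ∈ K ∧ Odd (orderOf g)} = K
  comm : ⁅K, J⁆ = K
  three : (pCoreOf 2 K).relIndex K = 3
  isP : IsPGroup 2 J
  sylow : ∀ S : Subgroup G, IsSylowTwoIn S (K ⊔ J) → J ≤ S → thompsonSubgroupOf 2 S = J
  card : Nat.card ↥(wOf K) = 4
  sq : ∀ w ∈ wOf K, w * w = 1

theorem data_of_isJComponent {T K : Subgroup G} (hT : IsPGroup 2 T) (h : IsJComponent T K) :
    Data (thompsonSubgroupOf 2 T) K :=
  ⟨h.1, h.2.1, h.2.2.1, hT.to_le (Thompson.thompsonSubgroupOf_le T), h.2.2.2.1, h.2.2.2.2.1,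
    h.2.2.2.2.2⟩

variable [Finite G] {J K : Subgroup G}

theorem normalizer_le_normalizer_pCoreOf (p : ℕ) [Fact p.Prime] (H : Subgroup G) :
    normalizer (H : Set G) ≤ normalizer (pCoreOf p H : Set G) := by
  intro g hg
  refine LocalB.mem_normalizer_of_map_conj_eq (eq_of_le_of_card_ge ?_
    (LocalB.card_map_conj _ g).ge)
  have hH := LocalB.map_conj_eq_of_mem_normalizer hg
  refine Functor.le_pCoreOf ?_ ?_ ((Functor.isPGroup_pCoreOf H).map _)
  · exact (map_mono (Functor.pCoreOf_le p H)).trans hH.le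
  · have h1 := map_mono (f := (MulAut.conj g).toMonoidHom) (Functor.le_normalizer_pCoreOf p H)
    rw [hH] at h1
    exact h1.trans (le_normalizer_map _)

theorem normalizer_inf_le_normalizer_commutator (A B : Subgroup G) :
    normalizer (A : Set G) ⊓ normalizer (B : Set G) ≤ normalizer ((⁅A, B⁆ : Subgroup G) : Set G) := by
  intro g hg
  refine LocalB.mem_normalizer_of_map_conj_eq ?_
  rw [map_commutator, LocalB.map_conj_eq_of_mem_normalizer hg.1,
    LocalB.map_conj_eq_of_mem_normalizer hg.2]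

theorem normalizer_le_normalizer_omegaCenterOf (X : Subgroup G) :
    normalizer (X : Set G) ≤ normalizer (omegaCenterOf X : Set G) := by
  intro g hg
  refine LocalB.mem_normalizer_of_map_conj_eq ?_
  have hX := LocalB.map_conj_eq_of_mem_normalizer hg
  have hC : (centralizer (X : Set G)).map (MulAut.conj g).toMonoidHom = centralizer (X : Set G) := by
    refine LocalB.map_conj_eq_of_mem_normalizer ?_
    refine LocalB.mem_normalizer_of_conj_le fun c hc => mem_centralizer_iff.mpr fun x hx => ?_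
    have h1 : g⁻¹ * x * g ∈ X := by
      simpa using (mem_normalizer_iff.mp (inv_mem hg) x).mp hx
    have h2 := mem_centralizer_iff.mp hc _ h1
    calc x * (g * c * g⁻¹) = g * (g⁻¹ * x * g * c) * g⁻¹ := by group
      _ = g * c * g⁻¹ * x := by rw [h2]; group
  rw [omegaCenterOf, Thompson.map_omegaOne _ (MulAut.conj g).injective,
    map_inf_eq _ _ _ (MulAut.conj g).injective, hX, hC]

theorem normalizer_le_normalizer_wOf (K : Subgroup G) :
    normalizer (K : Set G) ≤ normalizer (wOf K : Set G) := fun g hg =>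
  normalizer_inf_le_normalizer_commutator _ K
    ⟨normalizer_le_normalizer_omegaCenterOf _ (normalizer_le_normalizer_pCoreOf 2 K hg), hg⟩

theorem wOf_le_core (K : Subgroup G) : wOf K ≤ pCoreOf 2 K := by
  rw [wOf, commutator_le]
  intro z hz k hk
  have hz' : z ∈ pCoreOf 2 K := (Thompson.omegaOne_le _ hz).1
  have h1 := (mem_normalizer_iff.mp (Functor.le_normalizer_pCoreOf 2 K hk) z⁻¹).mp (inv_mem hz')
  rw [commutatorElement_def, show z * k * z⁻¹ * k⁻¹ = z * (k * z⁻¹ * k⁻¹) by group]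
  exact mul_mem hz' h1

theorem wOf_le_centralizer_core (K : Subgroup G) :
    wOf K ≤ centralizer (pCoreOf 2 K : Set G) := by
  rw [wOf, commutator_le]
  intro z hz k hk
  have hn : k ∈ normalizer (omegaCenterOf (pCoreOf 2 K) : Set G) :=
    normalizer_le_normalizer_omegaCenterOf _ (Functor.le_normalizer_pCoreOf 2 K hk)
  have h1 := (mem_normalizer_iff.mp hn z⁻¹).mp (inv_mem hz)
  rw [commutatorElement_def, show z * k * z⁻¹ * k⁻¹ = z * (k * z⁻¹ * k⁻¹) by group]
  exact (Thompson.omegaOne_le _ (mul_mem hz h1)).2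

namespace Data

theorem le_normalizer (d : Data J K) : J ≤ normalizer (K : Set G) := by
  intro j hj
  refine LocalB.mem_normalizer_of_conj_le fun k hk => ?_
  have h1 : ⁅j, k⁆ ∈ K := by
    have := commutator_mem_commutator hj hk
    rwa [commutator_comm, d.comm] at this
  rw [commutatorElement_def] at h1
  simpa using mul_mem h1 hk

theorem sup_le_normalizer (d : Data J K) : K ⊔ J ≤ normalizer (K : Set G) :=
  sup_le Subgroup.le_normalizer d.le_normalizer

theorem sup_le_normalizer_w (d : Data J K) : K ⊔ J ≤ normalizer (wOf K : Set G) :=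
  d.sup_le_normalizer.trans (normalizer_le_normalizer_wOf K)

theorem sylow_sup (d : Data J K) : IsSylowTwoIn (pCoreOf 2 K ⊔ J) (K ⊔ J) := by
  set Q := pCoreOf 2 K with hQ
  have hQK : Q ≤ K := Functor.pCoreOf_le 2 K
  have hJQ : J ≤ normalizer (Q : Set G) :=
    d.le_normalizer.trans (normalizer_le_normalizer_pCoreOf 2 K)
  have hSP : IsPGroup 2 ↥(Q ⊔ J) :=
    (Functor.isPGroup_pCoreOf K).to_sup_of_normal_left' d.isP hJQ
  refine ⟨sup_le_sup_right hQK _, hSP, ?_⟩
  have h1 := Solvable.card_sup_mul_card_inf d.le_normalizer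
  have h2 := Solvable.card_sup_mul_card_inf hJQ
  have hK3 : Nat.card K = 3 * Nat.card Q := by
    rw [← d.three, ← hQ, ← relIndex_bot_left Q, ← relIndex_bot_left K, mul_comm,
      relIndex_mul_relIndex _ _ _ bot_le hQK]
  have hle : Q ⊔ J ≤ K ⊔ J := sup_le_sup_right hQK _
  have h3 : Nat.card ↥(Q ⊔ J) * (Q ⊔ J).relIndex (K ⊔ J) = Nat.card ↥(K ⊔ J) := by
    rw [← relIndex_bot_left (Q ⊔ J), ← relIndex_bot_left (K ⊔ J),
      relIndex_mul_relIndex _ _ _ bot_le hle]
  obtain ⟨m, hm⟩ := card_dvd_of_le (inf_le_inf_left J hQK : J ⊓ Q ≤ J ⊓ K)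
  rw [sup_comm, hK3, hm, ← h3] at h1
  rw [sup_comm] at h2
  have h4 : (Q ⊔ J).relIndex (K ⊔ J) * m = 3 := by
    have h5 : Nat.card ↥(Q ⊔ J) * Nat.card ↥(J ⊓ Q) *
        ((Q ⊔ J).relIndex (K ⊔ J) * m) = Nat.card ↥(Q ⊔ J) * Nat.card ↥(J ⊓ Q) * 3 := by
      calc _ = Nat.card ↥(Q ⊔ J) * (Q ⊔ J).relIndex (K ⊔ J) * (Nat.card ↥(J ⊓ Q) * m) := by ring
        _ = Nat.card J * (3 * Nat.card Q) := h1
        _ = (Nat.card J * Nat.card Q) * 3 := by ring
        _ = _ := by rw [← h2]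
    exact Nat.eq_of_mul_eq_mul_left (Nat.mul_pos Nat.card_pos Nat.card_pos) h5
  have h6 : Odd ((Q ⊔ J).relIndex (K ⊔ J) * m) := h4 ▸ (by decide : Odd 3)
  exact (Nat.odd_mul.mp h6).1

theorem j_eq (d : Data J K) : thompsonSubgroupOf 2 (pCoreOf 2 K ⊔ J) = J :=
  d.sylow _ d.sylow_sup le_sup_right

theorem maxIn_le (d : Data J K) {A : Subgroup G}
    (hA : A ∈ Thompson.maxIn 2 (pCoreOf 2 K ⊔ J)) : A ≤ J := by
  have := le_sSup (α := Subgroup G) hA
  rwa [← Thompson.thompsonSubgroupOf_eq, d.j_eq] at this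

theorem w_ne_bot (d : Data J K) : wOf K ≠ ⊥ := fun h => by
  have := d.card; rw [h, card_bot] at this; omega

theorem not_centralize (d : Data J K) : ¬ K ≤ centralizer (wOf K : Set G) := by
  intro hKC
  apply d.w_ne_bot
  rw [eq_bot_iff, wOf, commutator_le]
  intro v hv k hk
  rw [mem_bot]
  let φ : K →* G :=
    { toFun := fun k => ⁅v, (k : G)⁆
      map_one' := by simp
      map_mul' := fun a b => by
        have hb : ⁅v, (b : G)⁆ ∈ wOf K := commutator_mem_commutator hv b.2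
        have hc := mem_centralizer_iff.mp (hKC a.2) _ hb
        rw [Submonoid.coe_mul]
        calc ⁅v, (a : G) * b⁆ = ⁅v, (a : G)⁆ * ((a : G) * ⁅v, (b : G)⁆) * (a : G)⁻¹ := by
              simp only [commutatorElement_def]; group
          _ = ⁅v, (a : G)⁆ * ⁅v, (b : G)⁆ := by rw [← hc]; group }
  have hle : closure {g : G | g ∈ K ∧ Odd (orderOf g)} ≤ φ.ker.map K.subtype := by
    refine (closure_le _).mpr fun g hg => ⟨⟨g, hg.1⟩, ?_, rfl⟩
    have h1 : orderOf (φ ⟨g, hg.1⟩) ∣ orderOf g := by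
      refine (orderOf_map_dvd φ _).trans (dvd_of_eq ?_)
      exact (Subgroup.orderOf_coe _).symm
    have h2 : orderOf (φ ⟨g, hg.1⟩) ∣ 2 := orderOf_dvd_of_pow_eq_one (by
      rw [pow_two]; exact d.sq _ (commutator_mem_commutator hv hg.1))
    have h3 := Nat.dvd_gcd h1 h2
    rw [(Nat.coprime_two_right.mpr hg.2).gcd_eq_one, Nat.dvd_one, orderOf_eq_one_iff] at h3
    exact h3
  rw [d.gen] at hle
  obtain ⟨k', hk', hkk⟩ := hle hk
  rw [← hkk]
  exact hk'

/-- The non-trivial element of `W` fixed by the Sylow subgroup. -/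
theorem exists_fixed (d : Data J K) : ∃ w₀ ∈ wOf K, w₀ ≠ 1 ∧
    ∀ s ∈ pCoreOf 2 K ⊔ J, s * w₀ = w₀ * s := by
  set S := pCoreOf 2 K ⊔ J with hS
  have hWS : wOf K ≤ S := (wOf_le_core K).trans le_sup_left
  have : Fact (Nat.Prime 2) := ⟨Nat.prime_two⟩
  have : Group.IsNilpotent S := d.sylow_sup.2.1.isNilpotent
  have hn : ((wOf K).subgroupOf S).Normal := by
    refine (normal_subgroupOf_iff_le_normalizer hWS).2 ?_
    exact le_trans (sup_le_sup_right (Functor.pCoreOf_le 2 K) _) d.sup_le_normalizer_w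
  have hne : (wOf K).subgroupOf S ≠ ⊥ := by
    rw [Ne, ← map_eq_bot_iff_of_injective _ S.subtype_injective, map_subgroupOf_eq_of_le hWS]
    exact d.w_ne_bot
  obtain ⟨z, hz, hz1⟩ := (nontrivial_iff_exists_ne_one _).mp
    ((nontrivial_iff_ne_bot _).mpr (PGroupBasic.inf_center_ne_bot _ hne))
  exact ⟨z, hz.1, fun h => hz1 (Subtype.ext h),
    fun s hs => congrArg Subtype.val (mem_center_iff.mp hz.2 ⟨s, hs⟩)⟩

theorem mem_w_cases (d : Data J K) {a b : G} (ha : a ∈ wOf K) (hb : b ∈ wOf K) (ha1 : a ≠ 1)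
    (hb1 : b ≠ 1) (hab : a ≠ b) {w : G} (hw : w ∈ wOf K) :
    w = 1 ∨ w = a ∨ w = b ∨ w = a * b := by
  classical
  have : Fintype (wOf K) := Fintype.ofFinite _
  set a' : wOf K := ⟨a, ha⟩
  set b' : wOf K := ⟨b, hb⟩
  have h4 : ({1, a', b', a' * b'} : Finset (wOf K)) = Finset.univ := by
    refine Finset.eq_univ_of_card _ ?_
    rw [← Nat.card_eq_fintype_card, d.card]
    rw [Finset.card_insert_of_notMem, Finset.card_insert_of_notMem, Finset.card_pair]
    · intro h
      exact ha1 (congrArg Subtype.val (mul_eq_right.mp h.symm))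
    · simp only [Finset.mem_insert, Finset.mem_singleton, not_or]
      exact ⟨fun h => hab (congrArg Subtype.val h),
        fun h => hb1 (congrArg Subtype.val (mul_eq_left.mp h.symm))⟩
    · simp only [Finset.mem_insert, Finset.mem_singleton, not_or]
      refine ⟨fun h => ha1 (congrArg Subtype.val h).symm,
        fun h => hb1 (congrArg Subtype.val h).symm, fun h => hab ?_⟩
      have h1 : a * b = 1 := (congrArg Subtype.val h).symm
      have h2 : a * a = 1 := d.sq a ha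
      exact mul_left_cancel (h2.trans h1.symm)
  have := h4 ▸ Finset.mem_univ (⟨w, hw⟩ : wOf K)
  simp only [Finset.mem_insert, Finset.mem_singleton, Subtype.ext_iff] at this
  exact this

theorem exists_other (d : Data J K) (w₀ : G) : ∃ w₁ ∈ wOf K, w₁ ≠ 1 ∧ w₁ ≠ w₀ := by
  by_contra h
  simp only [not_exists, not_and, not_not] at h
  have : wOf K ≤ (zpowers w₀) := fun w hw => by
    by_cases h1 : w = 1
    · rw [h1]; exact one_mem _
    · rw [h w hw h1]; exact mem_zpowers _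
  by_cases hw₀ : w₀ ∈ wOf K
  · have h2 := Nat.le_of_dvd (by norm_num) (orderOf_dvd_of_pow_eq_one (x := w₀) (n := 2)
      (by rw [pow_two]; exact d.sq _ hw₀))
    have h3 := Nat.card_le_card_of_injective _ (inclusion_injective this)
    rw [d.card, Nat.card_zpowers] at h3
    omega
  · refine d.w_ne_bot (eq_bot_iff.mpr fun w hw => ?_)
    by_contra h1
    exact hw₀ (h w hw (fun h2 => h1 (mem_bot.mpr h2)) ▸ hw)

/-- An element of `K` outside `O₂(K)` fixes no non-trivial element of `W`. -/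
theorem fixed_eq_one (d : Data J K) {y w : G} (hy : y ∈ K) (hyQ : y ∉ pCoreOf 2 K)
    (hw : w ∈ wOf K) (h : y * w = w * y) : w = 1 := by
  by_contra hw1
  apply d.not_centralize
  set C := K ⊓ centralizer ({w} : Set G) with hC
  have hQC : pCoreOf 2 K ≤ C := le_inf (Functor.pCoreOf_le 2 K) fun q hq =>
    mem_centralizer_singleton_iff.mpr (mem_centralizer_iff.mp (wOf_le_centralizer_core K hw) q hq)
  have hCK : K ≤ C := by
    have h1 : (pCoreOf 2 K).relIndex C * C.relIndex K = 3 :=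
      (relIndex_mul_relIndex _ _ _ hQC inf_le_left).trans d.three
    rcases (Nat.dvd_prime Nat.prime_three).mp (Dvd.intro _ h1) with h2 | h2
    · exact absurd (relIndex_eq_one.mp h2 ⟨hy, mem_centralizer_singleton_iff.mpr h⟩) hyQ
    · rw [h2] at h1
      exact relIndex_eq_one.mp (by omega)
  obtain ⟨w₁, hw₁, hw₁1, hw₁w⟩ := d.exists_other w
  refine (le_of_eq d.gen.symm).trans ((closure_le _).mpr ?_)
  rintro k ⟨hk, hodd⟩
  have hkw : k * w = w * k := mem_centralizer_singleton_iff.mp (hCK hk).2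
  have hn : k ∈ normalizer (wOf K : Set G) :=
    normalizer_le_normalizer_wOf K (Subgroup.le_normalizer hk)
  have hfix : k * w₁ * k⁻¹ = w₁ := by
    have himg : k * w₁ * k⁻¹ ∈ wOf K := (mem_normalizer_iff.mp hn w₁).mp hw₁
    rcases d.mem_w_cases hw hw₁ hw1 hw₁1 (Ne.symm hw₁w) himg with h1 | h1 | h1 | h1
    · exact absurd (conj_eq_one_iff.mp h1) hw₁1
    · exfalso
      apply hw₁w
      calc w₁ = k⁻¹ * (k * w₁ * k⁻¹) * k := by group
        _ = k⁻¹ * (w * k) := by rw [h1, mul_assoc]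
        _ = w := by rw [← hkw, inv_mul_cancel_left]
    · exact h1
    · -- `k²` fixes `w₁`, so `k` does
      exfalso
      have h2 : k ^ 2 * w₁ = w₁ * k ^ 2 := by
        have h4 : k * w₁ = w * w₁ * k := mul_inv_eq_iff_eq_mul.mp h1
        calc k ^ 2 * w₁ = k * (k * w₁) := by rw [pow_two, mul_assoc]
          _ = k * w * (w₁ * k) := by rw [h4]; group
          _ = w * (k * w₁) * k := by rw [hkw]; group
          _ = (w * w) * w₁ * (k * k) := by rw [h4]; group
          _ = w₁ * k ^ 2 := by rw [d.sq w hw, one_mul, pow_two]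
      obtain ⟨t, ht⟩ := hodd
      have hk1 : k = (k ^ 2) ^ (t + 1) := by
        rw [← pow_mul, show 2 * (t + 1) = orderOf k + 1 by omega, pow_succ, pow_orderOf_eq_one,
          one_mul]
      have h3 : k * w₁ = w₁ * k := by
        rw [hk1]; exact ((show Commute (k ^ 2) w₁ from h2).pow_left (t + 1)).eq
      rw [h3, mul_inv_cancel_right] at h1
      exact hw1 (mul_eq_right.mp h1.symm)
  refine mem_centralizer_iff.mpr fun u hu => ?_
  rcases d.mem_w_cases hw hw₁ hw1 hw₁1 (Ne.symm hw₁w) hu with rfl | rfl | rfl | rfl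
  · simp
  · exact hkw.symm
  · exact (mul_inv_eq_iff_eq_mul.mp hfix).symm
  · exact ((show Commute k w from hkw).mul_right (mul_inv_eq_iff_eq_mul.mp hfix)).eq.symm

theorem exists_mem_not_core (d : Data J K) : ∃ y ∈ K, y ∉ pCoreOf 2 K := by
  by_contra h
  simp only [not_exists, not_and, not_not] at h
  have := relIndex_eq_one.mpr h
  rw [d.three] at this
  omega

theorem le_of_core_le (d : Data J K) {X : Subgroup G} (hQ : pCoreOf 2 K ≤ X) {y : G}
    (hy : y ∈ K) (hyQ : y ∉ pCoreOf 2 K) (hyX : y ∈ X) : K ≤ X := by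
  have hQC : pCoreOf 2 K ≤ K ⊓ X := le_inf (Functor.pCoreOf_le 2 K) hQ
  have h1 : (pCoreOf 2 K).relIndex (K ⊓ X) * (K ⊓ X).relIndex K = 3 :=
    (relIndex_mul_relIndex _ _ _ hQC inf_le_left).trans d.three
  rcases (Nat.dvd_prime Nat.prime_three).mp (Dvd.intro _ h1) with h2 | h2
  · exact absurd (relIndex_eq_one.mp h2 ⟨hy, hyX⟩) hyQ
  · rw [h2] at h1
    exact (relIndex_eq_one.mp (by omega : (K ⊓ X).relIndex K = 1)).trans inf_le_right

/-- The centralizer of `W` in `⟨K, J⟩` lies in `O₂(K)J`. -/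
theorem centralizer_le (d : Data J K) :
    (K ⊔ J) ⊓ centralizer (wOf K : Set G) ≤ pCoreOf 2 K ⊔ J := by
  rintro h ⟨hh, hhC⟩
  rw [sup_comm] at hh
  obtain ⟨j, hj, k, hk, rfl⟩ := (Solvable.mem_sup_of_le_normalizer d.le_normalizer).mp hh
  obtain ⟨w₀, hw₀, hw₀1, hfix⟩ := d.exists_fixed
  have hjw : Commute j w₀ := hfix j (mem_sup_right hj)
  have hkw : Commute k w₀ := by
    have h1 : Commute (j * k) w₀ := (mem_centralizer_iff.mp hhC w₀ hw₀).symm
    simpa using hjw.inv_left.mul_left h1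
  have hkQ : k ∈ pCoreOf 2 K := by
    by_contra h
    exact hw₀1 (d.fixed_eq_one hk h hw₀ hkw.eq)
  exact mul_mem (mem_sup_right hj) (mem_sup_left hkQ)

theorem exists_fixed_other (d : Data J K) : ∃ w₀ ∈ wOf K, w₀ ≠ 1 ∧
    (∀ s ∈ pCoreOf 2 K ⊔ J, s * w₀ = w₀ * s) ∧
    (∀ w ∈ wOf K, w ∈ centralizer (J : Set G) → w = 1 ∨ w = w₀) := by
  obtain ⟨w₀, hw₀, hw₀1, hfix⟩ := d.exists_fixed
  refine ⟨w₀, hw₀, hw₀1, hfix, fun w hw hwJ => ?_⟩
  by_contra hne
  rw [not_or] at hne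
  apply d.not_centralize
  -- otherwise `J` centralizes `W`, hence so does `[K, J] = K`
  have hJC : J ≤ centralizer (wOf K : Set G) := fun j hj =>
    mem_centralizer_iff.mpr fun u hu => by
      have h1 : Commute j w₀ := hfix j (mem_sup_right hj)
      have h2 : Commute j w := mem_centralizer_iff.mp hwJ j hj
      rcases d.mem_w_cases hw₀ hw hw₀1 hne.1 (Ne.symm hne.2) hu with rfl | rfl | rfl | rfl
      · simp
      · exact h1.eq.symm
      · exact h2.eq.symm
      · exact (h1.mul_right h2).eq.symm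
  refine (le_of_eq d.comm.symm).trans (commutator_le.mpr ?_)
  intro k hk j hj
  have hkn : k ∈ normalizer (wOf K : Set G) :=
    normalizer_le_normalizer_wOf K (Subgroup.le_normalizer hk)
  rw [commutatorElement_def]
  refine mul_mem ?_ (inv_mem (hJC hj))
  refine mem_centralizer_iff.mpr fun u hu => ?_
  have h1 : k⁻¹ * u * k ∈ wOf K := by simpa using (mem_normalizer_iff.mp (inv_mem hkn) u).mp hu
  have h2 := mem_centralizer_iff.mp (hJC hj) _ h1
  calc u * (k * j * k⁻¹) = k * (k⁻¹ * u * k * j) * k⁻¹ := by group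
    _ = k * j * k⁻¹ * u := by rw [h2]; group

/-- A maximal elementary abelian subgroup not centralizing `W` gives one containing `W`. -/
theorem swap_mem_maxIn (d : Data J K) {A : Subgroup G}
    (hA : A ∈ Thompson.maxIn 2 (pCoreOf 2 K ⊔ J)) (hAW : ¬ A ≤ centralizer (wOf K : Set G)) :
    (A ⊓ centralizer (wOf K : Set G)) ⊔ wOf K ∈ Thompson.maxIn 2 (pCoreOf 2 K ⊔ J) := by
  obtain ⟨w₀, hw₀, hw₀1, hfix⟩ := d.exists_fixed
  obtain ⟨w₁, hw₁, hw₁1, hw₁0⟩ := d.exists_other w₀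
  set C := centralizer (wOf K : Set G) with hCdef
  set A₀ := A ⊓ C with hA₀
  obtain ⟨a, ha, haC⟩ := SetLike.not_le_iff_exists.mp hAW
  have hSn : pCoreOf 2 K ⊔ J ≤ normalizer (wOf K : Set G) :=
    (sup_le_sup_right (Functor.pCoreOf_le 2 K) _).trans d.sup_le_normalizer_w
  have hmove : ∀ s ∈ pCoreOf 2 K ⊔ J, s ∉ C → s * w₁ * s⁻¹ = w₀ * w₁ := by
    intro s hs hsC
    have h0 : Commute s w₀ := hfix s hs
    have himg := (mem_normalizer_iff.mp (hSn hs) w₁).mp hw₁
    rcases d.mem_w_cases hw₀ hw₁ hw₀1 hw₁1 (Ne.symm hw₁0) himg with h1 | h1 | h1 | h1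
    · exact absurd (conj_eq_one_iff.mp h1) hw₁1
    · exfalso
      apply hw₁0
      calc w₁ = s⁻¹ * (s * w₁ * s⁻¹) * s := by group
        _ = s⁻¹ * (w₀ * s) := by rw [h1, mul_assoc]
        _ = w₀ := by rw [← h0.eq, inv_mul_cancel_left]
    · exfalso
      apply hsC
      have h2 : Commute s w₁ := mul_inv_eq_iff_eq_mul.mp h1
      refine mem_centralizer_iff.mpr fun u hu => ?_
      rcases d.mem_w_cases hw₀ hw₁ hw₀1 hw₁1 (Ne.symm hw₁0) hu with rfl | rfl | rfl | rfl
      · simp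
      · exact h0.eq.symm
      · exact h2.eq.symm
      · exact (h0.mul_right h2).eq.symm
    · exact h1
  have hinf : ∀ u ∈ A₀ ⊓ wOf K, u ∈ zpowers w₀ := by
    rintro u ⟨⟨huA, -⟩, huW⟩
    have h1 : Commute a u := Thompson.elab_commute hA.2.1 ha huA
    have h2 : Commute a w₀ := hfix a (hA.1 ha)
    have h3 : a * w₁ * a⁻¹ = w₀ * w₁ := hmove a (hA.1 ha) haC
    rcases d.mem_w_cases hw₀ hw₁ hw₀1 hw₁1 (Ne.symm hw₁0) huW with rfl | rfl | rfl | rfl
    · exact one_mem _
    · exact mem_zpowers _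
    · exfalso
      rw [h1.eq, mul_inv_cancel_right] at h3
      exact hw₀1 (mul_eq_right.mp h3.symm)
    · exfalso
      have h4 : Commute a w₁ := by
        have := h2.inv_right.mul_right h1
        rwa [inv_mul_cancel_left] at this
      rw [h4.eq, mul_inv_cancel_right] at h3
      exact hw₀1 (mul_eq_right.mp h3.symm)
  have hidx : A₀.relIndex A ≤ 2 := by
    rw [relIndex]
    by_cases htop : A₀.subgroupOf A = ⊤
    · rw [htop, index_top]; norm_num
    refine le_of_eq (index_eq_two_iff'.mpr ⟨⟨a, ha⟩, fun b => ?_⟩)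
    by_cases hb : b ∈ A₀.subgroupOf A
    · refine Or.inr ⟨hb, fun h => haC ?_⟩
      have h1 : (a * (b : G)) * (b : G)⁻¹ ∈ A₀ := mul_mem h (inv_mem hb)
      rw [mul_inv_cancel_right] at h1
      exact h1.2
    · refine Or.inl ⟨?_, hb⟩
      refine ⟨mul_mem ha b.2, ?_⟩
      have hbC : (b : G) ∉ C := fun h => hb ⟨b.2, h⟩
      show a * (b : G) ∈ C
      refine mem_centralizer_iff.mpr fun u hu => ?_
      have e : (a * (b : G)) * w₁ * (a * (b : G))⁻¹ = w₁ := by
        calc (a * (b : G)) * w₁ * (a * (b : G))⁻¹ = a * ((b : G) * w₁ * (b : G)⁻¹) * a⁻¹ := by group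
          _ = a * w₀ * w₁ * a⁻¹ := by rw [hmove b (hA.1 b.2) hbC]; group
          _ = w₀ * (a * w₁ * a⁻¹) := by rw [hfix a (hA.1 ha)]; group
          _ = w₁ := by rw [hmove a (hA.1 ha) haC, ← mul_assoc, d.sq w₀ hw₀, one_mul]
      have h0 : Commute (a * (b : G)) w₀ := hfix _ (hA.1 (mul_mem ha b.2))
      have h1 : Commute (a * (b : G)) w₁ := mul_inv_eq_iff_eq_mul.mp e
      rcases d.mem_w_cases hw₀ hw₁ hw₀1 hw₁1 (Ne.symm hw₁0) hu with rfl | rfl | rfl | rfl
      · simp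
      · exact h0.eq.symm
      · exact h1.eq.symm
      · exact (h0.mul_right h1).eq.symm
  have hW2 : IsElementaryAbelian 2 (wOf K) := by
    refine ⟨⟨⟨fun u v => Subtype.ext ?_⟩⟩, fun u hu => by rw [pow_two]; exact d.sq u hu⟩
    exact (mem_centralizer_iff.mp (wOf_le_centralizer_core K v.2) _ (wOf_le_core K u.2))
  have hA' := Thompson.elab_sup (Thompson.elab_mono hA.2.1 inf_le_left) hW2
    (inf_le_right : A₀ ≤ C)
  refine ⟨sup_le (inf_le_left.trans hA.1) ((wOf_le_core K).trans le_sup_left), hA',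
    fun B hB hBe => (hA.2.2 B hB hBe).trans ?_⟩
  have h1 := Solvable.card_sup_mul_card_inf (A := A₀) (K := wOf K)
    ((inf_le_right : A₀ ≤ C).trans (centralizer_le_normalizer _))
  have h2 : Nat.card ↥(A₀ ⊓ wOf K) ≤ 2 := by
    refine (Nat.card_le_card_of_injective _ (inclusion_injective hinf)).trans ?_
    rw [Nat.card_zpowers]
    exact orderOf_le_of_pow_eq_one two_pos (by rw [pow_two]; exact d.sq _ hw₀)
  have h3 : Nat.card A = Nat.card A₀ * A₀.relIndex A := by
    rw [← relIndex_bot_left A, ← relIndex_bot_left A₀,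
      relIndex_mul_relIndex _ _ _ bot_le inf_le_left]
  rw [d.card] at h1
  nlinarith [Nat.mul_le_mul_left (Nat.card ↥(A₀ ⊔ wOf K)) h2,
    Nat.mul_le_mul_left (Nat.card A₀) hidx]

theorem mem_of_commute_maxIn {U A : Subgroup G} (hA : A ∈ Thompson.maxIn 2 U) {x : G} (hxU : x ∈ U)
    (hx : x ^ 2 = 1) (hc : ∀ a ∈ A, a * x = x * a) : x ∈ A := by
  have hsup := Thompson.elab_sup (Thompson.elab_zpowers hx) hA.2.1
    (zpowers_le.mpr (mem_centralizer_iff.mpr hc))
  have := eq_of_le_of_card_ge (le_sup_right (a := zpowers x))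
    (hA.2.2 _ (sup_le (zpowers_le.mpr hxU) hA.1) hsup)
  rw [this]
  exact le_sup_left (b := A) (mem_zpowers x)

/-- `w₀` is in the Thompson subgroup. -/
theorem fixed_mem (d : Data J K) {w₀ : G} (hw₀ : w₀ ∈ wOf K)
    (hfix : ∀ s ∈ pCoreOf 2 K ⊔ J, s * w₀ = w₀ * s) : w₀ ∈ J := by
  obtain ⟨A, hA⟩ := Thompson.exists_maxIn (p := 2) (pCoreOf 2 K ⊔ J)
  exact d.maxIn_le hA (mem_of_commute_maxIn hA (mem_sup_left (wOf_le_core K hw₀))
    (by rw [pow_two]; exact d.sq _ hw₀) fun a ha => hfix a (hA.1 ha))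

/-- The key commutator containment. -/
theorem commutator_mem_w (d : Data J K) {z : G} (hzJ : z ∈ J) (hzC : z ∈ centralizer (J : Set G))
    (hz2 : z ^ 2 = 1) {k : G} (hk : k ∈ K) : k * z * k⁻¹ * z⁻¹ ∈ wOf K := by
  set S := pCoreOf 2 K ⊔ J with hS
  set C := centralizer (wOf K : Set G) with hC
  set H := K ⊔ J with hH
  have hSH : S ≤ H := sup_le_sup_right (Functor.pCoreOf_le 2 K) _
  have hHn : H ≤ normalizer (wOf K : Set G) := d.sup_le_normalizer_w
  let Z₁ : Set G := {x | x ∈ H ∧ x ^ 2 = 1 ∧ x ∈ C ∧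
    ∀ B ∈ Thompson.maxIn 2 S, B ≤ C → ∀ b ∈ B, b * x = x * b}
  have hinv : ∀ h ∈ H, ∀ x ∈ Z₁, h * x * h⁻¹ ∈ Z₁ := by
    intro h hh x hx
    obtain ⟨hxH, hx2, hxC, hxB⟩ := hx
    have hn := hHn hh
    refine ⟨mul_mem (mul_mem hh hxH) (inv_mem hh), by rw [conj_pow, hx2, mul_one, mul_inv_cancel],
      ?_, ?_⟩
    · refine mem_centralizer_iff.mpr fun u hu => ?_
      have h1 : h⁻¹ * u * h ∈ wOf K := by simpa using (mem_normalizer_iff.mp (inv_mem hn) u).mp hu
      have h2 := mem_centralizer_iff.mp hxC _ h1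
      calc u * (h * x * h⁻¹) = h * (h⁻¹ * u * h * x) * h⁻¹ := by group
        _ = h * x * h⁻¹ * u := by rw [h2]; group
    · intro B hB hBC b hb
      set B' := B.map (MulAut.conj h⁻¹).toMonoidHom with hB'
      have hB'C : B' ≤ C := by
        rintro _ ⟨c, hc, rfl⟩
        refine mem_centralizer_iff.mpr fun u hu => ?_
        have h1 : h * u * h⁻¹ ∈ wOf K := (mem_normalizer_iff.mp hn u).mp hu
        have h2 := mem_centralizer_iff.mp (hBC hc) _ h1
        simp only [MulEquiv.toMonoidHom_eq_coe, MonoidHom.coe_coe, MulAut.conj_apply, inv_inv]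
        calc u * (h⁻¹ * c * h) = h⁻¹ * (h * u * h⁻¹ * c) * h := by group
          _ = h⁻¹ * c * h * u := by rw [h2]; group
      have hB'H : B' ≤ H := by
        rintro _ ⟨c, hcB, rfl⟩
        simp only [MulEquiv.toMonoidHom_eq_coe, MonoidHom.coe_coe, MulAut.conj_apply, inv_inv]
        exact H.mul_mem (H.mul_mem (H.inv_mem hh) (hSH (hB.1 hcB))) hh
      have hB'S : B' ≤ S := fun c hc => d.centralizer_le ⟨hB'H hc, hB'C hc⟩
      have hB'm : B' ∈ Thompson.maxIn 2 S := ⟨hB'S, Thompson.elab_map _ hB.2.1,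
        fun D hD hDe => (hB.2.2 D hD hDe).trans (LocalB.card_map_conj B h⁻¹).ge⟩
      have h3 := hxB B' hB'm hB'C (h⁻¹ * b * h) ⟨b, hb, by simp⟩
      calc b * (h * x * h⁻¹) = h * (h⁻¹ * b * h * x) * h⁻¹ := by group
        _ = h * x * h⁻¹ * b := by rw [h3]; group
  let L : Subgroup G :=
    { carrier := {h | h ∈ H ∧ ∀ x ∈ Z₁, h * x * h⁻¹ * x⁻¹ ∈ wOf K}
      one_mem' := ⟨one_mem _, fun x _ => by simp⟩
      mul_mem' := fun {g h} hg hh => ⟨mul_mem hg.1 hh.1, fun x hx => by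
        have h1 := (mem_normalizer_iff.mp (hHn hg.1) _).mp (hh.2 x hx)
        rw [show g * h * x * (g * h)⁻¹ * x⁻¹
          = (g * (h * x * h⁻¹ * x⁻¹) * g⁻¹) * (g * x * g⁻¹ * x⁻¹) by group]
        exact mul_mem h1 (hg.2 x hx)⟩
      inv_mem' := fun {h} hh => ⟨inv_mem hh.1, fun x hx => by
        have h1 := hh.2 _ (hinv h⁻¹ (inv_mem hh.1) x hx)
        rw [show h⁻¹ * x * h⁻¹⁻¹ * x⁻¹
          = (h * (h⁻¹ * x * h⁻¹⁻¹) * h⁻¹ * (h⁻¹ * x * h⁻¹⁻¹)⁻¹)⁻¹ by group]
        exact inv_mem h1⟩ }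
  have hJL : J ≤ L := by
    refine (le_of_eq (d.j_eq.symm.trans (Thompson.thompsonSubgroupOf_eq _))).trans (sSup_le ?_)
    intro A hA a ha
    refine ⟨hSH (hA.1 ha), fun x hx => ?_⟩
    by_cases hAC : A ≤ C
    · rw [hx.2.2.2 A hA hAC a ha, mul_inv_cancel_right, mul_inv_cancel]
      exact one_mem _
    · have hA' := d.swap_mem_maxIn hA hAC
      have hA'C : (A ⊓ C) ⊔ wOf K ≤ C := sup_le inf_le_right fun u hu =>
        mem_centralizer_iff.mpr fun v hv =>
          mem_centralizer_iff.mp (wOf_le_centralizer_core K hu) v (wOf_le_core K hv)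
      have hxS : x ∈ S := d.centralizer_le ⟨hx.1, hx.2.2.1⟩
      have hxA' := mem_of_commute_maxIn hA' hxS hx.2.1 (hx.2.2.2 _ hA' hA'C)
      obtain ⟨a₀, ha₀, u, hu, rfl⟩ := (Solvable.mem_sup_of_le_normalizer
        ((inf_le_right : A ⊓ C ≤ C).trans (centralizer_le_normalizer _))).mp hxA'
      have h1 : a * a₀ = a₀ * a := Thompson.elab_commute hA.2.1 ha ha₀.1
      have hua : a * u * a⁻¹ ∈ wOf K := (mem_normalizer_iff.mp (hHn (hSH (hA.1 ha))) u).mp hu
      have hc : a₀ * (a * u * a⁻¹ * u⁻¹) * a₀⁻¹ = a * u * a⁻¹ * u⁻¹ := by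
        have := mem_centralizer_iff.mp ha₀.2 _ (mul_mem hua (inv_mem hu))
        rw [← this, mul_inv_cancel_right]
      rw [show a * (a₀ * u) * a⁻¹ * (a₀ * u)⁻¹ = (a * a₀) * u * a⁻¹ * u⁻¹ * a₀⁻¹ by group, h1,
        show a₀ * a * u * a⁻¹ * u⁻¹ * a₀⁻¹ = a₀ * (a * u * a⁻¹ * u⁻¹) * a₀⁻¹ by group, hc]
      exact mul_mem hua (inv_mem hu)
  have hKL : K ≤ L := by
    refine (le_of_eq d.comm.symm).trans (commutator_le.mpr ?_)
    intro g hg j hj
    rw [commutatorElement_def]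
    refine mul_mem ⟨mul_mem (mul_mem (mem_sup_left hg) (mem_sup_right hj))
      (inv_mem (mem_sup_left hg)), fun x hx => ?_⟩ (inv_mem (hJL hj))
    have hgH : g ∈ H := mem_sup_left hg
    have h1 := (hJL hj).2 _ (hinv g⁻¹ (inv_mem hgH) x hx)
    have h2 := (mem_normalizer_iff.mp (hHn hgH) _).mp h1
    convert h2 using 1
    group
  refine (hKL hk).2 z ⟨mem_sup_right hzJ, hz2, ?_, fun B hB hBC b hb => ?_⟩
  · obtain ⟨A, hA, hAC⟩ : ∃ A ∈ Thompson.maxIn 2 S, ¬ A ≤ C := by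
      by_contra h
      simp only [not_exists, not_and, not_not] at h
      have hJC : J ≤ C := by
        exact (le_of_eq (d.j_eq.symm.trans (Thompson.thompsonSubgroupOf_eq _))).trans (sSup_le h)
      obtain ⟨w₀, -, -, -, hu⟩ := d.exists_fixed_other
      obtain ⟨w₁, hw₁, hw₁1, hw₁0⟩ := d.exists_other w₀
      have hw₁J : w₁ ∈ centralizer (J : Set G) :=
        mem_centralizer_iff.mpr fun j hj => (mem_centralizer_iff.mp (hJC hj) w₁ hw₁).symm
      rcases hu w₁ hw₁ hw₁J with h | h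
      · exact hw₁1 h
      · exact hw₁0 h
    have hA' := d.swap_mem_maxIn hA hAC
    refine mem_centralizer_iff.mpr fun u hu => ?_
    exact mem_centralizer_iff.mp hzC u (d.maxIn_le hA' (mem_sup_right hu))
  · exact mem_centralizer_iff.mp hzC b (d.maxIn_le hB hb)

theorem omegaCenter_mem_iff {z : G} : z ∈ omegaCenterOf J →
    z ∈ J ∧ z ∈ centralizer (J : Set G) ∧ z ^ 2 = 1 := fun hz => by
  have he : IsElementaryAbelian 2 (omegaCenterOf J) := Thompson.elab_omegaOne fun u hu v hv =>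
    mem_centralizer_iff.mp hv.2 u hu.1
  have h := Thompson.omegaOne_le _ hz
  exact ⟨h.1, h.2, he.2 z hz⟩

/-- The splitting of `Ω₁(Z(J))`. -/
theorem omegaCenter_split (d : Data J K) :
    Nat.card ↥(omegaCenterOf J ⊓ wOf K) = 2 ∧
    (omegaCenterOf J ⊓ ((K ⊔ J) ⊓ centralizer ((K ⊔ J : Subgroup G) : Set G))) ⊔
      (omegaCenterOf J ⊓ wOf K) = omegaCenterOf J := by
  obtain ⟨w₀, hw₀, hw₀1, hfix, huniq⟩ := d.exists_fixed_other
  have hw₀Z : w₀ ∈ omegaCenterOf J := Thompson.mem_omegaOne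
    ⟨d.fixed_mem hw₀ hfix, mem_centralizer_iff.mpr fun j hj => hfix j (mem_sup_right hj)⟩
    (by rw [pow_two]; exact d.sq _ hw₀)
  have heq : omegaCenterOf J ⊓ wOf K = zpowers w₀ := by
    refine le_antisymm ?_ (zpowers_le.mpr ⟨hw₀Z, hw₀⟩)
    rintro u ⟨hu, huW⟩
    rcases huniq u huW (omegaCenter_mem_iff hu).2.1 with rfl | rfl
    · exact one_mem _
    · exact mem_zpowers _
  refine ⟨?_, le_antisymm (sup_le inf_le_left inf_le_left) ?_⟩
  · rw [heq, Nat.card_zpowers]
    exact orderOf_eq_prime (by rw [pow_two]; exact d.sq _ hw₀) hw₀1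
  intro z hz
  obtain ⟨hzJ, hzC, hz2⟩ := omegaCenter_mem_iff hz
  obtain ⟨y, hy, hyQ⟩ := d.exists_mem_not_core
  have hJn : pCoreOf 2 K ≤ normalizer (J : Set G) := by
    have h1 := Thompson.normalizer_le_normalizer_thompsonSubgroupOf (p := 2) (pCoreOf 2 K ⊔ J)
    rw [d.j_eq] at h1
    exact (le_sup_left.trans Subgroup.le_normalizer).trans h1
  -- `O₂(K)` centralizes `z`
  have hQz : ∀ q ∈ pCoreOf 2 K, q * z * q⁻¹ * z⁻¹ = 1 ∨ q * z * q⁻¹ * z⁻¹ = w₀ := fun q hq => by
    refine huniq _ (d.commutator_mem_w hzJ hzC hz2 (Functor.pCoreOf_le 2 K hq)) ?_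
    refine mul_mem ?_ (inv_mem hzC)
    refine mem_centralizer_iff.mpr fun j hj => ?_
    have h1 : q⁻¹ * j * q ∈ J := by simpa using (mem_normalizer_iff.mp (inv_mem (hJn hq)) j).mp hj
    have h2 := mem_centralizer_iff.mp hzC _ h1
    calc j * (q * z * q⁻¹) = q * (q⁻¹ * j * q * z) * q⁻¹ := by group
      _ = q * z * q⁻¹ * j := by rw [h2]; group
  have hQz' : ∀ q ∈ pCoreOf 2 K, q * z = z * q := by
    intro q hq
    rcases hQz q hq with h | h
    · exact mul_inv_eq_iff_eq_mul.mp (mul_inv_eq_one.mp h)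
    exfalso
    set w := y⁻¹ * z * y * z⁻¹ with hw
    have hwW : w ∈ wOf K := by
      have := d.commutator_mem_w hzJ hzC hz2 (inv_mem hy)
      simpa [hw] using this
    have hwq : q * w * q⁻¹ = w :=
      mul_inv_eq_iff_eq_mul.mpr (mem_centralizer_iff.mp (wOf_le_centralizer_core K hwW) q hq)
    have hw₀w : Commute w w₀ :=
      (mem_centralizer_iff.mp (wOf_le_centralizer_core K hwW) _ (wOf_le_core K hw₀)).symm
    have hq' : y * q * y⁻¹ ∈ pCoreOf 2 K :=
      (mem_normalizer_iff.mp (Functor.le_normalizer_pCoreOf 2 K hy) q).mp hq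
    have e : (y * q * y⁻¹) * z * (y * q * y⁻¹)⁻¹ * z⁻¹ = y * w₀ * y⁻¹ := by
      calc (y * q * y⁻¹) * z * (y * q * y⁻¹)⁻¹ * z⁻¹
          = y * ((q * w * q⁻¹) * (q * z * q⁻¹ * z⁻¹) * w⁻¹) * y⁻¹ := by rw [hw]; group
        _ = y * w₀ * y⁻¹ := by rw [hwq, h, hw₀w.eq, mul_inv_cancel_right]
    have hne : y * w₀ * y⁻¹ ≠ w₀ := fun h' =>
      hw₀1 (d.fixed_eq_one hy hyQ hw₀ (mul_inv_eq_iff_eq_mul.mp h'))
    rcases hQz _ hq' with h' | h'
    · rw [e] at h'; exact hw₀1 (conj_eq_one_iff.mp h')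
    · rw [e] at h'; exact hne h'
  -- the fixed-point component
  have hyn : y ∈ normalizer (wOf K : Set G) :=
    normalizer_le_normalizer_wOf K (Subgroup.le_normalizer hy)
  have hWc : ∀ u ∈ wOf K, ∀ v ∈ wOf K, u * v = v * u := fun u hu v hv =>
    (mem_centralizer_iff.mp (wOf_le_centralizer_core K hu) v (wOf_le_core K hv)).symm
  let φ : wOf K → wOf K := fun w =>
    ⟨y * w * y⁻¹ * (w : G)⁻¹, mul_mem ((mem_normalizer_iff.mp hyn _).mp w.2) (inv_mem w.2)⟩
  have hinj : Function.Injective φ := fun u v huv => by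
    have h1 : y * u * y⁻¹ * (u : G)⁻¹ = y * v * y⁻¹ * (v : G)⁻¹ := congrArg Subtype.val huv
    have h2 : y * ((v : G)⁻¹ * u) * y⁻¹ = (v : G)⁻¹ * u := by
      calc y * ((v : G)⁻¹ * u) * y⁻¹ = (y * v * y⁻¹)⁻¹ * ((y * u * y⁻¹ * (u : G)⁻¹) * u) := by group
        _ = (v : G)⁻¹ * u := by rw [h1]; group
    exact Subtype.ext (inv_mul_eq_one.mp (d.fixed_eq_one hy hyQ (mul_mem (inv_mem v.2) u.2)
      (mul_inv_eq_iff_eq_mul.mp h2))).symm
  obtain ⟨w, hw⟩ := Finite.surjective_of_injective hinj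
    ⟨y * z * y⁻¹ * z⁻¹, d.commutator_mem_w hzJ hzC hz2 hy⟩
  have hw' : y * w * y⁻¹ * (w : G)⁻¹ = y * z * y⁻¹ * z⁻¹ := congrArg Subtype.val hw
  set f := z * (w : G)⁻¹ with hf
  have hzw : Commute z (w : G) := by
    have h1 : (w : G) ∈ pCoreOf 2 K := wOf_le_core K w.2
    exact (hQz' _ h1).symm
  have hfy : y * f * y⁻¹ = f := by
    calc y * f * y⁻¹ = (y * z * y⁻¹ * z⁻¹) * z * (y * w * y⁻¹)⁻¹ := by rw [hf]; group
      _ = (y * w * y⁻¹) * ((w : G)⁻¹ * z) * (y * w * y⁻¹)⁻¹ := by rw [← hw']; group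
      _ = f := by
        rw [hf, ← hzw.inv_right.eq]
        have h1 : Commute (y * w * y⁻¹) (w : G)⁻¹ := Commute.inv_right (hWc _
          ((mem_normalizer_iff.mp hyn _).mp w.2) _ w.2)
        have h2 : Commute (y * w * y⁻¹) z :=
          (hQz' _ (wOf_le_core K ((mem_normalizer_iff.mp hyn _).mp w.2)))
        rw [(h2.mul_right h1).eq, mul_inv_cancel_right]
  have hfK : ∀ k ∈ K, k * f = f * k := by
    have hsub : K ≤ centralizer ({f} : Set G) := by
      refine d.le_of_core_le (fun q hq => mem_centralizer_singleton_iff.mpr ?_) hy hyQ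
        (mem_centralizer_singleton_iff.mpr (mul_inv_eq_iff_eq_mul.mp hfy))
      exact ((show Commute q z from hQz' q hq).mul_right
        (Commute.inv_right (mem_centralizer_iff.mp (wOf_le_centralizer_core K w.2) q hq))).eq
    exact fun k hk => mem_centralizer_singleton_iff.mp (hsub hk)
  have hfJ : ∀ j ∈ J, j * f = f * j := by
    intro j hj
    have hjn := d.sup_le_normalizer_w (mem_sup_right hj)
    have hjz : Commute j z := mem_centralizer_iff.mp hzC j hj
    have hfj : ∀ k ∈ K, k * (j * f * j⁻¹) = (j * f * j⁻¹) * k := by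
      intro k hk
      have hk' : j⁻¹ * k * j ∈ K := by
        simpa using (mem_normalizer_iff.mp (inv_mem (d.le_normalizer hj)) k).mp hk
      calc k * (j * f * j⁻¹) = j * ((j⁻¹ * k * j) * f) * j⁻¹ := by group
        _ = (j * f * j⁻¹) * k := by rw [hfK _ hk']; group
    have hv : j * (w : G)⁻¹ * j⁻¹ * w ∈ wOf K :=
      mul_mem ((mem_normalizer_iff.mp hjn _).mp (inv_mem w.2)) w.2
    have e : j * f * j⁻¹ = f * (j * (w : G)⁻¹ * j⁻¹ * w) := by
      have h1 : Commute (w : G) (j * (w : G)⁻¹ * j⁻¹) :=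
        hWc _ w.2 _ ((mem_normalizer_iff.mp hjn _).mp (inv_mem w.2))
      calc j * f * j⁻¹ = (j * z * j⁻¹) * (j * (w : G)⁻¹ * j⁻¹) := by rw [hf]; group
        _ = z * (w : G)⁻¹ * ((w : G) * (j * (w : G)⁻¹ * j⁻¹)) := by
          rw [hjz.eq, mul_inv_cancel_right]; group
        _ = f * (j * (w : G)⁻¹ * j⁻¹ * w) := by rw [h1.eq, hf]
    have hyv : Commute y (j * (w : G)⁻¹ * j⁻¹ * w) := by
      have h1 : Commute y f := hfK y hy
      have h2 : Commute y (j * f * j⁻¹) := hfj y hy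
      rw [e] at h2
      simpa using h1.inv_right.mul_right h2
    rw [d.fixed_eq_one hy hyQ hv hyv.eq, mul_one] at e
    exact mul_inv_eq_iff_eq_mul.mp e
  have hwJ : (w : G) ∈ centralizer (J : Set G) := mem_centralizer_iff.mpr fun j hj => by
    have h1 : Commute j z := mem_centralizer_iff.mp hzC j hj
    have h2 : Commute j f := hfJ j hj
    have h3 := h2.inv_right.mul_right h1
    rw [hf, mul_inv_rev, inv_inv, inv_mul_cancel_right] at h3
    exact h3.eq
  have hwZ : (w : G) ∈ omegaCenterOf J ⊓ wOf K := by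
    rw [heq]
    rcases huniq w w.2 hwJ with h | h <;> rw [h]
    · exact one_mem _
    · exact mem_zpowers _
  have hfZ : f ∈ omegaCenterOf J := mul_mem hz (inv_mem hwZ.1)
  have hfH : f ∈ (K ⊔ J) ⊓ centralizer ((K ⊔ J : Subgroup G) : Set G) := by
    refine ⟨mem_sup_right (omegaCenter_mem_iff hfZ).1, mem_centralizer_iff.mpr fun u hu => ?_⟩
    have : K ⊔ J ≤ centralizer ({f} : Set G) := sup_le
      (fun k hk => mem_centralizer_singleton_iff.mpr (hfK k hk))
      fun j hj => mem_centralizer_singleton_iff.mpr (hfJ j hj)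
    exact mem_centralizer_singleton_iff.mp (this hu)
  rw [show z = f * (w : G) by rw [hf, inv_mul_cancel_right]]
  exact mul_mem (mem_sup_left ⟨hfZ, hfH⟩) (mem_sup_right hwZ)

end Data

end CfsgLib.JComp
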