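import Cfsg.Agent.PLocal.Thompson
import Cfsg.Agent.LocalB.Embedded
import Cfsg.Agent.Solvable.PGroupBasic
import Mathlib.GroupTheory.FiniteAbelian.Duality
import Mathlib.Analysis.Complex.Polynomial.Basic
import Mathlib.RingTheory.RootsOfUnity.AlgebraicallyClosed

/-! A four-group bound for an offender inverting an element of order three without fixed points. -/

set_option autoImplicit false
set_option linter.unusedVariables false
set_option linter.unusedSectionVars false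

namespace CfsgLib.JComp

open Subgroup Cfsg CfsgLib

variable {G : Type*} [Group G] [Finite G]

/-- The elements of `D` are products of two elements centralizing `a`, one of them moved by `y`. -/
theorem fixed_square {U D : Subgroup G} {y a : G} (hU : IsElementaryAbelian 2 U) (hDU : D ≤ U)
    (hy3 : ∀ u ∈ U, y * (y * (y * u * y⁻¹) * y⁻¹) * y⁻¹ = u)
    (hfpf : ∀ u ∈ U, y * u * y⁻¹ = u → u = 1)
    (hinv : ∀ u ∈ U, a * (y * u * y⁻¹) * a⁻¹ = y⁻¹ * (a * u * a⁻¹) * y)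
    (hDy : ∀ u ∈ D, y * u * y⁻¹ ∈ D) (hDa : ∀ u ∈ D, a * u * a⁻¹ ∈ D) (ha : a * a = 1) :
    Nat.card D = Nat.card ↥(D ⊓ centralizer {a}) ^ 2 ∧
      ∀ u ∈ D, ∃ v ∈ D ⊓ centralizer {a}, ∃ w ∈ D ⊓ centralizer {a}, u = v * (y * w * y⁻¹) := by
  set D₀ := D ⊓ centralizer {a} with hD₀
  have hc : ∀ u ∈ D, ∀ v ∈ D, u * v = v * u := fun u hu v hv =>
    Thompson.elab_commute hU (hDU hu) (hDU hv)
  have hs : ∀ u ∈ D, u * u = 1 := fun u hu => by rw [← pow_two]; exact hU.2 u (hDU hu)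
  have hai : a⁻¹ = a := inv_eq_of_mul_eq_one_right ha
  let φ : D →* D₀ :=
    { toFun := fun u => ⟨u * (a * u * a⁻¹), mul_mem u.2 (hDa u u.2), mem_centralizer_singleton_iff.mpr (by
        refine (mul_inv_eq_iff_eq_mul.mp ?_).symm
        calc a * ((u : G) * (a * u * a⁻¹)) * a⁻¹
            = (a * u * a⁻¹) * ((a * a) * u * (a * a)⁻¹) := by group
          _ = (u : G) * (a * u * a⁻¹) := by
            rw [ha, inv_one, one_mul, mul_one]; exact hc _ (hDa u u.2) _ u.2)⟩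
      map_one' := Subtype.ext (by simp)
      map_mul' := fun u v => Subtype.ext (by
        show (u : G) * v * (a * (u * v) * a⁻¹) = u * (a * u * a⁻¹) * (v * (a * v * a⁻¹))
        calc (u : G) * v * (a * (u * v) * a⁻¹) = u * (v * (a * u * a⁻¹)) * (a * v * a⁻¹) := by group
          _ = u * (a * u * a⁻¹) * (v * (a * v * a⁻¹)) := by
            rw [hc _ v.2 _ (hDa u u.2)]; group) }
  have hker : Nat.card φ.ker ≤ Nat.card D₀ := by
    refine Nat.card_le_card_of_injective (fun u => ⟨((u : D) : G), (u : D).2,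
      mem_centralizer_singleton_iff.mpr ?_⟩) fun u v e => Subtype.ext (Subtype.ext (congrArg Subtype.val e :))
    have h1 : ((u : D) : G) * (a * (u : D) * a⁻¹) = 1 := congrArg Subtype.val u.2
    have h2 : a * (u : D) * a⁻¹ = ((u : D) : G) :=
      mul_left_cancel (h1.trans (hs _ (u : D).2).symm)
    exact (mul_inv_eq_iff_eq_mul.mp h2).symm
  have hle : Nat.card D ≤ Nat.card D₀ ^ 2 := by
    rw [← Subgroup.card_mul_index φ.ker, Subgroup.index_ker, pow_two]
    exact Nat.mul_le_mul hker (card_le_card_group _)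
  let f : D₀ × D₀ → D := fun q => ⟨q.1 * (y * q.2 * y⁻¹), mul_mem q.1.2.1 (hDy _ q.2.2.1)⟩
  have hf : Function.Injective f := by
    rintro ⟨u, u'⟩ ⟨v, v'⟩ e
    have e' : (u : G) * (y * u' * y⁻¹) = v * (y * v' * y⁻¹) := congrArg Subtype.val e
    have hw : (u' : G) * v' ∈ D₀ := mul_mem u'.2 v'.2
    set w := (u' : G) * v'
    have e2 : y * w * y⁻¹ = (u : G) * v := by
      calc y * w * y⁻¹ = ((u : G) * u) * ((y * u' * y⁻¹) * (y * v' * y⁻¹)) := by
            show y * ((u' : G) * v') * y⁻¹ = _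
            rw [hs _ u.2.1]; group
        _ = (u : G) * ((u * (y * u' * y⁻¹)) * (y * v' * y⁻¹)) := by group
        _ = (u : G) * (v * ((y * v' * y⁻¹) * (y * v' * y⁻¹))) := by rw [e']; group
        _ = (u : G) * v := by rw [hs _ (hDy _ v'.2.1), mul_one]
    have hfx : a * (y * w * y⁻¹) * a⁻¹ = y * w * y⁻¹ := by
      rw [e2]
      exact mul_inv_eq_iff_eq_mul.mpr
        (mem_centralizer_singleton_iff.mp (mul_mem u.2 v.2).2).symm
    rw [hinv w (hDU hw.1), mul_inv_eq_iff_eq_mul.mpr (mem_centralizer_singleton_iff.mp hw.2).symm] at hfx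
    have hyy : y * (y * w * y⁻¹) * y⁻¹ = w := by rw [← hfx]; group
    have hw1 : w = 1 := hfpf w (hDU hw.1) (by
      conv_rhs => rw [← hy3 w (hDU hw.1)]
      rw [hyy])
    have h2 : (u' : G) = v' := mul_right_cancel (hw1.trans (hs _ v'.2.1).symm)
    have h1 : (u : G) = v := by rw [h2] at e'; exact mul_right_cancel e'
    exact Prod.ext (Subtype.ext h1) (Subtype.ext h2)
  have hge : Nat.card D₀ ^ 2 ≤ Nat.card D := by
    rw [pow_two, ← Nat.card_prod]; exact Nat.card_le_card_of_injective f hf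
  have heq := le_antisymm hle hge
  refine ⟨heq, fun u hu => ?_⟩
  obtain ⟨⟨v, w⟩, hvw⟩ := ((Nat.bijective_iff_injective_and_card f).mpr
    ⟨hf, by rw [Nat.card_prod, heq, pow_two]⟩).2 ⟨u, hu⟩
  exact ⟨v, v.2, w, w.2, (congrArg Subtype.val hvw).symm⟩

/-- A nontrivial 2-subgroup normalized by a 2-group has a fixed point. -/
theorem exists_fixed_point {D A : Subgroup G} (hD : IsPGroup 2 D) (hA : IsPGroup 2 A)
    (hn : A ≤ normalizer (D : Set G)) (hne : D ≠ ⊥) :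
    ∃ x ∈ D, x ≠ 1 ∧ x ∈ centralizer (A : Set G) := by
  have : Fact (Nat.Prime 2) := ⟨Nat.prime_two⟩
  have hS : IsPGroup 2 ↥(D ⊔ A) := hD.to_sup_of_normal_left' hA hn
  have : Group.IsNilpotent ↥(D ⊔ A) := hS.isNilpotent
  have hnorm : (D.subgroupOf (D ⊔ A)).Normal :=
    (normal_subgroupOf_iff_le_normalizer le_sup_left).2 (sup_le Subgroup.le_normalizer hn)
  have hne' : D.subgroupOf (D ⊔ A) ≠ ⊥ := by
    rw [Ne, ← map_eq_bot_iff_of_injective _ (D ⊔ A).subtype_injective,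
      map_subgroupOf_eq_of_le le_sup_left]
    exact hne
  obtain ⟨z, hz, hz1⟩ := (nontrivial_iff_exists_ne_one _).mp
    ((nontrivial_iff_ne_bot _).mpr (PGroupBasic.inf_center_ne_bot _ hne'))
  exact ⟨z, hz.1, fun h => hz1 (Subtype.ext h), mem_centralizer_iff.mpr fun b hb =>
    congrArg Subtype.val (mem_center_iff.mp hz.2 ⟨b, mem_sup_right hb⟩)⟩

/-- The main bound. -/
theorem card_le_four {U A A₁ : Subgroup G} {y a : G} (hU : IsElementaryAbelian 2 U)
    (hA : IsElementaryAbelian 2 A) (hA₁ : A₁ ≤ A) (hidx : A₁.relIndex A = 2) (haA : a ∈ A)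
    (hyU : ∀ u ∈ U, y * u * y⁻¹ ∈ U) (hAU : A ≤ normalizer (U : Set G))
    (hy3 : ∀ u ∈ U, y * (y * (y * u * y⁻¹) * y⁻¹) * y⁻¹ = u)
    (hfpf : ∀ u ∈ U, y * u * y⁻¹ = u → u = 1)
    (hinv : ∀ u ∈ U, a * (y * u * y⁻¹) * a⁻¹ = y⁻¹ * (a * u * a⁻¹) * y)
    (hcom : ∀ b ∈ A₁, ∀ u ∈ U, b * (y * u * y⁻¹) * b⁻¹ = y * (b * u * b⁻¹) * y⁻¹)
    (hmax : ∀ B : Subgroup G, B ≤ A ⊔ U → IsElementaryAbelian 2 B → Nat.card B ≤ Nat.card A) :
    Nat.card U ≤ 4 := by
  have : Fact (Nat.Prime 2) := ⟨Nat.prime_two⟩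
  have ha : a * a = 1 := by rw [← pow_two]; exact hA.2 a haA
  have hUp := Thompson.elab_isPGroup hU
  have hAp := Thompson.elab_isPGroup hA
  have haU : ∀ u ∈ U, a * u * a⁻¹ ∈ U := fun u hu => (mem_normalizer_iff.mp (hAU haA) u).mp hu
  obtain ⟨hUsq, hUgen⟩ := fixed_square hU le_rfl hy3 hfpf hinv hyU haU ha
  set U₀ := U ⊓ centralizer {a} with hU₀
  have hU₀n : A₁ ≤ normalizer (U₀ : Set G) := fun b hb => LocalB.mem_normalizer_of_conj_le
    fun u hu => ⟨(mem_normalizer_iff.mp (hAU (hA₁ hb)) u).mp hu.1, mem_centralizer_singleton_iff.mpr (by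
      have h1 : Commute a b := Thompson.elab_commute hA haA (hA₁ hb)
      have h2 : Commute a u := (mem_centralizer_singleton_iff.mp hu.2).symm
      exact ((h1.mul_right h2).mul_right h1.inv_right).eq.symm)⟩
  rcases eq_or_ne U₀ ⊥ with hbot | hne
  · rw [hUsq, hbot, card_bot]; norm_num
  -- the fixed points of `A₁`
  set C := U ⊓ centralizer (A₁ : Set G) with hC
  set C₀ := U₀ ⊓ centralizer (A₁ : Set G) with hC₀
  have hA₁card : Nat.card A = 2 * Nat.card A₁ := by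
    rw [← relIndex_bot_left A, ← relIndex_bot_left A₁, ← relIndex_mul_relIndex _ _ _ bot_le hA₁, hidx,
      mul_comm]
  have hCsq : Nat.card C = Nat.card C₀ ^ 2 := by
    refine (fixed_square hU inf_le_left hy3 hfpf hinv (fun u hu => ⟨hyU u hu.1, ?_⟩)
      (fun u hu => ⟨haU u hu.1, ?_⟩) ha).1.trans ?_
    · refine mem_centralizer_iff.mpr fun b hb => mul_inv_eq_iff_eq_mul.mp ?_
      rw [hcom b hb u hu.1, mul_inv_eq_iff_eq_mul.mpr (mem_centralizer_iff.mp hu.2 b hb)]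
    · refine mem_centralizer_iff.mpr fun b hb => ?_
      have h1 : Commute b a := Thompson.elab_commute hA (hA₁ hb) haA
      have h2 : Commute b u := mem_centralizer_iff.mp hu.2 b hb
      exact ((h1.mul_right h2).mul_right h1.inv_right).eq
    · rw [hC₀, hU₀, inf_right_comm]
  have hA₁U : A₁ ⊓ U ≤ C₀ := fun b hb => ⟨⟨hb.2, mem_centralizer_singleton_iff.mpr
      (Thompson.elab_commute hA (hA₁ hb.1) haA)⟩,
    mem_centralizer_iff.mpr fun c hc => Thompson.elab_commute hA (hA₁ hc) (hA₁ hb.1)⟩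
  have hcount : ∀ B E : Subgroup G, B ≤ A₁ → E ≤ U → B ≤ centralizer (E : Set G) →
      Nat.card B * Nat.card E ≤ Nat.card A * Nat.card C₀ := by
    intro B E hBA hEU hBE
    have h1 := Solvable.card_sup_mul_card_inf (A := B) (K := E)
      (hBE.trans (centralizer_le_normalizer _))
    rw [← h1]
    refine Nat.mul_le_mul (hmax _ (sup_le_sup (hBA.trans hA₁) hEU)
      (Thompson.elab_sup (Thompson.elab_mono hA (hBA.trans hA₁)) (Thompson.elab_mono hU hEU) hBE)) ?_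
    exact Nat.card_le_card_of_injective _ (inclusion_injective ((inf_le_inf hBA hEU).trans hA₁U))
  have hC₀2 : Nat.card C₀ ≤ 2 := by
    have h := hcount A₁ C le_rfl inf_le_left (fun b hb =>
      mem_centralizer_iff.mpr fun u hu => (mem_centralizer_iff.mp hu.2 b hb).symm)
    rw [hCsq, hA₁card, pow_two] at h
    refine Nat.le_of_mul_le_mul_left ?_ (Nat.mul_pos (Nat.card_pos : 0 < Nat.card A₁)
      (Nat.card_pos : 0 < Nat.card C₀))
    linarith
  obtain ⟨c, hc, hc1, hcA⟩ := exists_fixed_point (hUp.to_le inf_le_left) (hAp.to_le hA₁) hU₀n hne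
  have hC₀c : ∀ x ∈ C₀, x ≠ 1 → x = c := by
    intro x hx hx1
    by_contra hxc
    classical
    have : Fintype C₀ := Fintype.ofFinite _
    have hT : ({1, ⟨c, hc, hcA⟩, ⟨x, hx⟩} : Finset C₀).card = 3 := by
      rw [Finset.card_insert_of_notMem, Finset.card_pair]
      · exact fun e => hxc (congrArg Subtype.val e).symm
      · simp only [Finset.mem_insert, Finset.mem_singleton, Subtype.ext_iff, not_or]
        exact ⟨fun e => hc1 e.symm, fun e => hx1 e.symm⟩
    have := Finset.card_le_univ ({1, ⟨c, hc, hcA⟩, ⟨x, hx⟩} : Finset C₀)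
    rw [hT, ← Nat.card_eq_fintype_card] at this
    omega
  -- the kernel of the action on `U`
  set A₂ := A₁ ⊓ centralizer (U : Set G) with hA₂
  have hbig := hcount A₂ U inf_le_left le_rfl inf_le_right
  have hA₁2 : Nat.card A₁ = Nat.card A₂ * A₂.relIndex A₁ := by
    rw [← relIndex_bot_left A₁, ← relIndex_bot_left A₂,
      relIndex_mul_relIndex _ _ _ bot_le inf_le_left]
  -- characters of `U₀`
  letI : CommGroup U₀ := { (inferInstance : Group U₀) with
    mul_comm := fun u v => Subtype.ext (Thompson.elab_commute hU u.2.1 v.2.1) }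
  have : NeZero (Monoid.exponent U₀ : ℂ) := ⟨Nat.cast_ne_zero.mpr Monoid.exponent_ne_zero_of_finite⟩
  obtain ⟨χ, hχ⟩ := CommGroup.exists_apply_ne_one_of_hasEnoughRootsOfUnity U₀ ℂ
    (show (⟨c, hc⟩ : U₀) ≠ 1 from fun e => hc1 (congrArg Subtype.val e))
  let cj : A₁ → (U₀ →* U₀) := fun b =>
    (U₀.normalizerMonoidHom ⟨b, hU₀n b.2⟩).toMonoidHom
  let Ψ : (A₁ ⧸ A₂.subgroupOf A₁) × Bool → (U₀ →* ℂˣ) := fun q =>
    if q.2 then χ.comp (cj q.1.out) * χ else χ.comp (cj q.1.out)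
  have hcjc : ∀ b : A₁, cj b ⟨c, hc⟩ = ⟨c, hc⟩ := fun b => Subtype.ext (by
    show (b : G) * c * (b : G)⁻¹ = c
    exact mul_inv_eq_iff_eq_mul.mpr (mem_centralizer_iff.mp hcA b b.2))
  have hχc : χ ⟨c, hc⟩ * χ ⟨c, hc⟩ = 1 := by
    rw [← map_mul, show (⟨c, hc⟩ : U₀) * ⟨c, hc⟩ = 1 from
      Subtype.ext (by show c * c = 1; rw [← pow_two]; exact hU.2 c hc.1), map_one]
  have hcore : ∀ b b' : A₁, χ.comp (cj b) = χ.comp (cj b') →
      (QuotientGroup.mk b : A₁ ⧸ A₂.subgroupOf A₁) = QuotientGroup.mk b' := by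
    intro b b' e
    -- the differences lie in the kernel of the character
    let δ : U₀ →* U₀ := cj b / cj b'
    have hδ : δ = 1 := by
      by_contra hne'
      set D := δ.range.map U₀.subtype with hD
      have hDle : D ≤ U₀ := map_subtype_le _
      have hDne : D ≠ ⊥ := by
        rw [hD, Ne, map_eq_bot_iff_of_injective _ U₀.subtype_injective, MonoidHom.range_eq_bot_iff]
        exact hne'
      have hDn : A₁ ≤ normalizer (D : Set G) := by
        intro d hd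
        refine LocalB.mem_normalizer_of_conj_le ?_
        rintro _ ⟨_, ⟨u, rfl⟩, rfl⟩
        refine ⟨δ (cj ⟨d, hd⟩ u), ⟨_, rfl⟩, ?_⟩
        show (b : G) * (d * u * d⁻¹) * (b : G)⁻¹ / ((b' : G) * (d * u * d⁻¹) * (b' : G)⁻¹) =
          d * ((b : G) * u * (b : G)⁻¹ / ((b' : G) * u * (b' : G)⁻¹)) * d⁻¹
        have h1 : d * (b : G) = b * d := Thompson.elab_commute hA (hA₁ hd) (hA₁ b.2)
        have h2 : d * (b' : G) = b' * d := Thompson.elab_commute hA (hA₁ hd) (hA₁ b'.2)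
        rw [div_eq_mul_inv, div_eq_mul_inv, mul_assoc (b : G), mul_assoc (b' : G)]
        calc (b : G) * (d * u * d⁻¹ * (b : G)⁻¹) * ((b' : G) * (d * u * d⁻¹ * (b' : G)⁻¹))⁻¹
            = (b * d) * u * (b * d)⁻¹ * ((b' * d) * u * (b' * d)⁻¹)⁻¹ := by group
          _ = d * ((b : G) * u * (b : G)⁻¹ * ((b' : G) * u * (b' : G)⁻¹)⁻¹) * d⁻¹ := by
            rw [← h1, ← h2]; group
      obtain ⟨x, hx, hx1, hxA⟩ := exists_fixed_point
        (hUp.to_le (hDle.trans inf_le_left)) (hAp.to_le hA₁) hDn hDne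
      obtain rfl := hC₀c x ⟨hDle hx, hxA⟩ hx1
      obtain ⟨_, ⟨u, rfl⟩, hu⟩ := hx
      have hu' : δ u = ⟨x, hc⟩ := Subtype.ext hu
      apply hχ
      rw [← hu']
      show χ (cj b u / cj b' u) = 1
      rw [map_div, div_eq_one]
      exact congrArg (fun ψ : U₀ →* ℂˣ => ψ u) e
    have hfix : ∀ u ∈ U₀, (b : G) * u * (b : G)⁻¹ = b' * u * (b' : G)⁻¹ := fun u hu => by
      have h1 := congrArg (fun ψ : U₀ →* U₀ => ψ ⟨u, hu⟩) hδ
      exact congrArg Subtype.val (div_eq_one.mp (h1 : cj b ⟨u, hu⟩ / cj b' ⟨u, hu⟩ = 1))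
    rw [QuotientGroup.eq, mem_subgroupOf]
    refine ⟨(b⁻¹ * b' : A₁).2, mem_centralizer_iff.mpr fun u hu => ?_⟩
    obtain ⟨v, hv, w, hw, rfl⟩ := hUgen u hu
    have key : ∀ u ∈ U₀, Commute u ((b : G)⁻¹ * b') := fun u hu => by
      show u * ((b : G)⁻¹ * b') = (b : G)⁻¹ * b' * u
      calc u * ((b : G)⁻¹ * b') = (b : G)⁻¹ * ((b : G) * u * (b : G)⁻¹) * b' := by group
        _ = _ := by rw [hfix u hu]; group
    have hb : (b : G)⁻¹ * b' ∈ A₁ := mul_mem (inv_mem b.2) b'.2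
    have h2 : Commute (y * w * y⁻¹) ((b : G)⁻¹ * b') := by
      refine (mul_inv_eq_iff_eq_mul.mp ?_).symm
      rw [hcom _ hb w hw.1, mul_inv_eq_iff_eq_mul.mpr (key w hw).eq.symm]
    exact ((key v hv).mul_left h2).eq
  have hΨ : Function.Injective Ψ := by
    have hval : ∀ q, Ψ q ⟨c, hc⟩ = 1 ↔ q.2 = true := by
      rintro ⟨q, ε⟩
      cases ε <;> simp only [Ψ, if_true, Bool.false_eq_true, if_false, MonoidHom.mul_apply,
        MonoidHom.comp_apply, hcjc]
      · simp [hχ]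
      · simp [hχc]
    rintro ⟨q, ε⟩ ⟨q', ε'⟩ e
    have hε : ε = ε' := by
      have := (hval ⟨q, ε⟩).symm.trans ((by rw [e]) : Ψ (q, ε) ⟨c, hc⟩ = 1 ↔ Ψ (q', ε') ⟨c, hc⟩ = 1)
      exact Bool.eq_iff_iff.mpr (this.trans (hval ⟨q', ε'⟩))
    subst hε
    have hq := hcore q.out q'.out (by cases ε <;> simpa [Ψ] using e)
    rw [QuotientGroup.out_eq', QuotientGroup.out_eq'] at hq
    rw [hq]
  have h2P := Nat.card_le_card_of_injective Ψ hΨ
  rw [Nat.card_prod, CommGroup.card_monoidHom_of_hasEnoughRootsOfUnity, Nat.card_eq_fintype_card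
    (α := Bool), Fintype.card_bool,
    show Nat.card (A₁ ⧸ A₂.subgroupOf A₁) = A₂.relIndex A₁ from rfl] at h2P
  rw [hA₁card, hA₁2, hUsq] at hbig
  have hU₀le : Nat.card U₀ ≤ 2 := by
    have h3 : Nat.card A₂ * Nat.card U₀ * Nat.card U₀ ≤ Nat.card A₂ * Nat.card U₀ * 2 := by
      calc Nat.card A₂ * Nat.card U₀ * Nat.card U₀ = Nat.card A₂ * Nat.card U₀ ^ 2 := by ring
        _ ≤ 2 * (Nat.card A₂ * A₂.relIndex A₁) * Nat.card C₀ := hbig
        _ ≤ 2 * (Nat.card A₂ * A₂.relIndex A₁) * 2 := Nat.mul_le_mul_left _ hC₀2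
        _ = Nat.card A₂ * (A₂.relIndex A₁ * 2) * 2 := by ring
        _ ≤ Nat.card A₂ * Nat.card U₀ * 2 := by gcongr
    exact Nat.le_of_mul_le_mul_left h3 (Nat.mul_pos Nat.card_pos Nat.card_pos)
  rw [hUsq]
  nlinarith [hU₀le]

end CfsgLib.JComp
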