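import Cfsg.Agent.LocalB.JSubnormal
import Cfsg.Agent.LocalB.JFour

/-! Every transvection in the image of `J(T)` comes from a `J(T)`-component. -/

set_option autoImplicit false
set_option linter.unusedVariables false
set_option linter.unusedSectionVars false

namespace CfsgLib.JComp

open Subgroup Cfsg CfsgLib
open scoped commutatorElement

variable {G : Type*} [Group G] [Finite G] {T L : Subgroup G}

/-- Abbreviation for the transvection data in the image of `J(T)`. -/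
def IsJFactor (s : Setting T L) (η : (act T L).range) : Prop :=
  letI := s.commV
  ∃ j, ∃ hj : j ∈ L, j ∈ thompsonSubgroupOf 2 T ∧
    ∃ v, OddOffender.TF (act T L).range.subtype ((act T L).rangeRestrict ⟨j, hj⟩) η v

theorem thompson_eq_of_between {U S : Subgroup G} (hS : S ≤ U)
    (hJ : thompsonSubgroupOf 2 U ≤ S) : thompsonSubgroupOf 2 S = thompsonSubgroupOf 2 U := by
  obtain ⟨A, hA⟩ := Thompson.exists_maxIn (p := 2) U
  refine le_antisymm (Thompson.thompsonSubgroupOf_mono hS hA ((maxIn_le_thompson hA).trans hJ)) ?_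
  rw [Thompson.thompsonSubgroupOf_eq U]
  exact sSup_le fun B hB => maxIn_le_thompson ⟨(maxIn_le_thompson hB).trans hJ, hB.2.1,
    fun C hC hCe => hB.2.2 C (hC.trans hS) hCe⟩

theorem left_le_normalizer_commutator (A B : Subgroup G) :
    A ≤ normalizer ((⁅A, B⁆ : Subgroup G) : Set G) := fun a ha => by
  refine LocalB.mem_normalizer_of_conj_le ?_
  have hle : ⁅A, B⁆ ≤ (⁅A, B⁆ : Subgroup G).comap (MulAut.conj a).toMonoidHom :=
    commutator_le.mpr fun g hg b hb => by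
      show a * ⁅g, b⁆ * a⁻¹ ∈ (⁅A, B⁆ : Subgroup G)
      rw [show a * ⁅g, b⁆ * a⁻¹ = ⁅a * g, b⁆ * ⁅a, b⁆⁻¹ by
        simp only [commutatorElement_def]; group]
      exact mul_mem (commutator_mem_commutator (mul_mem ha hg) hb)
        (inv_mem (commutator_mem_commutator ha hb))
  exact fun x hx => hle hx

namespace Setting

/-- Images of elements of `J` commute with the transvections of `J`. -/
theorem trans_commute_j (s : Setting T L) {a η : (act T L).range} {v : modV T L}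
    (ha : a ∈ ((thompsonSubgroupOf 2 T).subgroupOf L).map (act T L).rangeRestrict)
    (htf : letI := s.commV; OddOffender.TF (act T L).range.subtype a η v) {b : (act T L).range}
    (hb : b ∈ ((thompsonSubgroupOf 2 T).subgroupOf L).map (act T L).rangeRestrict) :
    Commute a b := by
  have : Fact (Nat.Prime 2) := ⟨Nat.prime_two⟩
  letI := s.commV
  haveI := s.solv_range
  set ρ := (act T L).range.subtype with hρdef
  have hρ : Function.Injective ρ := (act T L).range.subtype_injective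
  have hV := s.modV_sq
  have hO := s.core_trivial
  set PJ := ((thompsonSubgroupOf 2 T).subgroupOf L).map (act T L).rangeRestrict
  have hPJ : IsPGroup 2 PJ :=
    ((s.isP.to_le (Thompson.thompsonSubgroupOf_le T)).comap_subtype).map _
  have hle := s.j_le_closure_trans hb
  clear hb
  induction hle using closure_induction with
  | mem c hc =>
    obtain ⟨hcJ, hct⟩ := hc
    obtain ⟨ζ, u, hc'⟩ := OddOffender.exists_TF ρ hρ hV hO hct
    rcases htf.commute_or (hρ := hρ) (hV := hV) (hO := hO) hc' with h | ⟨-, -, hz, hne⟩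
    · exact h
    · exfalso
      obtain ⟨n, hn⟩ := hPJ ⟨_, mul_mem hcJ ha⟩
      have hn' : (c * a) ^ 2 ^ n = 1 := congrArg Subtype.val hn
      have h3 : (c * a) ^ 3 = 1 := by
        obtain ⟨i, hi⟩ := mem_zpowers_iff.mp hz
        rw [← hi, ← zpow_natCast, ← zpow_mul, mul_comm, zpow_mul, zpow_natCast, htf.fac.2.1,
          one_zpow]
      have := Nat.dvd_gcd (orderOf_dvd_of_pow_eq_one h3) (orderOf_dvd_of_pow_eq_one hn')
      rw [(Nat.Coprime.pow_right n (by norm_num : Nat.Coprime 3 2)).gcd_eq_one, Nat.dvd_one,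
        orderOf_eq_one_iff] at this
      exact hne this
  | one => exact Commute.one_right a
  | mul x y _ _ hx hy => exact hx.mul_right hy
  | inv x _ hx => exact hx.inv_right

/-- Elements of the kernel with a 2-power in the core lie in the core. -/
theorem mem_core_of_pow (s : Setting T L) {c : G} (hc : c ∈ kerV T L) {n : ℕ}
    (h : c ^ 2 ^ n ∈ pCoreOf 2 L) : c ∈ pCoreOf 2 L := by
  have : Fact (Nat.Prime 2) := ⟨Nat.prime_two⟩
  obtain ⟨m, hm⟩ := Functor.isPGroup_pCoreOf (p := 2) L ⟨_, h⟩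
  have hm' : c ^ 2 ^ (n + m) = 1 := by
    rw [pow_add, pow_mul]; exact congrArg Subtype.val hm
  obtain ⟨i, -, hi⟩ := (Nat.dvd_prime_pow Nat.prime_two).mp (orderOf_dvd_of_pow_eq_one hm')
  exact s.mem_core_of_isPGroup (LocalB.isPGroup_zpowers ⟨i, hi⟩) (zpowers_le.mpr hc) (mem_zpowers c)

/-- A factor with an inverting transvection in the image of `J(T)` comes from a component. -/
theorem exists_component (s : Setting T L) {η : (act T L).range} (hη : IsJFactor s η) :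
    ∃ K, IsJComponent T K ∧ K ≤ L ∧ η ∈ (K.subgroupOf L).map (act T L).rangeRestrict := by
  have : Fact (Nat.Prime 2) := ⟨Nat.prime_two⟩
  letI := s.commV
  haveI := s.solv_range
  set π := (act T L).rangeRestrict with hπ
  set ρ := (act T L).range.subtype with hρdef
  have hρ : Function.Injective ρ := (act T L).range.subtype_injective
  have hV := s.modV_sq
  have hO := s.core_trivial
  obtain ⟨j, hjL, hjJ, v, htf⟩ := hη
  set J := thompsonSubgroupOf 2 T with hJdef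
  set X := pCoreOf 2 L with hXdef
  have hJT : J ≤ T := Thompson.thompsonSubgroupOf_le T
  have hJp : IsPGroup 2 J := s.isP.to_le hJT
  have hJL : J ≤ L := hJT.trans s.le
  have hXn : L ≤ normalizer (X : Set G) := Functor.le_normalizer_pCoreOf 2 L
  have hXL : (X.subgroupOf L).Normal := (normal_subgroupOf_iff_le_normalizer
    (Functor.pCoreOf_le 2 L)).2 hXn
  set q := QuotientGroup.mk' (X.subgroupOf L) with hq
  have hq1 : ∀ x : L, q x = 1 ↔ (x : G) ∈ X := fun x => by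
    rw [hq, QuotientGroup.mk'_apply, QuotientGroup.eq_one_iff, mem_subgroupOf]
  have hqπ : ∀ x x' : L, q x = q x' → π x = π x' := fun x x' h => by
    have h1 : ((x⁻¹ * x' : L) : G) ∈ kerV T L := s.core_le_kerV ((hq1 _).mp (by
      rw [map_mul, map_inv, h, inv_mul_cancel]))
    obtain ⟨_, h2⟩ := mem_kerV_iff.mp h1
    exact inv_mul_eq_one.mp ((map_inv π x) ▸ (map_mul π x⁻¹ x') ▸ h2)
  have hker : ∀ x : L, π x = 1 → (x : G) ∈ kerV T L := fun x h => mem_kerV_iff.mpr ⟨x.2, h⟩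
  have hcomm : ∀ x c : L, (x : G) ∈ central T L → π c = 1 → Commute (q x) (q c) := fun x c hx hc => by
    rw [← commutatorElement_eq_one_iff_commute, ← map_commutatorElement]
    exact (hq1 _).mpr (hx.2 c (hker c hc))
  -- the lifted generator
  set jj : L := ⟨j, hjL⟩
  have hjc : (jj : G) ∈ central T L := s.j_le_central hjJ
  set a := π jj with ha
  obtain ⟨l, hl⟩ : ∃ l, π l = η := (act T L).rangeRestrict_surjective η
  set e : L := l * jj * l⁻¹ * jj⁻¹ with he
  have hec : (e : G) ∈ central T L := mul_mem (central_conj l.2 hjc) (inv_mem hjc)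
  have haη : a * η⁻¹ * a⁻¹ = η := by
    rw [← conj_inv, htf.inv, inv_inv]
  have hπe : π e = η * η := by
    rw [he, map_mul, map_mul, map_mul, map_inv, map_inv, hl]
    calc η * a * η⁻¹ * a⁻¹ = η * (a * η⁻¹ * a⁻¹) := by group
      _ = η * η := by rw [haη]
  clear_value e
  have hη3 : η ^ 3 = 1 := htf.fac.2.1
  set u : L := e * (jj * e⁻¹ * jj⁻¹) with hu
  have huc : (u : G) ∈ central T L := mul_mem hec (central_conj hjL (inv_mem hec))
  have hπu : π u = η := by
    rw [hu, map_mul, map_mul, map_mul, map_inv, map_inv, hπe]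
    calc η * η * (a * (η * η)⁻¹ * a⁻¹) = η * η * ((a * η⁻¹ * a⁻¹) * (a * η⁻¹ * a⁻¹)) := by group
      _ = η ^ 3 * η := by rw [haη]; simp only [pow_succ, pow_zero, one_mul, mul_assoc]
      _ = η := by rw [hη3, one_mul]
  set U := q u with hU
  set JQ := q jj with hJQ
  have hJU : JQ * U * JQ⁻¹ = U⁻¹ := by
    set c : L := jj * e * jj⁻¹ * e with hc
    have hπc : π c = 1 := by
      rw [hc, map_mul, map_mul, map_mul, map_inv, hπe]
      calc a * (η * η) * a⁻¹ * (η * η) = (a * η * a⁻¹) * (a * η * a⁻¹) * (η * η) := by group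
        _ = 1 := by rw [htf.inv]; group
    have h1 : Commute JQ (q c) := hcomm jj c hjc hπc
    have h2 : Commute (q e) (q c) := hcomm e c hec hπc
    have h3 : JQ * q e * JQ⁻¹ = q c * (q e)⁻¹ := by
      rw [hc]; simp only [map_mul, map_inv]; rw [mul_inv_cancel_right]
    have h4 : U = q e * (q e * (q c)⁻¹) := by
      rw [hU, hu, map_mul, map_mul, map_mul, map_inv, map_inv, ← hJQ, ← conj_inv, h3, mul_inv_rev,
        inv_inv]
    rw [h4]
    calc JQ * (q e * (q e * (q c)⁻¹)) * JQ⁻¹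
        = (JQ * q e * JQ⁻¹) * (JQ * q e * JQ⁻¹) * (JQ * (q c)⁻¹ * JQ⁻¹) := by group
      _ = q c * (q e)⁻¹ * (q c * (q e)⁻¹) * (q c)⁻¹ := by
        rw [h3, h1.inv_right.eq, mul_inv_cancel_right]
      _ = q c * (q e)⁻¹ * (q e)⁻¹ := by rw [← h2.inv_left.eq]; group
      _ = _ := by group
  clear_value u
  have hU3 : U ^ 3 = 1 := by
    have hπ3 : π (u ^ 3) = 1 := by rw [map_pow, hπu, hη3]
    have h1 : Commute JQ (U ^ 3) := by rw [hU, ← map_pow]; exact hcomm jj _ hjc hπ3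
    have h2 : U ^ 3 = (U ^ 3)⁻¹ := by
      rw [← inv_pow, ← hJU, conj_pow, h1.eq, mul_inv_cancel_right]
    have h3 : ((u ^ 3 : L) : G) ^ 2 ^ 1 ∈ X := by
      rw [pow_one, pow_two, ← Subgroup.coe_mul]
      refine (hq1 _).mp ?_
      rw [map_mul, map_pow, ← hU]
      conv_lhs => arg 2; rw [h2]
      rw [mul_inv_cancel]
    rw [hU, ← map_pow]
    exact (hq1 _).mpr (s.mem_core_of_pow (hker _ hπ3) h3)
  have hη1 : η ≠ 1 := htf.fac.2.2.1
  have hU1 : U ≠ 1 := fun h => hη1 (by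
    rw [← hπu, ← map_one π]; exact hqπ _ _ (h.trans (map_one q).symm))
  have hUord : orderOf U = 3 := orderOf_eq_prime hU3 hU1
  -- `J` normalizes the lifted cycle
  have hJn : ∀ x : L, (x : G) ∈ J → q x * U * (q x)⁻¹ = U ∨ q x * U * (q x)⁻¹ = U⁻¹ := by
    intro x hx
    set b := π x
    have hfac' := OddOffender.IsFactor.conj ρ hρ hV hO htf.fac b
    have hbη : b * η * b⁻¹ ∈ zpowers η := by
      refine OddOffender.mem_zpowers_of_inf_ne_bot ρ hρ hV hO htf.fac hfac' fun h => htf.ne ?_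
      have h1 : ρ b v ∈ OddOffender.comm ρ η ⊓ OddOffender.comm ρ (b * η * b⁻¹) :=
        ⟨s.j_preserves htf.fac hx x.2 v htf.mem, by
          rw [← OddOffender.map_comm_eq ρ hρ hV]; exact ⟨v, htf.mem, rfl⟩⟩
      rw [h] at h1
      exact (ρ b).injective ((mem_bot.mp h1).trans (map_one _).symm)
    have hηord : orderOf η = 3 := orderOf_eq_prime hη3 hη1
    obtain ⟨i, hi, hπi⟩ : ∃ i, (i = 1 ∨ i = 2) ∧ b * η * b⁻¹ = η ^ i := by
      obtain ⟨k, hk⟩ := (isOfFinOrder_of_finite η).mem_powers_iff_mem_zpowers.mpr hbη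
      have hk' : η ^ (k % 3) = b * η * b⁻¹ := by
        rw [← hηord, pow_mod_orderOf]; exact hk
      rcases (show k % 3 = 0 ∨ k % 3 = 1 ∨ k % 3 = 2 by omega) with e | e | e <;> rw [e] at hk'
      · exact absurd (conj_eq_one_iff.mp ((pow_zero η) ▸ hk').symm) hη1
      · exact ⟨1, Or.inl rfl, hk'.symm⟩
      · exact ⟨2, Or.inr rfl, hk'.symm⟩
    set c : L := (u ^ i)⁻¹ * (x * u * x⁻¹) with hc
    have hπc : π c = 1 := by
      rw [hc, map_mul, map_inv, map_pow, map_mul, map_mul, map_inv, hπu, hπi, inv_mul_cancel]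
    have hcc : (c : G) ∈ central T L := mul_mem (inv_mem (pow_mem huc i)) (central_conj x.2 huc)
    have hP : q x * U * (q x)⁻¹ = U ^ i * q c := by
      rw [hc]; simp only [map_mul, map_inv, map_pow, ← hU, mul_inv_cancel_left]
    have hUc : Commute U (q c) := hcomm u c huc hπc
    have hJc : Commute JQ (q c) := hcomm jj c hjc hπc
    have hJx : Commute JQ (q x) := by
      set d : L := jj * x * jj⁻¹ * x⁻¹ with hd
      have hπd : π d = 1 := by
        rw [hd, map_mul, map_mul, map_mul, map_inv, map_inv,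
          (s.trans_commute_j ⟨jj, hjJ, rfl⟩ htf ⟨x, hx, rfl⟩).eq, mul_inv_cancel_right]
        exact mul_inv_cancel _
      have hdJ : (d : G) ∈ J := mul_mem (mul_mem (mul_mem hjJ hx) (inv_mem hjJ)) (inv_mem hx)
      rw [← commutatorElement_eq_one_iff_commute, ← map_commutatorElement]
      exact (hq1 _).mpr (s.mem_core_of_isPGroup (hJp.to_le inf_le_left) inf_le_right
        (⟨hdJ, hker d hπd⟩ : (d : G) ∈ J ⊓ kerV T L))
    have hinv : JQ * (q x * U * (q x)⁻¹) * JQ⁻¹ = (q x * U * (q x)⁻¹)⁻¹ := by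
      calc JQ * (q x * U * (q x)⁻¹) * JQ⁻¹ = (JQ * q x) * U * (JQ * q x)⁻¹ := by group
        _ = q x * (JQ * U * JQ⁻¹) * (q x)⁻¹ := by rw [hJx.eq]; group
        _ = _ := by rw [hJU]; group
    rw [hP] at hinv
    have hc2 : q c * q c = 1 := by
      have h5 : JQ * (U ^ i * q c) * JQ⁻¹ = (U ^ i)⁻¹ * q c := by
        calc JQ * (U ^ i * q c) * JQ⁻¹ = (JQ * U ^ i * JQ⁻¹) * (JQ * q c * JQ⁻¹) := by group
          _ = _ := by rw [← conj_pow, hJU, inv_pow, hJc.eq, mul_inv_cancel_right]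
      rw [h5, mul_inv_rev, ((hUc.pow_left i).inv_left.inv_right).eq.symm] at hinv
      exact mul_eq_one_iff_eq_inv.mpr (mul_left_cancel hinv)
    have hc1 : q c = 1 := by
      have h3 : (U ^ i * q c) ^ 3 = 1 := by rw [← hP, conj_pow, hU3, mul_one, mul_inv_cancel]
      rw [(hUc.pow_left i).mul_pow, ← pow_mul, mul_comm, pow_mul, hU3, one_pow, one_mul, pow_succ,
        pow_two, hc2, one_mul] at h3
      exact h3
    rw [hP, hc1, mul_one]
    rcases hi with rfl | rfl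
    · exact Or.inl (pow_one U)
    · exact Or.inr (eq_inv_of_mul_eq_one_left (by rw [← pow_succ]; exact hU3))
  -- the overgroup of order `3` modulo the core
  set Y := ((zpowers U).comap q).map L.subtype with hY
  have hYL : Y ≤ L := map_subtype_le _
  have hmemY : ∀ x : L, (x : G) ∈ Y ↔ q x ∈ zpowers U := fun x =>
    ⟨fun ⟨x', hx', e⟩ => (L.subtype_injective e) ▸ hx', fun h => ⟨x, h, rfl⟩⟩
  have hXY : X ≤ Y := fun x hx => (hmemY ⟨x, Functor.pCoreOf_le 2 L hx⟩).mpr (by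
    rw [(hq1 _).mpr hx]; exact one_mem _)
  have hY2 : ∀ g ∈ Y, (∃ n : ℕ, g ^ 2 ^ n = 1) → g ∈ X := by
    intro g hg ⟨n, hn⟩
    obtain ⟨g', hg', rfl⟩ := hg
    refine (hq1 g').mp ?_
    have h1 : orderOf (q g') ∣ 2 ^ n := orderOf_dvd_of_pow_eq_one (by
      rw [← map_pow, show g' ^ 2 ^ n = 1 from Subtype.ext hn, map_one])
    have h2 : orderOf (q g') ∣ 3 := hUord ▸ orderOf_dvd_of_mem_zpowers hg'
    have := Nat.dvd_gcd h2 h1
    rw [(Nat.Coprime.pow_right n (by norm_num : Nat.Coprime 3 2)).gcd_eq_one, Nat.dvd_one,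
      orderOf_eq_one_iff] at this
    exact this
  have hJY : J ≤ normalizer (Y : Set G) := fun g hg => by
    refine LocalB.mem_normalizer_of_conj_le ?_
    rintro _ ⟨x, hx, rfl⟩
    refine ⟨⟨g, hJL hg⟩ * x * (⟨g, hJL hg⟩ : L)⁻¹, ?_, rfl⟩
    obtain ⟨k, hk⟩ := mem_zpowers_iff.mp hx
    rw [SetLike.mem_coe, mem_comap, map_mul, map_mul, map_inv, ← hk, ← conj_zpow]
    refine zpow_mem ?_ k
    rcases hJn ⟨g, hJL hg⟩ hg with h | h <;> rw [h]
    · exact mem_zpowers U
    · exact inv_mem (mem_zpowers U)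
  -- the component
  set K := closure {g : G | g ∈ Y ∧ Odd (orderOf g)} with hK
  have hKY : K ≤ Y := (closure_le _).mpr fun g hg => hg.1
  have hKn : normalizer (Y : Set G) ≤ normalizer (K : Set G) := fun g hg => by
    refine LocalB.mem_normalizer_of_conj_le ?_
    have hle : K ≤ K.comap (MulAut.conj g).toMonoidHom := (closure_le _).mpr fun x hx =>
      subset_closure ⟨(mem_normalizer_iff.mp hg x).mp hx.1,
        (orderOf_injective (MulAut.conj g).toMonoidHom (MulAut.conj g).injective x).symm ▸ hx.2⟩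
    exact fun x hx => hle hx
  have hKL : K ≤ L := hKY.trans hYL
  have hJK : J ≤ normalizer (K : Set G) := hJY.trans hKn
  have hXK : X ≤ normalizer (K : Set G) := hXY.trans (Subgroup.le_normalizer.trans hKn)
  obtain ⟨y, hyK, hyU⟩ : ∃ y : L, (y : G) ∈ K ∧ q y = U := by
    obtain ⟨k, m, hm, hkm⟩ := Nat.exists_eq_two_pow_mul_odd (n := orderOf u) (orderOf_pos u).ne'
    set w := u ^ 2 ^ k with hw
    have hwodd : Odd (orderOf w) := by
      have : orderOf w = m := by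
        rw [hw, orderOf_pow_of_dvd (by positivity) ⟨m, hkm⟩, hkm, Nat.mul_div_cancel_left _ (by positivity)]
      rwa [this]
    have hwK : ∀ i : ℕ, ((w ^ i : L) : G) ∈ K := fun i => by
      refine subset_closure ⟨(hmemY _).mpr ?_, ?_⟩
      · rw [hw, ← pow_mul, map_pow]; exact pow_mem (mem_zpowers U) _
      · rw [Subgroup.orderOf_coe]; exact Odd.of_dvd_nat hwodd (orderOf_pow_dvd i)
    have hcop : Nat.Coprime (2 ^ k) (orderOf U) := by
      rw [hUord]; exact Nat.Coprime.pow_left _ (by norm_num)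
    obtain ⟨i, hi⟩ := exists_pow_eq_self_of_coprime hcop
    exact ⟨w ^ i, hwK i, by rw [map_pow, hw, map_pow]; exact hi⟩
  have hπy : π y = η := (hqπ y u hyU).trans hπu
  set Q := K ⊓ X with hQdef
  have hQp : IsPGroup 2 Q := (Functor.isPGroup_pCoreOf L).to_le inf_le_right
  have hQn : ∀ g, g ∈ normalizer (K : Set G) → g ∈ L → g ∈ normalizer (Q : Set G) := fun g hg hgL =>
    LocalB.mem_normalizer_of_conj_le fun x hx =>
      ⟨(mem_normalizer_iff.mp hg x).mp hx.1, (mem_normalizer_iff.mp (hXn hgL) x).mp hx.2⟩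
  have hKQn : K ≤ normalizer (Q : Set G) := fun g hg => hQn g (Subgroup.le_normalizer hg) (hKL hg)
  have hcore : pCoreOf 2 K = Q := le_antisymm (le_inf (Functor.pCoreOf_le 2 K) fun g hg => by
      obtain ⟨n, hn⟩ := Functor.isPGroup_pCoreOf (p := 2) K ⟨g, hg⟩
      exact hY2 g (hKY (Functor.pCoreOf_le 2 K hg)) ⟨n, congrArg Subtype.val hn⟩)
    (Functor.le_pCoreOf inf_le_left hKQn hQp)
  have hmap : (K.subgroupOf L).map q = zpowers U := le_antisymm
    (by rintro _ ⟨x, hx, rfl⟩; exact (hmemY x).mp (hKY hx))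
    (zpowers_le.mpr ⟨y, hyK, hyU⟩)
  have hthree : Q.relIndex K = 3 := by
    have h1 : q.ker.relIndex (K.subgroupOf L) = 3 := by
      rw [relIndex_ker, hmap, Nat.card_zpowers, hUord]
    rw [hq, QuotientGroup.ker_mk', relIndex_subgroupOf hKL, ← inf_relIndex_right, inf_comm] at h1
    exact h1
  have hgen : closure {g : G | g ∈ K ∧ Odd (orderOf g)} = K :=
    le_antisymm ((closure_le _).mpr fun g hg => hg.1)
      ((closure_le _).mpr fun g hg => subset_closure ⟨subset_closure hg, hg.2⟩)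
  have hKJK : ∀ k ∈ K, ∀ i ∈ J, k * i * k⁻¹ * i⁻¹ ∈ K := fun k hk i hi => by
    rw [show k * i * k⁻¹ * i⁻¹ = k * (i * k⁻¹ * i⁻¹) by group]
    exact mul_mem hk ((mem_normalizer_iff.mp (hJK hi) _).mp (inv_mem hk))
  have hcKJ : ⁅K, J⁆ = K := by
    refine le_antisymm (commutator_le.mpr fun k hk i hi => ?_) ?_
    · rw [commutatorElement_def]; exact hKJK k hk i hi
    set M := (⁅K, J⁆ : Subgroup G) with hM
    have hQM : Q ≤ normalizer (M : Set G) :=
      inf_le_left.trans (left_le_normalizer_commutator K J)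
    refine (le_of_eq hgen.symm).trans ((closure_le _).mpr ?_)
    rintro g ⟨hg, hodd⟩
    refine mem_of_odd hQM hQp ?_ hodd
    have hc0 : ((⁅y, jj⁆ : L) : G) ∈ M := commutator_mem_commutator hyK hjJ
    have hc0U : q ⁅y, jj⁆ = U * U := by
      rw [map_commutatorElement, hyU, ← hJQ, commutatorElement_def, show U * JQ * U⁻¹ * JQ⁻¹
        = U * (JQ * U * JQ⁻¹)⁻¹ by group, hJU, inv_inv]
    obtain ⟨k, hk⟩ := mem_zpowers_iff.mp ((hmemY ⟨g, hKL hg⟩).mp (hKY hg))
    have hU2 : U = (U * U) * (U * U) := by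
      calc U = U ^ 3 * U := by rw [hU3, one_mul]
        _ = _ := by simp only [pow_succ, pow_zero, one_mul, mul_assoc]
    set c1 : L := ⁅y, jj⁆ * ⁅y, jj⁆ with hc1
    have hqc : q (c1 ^ k) = q ⟨g, hKL hg⟩ := by
      rw [map_zpow, hc1, map_mul, hc0U, ← hU2, hk]
    have hc1M : ((c1 ^ k : L) : G) ∈ M := by
      rw [SubgroupClass.coe_zpow]; exact zpow_mem (mul_mem hc0 hc0) k
    have hd : (((c1 ^ k)⁻¹ * ⟨g, hKL hg⟩ : L) : G) ∈ Q := by
      refine ⟨K.mul_mem (K.inv_mem ?_) hg, (hq1 _).mp (by rw [map_mul, map_inv, hqc, inv_mul_cancel])⟩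
      exact (commutator_le.mpr fun k hk i hi => by
        rw [commutatorElement_def]; exact hKJK k hk i hi) hc1M
    have := mul_mem (mem_sup_left (T := Q) hc1M) (mem_sup_right (S := M) hd)
    rwa [← Subgroup.coe_mul, mul_inv_cancel_left] at this
  have hQT : Q ≤ T := inf_le_right.trans s.core_le
  have hsyl : ∀ S : Subgroup G, IsSylowTwoIn S (K ⊔ J) → J ≤ S → thompsonSubgroupOf 2 S = J := by
    intro S hS hJS
    refine thompson_eq_of_between (fun g hg => ?_) hJS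
    have hgs := hS.1 hg
    rw [sup_comm] at hgs
    obtain ⟨i, hi, k, hk, rfl⟩ := (Solvable.mem_sup_of_le_normalizer hJK).mp hgs
    have hkS : k ∈ S := by simpa using S.mul_mem (S.inv_mem (hJS hi)) hg
    obtain ⟨n, hn⟩ := hS.2.1 ⟨k, hkS⟩
    exact mul_mem (hJT hi) (hQT ⟨hk, hY2 k (hKY hk) ⟨n, congrArg Subtype.val hn⟩⟩)
  -- the four-group
  set Ω := omegaCenterOf Q with hΩ
  have hΩe : IsElementaryAbelian 2 Ω := Thompson.elab_omegaOne fun x hx z hz =>
    mem_centralizer_iff.mp hz.2 x hx.1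
  have hΩC : ∀ z ∈ Ω, ∀ x ∈ Q, x * z = z * x := fun z hz x hx =>
    mem_centralizer_iff.mp (omega_spec hz).2.1 x hx
  have hΩy : ∀ z ∈ Ω, (y : G) * z * (y : G)⁻¹ ∈ Ω := fun z hz =>
    (mem_normalizer_iff.mp (normalizer_le_normalizer_omegaCenterOf Q (hKQn hyK)) z).mp hz
  have hΩc : ∀ z ∈ Ω, ∀ z' ∈ Ω, z * z' = z' * z := fun z hz z' hz' =>
    Thompson.elab_commute hΩe hz hz'
  have hy3Q : (y : G) * y * y ∈ Q := by
    refine ⟨K.mul_mem (K.mul_mem hyK hyK) hyK, ?_⟩
    rw [← Subgroup.coe_mul, ← Subgroup.coe_mul]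
    refine (hq1 _).mp ?_
    rw [map_mul, map_mul, hyU, ← pow_two, ← pow_succ, hU3]
  have hy3 : ∀ z ∈ Ω, (y : G) * ((y : G) * ((y : G) * z * (y : G)⁻¹) * (y : G)⁻¹) * (y : G)⁻¹ = z :=
    fun z hz => by
      rw [show (y : G) * ((y : G) * ((y : G) * z * (y : G)⁻¹) * (y : G)⁻¹) * (y : G)⁻¹
        = ((y : G) * y * y) * z * ((y : G) * y * y)⁻¹ by group, hΩC z hz _ hy3Q,
        mul_inv_cancel_right]
  set W := wOf K with hW
  have hWdef : W = ⁅Ω, K⁆ := by rw [hW, wOf, hcore]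
  have hΩsq : ∀ z ∈ Ω, z * z = 1 := fun z hz => by rw [← pow_two]; exact hΩe.2 z hz
  -- every element of `W` is a commutator with `y`
  have hWform : ∀ w ∈ W, ∃ z ∈ Ω, w = z * ((y : G) * z * (y : G)⁻¹) := by
    let R : Subgroup G :=
      { carrier := {w | ∃ z ∈ Ω, w = z * ((y : G) * z * (y : G)⁻¹)}
        one_mem' := ⟨1, one_mem _, by simp⟩
        mul_mem' := fun {w w'} ⟨z, hz, e⟩ ⟨z', hz', e'⟩ => ⟨z * z', mul_mem hz hz', by
          rw [e, e']
          calc z * ((y : G) * z * (y : G)⁻¹) * (z' * ((y : G) * z' * (y : G)⁻¹))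
              = z * (((y : G) * z * (y : G)⁻¹) * z') * ((y : G) * z' * (y : G)⁻¹) := by group
            _ = _ := by rw [hΩc _ (hΩy z hz) _ hz']; group⟩
        inv_mem' := fun {w} ⟨z, hz, e⟩ => ⟨z, hz, by
          have hzi : z⁻¹ = z := inv_eq_of_mul_eq_one_right (hΩsq z hz)
          rw [e, mul_inv_rev, hzi, hΩc _ hz _ (hΩy z hz), mul_inv_rev, mul_inv_rev, inv_inv, hzi]
          group⟩ }
    have hWR : W ≤ R := by
      rw [hWdef, commutator_le]
      intro z hz k hk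
      obtain ⟨i, hi⟩ := mem_zpowers_iff.mp ((hmemY ⟨k, hKL hk⟩).mp (hKY hk))
      have hmod : U ^ i = U ^ (i % 3) := by
        conv_lhs => rw [← zpow_mod_orderOf, hUord]
        norm_num
      obtain ⟨n, hn3, hn⟩ : ∃ n : ℕ, n < 3 ∧ U ^ n = q ⟨k, hKL hk⟩ :=
        ⟨(i % 3).toNat, by omega, by rw [← hi, hmod, ← zpow_natCast, Int.toNat_of_nonneg (by omega)]⟩
      have hkn : ((y : G) ^ n)⁻¹ * k ∈ Q := by
        refine ⟨K.mul_mem (K.inv_mem (K.pow_mem hyK n)) hk, ?_⟩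
        have := (hq1 ((y ^ n)⁻¹ * ⟨k, hKL hk⟩ : L)).mp (by
          rw [map_mul, map_inv, map_pow, hyU, hn, inv_mul_cancel])
        simpa using this
      have hzi : z⁻¹ = z := inv_eq_of_mul_eq_one_right (hΩsq z hz)
      have e : ⁅z, k⁆ = z * ((y : G) ^ n * z * ((y : G) ^ n)⁻¹) := by
        rw [commutatorElement_def, hzi]
        calc z * k * z * k⁻¹ = z * ((y : G) ^ n * ((((y : G) ^ n)⁻¹ * k) * z *
            (((y : G) ^ n)⁻¹ * k)⁻¹) * ((y : G) ^ n)⁻¹) := by group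
          _ = _ := by rw [hΩC z hz _ hkn, mul_inv_cancel_right]
      rw [e]
      rcases (show n = 0 ∨ n = 1 ∨ n = 2 by omega) with rfl | rfl | rfl
      · refine ⟨1, one_mem _, ?_⟩
        simp [hΩsq z hz]
      · exact ⟨z, hz, by rw [pow_one]⟩
      · refine ⟨_, hΩy _ (hΩy z hz), ?_⟩
        rw [hy3 z hz, hΩc _ hz _ (by rw [pow_two, mul_inv_rev, ← mul_assoc]; simpa [mul_assoc] using hΩy _ (hΩy z hz))]
        rw [pow_two]; group
    exact fun w hw => hWR hw
  have hWΩ : W ≤ Ω := fun w hw => by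
    obtain ⟨z, hz, rfl⟩ := hWform w hw
    exact mul_mem hz (hΩy z hz)
  have hWe : IsElementaryAbelian 2 W := Thompson.elab_mono hΩe hWΩ
  have hfpf : ∀ w ∈ W, (y : G) * w * (y : G)⁻¹ = w → w = 1 := by
    intro w hw hfix
    obtain ⟨z, hz, rfl⟩ := hWform w hw
    set z1 := (y : G) * z * (y : G)⁻¹ with hz1
    set z2 := (y : G) * z1 * (y : G)⁻¹ with hz2
    have h1 : z1 * z2 = z * z1 := by
      refine Eq.trans ?_ hfix
      simp only [hz2, hz1]; group
    have h2 : z2 = z := mul_left_cancel (h1.trans (hΩc _ hz _ (hΩy z hz)))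
    have h3 : z1 = z := by
      have := hy3 z hz
      rw [← hz1, ← hz2, h2] at this
      exact this
    rw [h3, hΩsq z hz]
  have hWn : normalizer (K : Set G) ≤ normalizer (W : Set G) := normalizer_le_normalizer_wOf K
  -- a maximal elementary abelian subgroup inverting the cycle
  obtain ⟨A, hA, a', ha', hainv⟩ : ∃ A ∈ Thompson.maxIn 2 T, ∃ a', a' ∈ A ∧ ∀ h : a' ∈ L,
      q ⟨a', h⟩ * U * (q ⟨a', h⟩)⁻¹ = U⁻¹ := by
    by_contra hno
    simp only [not_exists, not_and] at hno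
    let Cu : Subgroup G := ((centralizer ({U} : Set (L ⧸ X.subgroupOf L))).comap q).map L.subtype
    have hJC : J ≤ Cu := by
      rw [hJdef, Thompson.thompsonSubgroupOf_eq]
      refine sSup_le fun A hA b hb => ⟨⟨b, s.le (hA.1 hb)⟩, mem_centralizer_singleton_iff.mpr ?_, rfl⟩
      rcases hJn ⟨b, s.le (hA.1 hb)⟩ (maxIn_le_thompson hA hb) with h | h
      · exact mul_inv_eq_iff_eq_mul.mp h
      · exact absurd (fun _ => h) (hno A hA b hb)
    obtain ⟨x, hx, e⟩ := hJC hjJ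
    obtain rfl : x = jj := L.subtype_injective e
    have h := mul_inv_eq_iff_eq_mul.mpr (mem_centralizer_singleton_iff.mp hx)
    rw [← hJQ, hJU] at h
    have h2 : U ^ 2 = 1 := by rw [pow_two]; nth_rw 1 [← h]; exact inv_mul_cancel U
    apply hU1
    calc U = U ^ 3 * (U ^ 2)⁻¹ := by group
      _ = 1 := by rw [hU3, h2, inv_one, mul_one]
  have hAJ : A ≤ J := maxIn_le_thompson hA
  have hAL : A ≤ L := hAJ.trans hJL
  set A₁ := A ⊓ ((centralizer ({U} : Set (L ⧸ X.subgroupOf L))).comap q).map L.subtype with hA₁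
  have hmemA₁ : ∀ b, ∀ hb : b ∈ A, b ∈ A₁ ↔ q ⟨b, hAL hb⟩ * U * (q ⟨b, hAL hb⟩)⁻¹ = U := by
    intro b hb
    constructor
    · rintro ⟨-, x, hx, e⟩
      obtain rfl : x = ⟨b, hAL hb⟩ := L.subtype_injective e
      exact mul_inv_eq_iff_eq_mul.mpr (mem_centralizer_singleton_iff.mp hx)
    · intro h
      exact ⟨hb, ⟨b, hAL hb⟩, mem_centralizer_singleton_iff.mpr (mul_inv_eq_iff_eq_mul.mp h), rfl⟩
  have hUne : U⁻¹ ≠ U := fun h => hU1 (by
    have h2 : U ^ 2 = 1 := by rw [pow_two]; nth_rw 1 [← h]; exact inv_mul_cancel U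
    calc U = U ^ 3 * (U ^ 2)⁻¹ := by group
      _ = 1 := by rw [hU3, h2, inv_one, mul_one])
  have hidx : A₁.relIndex A = 2 := by
    rw [relIndex, index_eq_two_iff]
    refine ⟨⟨a', ha'⟩, fun b => ?_⟩
    rw [mem_subgroupOf, mem_subgroupOf]
    have hba : q ⟨_, hAL (mul_mem b.2 ha')⟩ * U * (q ⟨_, hAL (mul_mem b.2 ha')⟩)⁻¹ =
        (q ⟨b, hAL b.2⟩ * U * (q ⟨b, hAL b.2⟩)⁻¹)⁻¹ := by
      rw [show (⟨(b : G) * a', hAL (mul_mem b.2 ha')⟩ : L) = ⟨b, hAL b.2⟩ * ⟨a', hAL ha'⟩ from rfl,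
        map_mul, mul_inv_rev, show (q ⟨b, hAL b.2⟩ * U * (q ⟨b, hAL b.2⟩)⁻¹)⁻¹
          = q ⟨b, hAL b.2⟩ * U⁻¹ * (q ⟨b, hAL b.2⟩)⁻¹ by group, ← hainv (hAL ha')]
      group
    show Xor ((b : G) * a' ∈ A₁) ((b : G) ∈ A₁)
    rw [hmemA₁ _ (mul_mem b.2 ha'), hmemA₁ _ b.2, hba]
    rcases hJn ⟨b, hAL b.2⟩ (hAJ b.2) with h | h <;> rw [h]
    · exact Or.inr ⟨rfl, hUne⟩
    · exact Or.inl ⟨inv_inv U, hUne⟩
  have hconj : ∀ b, ∀ hb : b ∈ A, ∀ y' : L, (y' : G) ∈ K →
      q ⟨b, hAL hb⟩ * U * (q ⟨b, hAL hb⟩)⁻¹ = q y' →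
      ∀ w ∈ W, b * ((y : G) * w * (y : G)⁻¹) * b⁻¹ = (y' : G) * (b * w * b⁻¹) * (y' : G)⁻¹ := by
    intro b hb y' hy' h w hw
    have hbn : b ∈ normalizer (K : Set G) := hJK (hAJ hb)
    have hd : (y' : G)⁻¹ * (b * y * b⁻¹) ∈ Q := by
      refine ⟨K.mul_mem (K.inv_mem hy') ((mem_normalizer_iff.mp hbn _).mp hyK), ?_⟩
      exact (hq1 (y'⁻¹ * (⟨b, hAL hb⟩ * y * (⟨b, hAL hb⟩ : L)⁻¹))).mp (by
        rw [map_mul, map_inv, map_mul, map_mul, map_inv, hyU, h, inv_mul_cancel])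
    have hbw : b * w * b⁻¹ ∈ Ω := hWΩ ((mem_normalizer_iff.mp (hWn hbn) w).mp hw)
    calc b * ((y : G) * w * (y : G)⁻¹) * b⁻¹ = (y' : G) * (((y' : G)⁻¹ * (b * y * b⁻¹)) *
        (b * w * b⁻¹) * ((y' : G)⁻¹ * (b * y * b⁻¹))⁻¹) * (y' : G)⁻¹ := by group
      _ = _ := by rw [hΩC _ hbw _ hd, mul_inv_cancel_right]
  have hWle : Nat.card W ≤ 4 := by
    refine card_le_four (a := a') (y := (y : G)) hWe hA.2.1 inf_le_left hidx ha'
      (fun w hw => (mem_normalizer_iff.mp (hWn (Subgroup.le_normalizer hyK)) w).mp hw)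
      (hAJ.trans (hJK.trans hWn)) (fun w hw => hy3 w (hWΩ hw)) hfpf (fun w hw => ?_)
      (fun b hb w hw => ?_) (fun B hB hBe => hA.2.2 B (hB.trans (sup_le hA.1 ?_)) hBe)
    · rw [hconj a' ha' y⁻¹ (inv_mem hyK) (by rw [map_inv, hyU]; exact hainv _) w hw,
        Subgroup.coe_inv, inv_inv]
    · exact hconj b hb.1 y hyK (by rw [hyU]; exact (hmemA₁ b hb.1).mp hb) w hw
    · exact hWΩ.trans ((Thompson.omegaOne_le _).trans (inf_le_left.trans hQT))
  set W₀ := (OddOffender.comm ρ η).map (modV T L).subtype with hW₀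
  have hW₀card : Nat.card W₀ = 4 := by
    rw [hW₀, card_map_of_injective (f := (modV T L).subtype) (modV T L).subtype_injective,
      OddOffender.card_comm ρ hV, htf.fac.2.2.2]
  have hy' : ∀ x : modV T L, ((ρ η x : modV T L) : G) = y * x * (y : G)⁻¹ := fun x => by
    rw [← hπy]; rfl
  have hW₀Ω : W₀ ≤ Ω := by
    rintro _ ⟨_, ⟨x, rfl⟩, rfl⟩
    have hx := s.omega_le x.2
    have hz := s.omega_le (OddOffender.delta ρ η x).2
    refine Thompson.mem_omegaOne ⟨⟨?_, hz.1⟩, mem_centralizer_iff.mpr fun g hg =>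
      mem_centralizer_iff.mp hz.2.1 g hg.2⟩ hz.2.2
    show (x : G) * ((ρ η x : modV T L) : G) ∈ K
    rw [hy', show (x : G) * ((y : G) * x * (y : G)⁻¹) = ((x : G) * y * (x : G)⁻¹) * ((x : G) * x) *
      (y : G)⁻¹ by group, ← pow_two, hx.2.2, mul_one]
    exact mul_mem ((mem_normalizer_iff.mp (hXK hx.1) _).mp hyK) (inv_mem hyK)
  have hW₀W : W₀ ≤ W := by
    have hodd := OddOffender.odd_of_cube ρ hρ hV hη3
    let f : OddOffender.comm ρ η → OddOffender.comm ρ η :=
      fun z => ⟨OddOffender.delta ρ η z, ⟨z, rfl⟩⟩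
    have hf : Function.Injective f := fun z z' h => by
      have h' : OddOffender.delta ρ η z = OddOffender.delta ρ η z' := congrArg Subtype.val h
      refine Subtype.ext (inv_mul_eq_one.mp (OddOffender.eq_one_of_mem_comm_of_fix ρ hV hodd
        (mul_mem (inv_mem z.2) z'.2) ((OddOffender.mem_fix_singleton ρ).mp
          ((OddOffender.ker_delta ρ hV η).le ?_))))
      rw [MonoidHom.mem_ker, map_mul, map_inv, h', inv_mul_cancel]
    rintro _ ⟨w, hw, rfl⟩
    obtain ⟨⟨z, hz⟩, hzw⟩ := Finite.surjective_of_injective hf ⟨w, hw⟩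
    have hzw' : OddOffender.delta ρ η z = w := congrArg Subtype.val hzw
    have hzΩ : (z : G) ∈ Ω := hW₀Ω ⟨z, hz, rfl⟩
    rw [hWdef, ← hzw']
    show (z : G) * ((ρ η z : modV T L) : G) ∈ ⁅Ω, K⁆
    have h := commutator_mem_commutator hzΩ hyK
    rw [commutatorElement_def, inv_eq_of_mul_eq_one_right (hΩsq _ hzΩ)] at h
    rw [hy']
    simpa [mul_assoc] using h
  refine ⟨K, ⟨hgen, hcKJ, by rw [hcore]; exact hthree, hsyl,
    le_antisymm hWle (hW₀card ▸ Nat.card_le_card_of_injective _ (inclusion_injective hW₀W)),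
    fun w hw => hΩsq w (hWΩ hw)⟩, hKL, ⟨y, hyK, hπy⟩⟩

end Setting

end CfsgLib.JComp
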