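import Cfsg.Agent.LocalB.JAmalgam

/-! The modules of two components with different overgroups do not commute. -/

set_option autoImplicit false
set_option linter.unusedVariables false
set_option linter.unusedSectionVars false

namespace CfsgLib.JComp

open Subgroup Cfsg CfsgLib
open scoped CfsgLib.Functor

variable {G : Type*} [Group G] [Finite G] {T L₁ L₂ K₁ K₂ : Subgroup G} {v₁ v₂ : G}

namespace OutComp

variable (o₁ : OutComp T K₁ L₁ v₁) (o₂ : OutComp T K₂ L₂ v₂)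
include o₁ o₂

/-- The centralizer of `v₂` normalizes `W₁`. -/
theorem fixes_normalizes (hG : Hyp G) (hne : L₁ ≠ L₂)
    (h₁ : K₁ ≤ centralizer ({v₂} : Set G)) {q : G} (hq : q ∈ centralizer ({v₂} : Set G)) :
    q ∈ normalizer (wOf K₁ : Set G) := by
  have hqL : q ∈ L₁ := o₁.fixes_le v₂ o₂.memZ o₂.ne_one h₁ hq
  obtain ⟨hK₃, hK₃L⟩ := o₁.isJComponent_conj hG hqL
  have d₃ := data_of_isJComponent o₁.isP hK₃
  rcases o₁.set.comp_pair o₁.data d₃ o₁.le hK₃L with h | ⟨hdis, hK₃C⟩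
  · rw [← cj_wOf] at h
    exact Functor.mem_normalizer_iff_cj.2 h
  exfalso
  obtain ⟨-, hKC⟩ := (o₁.set.comp_pair d₃ o₁.data hK₃L o₁.le).resolve_left (by
    intro h
    rw [h, inf_idem] at hdis
    exact d₃.w_ne_bot hdis)
  obtain ⟨v₃, hv₃W, hv₃1, hv₃fix, -⟩ := d₃.exists_fixed_other
  have hv₃Z : v₃ ∈ omegaCenterOf T := by
    rw [o₁.omega]
    exact Thompson.mem_omegaOne ⟨d₃.fixed_mem hv₃W hv₃fix,
      mem_centralizer_iff.mpr fun j hj => hv₃fix j (mem_sup_right hj)⟩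
      (by rw [pow_two]; exact d₃.sq _ hv₃W)
  have he : v₃ = v₂ := o₁.fixes_eq v₃ hv₃Z v₂ o₂.memZ hv₃1 o₂.ne_one
    (fun k hk => mem_centralizer_singleton_iff.mpr (mem_centralizer_iff.mp (hKC hk) v₃ hv₃W).symm) h₁
  obtain ⟨y, hy, hyQ⟩ := d₃.exists_mem_not_core
  refine hv₃1 (d₃.fixed_eq_one hy hyQ hv₃W ?_)
  obtain ⟨k, hk, rfl⟩ := hy
  rw [he]
  have c1 : Commute q v₂ := mem_centralizer_singleton_iff.mp hq
  have c2 : Commute k v₂ := mem_centralizer_singleton_iff.mp (h₁ hk)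
  show q * k * q⁻¹ * v₂ = v₂ * (q * k * q⁻¹)
  exact ((c1.mul_left c2).mul_left c1.inv_left).eq

/-- Elements centralizing `v₂` move `W₂` to subgroups commuting with `W₂`. -/
theorem commute_of_fixes (hG : Hyp G) (hne : L₁ ≠ L₂)
    (hc : wOf K₁ ≤ centralizer (wOf K₂ : Set G)) (h₁ : K₁ ≤ centralizer ({v₂} : Set G))
    (h₂ : K₂ ≤ centralizer ({v₁} : Set G)) {q : G} (hq : q ∈ centralizer ({v₂} : Set G)) :
    wOf K₂ ≤ centralizer ((q ⋆ wOf K₂ : Subgroup G) : Set G) := by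
  have hc' : wOf K₂ ≤ centralizer (wOf K₁ : Set G) := fun a ha => mem_centralizer_iff.mpr fun b hb =>
    (mem_centralizer_iff.mp (hc hb) a ha).symm
  have hqW := o₁.fixes_normalizes o₂ hG hne h₁ hq
  have hqv : q * v₁ * q⁻¹ ∈ wOf K₁ := (mem_normalizer_iff.mp hqW v₁).mp o₁.memW
  obtain ⟨k, hk, hkv⟩ := o₁.transitive hqv (fun e => o₁.ne_one (conj_eq_one_iff.mp e))
  have hx : k⁻¹ * q ∈ centralizer ({v₁} : Set G) := by
    refine mem_centralizer_singleton_iff.mpr (mul_inv_eq_iff_eq_mul.mp ?_)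
    calc k⁻¹ * q * v₁ * (k⁻¹ * q)⁻¹ = k⁻¹ * (q * v₁ * q⁻¹) * k := by group
      _ = v₁ := by rw [← hkv]; group
  have hxW := o₂.fixes_normalizes o₁ hG hne.symm h₂ hx
  have hqk : q ⋆ wOf K₂ = k ⋆ wOf K₂ := by
    rw [show q = k * (k⁻¹ * q) by group, ← Functor.cj_cj, Functor.mem_normalizer_iff_cj.1 hxW]
  rw [hqk]
  by_cases hkQ : k ∈ pCoreOf 2 K₁
  · rw [Functor.mem_normalizer_iff_cj.1 (o₂.norm_w (o₁.core_le hkQ))]
    exact o₂.w_abelian
  · exact o₂.commute_conj o₁ hne.symm hc' h₁ h₂ hk hkQ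

/-- An element of `N(T)` mapping `v₁` to `v₂` maps `W₂` to `W₁`. -/
theorem swap (hG : Hyp G) (hne : L₁ ≠ L₂) (h₁ : K₁ ≤ centralizer ({v₂} : Set G))
    (h₂ : K₂ ≤ centralizer ({v₁} : Set G)) {g : G} (hg : g ∈ normalizer (T : Set G))
    (hgv : g * v₁ * g⁻¹ = v₂) : g ⋆ wOf K₂ = wOf K₁ ∧ g * v₂ * g⁻¹ = v₁ := by
  have hgJ := Thompson.normalizer_le_normalizer_thompsonSubgroupOf (p := 2) T hg
  have hK₃ : IsJComponent T (g ⋆ K₂) := isJComponent_cj_of_mem hgJ o₂.comp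
  have d₃ := data_of_isJComponent o₁.isP hK₃
  have hC₁ : centralizer ({v₁} : Set G) ≤ L₂ := o₂.fixes_le v₁ o₁.memZ o₁.ne_one h₂
  have hle : centralizer ({v₂} : Set G) ≤ g ⋆ L₂ := by
    refine le_trans ?_ (Functor.cj_mono g hC₁)
    intro x hx
    refine Functor.mem_cj.mpr (mem_centralizer_singleton_iff.mpr ?_)
    have h := mem_centralizer_singleton_iff.mp hx
    rw [← hgv] at h
    calc g⁻¹ * x * g * v₁ = g⁻¹ * (x * (g * v₁ * g⁻¹)) * g := by group
      _ = v₁ * (g⁻¹ * x * g) := by rw [h]; group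
  have hKJ : K₁ ⊔ thompsonSubgroupOf 2 T ≤ centralizer ({v₂} : Set G) :=
    _root_.sup_le h₁ fun j hj => mem_centralizer_singleton_iff.mpr
      (o₂.v_comm (Thompson.thompsonSubgroupOf_le T hj))
  have hL : g ⋆ L₂ = L₁ := o₁.unique _ (isMaximal_cj o₂.max g) (hKJ.trans hle)
  have hK₃L : g ⋆ K₂ ≤ L₁ := hL ▸ Functor.cj_mono g o₂.le
  have hgv₂ : g * v₂ * g⁻¹ ∈ omegaCenterOf T :=
    (mem_normalizer_iff.mp (normalizer_le_normalizer_omegaCenterOf T hg) _).mp o₂.memZ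
  rcases o₁.set.comp_pair o₁.data d₃ o₁.le hK₃L with h | ⟨hdis, -⟩
  · rw [← cj_wOf] at h
    refine ⟨h, (o₁.only _ (h ▸ ⟨v₂, o₂.memW, rfl⟩) ?_).resolve_left
      fun e => o₂.ne_one (conj_eq_one_iff.mp e)⟩
    exact mem_centralizer_iff.mpr fun j hj => mem_centralizer_iff.mp (Setting.omega_spec hgv₂).2.1 j
      (Thompson.thompsonSubgroupOf_le T hj)
  exfalso
  obtain ⟨-, hKC⟩ := (o₁.set.comp_pair d₃ o₁.data hK₃L o₁.le).resolve_left (by
    intro h
    rw [h, inf_idem] at hdis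
    exact d₃.w_ne_bot hdis)
  have hgW : g * v₂ * g⁻¹ ∈ wOf (g ⋆ K₂) := by rw [← cj_wOf]; exact ⟨v₂, o₂.memW, rfl⟩
  have he := o₁.fixes_eq _ hgv₂ v₂ o₂.memZ (fun e => o₂.ne_one (conj_eq_one_iff.mp e)) o₂.ne_one
    (fun k hk => mem_centralizer_singleton_iff.mpr (mem_centralizer_iff.mp (hKC hk) _ hgW).symm) h₁
  have hv : v₁ = v₂ := (MulAut.conj g).injective (show g * v₁ * g⁻¹ = g * v₂ * g⁻¹ by rw [hgv, he])
  exact o₁.moves (hv ▸ h₁)

theorem commute_of_maps (hG : Hyp G) (hne : L₁ ≠ L₂)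
    (hc : wOf K₁ ≤ centralizer (wOf K₂ : Set G)) (h₁ : K₁ ≤ centralizer ({v₂} : Set G))
    (h₂ : K₂ ≤ centralizer ({v₁} : Set G)) {g : G} (hgv : g * v₁ * g⁻¹ = v₂) :
    wOf K₂ ≤ centralizer ((g ⋆ wOf K₁ : Subgroup G) : Set G) := by
  have : Fact (Nat.Prime 2) := ⟨Nat.prime_two⟩
  set C := centralizer ({v₂} : Set G) with hC
  have hTC : T ≤ C := fun t ht => mem_centralizer_singleton_iff.mpr (o₂.v_comm ht)
  have hCL : C ≤ L₁ := o₁.fixes_le v₂ o₂.memZ o₂.ne_one h₁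
  have hS : Functor.IsSylowIn 2 T C := (sylowTwo_iff.1 o₁.set.ovg.1).of_le hTC hCL
  have hgT : g ⋆ T ≤ C := by
    rintro _ ⟨t, ht, rfl⟩
    refine mem_centralizer_singleton_iff.mpr ?_
    show g * t * g⁻¹ * v₂ = v₂ * (g * t * g⁻¹)
    have h := o₁.v_comm ht
    rw [← hgv]
    calc g * t * g⁻¹ * (g * v₁ * g⁻¹) = g * (t * v₁) * g⁻¹ := by group
      _ = _ := by rw [h]; group
  obtain ⟨m, hm, hmle⟩ := hS.exists_cj_le (Functor.isPGroup_cj g o₁.isP) hgT
  rw [Functor.cj_cj] at hmle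
  have hn : m * g ∈ normalizer (T : Set G) := Functor.mem_normalizer_iff_cj.2
    (Functor.eq_of_le_of_card_le' hmle (Functor.card_cj _ T).ge)
  have hmv : m * g * v₁ * (m * g)⁻¹ = v₂ := by
    rw [show m * g * v₁ * (m * g)⁻¹ = m * (g * v₁ * g⁻¹) * m⁻¹ by group, hgv]
    exact mul_inv_eq_iff_eq_mul.mpr (mem_centralizer_singleton_iff.mp hm)
  obtain ⟨-, hback⟩ := o₁.swap o₂ hG hne h₁ h₂ hn hmv
  obtain ⟨hW, -⟩ := o₂.swap o₁ hG hne.symm h₂ h₁ hn hback
  have e : g ⋆ wOf K₁ = m⁻¹ ⋆ wOf K₂ := by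
    rw [← hW, Functor.cj_cj, show m⁻¹ * (m * g) = g by group]
  rw [e]
  exact o₁.commute_of_fixes o₂ hG hne hc h₁ h₂ (inv_mem hm)

/-- The two modules do not commute. -/
theorem not_commute (hG : Hyp G) (hne : L₁ ≠ L₂) :
    ¬ wOf K₁ ≤ centralizer (wOf K₂ : Set G) := by
  intro hc
  have hc' : wOf K₂ ≤ centralizer (wOf K₁ : Set G) := fun a ha => mem_centralizer_iff.mpr fun b hb =>
    (mem_centralizer_iff.mp (hc hb) a ha).symm
  have h₂ := o₁.fixes_of_commute o₂ hG hne hc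
  have h₁ := o₂.fixes_of_commute o₁ hG hne.symm hc'
  set Q := coreT T K₁ ⊓ coreT T K₂ with hQdef
  set P : Set G := ((K₁ ⊔ T : Subgroup G) : Set G) ∪ (K₂ ⊔ T : Subgroup G) with hPdef
  -- products of `n` elements of the two groups
  have key : ∀ n : ℕ, ∀ l : List G, l.length = n → (∀ x ∈ l, x ∈ P) →
      l.prod ⋆ wOf K₁ ≤ Q ∧ l.prod ⋆ wOf K₂ ≤ Q := by
    intro n
    induction n with
    | zero =>
      intro l hl _
      rw [List.length_eq_zero_iff] at hl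
      subst hl
      rw [List.prod_nil, Functor.mem_normalizer_iff_cj.1 (one_mem _),
        Functor.mem_normalizer_iff_cj.1 (one_mem _)]
      exact ⟨le_inf o₁.w_le_coreT (le_inf o₁.w_le hc),
        le_inf (le_inf o₂.w_le hc') o₂.w_le_coreT⟩
    | succ n ih =>
      have hT : ∀ l : List G, l.length = n + 1 → (∀ x ∈ l, x ∈ P) →
          l.prod ⋆ wOf K₁ ≤ T ∧ l.prod ⋆ wOf K₂ ≤ T := by
        intro l hl hlP
        obtain ⟨p, l', rfl⟩ := List.exists_cons_of_length_eq_add_one hl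
        simp only [List.length_cons, Nat.add_right_cancel_iff] at hl
        obtain ⟨hp, hl'⟩ := List.forall_mem_cons.mp hlP
        obtain ⟨i1, i2⟩ := ih l' hl hl'
        rw [List.prod_cons, ← Functor.cj_cj, ← Functor.cj_cj]
        rcases hp with hp | hp
        · exact ⟨((Functor.cj_mono p (i1.trans inf_le_left)).trans
            (Functor.mem_normalizer_iff_cj.1 (o₁.normalizes_coreT hp)).le).trans inf_le_left,
            ((Functor.cj_mono p (i2.trans inf_le_left)).trans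
            (Functor.mem_normalizer_iff_cj.1 (o₁.normalizes_coreT hp)).le).trans inf_le_left⟩
        · exact ⟨((Functor.cj_mono p (i1.trans inf_le_right)).trans
            (Functor.mem_normalizer_iff_cj.1 (o₂.normalizes_coreT hp)).le).trans inf_le_left,
            ((Functor.cj_mono p (i2.trans inf_le_right)).trans
            (Functor.mem_normalizer_iff_cj.1 (o₂.normalizes_coreT hp)).le).trans inf_le_left⟩
      intro l hl hlP
      have hinv := hT (l.map fun x => x⁻¹).reverse (by simp [hl]) (fun x hx => by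
        simp only [List.mem_reverse, List.mem_map] at hx
        obtain ⟨u, hu, rfl⟩ := hx
        rcases hlP u hu with h | h
        · exact Or.inl (inv_mem h)
        · exact Or.inr (inv_mem h))
      rw [← List.prod_inv_reverse] at hinv
      obtain ⟨t1, t2⟩ := hT l hl hlP
      -- a commutator is one of the fixed points
      have hstep : ∀ {Kl : Subgroup G} {Ll : Subgroup G} {vl : G}, OutComp T Kl Ll vl →
          ∀ {Kj : Subgroup G} {Lj : Subgroup G} {vj : G}, OutComp T Kj Lj vj →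
          l.prod ⋆ wOf Kl ≤ T → l.prod⁻¹ ⋆ wOf Kj ≤ T →
          ¬ l.prod ⋆ wOf Kl ≤ coreT T Kj →
          l.prod * vl * l.prod⁻¹ = vj ∧ ¬ wOf Kj ≤ centralizer ((l.prod ⋆ wOf Kl : Subgroup G) : Set G) := by
        intro Kl Ll vl ol Kj Lj vj oj hlT hjT hne'
        set g := l.prod
        obtain ⟨_, ⟨u, hu, rfl⟩, hxQ⟩ := SetLike.not_le_iff_exists.mp hne'
        have hxT : g * u * g⁻¹ ∈ T := hlT ⟨u, hu, rfl⟩
        obtain ⟨w, hw, hwm⟩ : ∃ w ∈ wOf Kj, g * u * g⁻¹ * w * (g * u * g⁻¹)⁻¹ ≠ w := by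
          by_contra hall
          simp only [not_exists, not_and, not_not] at hall
          exact hxQ ⟨hxT, mem_centralizer_iff.mpr fun w hw =>
            (mul_inv_eq_iff_eq_mul.mp (hall w hw)).symm⟩
        refine ⟨?_, fun h => hwm (mul_inv_eq_iff_eq_mul.mpr
          (mem_centralizer_iff.mp (h hw) (g * u * g⁻¹) ⟨u, hu, rfl⟩))⟩
        have hd := (oj.conj_cases hxT hw).resolve_left hwm
        have hw' : g⁻¹ * w * g ∈ T := by
          have := hjT ⟨w, hw, rfl⟩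
          simpa using this
        have e : g * u * g⁻¹ * w * (g * u * g⁻¹)⁻¹ * w⁻¹
            = g * (u * ((g⁻¹ * w * g) * u⁻¹ * (g⁻¹ * w * g)⁻¹)) * g⁻¹ := by group
        rw [hd, oj.v_comm (oj.w_le hw), mul_inv_cancel_right] at e
        rcases ol.conj_cases hw' (inv_mem hu) with h | h
        · rw [h, mul_inv_cancel, mul_one, mul_inv_cancel] at e
          exact absurd e oj.ne_one
        · rw [h, ← mul_assoc u, mul_inv_cancel, one_mul] at e
          exact e.symm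
      refine ⟨le_inf ?_ ?_, le_inf ?_ ?_⟩
      · by_contra h
        obtain ⟨hv, hn⟩ := hstep o₁ o₁ t1 hinv.1 h
        -- `g` fixes `v₁`
        exact hn (o₂.commute_of_fixes o₁ hG hne.symm hc' h₂ h₁
          (mem_centralizer_singleton_iff.mpr (mul_inv_eq_iff_eq_mul.mp hv)))
      · by_contra h
        obtain ⟨hv, hn⟩ := hstep o₁ o₂ t1 hinv.2 h
        exact hn (o₁.commute_of_maps o₂ hG hne hc h₁ h₂ hv)
      · by_contra h
        obtain ⟨hv, hn⟩ := hstep o₂ o₁ t2 hinv.1 h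
        exact hn (o₂.commute_of_maps o₁ hG hne.symm hc' h₂ h₁ hv)
      · by_contra h
        obtain ⟨hv, hn⟩ := hstep o₂ o₂ t2 hinv.2 h
        exact hn (o₁.commute_of_fixes o₂ hG hne hc h₁ h₂
          (mem_centralizer_singleton_iff.mpr (mul_inv_eq_iff_eq_mul.mp hv)))
  set X := closure {x : G | ∃ l : List G, (∀ p ∈ l, p ∈ P) ∧ x ∈ l.prod ⋆ wOf K₁} with hXdef
  have hXT : X ≤ T := (closure_le _).mpr (by
    rintro x ⟨l, hl, hx⟩
    exact ((key _ l rfl hl).1 hx).1.1)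
  have hXn : ∀ p ∈ P, p ∈ normalizer (X : Set G) := by
    intro p hp
    refine LocalB.mem_normalizer_of_conj_le fun x hx => ?_
    have hle : X ≤ X.comap (MulAut.conj p).toMonoidHom := (closure_le _).mpr (by
      rintro x ⟨l, hl, hx⟩
      refine subset_closure ⟨p :: l, List.forall_mem_cons.mpr ⟨hp, hl⟩, ?_⟩
      rw [List.prod_cons, ← Functor.cj_cj]
      exact ⟨x, hx, rfl⟩)
    exact hle hx
  have hb := o₁.eq_bot_of_normalized o₂ hne hXT (fun p hp => hXn p (Or.inl hp))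
    (fun p hp => hXn p (Or.inr hp))
  refine o₁.ne_one ?_
  have hv : v₁ ∈ X := subset_closure ⟨[], by simp, by
    rw [List.prod_nil, Functor.mem_normalizer_iff_cj.1 (one_mem _)]; exact o₁.memW⟩
  rw [hb] at hv
  exact mem_bot.mp hv

end OutComp

end CfsgLib.JComp
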