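import Cfsg.Agent.LocalB.JSmall

/-! A component outside `M` is normalized by `T`. -/

set_option autoImplicit false
set_option linter.unusedVariables false
set_option linter.unusedSectionVars false

namespace CfsgLib.JComp

open Subgroup Cfsg CfsgLib
open scoped CfsgLib.Functor

variable {G : Type*} [Group G] [Finite G] {T L M K : Subgroup G}

/-- A component outside `M` with two conjugates gives a large overgroup. -/
theorem normalizer_thompson_le_overgroup (hG : Hyp G) (S : Sylow 2 G)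
    (hMJ : normalizer (thompsonSubgroupOf 2 (S : Subgroup G) : Set G) ≤ M)
    (hT : T ∈ maxStraddlingTwoSubgroups M) (hK : IsJComponent T K) (hKM : ¬ K ≤ M)
    (hLm : IsMaximalTwoLocal L) (hKJ : K ⊔ thompsonSubgroupOf 2 T ≤ L) {t v₁ v₂ : G}
    (ht : t ∈ T) (htL : t ∈ L) (htv : t * v₁ * t⁻¹ = v₂) (hne : v₁ ≠ v₂)
    (hv₁Z : v₁ ∈ omegaCenterOf (thompsonSubgroupOf 2 T))
    (hv₂Z : v₂ ∈ omegaCenterOf (thompsonSubgroupOf 2 T))
    (hKv₂ : K ≤ centralizer ({v₂} : Set G)) (hKv₁ : ¬ K ≤ centralizer ({v₁} : Set G))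
    (hsplit : ∀ e ∈ omegaCenterOf (thompsonSubgroupOf 2 T),
      K ≤ centralizer ({e} : Set G) ∨ K ≤ centralizer ({e * v₁} : Set G)) :
    normalizer (thompsonSubgroupOf 2 T : Set G) ≤ L := by
  have hNM := normalizer_thompson_le S hMJ hT
  set J := thompsonSubgroupOf 2 T with hJ
  set Z₀ := omegaCenterOf J with hZ₀
  have hJC : ∀ e ∈ Z₀, J ≤ centralizer ({e} : Set G) := fun e he j hj =>
    mem_centralizer_singleton_iff.mpr (mem_centralizer_iff.mp (Setting.omega_spec he).2.1 j hj)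
  have hsq : ∀ e ∈ Z₀, e * e = 1 := fun e he => by rw [← pow_two]; exact (Setting.omega_spec he).2.2
  have hcm : ∀ e ∈ Z₀, ∀ f ∈ Z₀, e * f = f * e := fun e he f hf =>
    mem_centralizer_iff.mp (Setting.omega_spec hf).2.1 e (Setting.omega_spec he).1
  intro g hg
  have hgM := hNM hg
  have htJ : t ∈ normalizer (J : Set G) :=
    Thompson.normalizer_le_normalizer_thompsonSubgroupOf T (Subgroup.le_normalizer ht)
  have hconjZ : ∀ h ∈ normalizer (J : Set G), ∀ e ∈ Z₀, h * e * h⁻¹ ∈ Z₀ := fun h hh e he =>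
    (mem_normalizer_iff.mp (normalizer_le_normalizer_omegaCenterOf J hh) e).mp he
  -- an element centralized by `K` and by a conjugate of `K`
  have hcommon : ∀ h ∈ normalizer (J : Set G), ∀ x ∈ Z₀, x ≠ 1 → K ≤ centralizer ({x} : Set G) →
      K ≤ centralizer ({h * x * h⁻¹} : Set G) → h ∈ L := by
    intro h hh x hx hx1 hKx hKhx
    have hhx := hconjZ h hh x hx
    have hC := centralizer_le_unique hG S hMJ hT hK hKM hLm hKJ (hsq _ hhx)
      (fun e => hx1 (conj_eq_one_iff.mp e)) (sup_le hKhx (hJC _ hhx))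
    refine mem_of_comp_le hG S hMJ hT hK hKM hLm hKJ hh (hNM hh) (le_trans ?_ hC)
    rintro _ ⟨k, hk, rfl⟩
    refine mem_centralizer_singleton_iff.mpr ?_
    show h * k * h⁻¹ * (h * x * h⁻¹) = h * x * h⁻¹ * (h * k * h⁻¹)
    have h1 := mem_centralizer_singleton_iff.mp (hKx hk)
    calc h * k * h⁻¹ * (h * x * h⁻¹) = h * (k * x) * h⁻¹ := by group
      _ = _ := by rw [h1]; group
  have hv₂1 : v₂ ≠ 1 := fun e => hne ((conj_eq_one_iff.mp (htv.trans e)).trans e.symm)
  have hw : ∀ h ∈ normalizer (J : Set G), h ∉ L →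
      K ≤ centralizer ({h * v₂ * h⁻¹ * v₁} : Set G) := fun h hh hhL =>
    (hsplit _ (hconjZ h hh _ hv₂Z)).resolve_left fun h1 =>
      hhL (hcommon h hh v₂ hv₂Z hv₂1 hKv₂ h1)
  by_contra hgL
  by_cases hex : ∃ x ∈ Z₀, x ≠ 1 ∧ x ≠ v₂ ∧ K ≤ centralizer ({x} : Set G)
  · obtain ⟨x, hx, hx1, hxv, hKx⟩ := hex
    rcases hsplit _ (hconjZ g hg x hx) with h1 | h1
    · exact hgL (hcommon g hg x hx hx1 hKx h1)
    refine hgL (hcommon g hg (x * v₂) (mul_mem hx hv₂Z) (fun e => hxv ?_) ?_ ?_)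
    · exact mul_right_cancel (e.trans (hsq _ hv₂Z).symm)
    · intro k hk
      exact mem_centralizer_singleton_iff.mpr
        ((show Commute k x from mem_centralizer_singleton_iff.mp (hKx hk)).mul_right
          (mem_centralizer_singleton_iff.mp (hKv₂ hk))).eq
    · intro k hk
      have e : g * (x * v₂) * g⁻¹ = (g * x * g⁻¹ * v₁) * (g * v₂ * g⁻¹ * v₁) := by
        rw [hcm _ (hconjZ g hg _ hv₂Z) _ hv₁Z, ← mul_assoc (g * x * g⁻¹ * v₁),
          mul_assoc (g * x * g⁻¹), hsq _ hv₁Z, mul_one]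
        group
      rw [e]
      exact mem_centralizer_singleton_iff.mpr
        ((show Commute k _ from mem_centralizer_singleton_iff.mp (h1 hk)).mul_right
          (mem_centralizer_singleton_iff.mp (hw g hg hgL hk))).eq
  · simp only [not_exists, not_and] at hex
    have key : ∀ h ∈ normalizer (J : Set G), h ∉ L → h * v₂ * h⁻¹ = v₂ * v₁ := by
      intro h hh hhL
      have h1 := hw h hh hhL
      set w := h * v₂ * h⁻¹
      have hwZ : w ∈ Z₀ := hconjZ h hh _ hv₂Z
      by_cases h2 : w * v₁ = 1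
      · exfalso
        have h3 : w = v₁ := mul_right_cancel (h2.trans (hsq _ hv₁Z).symm)
        refine hhL ?_
        -- then `v₂` and `v₁` are interchanged
        have h4 : t * h ∈ L := hcommon (t * h) (mul_mem htJ hh) v₂ hv₂Z hv₂1 hKv₂ (by
          rw [show t * h * v₂ * (t * h)⁻¹ = t * w * t⁻¹ by simp only [w]; group, h3, htv]
          exact hKv₂)
        simpa using mul_mem (inv_mem htL) h4
      · have h3 : w * v₁ = v₂ := by
          by_contra h4
          exact hex _ (mul_mem hwZ hv₁Z) h2 h4 h1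
        rw [← h3, mul_assoc, hsq _ hv₁Z, mul_one]
    have h1 := key g hg hgL
    have h2 := key (g * t) (mul_mem hg htJ) (fun h => hgL (by simpa using mul_mem h (inv_mem htL)))
    rw [show g * t * v₂ * (g * t)⁻¹ = g * (t * v₂ * t⁻¹) * g⁻¹ by group] at h2
    have h3 : t * v₂ * t⁻¹ = v₂ := by
      have := h1.trans h2.symm
      exact (mul_left_cancel (mul_right_cancel this)).symm
    exact hne ((MulAut.conj t).injective (show t * v₁ * t⁻¹ = t * v₂ * t⁻¹ by rw [htv, h3]))

/-- A component outside `M` is normalized by `T`. -/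
theorem component_normalized (hG : Hyp G) (hO : pCore 2 G = ⊥) (S : Sylow 2 G)
    (hMJ : normalizer (thompsonSubgroupOf 2 (S : Subgroup G) : Set G) ≤ M)
    (hT : T ∈ maxStraddlingTwoSubgroups M) (hK : K ∈ jComponentsOutside M T) :
    T ≤ normalizer (K : Set G) := by
  have : Fact (Nat.Prime 2) := ⟨Nat.prime_two⟩
  obtain ⟨hTp, hT1, hTM, -⟩ := hT.1
  obtain ⟨L, hLm, hKJ, -, -, hov⟩ := outside_overgroup hG S hMJ hT hK
  obtain ⟨⟨hKc, hKz⟩, hKM, -⟩ := hK
  have s := setting_of hG.solv hG.zc hov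
  have hTL : T ≤ L := hov.1.1
  have hTS := sylowTwo_iff.1 hov.1
  have d := data_of_isJComponent hTp hKc
  intro t ht
  by_contra htN
  have htJ : t ∈ normalizer (thompsonSubgroupOf 2 T : Set G) :=
    Thompson.normalizer_le_normalizer_thompsonSubgroupOf T (Subgroup.le_normalizer ht)
  set J := thompsonSubgroupOf 2 T with hJdef
  set Z₀ := omegaCenterOf J with hZ₀def
  set K₂ := t ⋆ K with hK₂def
  have hK₂ : IsJComponent T K₂ := isJComponent_cj_of_mem htJ hKc
  have d₂ := data_of_isJComponent hTp hK₂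
  have hKL : K ≤ L := le_sup_left.trans hKJ
  have hK₂L : K₂ ≤ L := (Functor.cj_mono t hKL).trans (Functor.cj_eq_self_of_mem (hTL ht)).le
  have hK₂M : ¬ K₂ ≤ M := fun h => hKM (by
    have := Functor.cj_mono t⁻¹ h
    rwa [hK₂def, Functor.cj_inv_cj, Functor.cj_eq_self_of_mem (inv_mem (hTM ht))] at this)
  have hW₂ : wOf K₂ = t ⋆ wOf K := (cj_wOf t K).symm
  have hWne : wOf K₂ ≠ wOf K := fun h => htN (by
    rw [(jComponentZero_normalizer_eq hG.charTwo hG.solv hG.zc hTp ⟨hKc, hKz⟩).1]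
    exact Functor.mem_normalizer_iff_cj.2 (hW₂.symm.trans h))
  obtain ⟨hdis, hK₂C⟩ := (s.comp_pair d d₂ hKL hK₂L).resolve_left hWne
  obtain ⟨-, hKC₂⟩ := (s.comp_pair d₂ d hK₂L hKL).resolve_left (Ne.symm hWne)
  obtain ⟨v₁, hv₁W, hv₁1, hv₁fix, hv₁u⟩ := d.exists_fixed_other
  set v₂ := t * v₁ * t⁻¹ with hv₂def
  have hv₂W : v₂ ∈ wOf K₂ := by rw [hW₂]; exact ⟨v₁, hv₁W, rfl⟩
  have hv₁Z : v₁ ∈ Z₀ := Thompson.mem_omegaOne ⟨d.fixed_mem hv₁W hv₁fix,
    mem_centralizer_iff.mpr fun j hj => hv₁fix j (mem_sup_right hj)⟩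
    (by rw [pow_two]; exact d.sq _ hv₁W)
  have hconjZ : ∀ h ∈ normalizer (J : Set G), ∀ e ∈ Z₀, h * e * h⁻¹ ∈ Z₀ := fun h hh e he =>
    (mem_normalizer_iff.mp (normalizer_le_normalizer_omegaCenterOf J hh) e).mp he
  have hv₂Z : v₂ ∈ Z₀ := hconjZ t htJ _ hv₁Z
  have hne : v₁ ≠ v₂ := fun e => hv₁1 (by
    have : v₁ ∈ wOf K₂ ⊓ wOf K := ⟨e ▸ hv₂W, hv₁W⟩
    rw [hdis] at this
    exact mem_bot.mp this)
  have hv₂1 : v₂ ≠ 1 := fun e => hv₁1 (conj_eq_one_iff.mp e)
  have hKv₂ : K ≤ centralizer ({v₂} : Set G) := fun k hk =>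
    mem_centralizer_singleton_iff.mpr (mem_centralizer_iff.mp (hKC₂ hk) v₂ hv₂W).symm
  have hK₂v₁ : K₂ ≤ centralizer ({v₁} : Set G) := fun k hk =>
    mem_centralizer_singleton_iff.mpr (mem_centralizer_iff.mp (hK₂C hk) v₁ hv₁W).symm
  have hKv₁ : ¬ K ≤ centralizer ({v₁} : Set G) := fun h => by
    obtain ⟨y, hy, hyQ⟩ := d.exists_mem_not_core
    exact hv₁1 (d.fixed_eq_one hy hyQ hv₁W (mem_centralizer_singleton_iff.mp (h hy)))
  have hJC : ∀ e ∈ Z₀, J ≤ centralizer ({e} : Set G) := fun e he j hj =>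
    mem_centralizer_singleton_iff.mpr (mem_centralizer_iff.mp (Setting.omega_spec he).2.1 j hj)
  have hsq : ∀ e ∈ Z₀, e * e = 1 := fun e he => by rw [← pow_two]; exact (Setting.omega_spec he).2.2
  have hsplit : ∀ e ∈ Z₀, K ≤ centralizer ({e} : Set G) ∨ K ≤ centralizer ({e * v₁} : Set G) :=
    fun e he => omega_split d hv₁u he
  have hNJ : normalizer (J : Set G) ≤ L :=
    normalizer_thompson_le_overgroup hG S hMJ hT hKc hKM hLm hKJ ht (hTL ht) rfl hne hv₁Z hv₂Z
      hKv₂ hKv₁ hsplit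
  -- `T` is a Sylow subgroup of `G`
  obtain ⟨P, hP⟩ := hTp.exists_le_sylow
  have hPT : (P : Subgroup G) = T := by
    by_contra hne'
    obtain ⟨u, hu, hun, huT⟩ := LocalB.exists_mem_normalizer_not_mem P.2 hP (Ne.symm hne')
    have huL : u ∈ L := hNJ (Thompson.normalizer_le_normalizer_thompsonSubgroupOf T hun)
    have heq := hTS.eq_of_le (P.2.to_le inf_le_left) (inf_le_right : (P : Subgroup G) ⊓ L ≤ L)
      (le_inf hP hTL)
    exact huT (heq ▸ ⟨hu, huL⟩)
  have hMJ' : normalizer (thompsonSubgroupOf 2 (P : Subgroup G) : Set G) ≤ L := by rw [hPT]; exact hNJ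
  obtain ⟨A, hA, hVA⟩ := s.exists_maxIn_modV
  -- no large elementary abelian subgroup straddles `L`
  have small : ∀ X : Subgroup G, IsTwoLocal X → ¬ X ≤ L → ∀ B : Subgroup G,
      IsElementaryAbelian 2 B → B ≤ L ⊓ X → Nat.card B < Nat.card A := by
    intro X hX hXL B hB hBLX
    by_contra hlt
    rw [not_lt] at hlt
    obtain ⟨K', v', hK'L, hsp⟩ :=
      straddling_split hG P hMJ' hTp hT1 hTS hA hX hXL hB hBLX hlt
    have hgood : ∀ e ∈ Z₀, e ≠ 1 → (K ≤ centralizer ({e} : Set G) ∨ K₂ ≤ centralizer ({e} : Set G)) →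
        K' ≤ centralizer ({e * v'} : Set G) := by
      intro e he he1 hor
      refine (hsp e he).resolve_left fun h => hK'L (h.trans ?_)
      rcases hor with h' | h'
      · exact centralizer_le_unique hG S hMJ hT hKc hKM hLm hKJ (hsq e he) he1 (sup_le h' (hJC e he))
      · exact centralizer_le_unique hG S hMJ hT hK₂ hK₂M hLm (sup_le hK₂L (le_sup_right.trans hKJ))
          (hsq e he) he1 (sup_le h' (hJC e he))
    have hprod : ∀ e ∈ Z₀, ∀ f ∈ Z₀, K' ≤ centralizer ({e * v'} : Set G) →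
        K' ≤ centralizer ({f * v'} : Set G) → K' ≤ centralizer ({e * f} : Set G) := by
      intro e he f hf h1 h2 k hk
      have hfs : Commute k (e * v' * (f * v')⁻¹) :=
        (show Commute k (e * v') from mem_centralizer_singleton_iff.mp (h1 hk)).mul_right
          (show Commute k (f * v') from mem_centralizer_singleton_iff.mp (h2 hk)).inv_right
      have hfi : f⁻¹ = f := inv_eq_of_mul_eq_one_right (hsq f hf)
      rw [show e * v' * (f * v')⁻¹ = e * f⁻¹ by group, hfi] at hfs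
      exact mem_centralizer_singleton_iff.mpr hfs.eq
    have h12 : K' ≤ centralizer ({v₁ * v₂} : Set G) := hprod _ hv₁Z _ hv₂Z
      (hgood _ hv₁Z hv₁1 (Or.inr hK₂v₁)) (hgood _ hv₂Z hv₂1 (Or.inl hKv₂))
    have honly : ∀ e ∈ Z₀, K ≤ centralizer ({e} : Set G) → e = 1 ∨ e = v₂ := by
      intro e he hKe
      by_contra hcon
      rw [not_or] at hcon
      have h1 := hprod _ he _ hv₂Z (hgood e he hcon.1 (Or.inl hKe)) (hgood _ hv₂Z hv₂1 (Or.inl hKv₂))
      have hev : e * v₂ ∈ Z₀ := mul_mem he hv₂Z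
      refine hK'L (h1.trans (centralizer_le_unique hG S hMJ hT hKc hKM hLm hKJ (hsq _ hev)
        (fun h => hcon.2 (mul_right_cancel (h.trans (hsq _ hv₂Z).symm))) (sup_le ?_ (hJC _ hev))))
      intro k hk
      exact mem_centralizer_singleton_iff.mpr
        ((show Commute k e from mem_centralizer_singleton_iff.mp (hKe hk)).mul_right
          (mem_centralizer_singleton_iff.mp (hKv₂ hk))).eq
    have hZT : K' ≤ centralizer (omegaCenterOf T : Set G) := by
      intro k hk
      refine mem_centralizer_iff.mpr fun z hz => ?_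
      obtain ⟨hzT, hzC, hz2⟩ := Setting.omega_spec hz
      have hzJ : z ∈ Z₀ := Thompson.mem_omegaOne ⟨maxIn_le_thompson hA
        (hVA (Setting.omegaT_le T L hz)), mem_centralizer_iff.mpr fun j hj =>
          mem_centralizer_iff.mp hzC j (Thompson.thompsonSubgroupOf_le T hj)⟩ hz2
      have htz : t * z * t⁻¹ = z := mul_inv_eq_iff_eq_mul.mpr (mem_centralizer_iff.mp hzC t ht)
      have hzne : z ≠ v₁ ∧ z ≠ v₂ := by
        refine ⟨fun e => hne ?_, fun e => hne ?_⟩
        · rw [e] at htz; exact htz.symm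
        · exact (MulAut.conj t).injective (show t * v₁ * t⁻¹ = t * v₂ * t⁻¹ by rw [e] at htz; rw [htz])
      rcases hsplit z hzJ with h | h
      · rcases honly z hzJ h with rfl | rfl
        · simp
        · exact absurd rfl hzne.2
      · rcases honly _ (mul_mem hzJ hv₁Z) h with e | e
        · exact absurd (mul_right_cancel (e.trans (hsq _ hv₁Z).symm)) hzne.1
        · have hz12 : z = v₂ * v₁ := by rw [← e, mul_assoc, hsq _ hv₁Z, mul_one]
          have hcomm : v₂ * v₁ = v₁ * v₂ :=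
            mem_centralizer_iff.mp (Setting.omega_spec hv₁Z).2.1 v₂ (Setting.omega_spec hv₂Z).1
          rw [hz12, hcomm]
          exact (mem_centralizer_singleton_iff.mp (h12 hk)).symm
    have hKN : K' ≤ normalizer (T : Set G) := hZT.trans (by rw [← hPT]; exact hG.zc P)
    exact hK'L (hKN.trans ((Thompson.normalizer_le_normalizer_thompsonSubgroupOf T).trans hNJ))
  have hU4 := modV_card_le_four hG hO hLm s P hPT hMJ' hA hVA small
  have hU16 : 16 ≤ Nat.card ↥(modV T L) := by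
    have h1 := Solvable.card_sup_mul_card_inf (A := wOf K₂) (K := wOf K)
      ((wOf_le_core K₂).trans ((Functor.pCoreOf_le 2 K₂).trans (s.comp_normalizes d d₂ hKL hK₂L)))
    rw [hdis, card_bot, mul_one, d₂.card, d.card] at h1
    rw [show 16 = 4 * 4 by rfl, ← h1]
    exact Nat.card_le_card_of_injective _ (inclusion_injective
      (sup_le (s.wOf_le_modV d₂ hK₂L) (s.wOf_le_modV d hKL)))
  omega

end CfsgLib.JComp
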