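import Cfsg.Agent.LocalB.JFour

/-! An offender interchanging two disjoint commuting elementary abelian subgroups. -/

set_option autoImplicit false
set_option linter.unusedVariables false
set_option linter.unusedSectionVars false

namespace CfsgLib.JComp

open Subgroup Cfsg CfsgLib

variable {G : Type*} [Group G] [Finite G]

/-- An elementary abelian group acting with at most one non-trivial fixed point. -/
theorem faithful_bound {U₀ A₁ : Subgroup G} (hU : IsElementaryAbelian 2 U₀)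
    (hA : IsElementaryAbelian 2 A₁) (hn : A₁ ≤ normalizer (U₀ : Set G))
    (hC₀2 : Nat.card ↥(U₀ ⊓ centralizer (A₁ : Set G)) ≤ 2) (hne : U₀ ≠ ⊥) :
    (A₁ ⊓ centralizer (U₀ : Set G)).relIndex A₁ * 2 ≤ Nat.card U₀ := by
  have : Fact (Nat.Prime 2) := ⟨Nat.prime_two⟩
  have hUp := Thompson.elab_isPGroup hU
  have hAp := Thompson.elab_isPGroup hA
  set C₀ := U₀ ⊓ centralizer (A₁ : Set G) with hC₀
  set A₂ := A₁ ⊓ centralizer (U₀ : Set G) with hA₂
  obtain ⟨c, hc, hc1, hcA⟩ := exists_fixed_point hUp hAp hn hne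
  have hC₀c : ∀ x ∈ C₀, x ≠ 1 → x = c := by
    intro x hx hx1
    by_contra hxc
    classical
    have : Fintype C₀ := Fintype.ofFinite _
    have hT : ({1, ⟨c, hc, hcA⟩, ⟨x, hx⟩} : Finset C₀).card = 3 := by
      rw [Finset.card_insert_of_notMem, Finset.card_pair]
      · exact fun e => hxc (congrArg Subtype.val e).symm
      · simp only [Finset.mem_insert, Finset.mem_singleton, Subtype.ext_iff, not_or]
        exact ⟨fun e => hc1 e.symm, fun e => hx1 e.symm⟩
    have := Finset.card_le_univ ({1, ⟨c, hc, hcA⟩, ⟨x, hx⟩} : Finset C₀)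
    rw [hT, ← Nat.card_eq_fintype_card] at this
    omega
  letI : CommGroup U₀ := { (inferInstance : Group U₀) with
    mul_comm := fun u v => Subtype.ext (Thompson.elab_commute hU u.2 v.2) }
  have : NeZero (Monoid.exponent U₀ : ℂ) := ⟨Nat.cast_ne_zero.mpr Monoid.exponent_ne_zero_of_finite⟩
  obtain ⟨χ, hχ⟩ := CommGroup.exists_apply_ne_one_of_hasEnoughRootsOfUnity U₀ ℂ
    (show (⟨c, hc⟩ : U₀) ≠ 1 from fun e => hc1 (congrArg Subtype.val e))
  let cj : A₁ → (U₀ →* U₀) := fun b => (U₀.normalizerMonoidHom ⟨b, hn b.2⟩).toMonoidHom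
  let Ψ : (A₁ ⧸ A₂.subgroupOf A₁) × Bool → (U₀ →* ℂˣ) := fun q =>
    if q.2 then χ.comp (cj q.1.out) * χ else χ.comp (cj q.1.out)
  have hcjc : ∀ b : A₁, cj b ⟨c, hc⟩ = ⟨c, hc⟩ := fun b => Subtype.ext (by
    show (b : G) * c * (b : G)⁻¹ = c
    exact mul_inv_eq_iff_eq_mul.mpr (mem_centralizer_iff.mp hcA b b.2))
  have hχc : χ ⟨c, hc⟩ * χ ⟨c, hc⟩ = 1 := by
    rw [← map_mul, show (⟨c, hc⟩ : U₀) * ⟨c, hc⟩ = 1 from
      Subtype.ext (by show c * c = 1; rw [← pow_two]; exact hU.2 c hc), map_one]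
  have hcore : ∀ b b' : A₁, χ.comp (cj b) = χ.comp (cj b') →
      (QuotientGroup.mk b : A₁ ⧸ A₂.subgroupOf A₁) = QuotientGroup.mk b' := by
    intro b b' e
    let δ : U₀ →* U₀ := cj b / cj b'
    have hδ : δ = 1 := by
      by_contra hne'
      set D := δ.range.map U₀.subtype with hD
      have hDle : D ≤ U₀ := map_subtype_le _
      have hDne : D ≠ ⊥ := by
        rw [hD, Ne, map_eq_bot_iff_of_injective _ U₀.subtype_injective, MonoidHom.range_eq_bot_iff]
        exact hne'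
      have hDn : A₁ ≤ normalizer (D : Set G) := by
        intro d hd
        refine LocalB.mem_normalizer_of_conj_le ?_
        rintro _ ⟨_, ⟨u, rfl⟩, rfl⟩
        refine ⟨δ (cj ⟨d, hd⟩ u), ⟨_, rfl⟩, ?_⟩
        show (b : G) * (d * u * d⁻¹) * (b : G)⁻¹ / ((b' : G) * (d * u * d⁻¹) * (b' : G)⁻¹) =
          d * ((b : G) * u * (b : G)⁻¹ / ((b' : G) * u * (b' : G)⁻¹)) * d⁻¹
        have h1 : d * (b : G) = b * d := Thompson.elab_commute hA hd b.2
        have h2 : d * (b' : G) = b' * d := Thompson.elab_commute hA hd b'.2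
        rw [div_eq_mul_inv, div_eq_mul_inv, mul_assoc (b : G), mul_assoc (b' : G)]
        calc (b : G) * (d * u * d⁻¹ * (b : G)⁻¹) * ((b' : G) * (d * u * d⁻¹ * (b' : G)⁻¹))⁻¹
            = (b * d) * u * (b * d)⁻¹ * ((b' * d) * u * (b' * d)⁻¹)⁻¹ := by group
          _ = d * ((b : G) * u * (b : G)⁻¹ * ((b' : G) * u * (b' : G)⁻¹)⁻¹) * d⁻¹ := by
            rw [← h1, ← h2]; group
      obtain ⟨x, hx, hx1, hxA⟩ := exists_fixed_point (hUp.to_le hDle) hAp hDn hDne
      obtain rfl := hC₀c x ⟨hDle hx, hxA⟩ hx1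
      obtain ⟨_, ⟨u, rfl⟩, hu⟩ := hx
      have hu' : δ u = ⟨x, hc⟩ := Subtype.ext hu
      apply hχ
      rw [← hu']
      show χ (cj b u / cj b' u) = 1
      rw [map_div, div_eq_one]
      exact congrArg (fun ψ : U₀ →* ℂˣ => ψ u) e
    have hfix : ∀ u ∈ U₀, (b : G) * u * (b : G)⁻¹ = b' * u * (b' : G)⁻¹ := fun u hu => by
      have h1 := congrArg (fun ψ : U₀ →* U₀ => ψ ⟨u, hu⟩) hδ
      exact congrArg Subtype.val (div_eq_one.mp (h1 : cj b ⟨u, hu⟩ / cj b' ⟨u, hu⟩ = 1))
    rw [QuotientGroup.eq, mem_subgroupOf]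
    refine ⟨(b⁻¹ * b' : A₁).2, mem_centralizer_iff.mpr fun u hu => ?_⟩
    show u * ((b : G)⁻¹ * b') = (b : G)⁻¹ * b' * u
    calc u * ((b : G)⁻¹ * b') = (b : G)⁻¹ * ((b : G) * u * (b : G)⁻¹) * b' := by group
      _ = _ := by rw [hfix u hu]; group
  have hΨ : Function.Injective Ψ := by
    have hval : ∀ q, Ψ q ⟨c, hc⟩ = 1 ↔ q.2 = true := by
      rintro ⟨q, ε⟩
      cases ε <;> simp only [Ψ, if_true, Bool.false_eq_true, if_false, MonoidHom.mul_apply,
        MonoidHom.comp_apply, hcjc]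
      · simp [hχ]
      · simp [hχc]
    rintro ⟨q, ε⟩ ⟨q', ε'⟩ e
    have hε : ε = ε' := by
      have := (hval ⟨q, ε⟩).symm.trans ((by rw [e]) : Ψ (q, ε) ⟨c, hc⟩ = 1 ↔ Ψ (q', ε') ⟨c, hc⟩ = 1)
      exact Bool.eq_iff_iff.mpr (this.trans (hval ⟨q', ε'⟩))
    subst hε
    have hq := hcore q.out q'.out (by cases ε <;> simpa [Ψ] using e)
    rw [QuotientGroup.out_eq', QuotientGroup.out_eq'] at hq
    rw [hq]
  have h2P := Nat.card_le_card_of_injective Ψ hΨ
  rwa [Nat.card_prod, CommGroup.card_monoidHom_of_hasEnoughRootsOfUnity, Nat.card_eq_fintype_card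
    (α := Bool), Fintype.card_bool,
    show Nat.card (A₁ ⧸ A₂.subgroupOf A₁) = A₂.relIndex A₁ from rfl] at h2P

/-- An element of an offender cannot interchange two large disjoint commuting subgroups. -/
theorem card_le_two {U₁ A A₁ : Subgroup G} {a : G} (hU : IsElementaryAbelian 2 U₁)
    (hA : IsElementaryAbelian 2 A) (hA₁ : A₁ ≤ A) (hidx : A₁.relIndex A = 2) (haA : a ∈ A)
    (hn : A₁ ≤ normalizer (U₁ : Set G))
    (hdis : U₁ ⊓ U₁.map (MulAut.conj a).toMonoidHom = ⊥)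
    (hc : U₁ ≤ centralizer (U₁.map (MulAut.conj a).toMonoidHom : Set G))
    (hmax : ∀ B : Subgroup G, B ≤ A ⊔ (U₁ ⊔ U₁.map (MulAut.conj a).toMonoidHom) →
      IsElementaryAbelian 2 B → Nat.card B ≤ Nat.card A) :
    Nat.card U₁ ≤ 2 := by
  set U₂ := U₁.map (MulAut.conj a).toMonoidHom with hU₂
  have hA₁card : Nat.card A = 2 * Nat.card A₁ := by
    rw [← relIndex_bot_left A, ← relIndex_bot_left A₁, ← relIndex_mul_relIndex _ _ _ bot_le hA₁, hidx,
      mul_comm]
  rcases eq_or_ne U₁ ⊥ with hbot | hne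
  · rw [hbot, card_bot]; norm_num
  set F := U₁ ⊓ centralizer (A₁ : Set G) with hF
  set F' := F.map (MulAut.conj a).toMonoidHom with hF'
  have hFe : IsElementaryAbelian 2 F := Thompson.elab_mono hU inf_le_left
  have hF'e : IsElementaryAbelian 2 F' := Thompson.elab_map _ hFe
  have hF'2 : F' ≤ U₂ := map_mono inf_le_left
  have hca : ∀ b ∈ A₁, a * b = b * a := fun b hb => Thompson.elab_commute hA haA (hA₁ hb)
  have hn₂ : A₁ ≤ normalizer (U₂ : Set G) := fun b hb => by
    refine LocalB.mem_normalizer_of_conj_le ?_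
    rintro _ ⟨u, hu, rfl⟩
    refine ⟨b * u * b⁻¹, (mem_normalizer_iff.mp (hn hb) u).mp hu, ?_⟩
    show a * (b * u * b⁻¹) * a⁻¹ = b * (a * u * a⁻¹) * b⁻¹
    calc a * (b * u * b⁻¹) * a⁻¹ = (a * b) * u * (a * b)⁻¹ := by group
      _ = b * (a * u * a⁻¹) * b⁻¹ := by rw [hca b hb]; group
  -- the intersections
  have hinter : ∀ B : Subgroup G, B ≤ A₁ →
      Nat.card ↥(B ⊓ (U₁ ⊔ U₂)) ≤ Nat.card F := by
    intro B hB
    have hform : ∀ x : ↥(B ⊓ (U₁ ⊔ U₂)), ∃ u : F, (x : G) = (u : G) * (a * u * a⁻¹) := by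
      rintro ⟨x, hxB, hx⟩
      obtain ⟨u, hu, v, hv, rfl⟩ :=
        (Solvable.mem_sup_of_le_normalizer (hc.trans (centralizer_le_normalizer _))).mp hx
      have hfix : ∀ b, b ∈ A₁ ∨ b = a → b * (u * v) * b⁻¹ = u * v := fun b hb =>
        mul_inv_eq_iff_eq_mul.mpr (Thompson.elab_commute hA (hb.elim (fun h => hA₁ h)
          (fun h => h ▸ haA)) (hA₁ (hB hxB)))
      have huniq : ∀ u' ∈ U₁, ∀ v' ∈ U₂, u' * v' = u * v → u' = u ∧ v' = v := by
        intro u' hu' v' hv' e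
        have h1 : u⁻¹ * u' = v * v'⁻¹ := by
          rw [eq_mul_inv_iff_mul_eq, mul_assoc, e, inv_mul_cancel_left]
        have h2 : u⁻¹ * u' ∈ U₁ ⊓ U₂ :=
          ⟨U₁.mul_mem (U₁.inv_mem hu) hu', h1 ▸ U₂.mul_mem hv (U₂.inv_mem hv')⟩
        rw [hdis, mem_bot] at h2
        obtain rfl := inv_mul_eq_one.mp h2
        exact ⟨rfl, mul_left_cancel e⟩
      have hcen : u ∈ centralizer (A₁ : Set G) := mem_centralizer_iff.mpr fun b hb => by
        have h := hfix b (Or.inl hb)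
        rw [show b * (u * v) * b⁻¹ = (b * u * b⁻¹) * (b * v * b⁻¹) by group] at h
        exact mul_inv_eq_iff_eq_mul.mp (huniq _ ((mem_normalizer_iff.mp (hn hb) u).mp hu) _
          ((mem_normalizer_iff.mp (hn₂ hb) v).mp hv) h).1
      refine ⟨⟨u, hu, hcen⟩, ?_⟩
      obtain ⟨w, hw, hwv⟩ := hv
      simp only [MulEquiv.toMonoidHom_eq_coe, MonoidHom.coe_coe, MulAut.conj_apply] at hwv
      subst hwv
      have h := hfix a (Or.inr rfl)
      rw [show a * (u * (a * w * a⁻¹)) * a⁻¹ = (a * u * a⁻¹) * (a * a * w * (a * a)⁻¹) by group,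
        show a * a = 1 by rw [← pow_two]; exact hA.2 a haA, one_mul, inv_one, mul_one] at h
      have hcomm : (a * u * a⁻¹) * w = w * (a * u * a⁻¹) :=
        (mem_centralizer_iff.mp (hc hw) (a * u * a⁻¹) ⟨u, hu, rfl⟩)
      rw [hcomm] at h
      obtain ⟨h3, h4⟩ := huniq w hw (a * u * a⁻¹) ⟨u, hu, rfl⟩ h
      show u * (a * w * a⁻¹) = u * (a * u * a⁻¹)
      rw [h3]
    choose f hf using hform
    exact Nat.card_le_card_of_injective f fun x y e => Subtype.ext (by rw [hf x, hf y, e])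
  have hcount : ∀ B E E' : Subgroup G, B ≤ A₁ → E ≤ U₁ → E' ≤ U₂ →
      B ≤ centralizer (E : Set G) → B ≤ centralizer (E' : Set G) → Nat.card E' = Nat.card E →
      Nat.card B * (Nat.card E * Nat.card E) ≤ Nat.card A * Nat.card F := by
    intro B E E' hBA hE hE' hBE hBE' hEE
    have hEc : E ≤ centralizer (E' : Set G) := (hE.trans hc).trans (centralizer_le hE')
    have h1 := Solvable.card_sup_mul_card_inf (A := E) (K := E')
      (hEc.trans (centralizer_le_normalizer _))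
    have hbot : E ⊓ E' = ⊥ := le_bot_iff.mp ((inf_le_inf hE hE').trans hdis.le)
    rw [hbot, card_bot, mul_one, hEE] at h1
    have hBP : B ≤ centralizer ((E ⊔ E' : Subgroup G) : Set G) := fun b hb =>
      mem_centralizer_iff.mpr fun x hx => by
        obtain ⟨u, hu, v, hv, rfl⟩ :=
          (Solvable.mem_sup_of_le_normalizer (hEc.trans (centralizer_le_normalizer _))).mp hx
        exact ((show Commute u b from mem_centralizer_iff.mp (hBE hb) u hu).mul_left
          (mem_centralizer_iff.mp (hBE' hb) v hv)).eq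
    have h2 := Solvable.card_sup_mul_card_inf (A := B) (K := E ⊔ E')
      (hBP.trans (centralizer_le_normalizer _))
    rw [← h1, ← h2]
    refine Nat.mul_le_mul (hmax _ (sup_le_sup (hBA.trans hA₁) (sup_le_sup hE hE'))
      (Thompson.elab_sup (Thompson.elab_mono hA (hBA.trans hA₁))
        (Thompson.elab_sup (Thompson.elab_mono hU hE)
          (Thompson.elab_mono (Thompson.elab_map _ hU) hE') hEc) hBP)) ?_
    exact le_trans (Nat.card_le_card_of_injective _ (inclusion_injective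
      (inf_le_inf_left B (sup_le_sup hE hE')))) (hinter B hBA)
  have hF2 : Nat.card F ≤ 2 := by
    have h := hcount A₁ F F' le_rfl inf_le_left hF'2
      (fun b hb => mem_centralizer_iff.mpr fun u hu => (mem_centralizer_iff.mp hu.2 b hb).symm)
      (fun b hb => mem_centralizer_iff.mpr (by
        rintro _ ⟨u, hu, rfl⟩
        show a * u * a⁻¹ * b = b * (a * u * a⁻¹)
        have h1 : Commute u b := (mem_centralizer_iff.mp hu.2 b hb).symm
        have h2 : Commute a b := hca b hb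
        exact ((h2.mul_left h1).mul_left h2.inv_left).eq))
      (LocalB.card_map_conj F a)
    rw [hA₁card] at h
    refine Nat.le_of_mul_le_mul_left ?_ (Nat.mul_pos (Nat.card_pos : 0 < Nat.card A₁)
      (Nat.card_pos : 0 < Nat.card F))
    linarith
  set A₂ := A₁ ⊓ centralizer (U₁ : Set G) with hA₂
  have hbig := hcount A₂ U₁ U₂ inf_le_left le_rfl le_rfl inf_le_right
    (fun b hb => mem_centralizer_iff.mpr (by
      rintro _ ⟨u, hu, rfl⟩
      show a * u * a⁻¹ * b = b * (a * u * a⁻¹)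
      have h1 : Commute u b := mem_centralizer_iff.mp hb.2 u hu
      have h2 : Commute a b := hca b hb.1
      exact ((h2.mul_left h1).mul_left h2.inv_left).eq))
    (LocalB.card_map_conj U₁ a)
  have hA₁2 : Nat.card A₁ = Nat.card A₂ * A₂.relIndex A₁ := by
    rw [← relIndex_bot_left A₁, ← relIndex_bot_left A₂,
      relIndex_mul_relIndex _ _ _ bot_le inf_le_left]
  have hidx2 := faithful_bound hU (Thompson.elab_mono hA hA₁) hn hF2 hne
  rw [hA₁card, hA₁2] at hbig
  have h3 : Nat.card A₂ * Nat.card U₁ * Nat.card U₁ ≤ Nat.card A₂ * Nat.card U₁ * 2 := by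
    calc Nat.card A₂ * Nat.card U₁ * Nat.card U₁ = Nat.card A₂ * (Nat.card U₁ * Nat.card U₁) := by ring
      _ ≤ 2 * (Nat.card A₂ * A₂.relIndex A₁) * Nat.card F := hbig
      _ ≤ 2 * (Nat.card A₂ * A₂.relIndex A₁) * 2 := Nat.mul_le_mul_left _ hF2
      _ = Nat.card A₂ * (A₂.relIndex A₁ * 2) * 2 := by ring
      _ ≤ Nat.card A₂ * Nat.card U₁ * 2 := by gcongr
  exact Nat.le_of_mul_le_mul_left h3 (Nat.mul_pos Nat.card_pos Nat.card_pos)

end CfsgLib.JComp
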