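import Cfsg.Agent.LocalB.JCenter

/-! The group generated by a component outside `M` and `T`. -/

set_option autoImplicit false
set_option linter.unusedVariables false
set_option linter.unusedSectionVars false

namespace CfsgLib.JComp

open Subgroup Cfsg CfsgLib
open scoped CfsgLib.Functor

variable {G : Type*} [Group G] [Finite G] {T L M K : Subgroup G} {v : G}

/-- The kernel of the action of `T` on `W`. -/
def coreT (T K : Subgroup G) : Subgroup G := T ⊓ centralizer (wOf K : Set G)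

theorem jComponentsZero_cj (g : G) (hK : K ∈ jComponentsZero T) :
    g ⋆ K ∈ jComponentsZero (g ⋆ T) := by
  refine ⟨isJComponent_cj g hK.1, fun S hJS hS => ?_⟩
  have hJ : g ⋆ thompsonSubgroupOf 2 T = thompsonSubgroupOf 2 (g ⋆ T) :=
    Thompson.map_thompsonSubgroupOf _ T
  have h1 : thompsonSubgroupOf 2 T ≤ g⁻¹ ⋆ S := by
    have := Functor.cj_mono g⁻¹ hJS
    rwa [← hJ, Functor.cj_inv_cj] at this
  have h2 : IsSylowTwoIn (g⁻¹ ⋆ S) (normalizer (wOf K : Set G)) := by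
    have := (sylowTwo_iff.1 hS).cj g⁻¹
    rw [Functor.cj_normalizer, cj_wOf, Functor.cj_inv_cj] at this
    exact sylowTwo_iff.2 this
  have h3 := hK.2 _ h1 h2
  rw [← hJ, ← h3, Thompson.map_thompsonSubgroupOf]
  exact congrArg (thompsonSubgroupOf 2) (Functor.cj_cj_inv g S).symm

theorem jComponentsOutside_cj {x : G} (hxT : x ∈ normalizer (T : Set G)) (hxM : x ∈ M)
    (hK : K ∈ jComponentsOutside M T) : x ⋆ K ∈ jComponentsOutside M T := by
  obtain ⟨hz, hKM, hR⟩ := hK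
  have hT : x ⋆ T = T := Functor.mem_normalizer_iff_cj.1 hxT
  refine ⟨hT ▸ jComponentsZero_cj x hz, fun h => hKM ?_, fun h => hR ?_⟩
  · have := Functor.cj_mono x⁻¹ h
    rwa [Functor.cj_inv_cj, Functor.cj_eq_self_of_mem (inv_mem hxM)] at this
  · have e : x ⋆ (K ⊔ T) = (x ⋆ K) ⊔ T := by rw [Subgroup.map_sup, hT]
    rw [← e, ← cj_pCoreOf] at h
    exact Functor.cj_eq_bot_iff.1 h

namespace OutComp

variable (o : OutComp T K L v)
include o

theorem sup_le : K ⊔ T ≤ L := _root_.sup_le o.le o.set.le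

theorem sup_j_le : K ⊔ thompsonSubgroupOf 2 T ≤ L :=
  _root_.sup_le o.le ((Thompson.thompsonSubgroupOf_le T).trans o.set.le)

theorem norm_w : T ≤ normalizer (wOf K : Set G) := o.norm.trans (normalizer_le_normalizer_wOf K)

theorem core_le : pCoreOf 2 K ≤ T := by
  obtain ⟨j, η, w, hinfo⟩ := o.set.exists_info o.data o.le
  exact hinfo.core.trans o.set.core_le

theorem w_le : wOf K ≤ T := (wOf_le_core K).trans o.core_le

theorem w_abelian : wOf K ≤ centralizer (wOf K : Set G) := fun x hx =>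
  mem_centralizer_iff.mpr fun u hu =>
    mem_centralizer_iff.mp (wOf_le_centralizer_core K hx) u (wOf_le_core K hu)

theorem w_le_coreT : wOf K ≤ coreT T K := le_inf o.w_le o.w_abelian

theorem v_mem : v ∈ T := (Setting.omega_spec o.memZ).1

theorem v_comm {t : G} (ht : t ∈ T) : t * v = v * t :=
  mem_centralizer_iff.mp (Setting.omega_spec o.memZ).2.1 t ht

/-- `T` moves a point of `W` at most by `v`. -/
theorem conj_cases {t w : G} (ht : t ∈ T) (hw : w ∈ wOf K) :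
    t * w * t⁻¹ = w ∨ t * w * t⁻¹ = w * v := by
  have hu : t * w * t⁻¹ ∈ wOf K := (mem_normalizer_iff.mp (o.norm_w ht) w).mp hw
  rcases eq_or_ne w 1 with rfl | hw1
  · left; group
  rcases eq_or_ne w v with rfl | hwv
  · left; exact mul_inv_eq_iff_eq_mul.mpr (o.v_comm ht)
  rcases o.data.mem_w_cases o.memW hw o.ne_one hw1 (Ne.symm hwv) hu with h | h | h | h
  · exact absurd (conj_eq_one_iff.mp h) hw1
  · refine absurd ?_ hwv
    have e : w = t⁻¹ * (t * w * t⁻¹) * t := by group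
    rw [e, h, mul_assoc, ← o.v_comm ht, inv_mul_cancel_left]
  · exact Or.inl h
  · exact Or.inr (h.trans (o.v_comm (o.w_le hw)).symm)

theorem exists_not_coreT : ∃ a ∈ T, a ∉ coreT T K := by
  by_contra h
  simp only [not_exists, not_and, not_not] at h
  obtain ⟨w, hw, hw1, hwv⟩ := o.data.exists_other v
  refine (o.only w hw (mem_centralizer_iff.mpr fun j hj => ?_)).elim hw1 hwv
  have hjT := Thompson.thompsonSubgroupOf_le T hj
  exact (mem_centralizer_iff.mp (h j hjT).2 w hw).symm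

/-- An element fixing a point other than `1` and `v` fixes `W`. -/
theorem mem_coreT_of_fix {t w : G} (ht : t ∈ T) (hw : w ∈ wOf K) (hw1 : w ≠ 1) (hwv : w ≠ v)
    (h : t * w * t⁻¹ = w) : t ∈ coreT T K := by
  refine ⟨ht, mem_centralizer_iff.mpr fun u hu => ?_⟩
  have htw : Commute t w := mul_inv_eq_iff_eq_mul.mp h
  rcases o.data.mem_w_cases o.memW hw o.ne_one hw1 (Ne.symm hwv) hu with e | e | e | e
  · rw [e]; simp
  · rw [e]; exact (o.v_comm ht).symm
  · rw [e]; exact htw.eq.symm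
  · rw [e]; exact ((show Commute t v from o.v_comm ht).mul_right htw).eq.symm

theorem conj_of_not_mem {t w : G} (ht : t ∈ T) (htQ : t ∉ coreT T K) (hw : w ∈ wOf K) (hw1 : w ≠ 1)
    (hwv : w ≠ v) : t * w * t⁻¹ = w * v :=
  (o.conj_cases ht hw).resolve_left fun h => htQ (o.mem_coreT_of_fix ht hw hw1 hwv h)

theorem mul_mem_coreT {a b : G} (ha : a ∈ T) (hb : b ∈ T) (haQ : a ∉ coreT T K)
    (hbQ : b ∉ coreT T K) : b * a ∈ coreT T K := by
  obtain ⟨w, hw, hw1, hwv⟩ := o.data.exists_other v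
  refine o.mem_coreT_of_fix (mul_mem hb ha) hw hw1 hwv ?_
  have h1 := o.conj_of_not_mem ha haQ hw hw1 hwv
  have h2 := o.conj_of_not_mem hb hbQ hw hw1 hwv
  calc b * a * w * (b * a)⁻¹ = b * (a * w * a⁻¹) * b⁻¹ := by group
    _ = b * w * b⁻¹ * (b * v * b⁻¹) := by rw [h1]; group
    _ = w * (v * v) := by
      rw [h2, mul_inv_eq_iff_eq_mul.mpr (o.v_comm hb), mul_assoc]
    _ = w := by rw [o.sq o.memZ, mul_one]

theorem relIndex_inf (A : Subgroup G) (hA : A ≤ T) (hAQ : ¬ A ≤ coreT T K) :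
    (A ⊓ coreT T K).relIndex A = 2 := by
  obtain ⟨a, haA, haQ⟩ := SetLike.not_le_iff_exists.mp hAQ
  rw [relIndex, index_eq_two_iff]
  refine ⟨⟨a, haA⟩, fun b => ?_⟩
  rw [mem_subgroupOf, mem_subgroupOf]
  by_cases hb : (b : G) ∈ coreT T K
  · refine Or.inr ⟨⟨b.2, hb⟩, fun h => haQ ?_⟩
    simpa using mul_mem (inv_mem hb) h.2
  · exact Or.inl ⟨⟨mul_mem b.2 haA, o.mul_mem_coreT (hA haA) (hA b.2) haQ hb⟩, fun h => hb h.2⟩

theorem relIndex_coreT : (coreT T K).relIndex T = 2 := by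
  obtain ⟨a, ha, haQ⟩ := o.exists_not_coreT
  have := o.relIndex_inf T le_rfl fun h => haQ (h ha)
  rwa [show T ⊓ coreT T K = coreT T K from inf_eq_right.mpr inf_le_left] at this

theorem card_T : Nat.card T = 2 * Nat.card (coreT T K) := by
  rw [← relIndex_bot_left T, ← relIndex_bot_left (coreT T K),
    ← relIndex_mul_relIndex ⊥ (coreT T K) T bot_le inf_le_left, o.relIndex_coreT, mul_comm]

theorem core_eq_of_fix {k : G} (hk : k ∈ K) (h : k * v * k⁻¹ = v) : k ∈ pCoreOf 2 K := by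
  by_contra hkQ
  exact o.ne_one (o.data.fixed_eq_one hk hkQ o.memW (mul_inv_eq_iff_eq_mul.mp h))

theorem mem_T_of_fix {x : G} (hx : x ∈ K ⊔ T) (h : x * v * x⁻¹ = v) : x ∈ T := by
  rw [sup_comm] at hx
  obtain ⟨t, ht, k, hk, rfl⟩ := (Solvable.mem_sup_of_le_normalizer o.norm).mp hx
  refine mul_mem ht (o.core_le (o.core_eq_of_fix hk ?_))
  calc k * v * k⁻¹ = t⁻¹ * (t * k * v * (t * k)⁻¹) * t := by group
    _ = v := by rw [h, mul_assoc, ← o.v_comm ht, inv_mul_cancel_left]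

theorem inf_centralizer : (K ⊔ T) ⊓ centralizer (wOf K : Set G) = coreT T K := by
  refine le_antisymm (fun x hx => ⟨o.mem_T_of_fix hx.1 ?_, hx.2⟩)
    (inf_le_inf_right _ le_sup_right)
  exact mul_inv_eq_iff_eq_mul.mpr (mem_centralizer_iff.mp hx.2 v o.memW).symm

theorem sup_le_normalizer_w : K ⊔ T ≤ normalizer (wOf K : Set G) :=
  _root_.sup_le (le_sup_left.trans o.data.sup_le_normalizer_w) o.norm_w

theorem normalizes_coreT : K ⊔ T ≤ normalizer (coreT T K : Set G) := by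
  intro x hx
  rw [← o.inf_centralizer]
  refine LocalB.mem_normalizer_of_conj_le fun q hq => ⟨(K ⊔ T).mul_mem ((K ⊔ T).mul_mem hx hq.1) ((K ⊔ T).inv_mem hx),
    mem_centralizer_iff.mpr fun u hu => ?_⟩
  have h1 : x⁻¹ * u * x ∈ wOf K := by
    simpa using (mem_normalizer_iff.mp (inv_mem (o.sup_le_normalizer_w hx)) u).mp hu
  have h2 := mem_centralizer_iff.mp hq.2 _ h1
  calc u * (x * q * x⁻¹) = x * (x⁻¹ * u * x * q) * x⁻¹ := by group
    _ = x * q * x⁻¹ * u := by rw [h2]; group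

theorem conj_mem_coreT {x q : G} (hx : x ∈ K ⊔ T) (hq : q ∈ coreT T K) :
    x * q * x⁻¹ ∈ coreT T K :=
  (mem_normalizer_iff.mp (o.normalizes_coreT hx) q).mp hq

theorem not_mem_T {y : G} (hy : y ∈ K) (hyQ : y ∉ pCoreOf 2 K) : y ∉ T := fun h =>
  hyQ (o.core_eq_of_fix hy (mul_inv_eq_iff_eq_mul.mpr (o.v_comm h)))

theorem cube_fix {y : G} (hy : y ∈ K) (hyQ : y ∉ pCoreOf 2 K) : y ^ 3 ∈ pCoreOf 2 K := by
  have hQnK : ((pCoreOf 2 K).subgroupOf K).Normal := (normal_subgroupOf_iff_le_normalizer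
    (Functor.pCoreOf_le 2 K)).2 (Functor.le_normalizer_pCoreOf 2 K)
  have h3 := pow_index_mem (H := (pCoreOf 2 K).subgroupOf K) (⟨y, hy⟩ : K)
  rwa [show ((pCoreOf 2 K).subgroupOf K).index = 3 from o.data.three] at h3

theorem sq_not_core {y : G} (hy : y ∈ K) (hyQ : y ∉ pCoreOf 2 K) : y * y ∉ pCoreOf 2 K := fun h =>
  hyQ (by
    have e : y = (y * y) * (y * y) * (y ^ 3)⁻¹ := by group
    rw [e]; exact mul_mem (mul_mem h h) (inv_mem (o.cube_fix hy hyQ)))

/-- The orbit of `v`. -/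
theorem cycle {y : G} (hy : y ∈ K) (hyQ : y ∉ pCoreOf 2 K) :
    y * v * y⁻¹ ∈ wOf K ∧ y * v * y⁻¹ ≠ 1 ∧ y * v * y⁻¹ ≠ v ∧
      y * (y * v * y⁻¹) * y⁻¹ = v * (y * v * y⁻¹) ∧
      y * (v * (y * v * y⁻¹)) * y⁻¹ = v := by
  have hWn : y ∈ normalizer (wOf K : Set G) := o.sup_le_normalizer_w (mem_sup_left hy)
  set w := y * v * y⁻¹ with hwdef
  have hw : w ∈ wOf K := (mem_normalizer_iff.mp hWn v).mp o.memW
  have hw1 : w ≠ 1 := fun e => o.ne_one (conj_eq_one_iff.mp e)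
  have hwv : w ≠ v := fun e => hyQ (o.core_eq_of_fix hy e)
  have hstep : y * w * y⁻¹ = v * w := by
    rcases o.data.mem_w_cases o.memW hw o.ne_one hw1 (Ne.symm hwv)
      ((mem_normalizer_iff.mp hWn w).mp hw) with h | h | h | h
    · exact absurd (conj_eq_one_iff.mp h) hw1
    · refine absurd (o.core_eq_of_fix (mul_mem hy hy) ?_) (o.sq_not_core hy hyQ)
      calc y * y * v * (y * y)⁻¹ = y * (y * v * y⁻¹) * y⁻¹ := by group
        _ = v := h
    · exact absurd ((MulAut.conj y).injective (show y * w * y⁻¹ = y * v * y⁻¹ from h)) hwv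
    · exact h
  refine ⟨hw, hw1, hwv, hstep, ?_⟩
  calc y * (v * w) * y⁻¹ = (y * v * y⁻¹) * (y * w * y⁻¹) := by group
    _ = w * (v * w) := by rw [hstep]
    _ = v * (w * w) := by rw [← mul_assoc, o.v_comm (o.w_le hw), mul_assoc]
    _ = v := by rw [o.data.sq w hw, mul_one]

theorem transitive {w : G} (hw : w ∈ wOf K) (hw1 : w ≠ 1) : ∃ k ∈ K, k * v * k⁻¹ = w := by
  obtain ⟨y, hy, hyQ⟩ := o.data.exists_mem_not_core
  obtain ⟨h0, h1, h2, h3, -⟩ := o.cycle hy hyQ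
  rcases o.data.mem_w_cases o.memW h0 o.ne_one h1 (Ne.symm h2) hw with e | e | e | e
  · exact absurd e hw1
  · exact ⟨1, one_mem _, by rw [e]; group⟩
  · exact ⟨y, hy, e.symm⟩
  · exact ⟨y * y, mul_mem hy hy, by rw [e, ← h3]; group⟩

theorem inverts {a y : G} (ha : a ∈ T) (haQ : a ∉ coreT T K) (hy : y ∈ K)
    (hyQ : y ∉ pCoreOf 2 K) : a * y * a⁻¹ * y ∈ coreT T K := by
  obtain ⟨hw, hw1, hwv, h3, h4⟩ := o.cycle hy hyQ
  set w := y * v * y⁻¹ with hwdef
  have hmem : a * y * a⁻¹ * y ∈ K ⊔ T :=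
    mul_mem (mul_mem (mul_mem (mem_sup_right ha) (mem_sup_left hy)) (inv_mem (mem_sup_right ha)))
      (mem_sup_left hy)
  have haw : a * w * a⁻¹ = w * v := o.conj_of_not_mem ha haQ hw hw1 hwv
  have hwv' : w * v = v * w := (o.v_comm (o.w_le hw))
  have haiw : a⁻¹ * w * a = v * w := by
    have h := o.conj_of_not_mem (inv_mem ha) (fun h => haQ (by simpa using inv_mem h)) hw hw1 hwv
    rwa [inv_inv, hwv'] at h
  have hav : a * v * a⁻¹ = v := mul_inv_eq_iff_eq_mul.mpr (o.v_comm ha)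
  have haiv : a⁻¹ * v * a = v := by rw [mul_assoc, ← o.v_comm ha, inv_mul_cancel_left]
  have f1 : a * y * a⁻¹ * y * v * (a * y * a⁻¹ * y)⁻¹ = v := by
    calc a * y * a⁻¹ * y * v * (a * y * a⁻¹ * y)⁻¹
        = a * (y * (a⁻¹ * w * a) * y⁻¹) * a⁻¹ := by rw [hwdef]; group
      _ = v := by rw [haiw, h4, hav]
  refine o.mem_coreT_of_fix (o.mem_T_of_fix hmem f1) hw hw1 hwv ?_
  calc a * y * a⁻¹ * y * w * (a * y * a⁻¹ * y)⁻¹
      = a * (y * (a⁻¹ * (y * w * y⁻¹) * a) * y⁻¹) * a⁻¹ := by group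
    _ = a * (y * ((a⁻¹ * v * a) * (a⁻¹ * w * a)) * y⁻¹) * a⁻¹ := by rw [h3]; group
    _ = a * (y * w * y⁻¹) * a⁻¹ := by
      rw [haiv, haiw, ← mul_assoc v v w, o.sq o.memZ, one_mul]
    _ = w := by
      rw [h3, show a * (v * w) * a⁻¹ = (a * v * a⁻¹) * (a * w * a⁻¹) by group, hav, haw, hwv',
        ← mul_assoc v v w, o.sq o.memZ, one_mul]

theorem core_sup : pCoreOf 2 (K ⊔ T) = coreT T K := by
  have : Fact (Nat.Prime 2) := ⟨Nat.prime_two⟩
  refine le_antisymm (fun r hr => ?_) (Functor.le_pCoreOf (inf_le_left.trans le_sup_right)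
    o.normalizes_coreT (o.isP.to_le inf_le_left))
  have hRT : pCoreOf 2 (K ⊔ T) ≤ T := Functor.pCoreOf_le_sylowIn
    ((sylowTwo_iff.1 o.set.ovg.1).of_le le_sup_right o.sup_le)
  obtain ⟨y, hy, hyQ⟩ := o.data.exists_mem_not_core
  obtain ⟨hw, hw1, hwv, -, -⟩ := o.cycle hy hyQ
  refine o.mem_coreT_of_fix (hRT hr) hw hw1 hwv ?_
  have h1 : y⁻¹ * r * y ∈ pCoreOf 2 (K ⊔ T) := by
    simpa using (mem_normalizer_iff.mp
      (Functor.le_normalizer_pCoreOf 2 _ (inv_mem (mem_sup_left hy))) r).mp hr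
  calc r * (y * v * y⁻¹) * r⁻¹ = y * ((y⁻¹ * r * y) * v * (y⁻¹ * r * y)⁻¹) * y⁻¹ := by group
    _ = y * v * y⁻¹ := by rw [mul_inv_eq_iff_eq_mul.mpr (o.v_comm (hRT h1))]

theorem core_set_le : pCoreOf 2 L ≤ coreT T K := by
  have : Fact (Nat.Prime 2) := ⟨Nat.prime_two⟩
  rw [← o.core_sup]
  exact Functor.le_pCoreOf (o.set.core_le.trans le_sup_right)
    (o.sup_le.trans (Functor.le_normalizer_pCoreOf 2 L)) (Functor.isPGroup_pCoreOf L)

theorem centralizer_coreT : centralizer (coreT T K : Set G) ≤ coreT T K :=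
  ((centralizer_le o.core_set_le).trans o.set.ovg.2.2).trans o.core_set_le

theorem inf_T : K ⊓ T = pCoreOf 2 K :=
  le_antisymm (fun k hk => o.core_eq_of_fix hk.1 (mul_inv_eq_iff_eq_mul.mpr (o.v_comm hk.2)))
    (le_inf (Functor.pCoreOf_le 2 K) o.core_le)

theorem card_sup : Nat.card ↥(K ⊔ T) = 3 * Nat.card T := by
  have h1 := Solvable.card_sup_mul_card_inf (A := T) (K := K) o.norm
  have h2 : Nat.card K = 3 * Nat.card (pCoreOf 2 K) := by
    rw [← relIndex_bot_left K, ← relIndex_bot_left (pCoreOf 2 K),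
      ← relIndex_mul_relIndex ⊥ _ _ bot_le (Functor.pCoreOf_le 2 K), o.data.three, mul_comm]
  rw [inf_comm, o.inf_T, h2, sup_comm] at h1
  exact Nat.eq_of_mul_eq_mul_right (Nat.card_pos : 0 < Nat.card (pCoreOf 2 K))
    (h1.trans (by ring))

theorem relIndex_core_sup : (pCoreOf 2 (K ⊔ T)).relIndex (K ⊔ T) = 6 := by
  rw [o.core_sup]
  have h1 := relIndex_mul_relIndex ⊥ (coreT T K) (K ⊔ T) bot_le (inf_le_left.trans le_sup_right)
  rw [relIndex_bot_left, relIndex_bot_left, o.card_sup, o.card_T] at h1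
  exact Nat.eq_of_mul_eq_mul_left (Nat.card_pos : 0 < Nat.card (coreT T K)) (h1.trans (by ring))

theorem commutator_not_le : ¬ ⁅K ⊔ T, K ⊔ T⁆ ≤ pCoreOf 2 (K ⊔ T) := by
  intro h
  rw [o.core_sup] at h
  have hKQ : K ≤ coreT T K := (le_of_eq o.data.comm.symm).trans ((commutator_mono le_sup_left
    ((Thompson.thompsonSubgroupOf_le T).trans le_sup_right)).trans h)
  obtain ⟨y, hy, hyQ⟩ := o.data.exists_mem_not_core
  exact o.not_mem_T hy hyQ (hKQ hy).1

theorem omega_commutator_ne_bot : ⁅omegaCenterOf T, K ⊔ T⁆ ≠ ⊥ := fun h =>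
  o.moves fun k hk => mem_centralizer_singleton_iff.mpr
    (mem_centralizer_iff.mp ((commutator_eq_bot_iff_le_centralizer.mp h) o.memZ) k (mem_sup_left hk))

theorem sylow_sup : Functor.IsSylowIn 2 T (K ⊔ T) :=
  (sylowTwo_iff.1 o.set.ovg.1).of_le le_sup_right o.sup_le

theorem normalizer_w_le (hG : Hyp G) : normalizer (wOf K : Set G) ≤ L := by
  obtain ⟨N, hN, hle⟩ := exists_maximal_twoLocal (isTwoLocal_normalizer_wOf o.data)
  exact o.unique N hN (o.data.sup_le_normalizer_w.trans hle) ▸ hle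

theorem normalizer_w_eq (hG : Hyp G) : normalizer (K : Set G) = normalizer (wOf K : Set G) :=
  (jComponentZero_normalizer_eq hG.charTwo hG.solv hG.zc o.isP o.zero).1

/-- A conjugate of the component inside `L` is again a component. -/
theorem isJComponent_conj (hG : Hyp G) {q : G} (hq : q ∈ L) :
    IsJComponent T (q ⋆ K) ∧ q ⋆ K ≤ L := by
  have hle : q ⋆ K ≤ L := (Functor.cj_mono q o.le).trans (Functor.cj_eq_self_of_mem hq).le
  refine ⟨isJComponent_of_zero_conjugate hG.charTwo hG.solv hG.zc o.isP o.set.ovg hle ?_ q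
    (jComponentsZero_cj q o.zero), hle⟩
  have h1 : (K.subgroupOf L).map (MulAut.conj (⟨q, hq⟩ : L)).toMonoidHom = (q ⋆ K).subgroupOf L := by
    ext ⟨g, hg⟩
    constructor
    · rintro ⟨⟨k, hkL⟩, hk, e⟩
      exact ⟨k, hk, congrArg Subtype.val e⟩
    · rintro ⟨k, hk, e⟩
      exact ⟨⟨k, o.le hk⟩, hk, Subtype.ext e⟩
  have h2 : ((q ⋆ K).subgroupOf L).IsSubnormal :=
    h1 ▸ (o.set.subnormal o.data o.le).map (MulAut.conj (⟨q, hq⟩ : L)).surjective
  exact h2.comap (inclusion (_root_.sup_le hle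
    ((Thompson.thompsonSubgroupOf_le T).trans o.set.le)))

end OutComp

end CfsgLib.JComp
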