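import Cfsg.Agent.LocalB.JUnique
import Cfsg.Agent.LocalB.JPair
import Cfsg.Agent.KGroup.CharTwo
import Cfsg.Agent.Invol.Dihedral

/-! Large subgroups straddling a maximal 2-local subgroup. -/

set_option autoImplicit false
set_option linter.unusedVariables false
set_option linter.unusedSectionVars false
set_option linter.style.haveILetI false

namespace CfsgLib.JComp

open Subgroup Cfsg CfsgLib
open scoped CfsgLib.Functor

variable {G : Type*} [Group G] [Finite G] {T L M K : Subgroup G}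

theorem isTwoLocal_cent {x : G} (hx : x * x = 1) (hx1 : x ≠ 1) :
    IsTwoLocal (centralizer ({x} : Set G)) :=
  CharP.isTwoLocal_centralizer (orderOf_eq_prime (by rw [pow_two]; exact hx) hx1)

theorem centralizer_le_unique (hG : Hyp G) (S : Sylow 2 G)
    (hMJ : normalizer (thompsonSubgroupOf 2 (S : Subgroup G) : Set G) ≤ M)
    (hT : T ∈ maxStraddlingTwoSubgroups M) (hK : IsJComponent T K) (hKM : ¬ K ≤ M)
    (hLm : IsMaximalTwoLocal L) (hKJ : K ⊔ thompsonSubgroupOf 2 T ≤ L) {x : G}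
    (hx : x * x = 1) (hx1 : x ≠ 1)
    (hc : K ⊔ thompsonSubgroupOf 2 T ≤ centralizer ({x} : Set G)) :
    centralizer ({x} : Set G) ≤ L := by
  obtain ⟨N, hN, hle⟩ := exists_maximal_twoLocal (isTwoLocal_cent hx hx1)
  exact unique_maximal hG S hMJ hT hK hKM hN hLm (hc.trans hle) hKJ ▸ hle

theorem mem_of_comp_le (hG : Hyp G) (S : Sylow 2 G)
    (hMJ : normalizer (thompsonSubgroupOf 2 (S : Subgroup G) : Set G) ≤ M)
    (hT : T ∈ maxStraddlingTwoSubgroups M) (hK : IsJComponent T K) (hKM : ¬ K ≤ M)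
    (hLm : IsMaximalTwoLocal L) (hKJ : K ⊔ thompsonSubgroupOf 2 T ≤ L) {g : G}
    (hgJ : g ∈ normalizer (thompsonSubgroupOf 2 T : Set G)) (hgM : g ∈ M) (hle : g ⋆ K ≤ L) :
    g ∈ L := by
  refine mem_of_cj_eq hLm (unique_maximal hG S hMJ hT (isJComponent_cj_of_mem hgJ hK) ?_
    (isMaximal_cj hLm g) hLm ?_ (sup_le hle (le_sup_right.trans hKJ)))
  · intro h
    refine hKM ?_
    have := Functor.cj_mono g⁻¹ h
    rwa [Functor.cj_inv_cj, Functor.cj_eq_self_of_mem (inv_mem hgM)] at this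
  · refine sup_le (Functor.cj_mono g (le_sup_left.trans hKJ)) ?_
    rw [← Functor.mem_normalizer_iff_cj.1 hgJ]
    exact Functor.cj_mono g (le_sup_right.trans hKJ)

theorem straddling_cj {T' : Subgroup G} {m : G} (hm : m ∈ M) (hT : T' ∈ straddlingTwoSubgroups M) :
    m ⋆ T' ∈ straddlingTwoSubgroups M := by
  obtain ⟨h1, h2, h3, X, hX, hTX, hXM⟩ := hT
  refine ⟨Functor.isPGroup_cj m h1, fun e => h2 (Functor.cj_eq_bot_iff.1 e),
    (Functor.cj_mono m h3).trans (Functor.cj_eq_self_of_mem hm).le, m ⋆ X, ?_,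
    Functor.cj_mono m hTX, fun h => hXM ?_⟩
  · obtain ⟨Q, hQ, hQ1, rfl⟩ := hX
    exact ⟨m ⋆ Q, Functor.isPGroup_cj m hQ, fun e => hQ1 (Functor.cj_eq_bot_iff.1 e),
      Functor.cj_normalizer m Q⟩
  · have := Functor.cj_mono m⁻¹ h
    rwa [Functor.cj_inv_cj, Functor.cj_eq_self_of_mem (inv_mem hm)] at this

theorem maxElemAbelianOrder_cj (m : G) (T' : Subgroup G) :
    maxElemAbelianOrder (m ⋆ T') = maxElemAbelianOrder T' := by
  obtain ⟨A, hA⟩ := Thompson.exists_maxIn (p := 2) T'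
  rw [maxElemAbelianOrder_eq hA, maxElemAbelianOrder_eq (Thompson.maxIn_map (MulAut.conj m) hA)]
  exact Functor.card_cj m A

theorem maxStraddling_cj {T' : Subgroup G} {m : G} (hm : m ∈ M)
    (hT : T' ∈ maxStraddlingTwoSubgroups M) : m ⋆ T' ∈ maxStraddlingTwoSubgroups M := by
  refine ⟨straddling_cj hm hT.1, fun P hP => ?_⟩
  rw [maxElemAbelianOrder_cj, ← Thompson.map_thompsonSubgroupOf, Functor.card_cj, Functor.card_cj]
  exact hT.2 P hP

theorem exists_maxStraddling (h : (straddlingTwoSubgroups M).Nonempty) :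
    ∃ T', T' ∈ maxStraddlingTwoSubgroups M := by
  obtain ⟨T₁, h1, hmax1⟩ := Set.Finite.exists_maximalFor maxElemAbelianOrder
    (straddlingTwoSubgroups M) (Set.toFinite _) h
  obtain ⟨T₂, ⟨h2, he2⟩, hmax2⟩ := Set.Finite.exists_maximalFor
    (fun P : Subgroup G => Nat.card ↥(thompsonSubgroupOf 2 P))
    {P | P ∈ straddlingTwoSubgroups M ∧ maxElemAbelianOrder P = maxElemAbelianOrder T₁}
    (Set.toFinite _) ⟨T₁, h1, rfl⟩
  obtain ⟨T₃, ⟨h3, he3, hj3⟩, hmax3⟩ := Set.Finite.exists_maximalFor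
    (fun P : Subgroup G => Nat.card P)
    {P | P ∈ straddlingTwoSubgroups M ∧ maxElemAbelianOrder P = maxElemAbelianOrder T₁ ∧
      Nat.card ↥(thompsonSubgroupOf 2 P) = Nat.card ↥(thompsonSubgroupOf 2 T₂)}
    (Set.toFinite _) ⟨T₂, h2, he2, rfl⟩
  refine ⟨T₃, h3, fun P hP => ⟨?_, fun he => ⟨?_, fun hj => ?_⟩⟩⟩
  · rw [he3]; exact le_of_not_gt fun hlt => absurd (hmax1 hP hlt.le) (not_le.mpr hlt)
  · rw [hj3]
    exact le_of_not_gt fun hlt => absurd (hmax2 ⟨hP, he.trans he3⟩ hlt.le) (not_le.mpr hlt)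
  · exact le_of_not_gt fun hlt =>
      absurd (hmax3 ⟨hP, he.trans he3, hj.trans hj3⟩ hlt.le) (not_le.mpr hlt)

theorem exists_omega_ne_one {T : Subgroup G} (hT : IsPGroup 2 T) (hT1 : T ≠ ⊥) :
    ∃ z ∈ omegaCenterOf T, z ≠ 1 := by
  have : Fact (Nat.Prime 2) := ⟨Nat.prime_two⟩
  obtain ⟨x, hx, hx1, hxC⟩ := exists_fixed_point hT hT Subgroup.le_normalizer hT1
  have hne : T ⊓ centralizer (T : Set G) ≠ ⊥ := fun h => hx1 (by
    have h' : x ∈ T ⊓ centralizer (T : Set G) := ⟨hx, hxC⟩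
    rw [h] at h'
    exact mem_bot.mp h')
  obtain ⟨z, hz, hoz⟩ :=
    LocalB.exists_pgroup_of_dvd (LocalB.dvd_card_of_ne_bot (hT.to_le inf_le_left) hne)
  exact ⟨z, Thompson.mem_omegaOne hz (hoz ▸ pow_orderOf_eq_one z),
    fun e => by rw [e, orderOf_one] at hoz; omega⟩

namespace Setting

/-- Some largest elementary abelian subgroup contains the module. -/
theorem exists_maxIn_modV (s : Setting T L) : ∃ A ∈ Thompson.maxIn 2 T, modV T L ≤ A := by
  letI := s.commV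
  haveI := s.solv_range
  set π := (act T L).rangeRestrict with hπ
  set ρ := (act T L).range.subtype
  obtain ⟨A, hA⟩ := Thompson.exists_maxIn (p := 2) T
  have hAL : A ≤ L := hA.1.trans s.le
  set A' := (A.subgroupOf L).map π
  have hA' : IsElementaryAbelian 2 A' := Thompson.elab_map _ (Thompson.elab_subgroupOf hA.2.1 L)
  have hcard : Nat.card A' * Nat.card ↥(A ⊓ kerV T L) = Nat.card A := by
    have e1 : Nat.card A' = (π.ker).relIndex (A.subgroupOf L) := by rw [relIndex_ker]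
    have e2 : π.ker = (kerV T L).subgroupOf L := by
      ext ⟨g, hg⟩
      rw [MonoidHom.mem_ker, mem_subgroupOf]
      exact ⟨fun h => mem_kerV_iff.mpr ⟨hg, h⟩, fun h => (mem_kerV_iff.mp h).2⟩
    rw [e1, e2, relIndex_subgroupOf hAL, ← relIndex_bot_left (A ⊓ kerV T L), ← relIndex_bot_left A,
      mul_comm, ← inf_relIndex_right (kerV T L) A, inf_comm (kerV T L) A]
    exact relIndex_mul_relIndex _ _ _ bot_le inf_le_left
  have hidx := OddOffender.card_le_index ρ (act T L).range.subtype_injective s.modV_sq s.core_trivial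
    A' hA'
  obtain ⟨hel, hsub⟩ := s.sup_modV hA
  have h2 := Solvable.card_sup_mul_card_inf (A := A ⊓ kerV T L) (K := modV T L)
    ((inf_le_right.trans inf_le_left).trans (le_normalizer_modV T L))
  have h3 : Nat.card ↥(A ⊓ kerV T L ⊓ modV T L) ≤
      Nat.card (OddOffender.fix ρ (A' : Set (act T L).range)) := by
    refine Nat.card_le_card_of_injective (fun u => ⟨⟨(u : G), u.2.2⟩, ?_⟩) fun u v h => ?_
    · intro a ha
      obtain ⟨b, hb, rfl⟩ := ha
      refine Subtype.ext ?_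
      show (b : G) * u * (b : G)⁻¹ = u
      exact mul_inv_eq_iff_eq_mul.mpr (Thompson.elab_commute hA.2.1 hb u.2.1.1)
    · exact Subtype.ext (congrArg (fun z : OddOffender.fix ρ (A' : Set (act T L).range) =>
        ((z : modV T L) : G)) h)
  have h4 := card_mul_index (OddOffender.fix ρ (A' : Set (act T L).range))
  refine ⟨(A ⊓ kerV T L) ⊔ modV T L, ⟨hsub, hel, fun B hB hBe => (hA.2.2 B hB hBe).trans ?_⟩,
    le_sup_right⟩
  refine Nat.le_of_mul_le_mul_right ?_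
    (Nat.card_pos : 0 < Nat.card ↥(A ⊓ kerV T L ⊓ modV T L))
  rw [h2, ← hcard, ← h4]
  calc Nat.card A' * Nat.card ↥(A ⊓ kerV T L) * Nat.card ↥(A ⊓ kerV T L ⊓ modV T L)
      ≤ (OddOffender.fix ρ (A' : Set (act T L).range)).index * Nat.card ↥(A ⊓ kerV T L) *
          Nat.card (OddOffender.fix ρ (A' : Set (act T L).range)) :=
        Nat.mul_le_mul (Nat.mul_le_mul_right _ hidx) h3
    _ = _ := by ring

end Setting

theorem fusion_of_locals (hTL : T ≤ L) (hTS : Functor.IsSylowIn 2 T L) (hTp : IsPGroup 2 T)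
    (hNT : normalizer (T : Set G) ≤ L)
    (hloc : ∀ X P : Subgroup G, IsTwoLocal X → IsPGroup 2 P → P ≠ ⊥ → P ≤ L → P ≤ X → X ≤ L)
    {x g : G} (hx : x ∈ L) (hox : orderOf x = 2) (hgx : g * x * g⁻¹ ∈ L) : g ∈ L := by
  have : Fact (Nat.Prime 2) := ⟨Nat.prime_two⟩
  have hzp : ∀ y : G, orderOf y = 2 → IsPGroup 2 (zpowers y) := fun y hy =>
    LocalB.isPGroup_zpowers ⟨1, by rw [hy, pow_one]⟩
  obtain ⟨l₁, hl₁, hle₁⟩ := hTS.exists_cj_le (hzp x hox) (zpowers_le.mpr hx)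
  have ho : orderOf (g * x * g⁻¹) = 2 := by rw [Invol.orderOf_conj_eq]; exact hox
  obtain ⟨l₂, hl₂, hle₂⟩ := hTS.exists_cj_le (hzp _ ho) (zpowers_le.mpr hgx)
  set g' := l₂ * g * l₁⁻¹ with hg'
  set y := l₂ * (g * x * g⁻¹) * l₂⁻¹ with hy
  have hyT : y ∈ T := hle₂ ⟨_, mem_zpowers _, rfl⟩
  have hxT : l₁ * x * l₁⁻¹ ∈ T := hle₁ ⟨_, mem_zpowers _, rfl⟩
  have hyg : y ∈ g' ⋆ T := ⟨_, hxT, by simp [hg', hy, mul_assoc]⟩
  have hy1 : y ≠ 1 := fun e => by
    rw [hy, conj_eq_one_iff] at e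
    rw [e, orderOf_one] at ho
    omega
  set Q := g' ⋆ T with hQ
  have hQp : IsPGroup 2 Q := Functor.isPGroup_cj g' hTp
  have hQL : Q ≤ L := by
    by_contra hle
    obtain ⟨u, hu, hun, huV⟩ := LocalB.exists_mem_normalizer_not_mem hQp
      (inf_le_left : Q ⊓ L ≤ Q) (fun h => hle (inf_eq_left.mp h))
    have hne : Q ⊓ L ≠ ⊥ := fun h => hy1 (by
      have h' : y ∈ Q ⊓ L := ⟨hyg, hTL hyT⟩
      rw [h] at h'
      exact mem_bot.mp h')
    exact huV ⟨hu, hloc _ (Q ⊓ L) ⟨_, hQp.to_le inf_le_left, hne, rfl⟩ (hQp.to_le inf_le_left) hne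
      inf_le_right Subgroup.le_normalizer hun⟩
  obtain ⟨l, hl, hle⟩ := hTS.exists_cj_le hQp hQL
  rw [hQ, Functor.cj_cj] at hle
  have heq := Functor.eq_of_le_of_card_le' hle (Functor.card_cj _ T).ge
  have hg'L : g' ∈ L := by
    simpa using mul_mem (inv_mem hl) (hNT (Functor.mem_normalizer_iff_cj.2 heq))
  have := mul_mem (mul_mem (inv_mem hl₂) hg'L) hl₁
  simpa [hg', mul_assoc] using this

/-- An element of `Ω₁(Z(J))` or its product with the fixed point centralizes the component. -/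
theorem omega_split {T' K' : Subgroup G} (d' : Data (thompsonSubgroupOf 2 T') K') {v : G}
    (hv : ∀ w ∈ wOf K', w ∈ centralizer (thompsonSubgroupOf 2 T' : Set G) → w = 1 ∨ w = v) {e : G}
    (he : e ∈ omegaCenterOf (thompsonSubgroupOf 2 T')) :
    K' ≤ centralizer ({e} : Set G) ∨ K' ≤ centralizer ({e * v} : Set G) := by
  rw [← d'.omegaCenter_split.2] at he
  have hn : ∀ A B : Subgroup G, A ≤ omegaCenterOf (thompsonSubgroupOf 2 T') →
      B ≤ omegaCenterOf (thompsonSubgroupOf 2 T') → A ≤ normalizer (B : Set G) := fun A B hA hB =>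
    le_trans (fun a ha => mem_centralizer_iff.mpr fun b hb =>
      (mem_centralizer_iff.mp (Setting.omega_spec (hB hb)).2.1 a
        (Setting.omega_spec (hA ha)).1).symm) (centralizer_le_normalizer _)
  obtain ⟨c, hc, w, hw, rfl⟩ :=
    (Solvable.mem_sup_of_le_normalizer (hn _ _ inf_le_left inf_le_left)).mp he
  have hKc : K' ≤ centralizer ({c} : Set G) := fun k hk => mem_centralizer_singleton_iff.mpr
    (mem_centralizer_iff.mp hc.2.2 k (mem_sup_left hk))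
  rcases hv w hw.2 (Setting.omega_spec hw.1).2.1 with rfl | rfl
  · left; rwa [mul_one]
  · right
    rwa [mul_assoc, ← pow_two, (Setting.omega_spec hw.1).2.2, mul_one]

/-- An overgroup containing `N(T)` contains a Sylow subgroup. -/
theorem sylow_of_normalizer_le (hTp : IsPGroup 2 T) (hTS : Functor.IsSylowIn 2 T L) (hTL : T ≤ L)
    (hNT : normalizer (T : Set G) ≤ L) {P : Sylow 2 G} (hP : T ≤ P) : (P : Subgroup G) = T := by
  have : Fact (Nat.Prime 2) := ⟨Nat.prime_two⟩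
  by_contra hne'
  obtain ⟨u, hu, hun, huT⟩ := LocalB.exists_mem_normalizer_not_mem P.2 hP (Ne.symm hne')
  have heq := hTS.eq_of_le (P.2.to_le inf_le_left) (inf_le_right : (P : Subgroup G) ⊓ L ≤ L)
    (le_inf hP hTL)
  exact huT (heq ▸ ⟨hu, hNT hun⟩)

/-- A large elementary abelian subgroup straddling `L` gives a component outside `L`. -/
theorem straddling_split (hG : Hyp G) (P : Sylow 2 G)
    (hMJ' : normalizer (thompsonSubgroupOf 2 (P : Subgroup G) : Set G) ≤ L)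
    (hTp : IsPGroup 2 T) (hT1 : T ≠ ⊥) (hTS : Functor.IsSylowIn 2 T L) {A : Subgroup G}
    (hA : A ∈ Thompson.maxIn 2 T) {X B : Subgroup G} (hX : IsTwoLocal X) (hXL : ¬ X ≤ L)
    (hB : IsElementaryAbelian 2 B) (hBLX : B ≤ L ⊓ X) (hlt : Nat.card A ≤ Nat.card B) :
    ∃ K' v', ¬ K' ≤ L ∧ ∀ e ∈ omegaCenterOf (thompsonSubgroupOf 2 T),
      K' ≤ centralizer ({e} : Set G) ∨ K' ≤ centralizer ({e * v'} : Set G) := by
  have : Fact (Nat.Prime 2) := ⟨Nat.prime_two⟩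
  set J := thompsonSubgroupOf 2 T
  set Z₀ := omegaCenterOf J
  have hB1 : B ≠ ⊥ := by
    intro h
    have hne' := thompsonSubgroupOf_ne_bot hTp hT1
    obtain ⟨z, hz, hz1⟩ := exists_omega_ne_one hTp hT1
    have h2 : 1 < Nat.card A := by
      refine (Finite.one_lt_card_iff_nontrivial).mpr ((nontrivial_iff_ne_bot _).mpr fun h0 => ?_)
      obtain ⟨hzT, hzC, hz2⟩ := Setting.omega_spec hz
      have := Data.mem_of_commute_maxIn hA hzT hz2
        (fun b hb => mem_centralizer_iff.mp hzC b (hA.1 hb))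
      rw [h0, mem_bot] at this
      exact hz1 this
    rw [h, card_bot] at hlt
    omega
  have hBs : B ∈ straddlingTwoSubgroups L := ⟨Thompson.elab_isPGroup hB, hB1,
    hBLX.trans inf_le_left, X, hX, hBLX.trans inf_le_right, hXL⟩
  obtain ⟨T₁, hT₁⟩ := exists_maxStraddling ⟨B, hBs⟩
  obtain ⟨l, hl, hlT⟩ := hTS.exists_cj_le hT₁.1.1 hT₁.1.2.2.1
  have hT' := maxStraddling_cj hl hT₁
  set T' := l ⋆ T₁ with hT'def
  obtain ⟨A', hA'⟩ := Thompson.exists_maxIn (p := 2) T'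
  obtain ⟨B', hB'⟩ := Thompson.exists_maxIn (p := 2) B
  have h1 := (hT'.2 B hBs).1
  rw [maxElemAbelianOrder_eq hA', maxElemAbelianOrder_eq hB'] at h1
  have h2 : Nat.card A ≤ Nat.card A' := (hlt.trans (hB'.2.2 B le_rfl hB)).trans h1
  have hmax : ∀ C ∈ Thompson.maxIn 2 T', C ∈ Thompson.maxIn 2 T := fun C hC =>
    ⟨hC.1.trans hlT, hC.2.1, fun D hD hDe => ((hA.2.2 D hD hDe).trans h2).trans
      (hC.2.2 A' hA'.1 hA'.2.1)⟩
  have hJ'J : thompsonSubgroupOf 2 T' ≤ J := by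
    rw [Thompson.thompsonSubgroupOf_eq T']
    exact sSup_le fun C hC => maxIn_le_thompson (hmax C hC)
  have hZZ : ∀ e ∈ Z₀, e ∈ omegaCenterOf (thompsonSubgroupOf 2 T') := by
    intro e he
    obtain ⟨heJ, heC, he2⟩ := Setting.omega_spec he
    have heA : e ∈ A' := Data.mem_of_commute_maxIn (hmax A' hA')
      (Thompson.thompsonSubgroupOf_le T heJ) he2
      (fun b hb => mem_centralizer_iff.mp heC b (maxIn_le_thompson (hmax A' hA') hb))
    exact Thompson.mem_omegaOne ⟨maxIn_le_thompson hA' heA,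
      mem_centralizer_iff.mpr fun j hj => mem_centralizer_iff.mp heC j (hJ'J hj)⟩ he2
  obtain ⟨K', ⟨hK'c, -⟩, hK'L, -⟩ := max_straddling_outside hG.charTwo hG.solv hG.zc P hMJ' hT'
  have d' := data_of_isJComponent hT'.1.1 hK'c
  obtain ⟨v', -, -, -, hv'u⟩ := d'.exists_fixed_other
  have hsp : ∀ e ∈ Z₀, K' ≤ centralizer ({e} : Set G) ∨ K' ≤ centralizer ({e * v'} : Set G) :=
    fun e he => omega_split d' hv'u (hZZ e he)
  exact ⟨K', v', hK'L, hsp⟩

/-- Some subgroup straddles a maximal 2-local subgroup. -/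
theorem straddling_nonempty (hO : pCore 2 G = ⊥) (hLm : IsMaximalTwoLocal L) (s : Setting T L)
    (hNT : normalizer (T : Set G) ≤ L) : (straddlingTwoSubgroups L).Nonempty := by
  have : Fact (Nat.Prime 2) := ⟨Nat.prime_two⟩
  have hov := s.ovg
  have hTp := s.isP
  have hTL := s.le
  have hTS := sylowTwo_iff.1 hov.1
  have hT1 : T ≠ ⊥ := fun h => hov.2.1
    (((Thompson.thompsonSubgroupOf_le T).trans h.le).trans bot_le)
  obtain ⟨z, hz, hz1⟩ := exists_omega_ne_one hTp hT1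
  have hzU : z ∈ modV T L := Setting.omegaT_le T L hz
  obtain ⟨hzT, hzC, hz2⟩ := Setting.omega_spec hz
  by_contra hne'
  have hloc : ∀ X Q : Subgroup G, IsTwoLocal X → IsPGroup 2 Q → Q ≠ ⊥ → Q ≤ L → Q ≤ X → X ≤ L :=
    fun X Q hX hQ hQ1 hQL hQX => by_contra fun h => hne' ⟨Q, hQ, hQ1, hQL, X, hX, hQX, h⟩
  have hfus : ∀ {x g : G}, x ∈ L → orderOf x = 2 → g * x * g⁻¹ ∈ L → g ∈ L := fun hx hox hgx =>
    fusion_of_locals hTL hTS hTp
      hNT hloc hx hox hgx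
  obtain ⟨C, hC, hCX⟩ : ∃ C ∈ Thompson.maxIn 2 T, ¬ C ≤ pCoreOf 2 L := by
    by_contra h
    simp only [not_exists, not_and, not_not] at h
    exact hov.2.1 ((Thompson.thompsonSubgroupOf_eq (p := 2) T).le.trans (sSup_le h))
  obtain ⟨x, hxC, hxX⟩ := SetLike.not_le_iff_exists.mp hCX
  have hx1 : x ≠ 1 := fun e => hxX (e ▸ one_mem _)
  have hox : orderOf x = 2 := orderOf_eq_prime (hC.2.1.2 x hxC) hx1
  have hoz : orderOf z = 2 := orderOf_eq_prime hz2 hz1
  have hxL : x ∈ L := hTL (hC.1 hxC)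
  have hcent : ∀ i ∈ L, orderOf i = 2 → centralizer ({i} : Set G) ≤ L := fun i hi hoi =>
    hloc _ (zpowers i) (CharP.isTwoLocal_centralizer hoi)
      (LocalB.isPGroup_zpowers ⟨1, by rw [hoi, pow_one]⟩)
      (fun h => by rw [zpowers_eq_bot] at h; rw [h, orderOf_one] at hoi; omega)
      (zpowers_le.mpr hi) (zpowers_le.mpr (mem_centralizer_singleton_iff.mpr rfl))
  have hconj : IsConj x z := by
    by_contra hnc
    obtain ⟨g, hg⟩ : ∃ g, g ∉ L := by
      by_contra h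
      simp only [not_exists, not_not] at h
      obtain ⟨Q, hQ, hQ1, hLQ⟩ := hLm.1
      have hQn : Q.Normal := normalizer_eq_top_iff.mp
        (eq_top_iff.mpr fun g _ => hLQ ▸ h g)
      exact hQ1 (le_bot_iff.mp (hO ▸ le_sSup ⟨hQn, hQ⟩))
    have hoy : orderOf (g * z * g⁻¹) = 2 := by rw [Invol.orderOf_conj_eq]; exact hoz
    obtain ⟨i, hoi, hix, hiy⟩ := Invol.exists_commuting_invol hox hoy
      (fun h => hnc (h.trans (isConj_iff.mpr ⟨g⁻¹, by group⟩)))
    have hiL : i ∈ L := hcent x hxL hox (mem_centralizer_singleton_iff.mpr hix.eq)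
    exact hg (hfus (hTL hzT) hoz (hcent i hiL hoi (mem_centralizer_singleton_iff.mpr hiy.eq.symm)))
  obtain ⟨g, hg⟩ := isConj_iff.mp hconj
  have hgL : g ∈ L := hfus hxL hox (hg ▸ hTL hzT)
  apply hxX
  have := (mem_normalizer_iff.mp (Functor.le_normalizer_pCoreOf 2 L (inv_mem hgL)) z).mp
    (s.omega_le hzU).1
  rwa [← hg, show g⁻¹ * (g * x * g⁻¹) * g⁻¹⁻¹ = x by group] at this

/-- If no large elementary abelian subgroup straddles `L` then the module has order at most 4. -/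
theorem modV_card_le_four (hG : Hyp G) (hO : pCore 2 G = ⊥) (hLm : IsMaximalTwoLocal L)
    (s : Setting T L) (P : Sylow 2 G) (hPT : (P : Subgroup G) = T)
    (hMJ' : normalizer (thompsonSubgroupOf 2 (P : Subgroup G) : Set G) ≤ L) {A : Subgroup G}
    (hA : A ∈ Thompson.maxIn 2 T) (hVA : modV T L ≤ A)
    (small : ∀ X : Subgroup G, IsTwoLocal X → ¬ X ≤ L → ∀ B : Subgroup G,
      IsElementaryAbelian 2 B → B ≤ L ⊓ X → Nat.card B < Nat.card A) :
    Nat.card ↥(modV T L) ≤ 4 := by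
  have : Fact (Nat.Prime 2) := ⟨Nat.prime_two⟩
  have hov := s.ovg
  have hTp := s.isP
  have hTL := s.le
  have hTS := sylowTwo_iff.1 hov.1
  have hT1 : T ≠ ⊥ := fun h => hov.2.1
    (((Thompson.thompsonSubgroupOf_le T).trans h.le).trans bot_le)
  have hNT : normalizer (T : Set G) ≤ L := by
    rw [← hPT]
    exact (Thompson.normalizer_le_normalizer_thompsonSubgroupOf _).trans hMJ'
  by_contra hU4
  set U := modV T L with hUdef
  have hUe : IsElementaryAbelian 2 U := Thompson.elab_mono hA.2.1 hVA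
  have hUT : U ≤ T := hVA.trans hA.1
  have hUn : L ≤ normalizer (U : Set G) := le_normalizer_modV T L
  have hUC : ∀ x ∈ U, x ≠ 1 → centralizer ({x} : Set G) ≤ L := by
    intro x hx hx1
    by_contra hle
    have hAC : A ≤ centralizer ({x} : Set G) := fun b hb =>
      mem_centralizer_singleton_iff.mpr (Thompson.elab_commute hA.2.1 hb (hVA hx))
    exact lt_irrefl _ (small _ (isTwoLocal_cent (by rw [← pow_two]; exact hUe.2 x hx) hx1) hle A
      hA.2.1 (le_inf (hA.1.trans hTL) hAC))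
  have hTI : ∀ g : G, g ∉ L → ∀ x ∈ U, g * x * g⁻¹ ∈ U → x = 1 := by
    intro g hg x hx hgx
    by_contra hx1
    have hgx1 : g * x * g⁻¹ ≠ 1 := fun e => hx1 (conj_eq_one_iff.mp e)
    have hle : g ⋆ A ≤ L := by
      refine le_trans ?_ (hUC _ hgx hgx1)
      rintro _ ⟨b, hb, rfl⟩
      refine mem_centralizer_singleton_iff.mpr ?_
      show g * b * g⁻¹ * (g * x * g⁻¹) = g * x * g⁻¹ * (g * b * g⁻¹)
      calc g * b * g⁻¹ * (g * x * g⁻¹) = g * (b * x) * g⁻¹ := by group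
        _ = _ := by rw [Thompson.elab_commute hA.2.1 hb (hVA hx)]; group
    refine (small (g ⋆ L) (isMaximal_cj hLm g).1 (fun h => hg (mem_of_cj_eq hLm
      (Functor.eq_of_le_of_card_le' h (Functor.card_cj g L).ge))) _ (Thompson.elab_map _ hA.2.1)
      (le_inf hle (Functor.cj_mono g (hA.1.trans hTL)))).ne (Functor.card_cj g A)
  obtain ⟨z, hz, hz1⟩ := exists_omega_ne_one hTp hT1
  have hzU : z ∈ U := Setting.omegaT_le T L hz
  obtain ⟨hzT, hzC, hz2⟩ := Setting.omega_spec hz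
  obtain ⟨T', hT'max, hT'T⟩ : ∃ T', T' ∈ maxStraddlingTwoSubgroups L ∧ T' ≤ T := by
    obtain ⟨T₁, hT₁⟩ := exists_maxStraddling (straddling_nonempty hO hLm s hNT)
    obtain ⟨l, hl, hlT⟩ := hTS.exists_cj_le hT₁.1.1 hT₁.1.2.2.1
    exact ⟨_, maxStraddling_cj hl hT₁, hlT⟩
  -- the overgroup of `T'`
  obtain ⟨K', hK'out⟩ := max_straddling_outside hG.charTwo hG.solv hG.zc P hMJ' hT'max
  obtain ⟨L', hL'm, hK'J', -, -, hov'⟩ := outside_overgroup hG P hMJ' hT'max hK'out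
  obtain ⟨⟨hK'c, -⟩, hK'L, -⟩ := hK'out
  have s' := setting_of hG.solv hG.zc hov'
  have d' := data_of_isJComponent hT'max.1.1 hK'c
  have hK'L' : K' ≤ L' := le_sup_left.trans hK'J'
  obtain ⟨j', η', v', hinfo⟩ := s'.exists_info d' hK'L'
  set R := pCoreOf 2 L' with hRdef
  set Q' := pCoreOf 2 K' with hQ'def
  have hRT' : R ≤ T' := s'.core_le
  have hRL : R ≤ L := (hRT'.trans hT'T).trans hTL
  have hT'S := sylowTwo_iff.1 hov'.1
  have hTL' : T ⊓ L' ≤ T' := (hT'S.eq_of_le (hTp.to_le inf_le_left) inf_le_right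
    (le_inf hT'T hov'.1.1)).ge
  have hNR : normalizer (R : Set G) = L' := normalizer_core_eq hL'm
  have hQ'R : Q' ≤ R := hinfo.core
  have hQ'n : K' ⊔ thompsonSubgroupOf 2 T' ≤ normalizer (Q' : Set G) :=
    d'.sup_le_normalizer.trans (normalizer_le_normalizer_pCoreOf 2 K')
  obtain ⟨y, hy, hyQ⟩ := d'.exists_mem_not_core
  have hyL : y ∉ L := fun h => hK'L (d'.le_of_core_le (hQ'R.trans hRL) hy hyQ h)
  have hy3 : y ^ 3 ∈ Q' := by
    have hQnK : (Q'.subgroupOf K').Normal := (normal_subgroupOf_iff_le_normalizer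
      (Functor.pCoreOf_le 2 K')).2 (le_sup_left.trans hQ'n)
    have h3 := pow_index_mem (H := Q'.subgroupOf K') (⟨y, hy⟩ : K')
    rwa [show (Q'.subgroupOf K').index = 3 from d'.three] at h3
  have hy2L : y ^ 2 ∉ L := fun h => hyL (by
    have e : y = (y ^ 2) * (y ^ 2) * (y ^ 3)⁻¹ := by group
    rw [e]
    exact mul_mem (mul_mem h h) (inv_mem (hRL (hQ'R hy3))))
  have hyR : y ∈ normalizer (R : Set G) := Functor.le_normalizer_pCoreOf 2 L' (hK'L' hy)
  have hcases : ∀ k ∈ K', k ∈ Q' ∨ k * y⁻¹ ∈ Q' ∨ k * y ∈ Q' := by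
    intro k hk
    have hn : zpowers y ≤ normalizer (Q' : Set G) :=
      zpowers_le.mpr (hQ'n (mem_sup_left hy))
    have hk' : k ∈ zpowers y ⊔ Q' :=
      d'.le_of_core_le (X := zpowers y ⊔ Q') le_sup_right hy hyQ (mem_sup_left (mem_zpowers y)) hk
    obtain ⟨_, ⟨i, rfl⟩, q, hq, rfl⟩ := (Solvable.mem_sup_of_le_normalizer hn).mp hk'
    have h3 : (y ^ (3 : ℤ)) ∈ Q' := by exact_mod_cast hy3
    have e : y ^ i * q = (y ^ (i % 3) * ((y ^ (3 : ℤ)) ^ (i / 3) * q) * (y ^ (i % 3))⁻¹) *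
        y ^ (i % 3) := by
      rw [← zpow_mul, inv_mul_cancel_right, ← mul_assoc, ← zpow_add, Int.emod_add_mul_ediv]
    set q' := y ^ (i % 3) * ((y ^ (3 : ℤ)) ^ (i / 3) * q) * (y ^ (i % 3))⁻¹
    have hq' : q' ∈ Q' := (mem_normalizer_iff.mp (hn (zpow_mem (mem_zpowers y) _)) _).mp
      (mul_mem (zpow_mem h3 _) hq)
    show y ^ i * q ∈ Q' ∨ y ^ i * q * y⁻¹ ∈ Q' ∨ y ^ i * q * y ∈ Q'
    rw [e]
    rcases (show i % 3 = 0 ∨ i % 3 = 1 ∨ i % 3 = 2 by omega) with h | h | h <;> rw [h]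
    · left; simpa using hq'
    · right; left; simpa [mul_assoc] using hq'
    · right; right
      rw [mul_assoc, ← zpow_add_one]
      exact mul_mem hq' (by simpa using h3)
  -- an element inverting `y`
  obtain ⟨A', hA', a, haA, hay⟩ : ∃ A' ∈ Thompson.maxIn 2 T', ∃ a ∈ A', a * y * a⁻¹ * y⁻¹ ∉ Q' := by
    by_contra hno
    simp only [not_exists, not_and, not_not] at hno
    let Jc : Subgroup G :=
      { carrier := {j | j ∈ K' ⊔ thompsonSubgroupOf 2 T' ∧ j * y * j⁻¹ * y⁻¹ ∈ Q'}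
        one_mem' := ⟨one_mem _, by simp⟩
        mul_mem' := fun {g h} hg hh => ⟨mul_mem hg.1 hh.1, by
          rw [show g * h * y * (g * h)⁻¹ * y⁻¹ =
            (g * (h * y * h⁻¹ * y⁻¹) * g⁻¹) * (g * y * g⁻¹ * y⁻¹) by group]
          exact mul_mem ((mem_normalizer_iff.mp (hQ'n hg.1) _).mp hh.2) hg.2⟩
        inv_mem' := fun {g} hg => ⟨inv_mem hg.1, by
          rw [show g⁻¹ * y * g⁻¹⁻¹ * y⁻¹ = g⁻¹ * (g * y * g⁻¹ * y⁻¹)⁻¹ * g⁻¹⁻¹ by group]
          exact (mem_normalizer_iff.mp (hQ'n (inv_mem hg.1)) _).mp (inv_mem hg.2)⟩ }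
    have hJc : thompsonSubgroupOf 2 T' ≤ Jc :=
      (Thompson.thompsonSubgroupOf_eq (p := 2) T').le.trans (sSup_le fun C hC b hb =>
        ⟨mem_sup_right (maxIn_le_thompson hC hb), hno C hC b hb⟩)
    have hKQ : K' ≤ Q' := (le_of_eq d'.comm.symm).trans (commutator_le.mpr fun k hk j hj => by
      obtain ⟨-, hc⟩ := hJc hj
      have hjn := hQ'n (mem_sup_right hj)
      have hc2 : y * j * y⁻¹ * j⁻¹ ∈ Q' := by
        simpa [mul_assoc] using inv_mem hc
      rw [commutatorElement_def]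
      have hKn : ∀ q ∈ Q', q * j * q⁻¹ * j⁻¹ ∈ Q' := fun q hq => by
        rw [show q * j * q⁻¹ * j⁻¹ = q * (j * q⁻¹ * j⁻¹) by group]
        exact mul_mem hq ((mem_normalizer_iff.mp hjn _).mp (inv_mem hq))
      rcases hcases k hk with h | h | h
      · exact hKn k h
      · rw [show k * j * k⁻¹ * j⁻¹ = (k * y⁻¹) * (y * j * y⁻¹ * j⁻¹) * (k * y⁻¹)⁻¹ *
          ((k * y⁻¹) * j * (k * y⁻¹)⁻¹ * j⁻¹) by group]
        exact mul_mem (mul_mem (mul_mem h hc2) (inv_mem h)) (hKn _ h)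
      · rw [show k * j * k⁻¹ * j⁻¹ = (k * y) * (y⁻¹ * (y * j * y⁻¹ * j⁻¹)⁻¹ * y⁻¹⁻¹) * (k * y)⁻¹ *
          ((k * y) * j * (k * y)⁻¹ * j⁻¹) by group]
        refine mul_mem (mul_mem (mul_mem h ?_) (inv_mem h)) (hKn _ h)
        exact (mem_normalizer_iff.mp (hQ'n (inv_mem (mem_sup_left hy))) _).mp (inv_mem hc2))
    have h3 := relIndex_eq_one.mpr hKQ
    rw [d'.three] at h3
    omega
  have hA'J : A' ≤ thompsonSubgroupOf 2 T' := maxIn_le_thompson hA'
  have hbK : ∀ b ∈ A', b ∈ normalizer (K' : Set G) := fun b hb => d'.le_normalizer (hA'J hb)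
  have hbQ : ∀ b ∈ A', b ∈ normalizer (Q' : Set G) := fun b hb => hQ'n (mem_sup_right (hA'J hb))
  have hbR : ∀ b ∈ A', b ∈ normalizer (R : Set G) := fun b hb =>
    Functor.le_normalizer_pCoreOf 2 L' (hov'.1.1 (hA'.1 hb))
  have hdi : ∀ b ∈ A', b * y * b⁻¹ * y⁻¹ ∈ Q' ∨ b * y * b⁻¹ * y ∈ Q' := by
    intro b hb
    rcases hcases _ ((mem_normalizer_iff.mp (hbK b hb) y).mp hy) with h | h | h
    · exact absurd ((mem_normalizer_iff.mp (hbQ b hb) y).mpr h) hyQ
    · exact Or.inl h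
    · exact Or.inr h
  have hainv : a * y * a⁻¹ * y ∈ Q' := (hdi a haA).resolve_left hay
  let A₁ : Subgroup G :=
    { carrier := {b | b ∈ A' ∧ b * y * b⁻¹ * y⁻¹ ∈ Q'}
      one_mem' := ⟨one_mem _, by simp⟩
      mul_mem' := fun {g h} hg hh => ⟨mul_mem hg.1 hh.1, by
        rw [show g * h * y * (g * h)⁻¹ * y⁻¹ =
          (g * (h * y * h⁻¹ * y⁻¹) * g⁻¹) * (g * y * g⁻¹ * y⁻¹) by group]
        exact mul_mem ((mem_normalizer_iff.mp (hbQ g hg.1) _).mp hh.2) hg.2⟩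
      inv_mem' := fun {g} hg => ⟨inv_mem hg.1, by
        rw [show g⁻¹ * y * g⁻¹⁻¹ * y⁻¹ = g⁻¹ * (g * y * g⁻¹ * y⁻¹)⁻¹ * g⁻¹⁻¹ by group]
        exact (mem_normalizer_iff.mp (hbQ _ (inv_mem hg.1)) _).mp (inv_mem hg.2)⟩ }
  have hnotboth : ∀ x : G, x * y⁻¹ ∈ Q' → x * y ∈ Q' → False := by
    intro x h1 h2
    have h4 := mul_mem (inv_mem h1) h2
    rw [show (x * y⁻¹)⁻¹ * (x * y) = y ^ 2 by rw [pow_two]; group] at h4
    exact hyQ (by
      have e : y = (y ^ 2) * (y ^ 2) * (y ^ 3)⁻¹ := by group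
      rw [e]
      exact mul_mem (mul_mem h4 h4) (inv_mem hy3))
  have hidx : A₁.relIndex A' = 2 := by
    rw [relIndex, index_eq_two_iff]
    refine ⟨⟨a, haA⟩, fun b => ?_⟩
    rw [mem_subgroupOf, mem_subgroupOf]
    show Xor ((b : G) * a ∈ A₁) ((b : G) ∈ A₁)
    have hconjb : ∀ q ∈ Q', (b : G) * q * (b : G)⁻¹ ∈ Q' := fun q hq =>
      (mem_normalizer_iff.mp (hbQ b b.2) q).mp hq
    rcases hdi b b.2 with h | h
    · refine Or.inr ⟨⟨b.2, h⟩, fun hba => hnotboth _ hba.2 ?_⟩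
      rw [show (b : G) * a * y * ((b : G) * a)⁻¹ * y
        = ((b : G) * (a * y * a⁻¹ * y) * (b : G)⁻¹) * (y⁻¹ * ((b : G) * y * (b : G)⁻¹ * y⁻¹) * y⁻¹⁻¹)⁻¹ by group]
      exact mul_mem (hconjb _ hainv)
        (inv_mem ((mem_normalizer_iff.mp (hQ'n (inv_mem (mem_sup_left hy))) _).mp h))
    · refine Or.inl ⟨⟨mul_mem b.2 haA, ?_⟩, fun hb => hnotboth _ hb.2 h⟩
      show (b : G) * a * y * ((b : G) * a)⁻¹ * y⁻¹ ∈ Q'
      rw [show (b : G) * a * y * ((b : G) * a)⁻¹ * y⁻¹ =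
        ((b : G) * (a * y * a⁻¹ * y) * (b : G)⁻¹) *
          (y * ((b : G) * y * (b : G)⁻¹ * y) * y⁻¹)⁻¹ by group]
      exact mul_mem (hconjb _ hainv)
        (inv_mem ((mem_normalizer_iff.mp (hQ'n (mem_sup_left hy)) _).mp h))
  -- conjugates of `U` meeting `R`
  have hLU : ∀ l ∈ L, ∀ h : G, (h * l) ⋆ U = h ⋆ U := fun l hl h => by
    rw [← Functor.cj_cj, Functor.mem_normalizer_iff_cj.1 (hUn hl)]
  have hRn : ∀ h ∈ normalizer (R : Set G), R ≤ normalizer ((h ⋆ U : Subgroup G) : Set G) := by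
    intro h hh r hr
    rw [Functor.mem_normalizer_iff_cj, Functor.cj_cj, show r * h = h * (h⁻¹ * r * h) by group]
    refine hLU _ (hRL ?_) h
    simpa using (mem_normalizer_iff.mp (inv_mem hh) r).mp hr
  have haU : a ⋆ (y ⋆ U) = y⁻¹ ⋆ U := by
    have haL : a ∈ L := (hA'.1.trans hT'T).trans hTL haA
    rw [Functor.cj_cj, show a * y = y⁻¹ * ((y * (a * y * a⁻¹ * y) * y⁻¹) * a) by group]
    refine hLU _ (mul_mem (hRL (hQ'R ?_)) haL) _
    exact (mem_normalizer_iff.mp (hQ'n (mem_sup_left hy)) _).mp hainv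
  set U₁ := (y ⋆ U) ⊓ R with hU₁
  have hU₂ : a ⋆ U₁ = (y⁻¹ ⋆ U) ⊓ R := by
    rw [hU₁, Functor.cj_inf, haU, Functor.mem_normalizer_iff_cj.1 (hbR a haA)]
  have hdis' : U₁ ⊓ (a ⋆ U₁) = ⊥ := by
    rw [hU₂, eq_bot_iff]
    rintro x ⟨⟨hx1, -⟩, hx2, -⟩
    replace hx1 := Functor.mem_cj.mp hx1
    replace hx2 := Functor.mem_cj.mp hx2
    rw [inv_inv] at hx2
    have hxx := hTI (y ^ 2) hy2L (y⁻¹ * x * y) hx1 (by
      rw [show y ^ 2 * (y⁻¹ * x * y) * (y ^ 2)⁻¹ = y * x * y⁻¹ by rw [pow_two]; group]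
      exact hx2)
    rw [mem_bot]
    calc x = y * (y⁻¹ * x * y) * y⁻¹ := by group
      _ = 1 := by rw [hxx]; group
  have hyR' : y⁻¹ ∈ normalizer (R : Set G) := inv_mem hyR
  have hc : U₁ ≤ centralizer ((a ⋆ U₁ : Subgroup G) : Set G) := by
    intro u hu
    refine mem_centralizer_iff.mpr fun w hw => ?_
    have hw' := hw
    rw [SetLike.mem_coe, hU₂] at hw'
    have h1 : w * u * w⁻¹ ∈ U₁ := ⟨(mem_normalizer_iff.mp (hRn y hyR hw'.2) u).mp hu.1,
      R.mul_mem (R.mul_mem hw'.2 hu.2) (R.inv_mem hw'.2)⟩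
    have h2 : u * w⁻¹ * u⁻¹ ∈ a ⋆ U₁ := by
      rw [hU₂]
      exact ⟨(mem_normalizer_iff.mp (hRn y⁻¹ hyR' hu.2) _).mp (inv_mem hw'.1),
        R.mul_mem (R.mul_mem hu.2 (R.inv_mem hw'.2)) (R.inv_mem hu.2)⟩
    have h3 : w * u * w⁻¹ * u⁻¹ ∈ U₁ ⊓ (a ⋆ U₁) := by
      refine ⟨U₁.mul_mem h1 (U₁.inv_mem hu), ?_⟩
      rw [show w * u * w⁻¹ * u⁻¹ = w * (u * w⁻¹ * u⁻¹) by group]
      exact (a ⋆ U₁).mul_mem hw h2
    rw [hdis', mem_bot, mul_inv_eq_one, mul_inv_eq_iff_eq_mul] at h3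
    exact h3
  have hU₁card : Nat.card U₁ ≤ 2 := by
    refine card_le_two (Thompson.elab_mono (Thompson.elab_map _ hUe) inf_le_left) hA'.2.1
      (fun b (hb : b ∈ A' ∧ b * y * b⁻¹ * y⁻¹ ∈ Q') => hb.1) hidx haA (fun b hb => ?_) hdis' hc fun B hB hBe => hA'.2.2 B (hB.trans ?_) hBe
    · replace hb : b ∈ A' ∧ b * y * b⁻¹ * y⁻¹ ∈ Q' := hb
      have hbL : b ∈ L := (hA'.1.trans hT'T).trans hTL hb.1
      refine Functor.mem_normalizer_iff_cj.2 ?_
      rw [hU₁, Functor.cj_inf, Functor.mem_normalizer_iff_cj.1 (hbR b hb.1), Functor.cj_cj,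
        show b * y = y * ((y⁻¹ * (b * y * b⁻¹ * y⁻¹) * y⁻¹⁻¹) * b) by group,
        hLU _ (mul_mem (hRL (hQ'R ((mem_normalizer_iff.mp (hQ'n (inv_mem (mem_sup_left hy))) _).mp
          hb.2))) hbL)]
    · refine sup_le hA'.1 (sup_le (inf_le_right.trans hRT') ?_)
      rw [hU₂]; exact inf_le_right.trans hRT'
  have hUR2 : Nat.card ↥(U ⊓ R) ≤ 2 := by
    rw [← Functor.card_cj y (U ⊓ R), Functor.cj_inf, Functor.mem_normalizer_iff_cj.1 hyR]
    exact hU₁card
  have hzR : z ∈ R := hov'.2.2 (mem_centralizer_iff.mpr fun r hr =>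
    mem_centralizer_iff.mp hzC r (hT'T (hRT' hr)))
  have hUR : ∀ x ∈ U ⊓ R, x = 1 ∨ x = z := by
    intro x hx
    have he : zpowers z = U ⊓ R := eq_of_le_of_card_ge (zpowers_le.mpr ⟨hzU, hzR⟩) (by
      rw [Nat.card_zpowers, orderOf_eq_prime hz2 hz1]; exact hUR2)
    rw [← he] at hx
    obtain ⟨i, rfl⟩ := mem_zpowers_iff.mp hx
    rcases Int.even_or_odd i with ⟨m, rfl⟩ | ⟨m, rfl⟩
    · left
      rw [← two_mul, zpow_mul, show z ^ (2 : ℤ) = 1 by exact_mod_cast hz2, one_zpow]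
    · right
      rw [zpow_add, zpow_mul, show z ^ (2 : ℤ) = 1 by exact_mod_cast hz2, one_zpow, one_mul, zpow_one]
  -- the module of `L'`
  set E := omegaCenterOf R with hEdef
  have hEsp : ∀ e ∈ E, e ∈ R ∧ e ∈ centralizer (R : Set G) ∧ e ^ 2 = 1 := fun e he =>
    Setting.omega_spec he
  have hmodE : modV T' L' ≤ E := fun x hx =>
    Thompson.mem_omegaOne ⟨(s'.omega_le hx).1, (s'.omega_le hx).2.1⟩ (s'.omega_le hx).2.2
  have hWE : wOf K' ≤ E := (s'.wOf_le_modV d' hK'L').trans hmodE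
  have hzE : z ∈ E := Thompson.mem_omegaOne ⟨hzR, mem_centralizer_iff.mpr fun r hr =>
    mem_centralizer_iff.mp hzC r (hT'T (hRT' hr))⟩ hz2
  have hzK : ¬ K' ≤ centralizer ({z} : Set G) := fun h => hK'L (h.trans (hUC z hzU hz1))
  have hEcomm : ∀ e ∈ E, ∀ f ∈ E, e * f = f * e := fun e he f hf =>
    mem_centralizer_iff.mp (hEsp f hf).2.1 e (hEsp e he).1
  have hEn : ∀ g ∈ L', ∀ e ∈ E, g * e * g⁻¹ ∈ E := fun g hg e he =>
    (mem_normalizer_iff.mp (normalizer_le_normalizer_omegaCenterOf R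
      (Functor.le_normalizer_pCoreOf 2 L' hg)) e).mp he
  have hKR : K' ⊓ R ≤ Q' := Functor.le_pCoreOf inf_le_left (fun k hk =>
    LocalB.mem_normalizer_of_conj_le fun u hu => ⟨K'.mul_mem (K'.mul_mem hk hu.1) (K'.inv_mem hk),
      (mem_normalizer_iff.mp (Functor.le_normalizer_pCoreOf 2 L' (hK'L' hk)) u).mp hu.2⟩)
    ((Functor.isPGroup_pCoreOf L').to_le inf_le_right)
  -- decomposition of `E`
  have hdec : ∀ e ∈ E, ∃ f ∈ E, K' ≤ centralizer ({f} : Set G) ∧ ∃ w ∈ wOf K', e = f * w := by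
    intro e he
    set e₁ := y * e * y⁻¹ with he₁
    set e₂ := y * e₁ * y⁻¹ with he₂
    have he₁E : e₁ ∈ E := hEn y (hK'L' hy) e he
    have he₂E : e₂ ∈ E := hEn y (hK'L' hy) e₁ he₁E
    have hy3c : y * e₂ * y⁻¹ = e := by
      have h1 := mem_centralizer_iff.mp (hEsp e he).2.1 (y ^ 3) (hQ'R hy3)
      calc y * e₂ * y⁻¹ = y ^ 3 * e * (y ^ 3)⁻¹ := by rw [he₂, he₁, pow_succ, pow_two]; group
        _ = e := by rw [h1, mul_inv_cancel_right]
    -- products of neighbours lie in `Ω₁(Z(Q'))`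
    have hpair : ∀ x ∈ E, x * (y * x * y⁻¹) ∈ omegaCenterOf Q' := by
      intro x hx
      have hxy : y * x * y⁻¹ ∈ E := hEn y (hK'L' hy) x hx
      have hp : x * (y * x * y⁻¹) ∈ E := mul_mem hx hxy
      have hK : x * (y * x * y⁻¹) ∈ K' := by
        rw [show x * (y * x * y⁻¹) = (x * y * x⁻¹) * (x * x) * y⁻¹ by group,
          show x * x = 1 by rw [← pow_two]; exact (hEsp x hx).2.2, mul_one]
        exact mul_mem ((mem_normalizer_iff.mp (hinfo.normal (hEsp x hx).1) y).mp hy) (inv_mem hy)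
      exact Thompson.mem_omegaOne ⟨hKR ⟨hK, (hEsp _ hp).1⟩, mem_centralizer_iff.mpr fun q hq =>
        mem_centralizer_iff.mp (hEsp _ hp).2.1 q (hQ'R hq)⟩ (hEsp _ hp).2.2
    have hsqE : ∀ x ∈ E, x * x = 1 := fun x hx => by rw [← pow_two]; exact (hEsp x hx).2.2
    have hskip : ∀ x ∈ E, x * (y * (y * x * y⁻¹) * y⁻¹) ∈ wOf K' := by
      intro x hx
      have hxy : y * x * y⁻¹ ∈ E := hEn y (hK'L' hy) x hx
      have h := commutator_mem_commutator (hpair x hx) hy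
      have hinv : (x * (y * x * y⁻¹))⁻¹ = x * (y * x * y⁻¹) :=
        inv_eq_of_mul_eq_one_right (hsqE _ (mul_mem hx hxy))
      rw [commutatorElement_def, hinv] at h
      rw [show x * (y * x * y⁻¹) * y * (x * (y * x * y⁻¹)) * y⁻¹ = x * ((y * x * y⁻¹) * (y * x * y⁻¹)) *
        (y * (y * x * y⁻¹) * y⁻¹) by group, hsqE _ hxy, mul_one] at h
      exact h
    have hA0 : e * e₂ ∈ wOf K' := hskip e he
    have hB0 : e₁ * e ∈ wOf K' := by
      have := hskip e₁ he₁E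
      rwa [← he₂, hy3c] at this
    refine ⟨e * e₁ * e₂, mul_mem (mul_mem he he₁E) he₂E, ?_, e₁ * e₂, ?_, ?_⟩
    · refine d'.le_of_core_le (fun q hq => mem_centralizer_singleton_iff.mpr
        (mem_centralizer_iff.mp (hEsp _ (mul_mem (mul_mem he he₁E) he₂E)).2.1 q (hQ'R hq))) hy hyQ
        (mem_centralizer_singleton_iff.mpr (mul_inv_eq_iff_eq_mul.mp ?_))
      calc y * (e * e₁ * e₂) * y⁻¹ = (y * e * y⁻¹) * (y * e₁ * y⁻¹) * (y * e₂ * y⁻¹) := by group
        _ = e₁ * e₂ * e := by rw [← he₁, ← he₂, hy3c]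
        _ = e * e₁ * e₂ := by rw [← hEcomm e he _ (mul_mem he₁E he₂E)]; group
    · rw [show e₁ * e₂ = e₁ * (e * e) * e₂ by rw [hsqE e he, mul_one],
        show e₁ * (e * e) * e₂ = e₁ * e * (e * e₂) by group]
      exact mul_mem hB0 hA0
    · rw [show e * e₁ * e₂ * (e₁ * e₂) = e * ((e₁ * e₂) * (e₁ * e₂)) by group,
        hsqE _ (mul_mem he₁E he₂E), mul_one]
  -- elements of `U` normalizing `R`
  have hkey : ∀ x ∈ U, x ∈ normalizer (R : Set G) → x ∉ R →
      z ∈ wOf K' ∧ ∀ w ∈ wOf K', w ≠ 1 → w ≠ z → x * w ≠ w * x := by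
    intro x hxU hxN hxR
    have hxL' : x ∈ L' := hNR ▸ hxN
    have hxT' : x ∈ T' := hTL' ⟨hUT hxU, hxL'⟩
    have hcom : ∀ e ∈ E, x * e * x⁻¹ * e⁻¹ = 1 ∨ x * e * x⁻¹ * e⁻¹ = z := fun e he => by
      refine hUR _ ⟨?_, (hEsp _ (mul_mem (hEn x hxL' e he) (inv_mem he))).1⟩
      rw [show x * e * x⁻¹ * e⁻¹ = x * (e * x⁻¹ * e⁻¹) by group]
      exact mul_mem hxU ((mem_normalizer_iff.mp (hUn (hRL (hEsp e he).1)) _).mp (inv_mem hxU))
    have hxnc : ¬ ∀ e ∈ E, x * e * x⁻¹ = e := by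
      intro h
      apply hxR
      have hxk : x ∈ kerV T' L' := ⟨hxL', mem_centralizer_iff.mpr fun e he =>
        (mul_inv_eq_iff_eq_mul.mp (h e (hmodE he))).symm⟩
      have hzp : zpowers x ≤ T' := zpowers_le.mpr hxT'
      exact s'.mem_core_of_isPGroup (hT'max.1.1.to_le hzp) (zpowers_le.mpr hxk) (mem_zpowers x)
    -- `x` normalizes `K'`
    have hxK : x ∈ normalizer (K' : Set G) := by
      obtain ⟨w, hw, hw1, hxw⟩ : ∃ w ∈ wOf K', w ≠ 1 ∧ x * w * x⁻¹ = w := by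
        obtain ⟨p, hp, hp1, -⟩ := d'.exists_other 1
        obtain ⟨r, hr, hr1, hrp⟩ := d'.exists_other p
        rcases hcom p (hWE hp) with h | h
        · exact ⟨p, hp, hp1, mul_inv_eq_one.mp h⟩
        rcases hcom r (hWE hr) with h' | h'
        · exact ⟨r, hr, hr1, mul_inv_eq_one.mp h'⟩
        refine ⟨p * r, mul_mem hp hr, fun e => hrp (mul_left_cancel ((e.trans (d'.sq p hp).symm))), ?_⟩
        have h₁ : x * p * x⁻¹ = z * p := mul_inv_eq_iff_eq_mul.mp h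
        have h₂ : x * r * x⁻¹ = z * r := mul_inv_eq_iff_eq_mul.mp h'
        calc x * (p * r) * x⁻¹ = (x * p * x⁻¹) * (x * r * x⁻¹) := by group
          _ = z * (p * z) * r := by rw [h₁, h₂]; group
          _ = z * z * (p * r) := by rw [hEcomm p (hWE hp) z hzE]; group
          _ = p * r := by rw [show z * z = 1 by rw [← pow_two]; exact hz2, one_mul]
      exact s'.mem_normalizer_of_w d' hK'L' hxL' hw hw1 (by rw [hxw]; exact hw)
    have hxW : ∀ w ∈ wOf K', x * w * x⁻¹ ∈ wOf K' := fun w hw =>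
      (mem_normalizer_iff.mp (normalizer_le_normalizer_wOf K' hxK) w).mp hw
    have hfixF : ∀ f ∈ E, K' ≤ centralizer ({f} : Set G) → x * f * x⁻¹ = f := by
      intro f hf hKf
      rcases hcom f hf with h | h
      · exact mul_inv_eq_one.mp h
      exfalso
      refine hzK fun k hk => mem_centralizer_singleton_iff.mpr ?_
      have hk' : x⁻¹ * k * x ∈ K' := by simpa using (mem_normalizer_iff.mp (inv_mem hxK) k).mp hk
      have h1 : Commute k (x * f * x⁻¹) := by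
        have h0 := mem_centralizer_singleton_iff.mp (hKf hk')
        show k * (x * f * x⁻¹) = x * f * x⁻¹ * k
        calc k * (x * f * x⁻¹) = x * ((x⁻¹ * k * x) * f) * x⁻¹ := by group
          _ = _ := by rw [h0]; group
      have h2 : Commute k (x * f * x⁻¹ * f⁻¹) :=
        h1.mul_right (show Commute k f from mem_centralizer_singleton_iff.mp (hKf hk)).inv_right
      rw [h] at h2
      exact h2.eq
    have hmove : ∃ w ∈ wOf K', x * w * x⁻¹ ≠ w := by
      by_contra hno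
      simp only [not_exists, not_and, not_not] at hno
      refine hxnc fun e he => ?_
      obtain ⟨f, hf, hKf, w, hw, rfl⟩ := hdec e he
      calc x * (f * w) * x⁻¹ = (x * f * x⁻¹) * (x * w * x⁻¹) := by group
        _ = f * w := by rw [hfixF f hf hKf, hno w hw]
    obtain ⟨w₀, hw₀, hw₀x⟩ := hmove
    have hzW : z ∈ wOf K' := by
      rcases hcom w₀ (hWE hw₀) with h | h
      · exact absurd (mul_inv_eq_one.mp h) hw₀x
      · rw [← h]; exact mul_mem (hxW w₀ hw₀) (inv_mem hw₀)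
    refine ⟨hzW, fun w hw hw1 hwz hc => hw₀x ?_⟩
    have hzx : x * z * x⁻¹ = z :=
      mul_inv_eq_iff_eq_mul.mpr (mem_centralizer_iff.mp hzC x (hUT hxU))
    have hwx : x * w * x⁻¹ = w := mul_inv_eq_iff_eq_mul.mpr hc
    rcases d'.mem_w_cases hzW hw hz1 hw1 (Ne.symm hwz) hw₀ with e | e | e | e <;> rw [e]
    · group
    · exact hzx
    · exact hwx
    · calc x * (z * w) * x⁻¹ = (x * z * x⁻¹) * (x * w * x⁻¹) := by group
        _ = z * w := by rw [hzx, hwx]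
  -- a first element of `U` normalizing `R`
  have hgrow : ∀ C : Subgroup G, C ≤ U → R ≤ normalizer (C : Set G) → ¬ C ≤ R →
      ∃ x ∈ C, x ∈ normalizer (R : Set G) ∧ x ∉ R := by
    intro C hCU hRC hCR
    have hCRT : C ⊔ R ≤ T := sup_le (hCU.trans hUT) (hRT'.trans hT'T)
    obtain ⟨u, hu, hun, huR⟩ := LocalB.exists_mem_normalizer_not_mem (hTp.to_le hCRT)
      (le_sup_right : R ≤ C ⊔ R) (fun h => hCR (le_sup_left.trans h.ge))
    rw [sup_comm] at hu
    obtain ⟨r, hr, c, hc, rfl⟩ := (Solvable.mem_sup_of_le_normalizer hRC).mp hu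
    refine ⟨c, hc, ?_, fun h => huR (mul_mem hr h)⟩
    simpa using mul_mem (inv_mem (Subgroup.le_normalizer hr)) hun
  obtain ⟨x₀, hx₀U, hx₀N, hx₀R⟩ := hgrow U le_rfl (hRL.trans hUn) fun h => by
    have h1 : Nat.card U ≤ 2 :=
      (Nat.card_le_card_of_injective _ (inclusion_injective (le_inf le_rfl h))).trans hUR2
    omega
  obtain ⟨hzW, -⟩ := hkey x₀ hx₀U hx₀N hx₀R
  obtain ⟨w, hw, hw1, hwz⟩ := d'.exists_other z
  have hwR : w ∈ R := (hEsp w (hWE hw)).1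
  have hww : w * w = 1 := d'.sq w hw
  set C := U ⊓ centralizer ({w} : Set G) with hCdef
  have hCR : C ≤ R := by
    by_contra hCR
    have hRC : R ≤ normalizer (C : Set G) := fun r hr => LocalB.mem_normalizer_of_conj_le fun c hc => by
      have hrw : Commute r w := mem_centralizer_iff.mp (hEsp w (hWE hw)).2.1 r hr
      have hcw : Commute c w := mem_centralizer_singleton_iff.mp hc.2
      exact ⟨(mem_normalizer_iff.mp (hUn (hRL hr)) c).mp hc.1,
        mem_centralizer_singleton_iff.mpr ((hrw.mul_left hcw).mul_left hrw.inv_left).eq⟩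
    obtain ⟨x, hx, hxN, hxR⟩ := hgrow C inf_le_left hRC hCR
    exact (hkey x hx.1 hxN hxR).2 w hw hw1 hwz (mem_centralizer_singleton_iff.mp hx.2)
  have hC2 : Nat.card C ≤ 2 :=
    (Nat.card_le_card_of_injective _ (inclusion_injective (le_inf inf_le_left hCR))).trans hUR2
  -- an involution centralizes at least a square root of `U`
  have hwn : w ∈ normalizer (U : Set G) := hUn (hRL hwR)
  let φ : U →* U :=
    { toFun := fun u => ⟨u * (w * u * w⁻¹),
        mul_mem u.2 ((mem_normalizer_iff.mp hwn (u : G)).mp u.2)⟩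
      map_one' := Subtype.ext (by simp)
      map_mul' := fun u v => Subtype.ext (by
        show (u : G) * v * (w * (u * v) * w⁻¹) = u * (w * u * w⁻¹) * (v * (w * v * w⁻¹))
        have h1 : (v : G) * (w * u * w⁻¹) = w * u * w⁻¹ * v :=
          Thompson.elab_commute hUe v.2 ((mem_normalizer_iff.mp hwn (u : G)).mp u.2)
        calc (u : G) * v * (w * (u * v) * w⁻¹) = u * ((v : G) * (w * u * w⁻¹)) * (w * v * w⁻¹) := by group
          _ = _ := by rw [h1]; group) }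
  have hker : Nat.card φ.ker ≤ Nat.card C := by
    refine Nat.card_le_card_of_injective (fun u => ⟨((u : U) : G), (u : U).2,
      mem_centralizer_singleton_iff.mpr ?_⟩)
      fun u v e => Subtype.ext (Subtype.ext (congrArg Subtype.val e :))
    have h1 : ((u : U) : G) * (w * (u : U) * w⁻¹) = 1 := congrArg Subtype.val u.2
    have h2 : w * (u : U) * w⁻¹ = ((u : U) : G) :=
      mul_left_cancel (h1.trans (by rw [← pow_two]; exact (hUe.2 _ (u : U).2).symm))
    exact (mul_inv_eq_iff_eq_mul.mp h2).symm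
  have hrange : Nat.card φ.range ≤ Nat.card C := by
    refine Nat.card_le_card_of_injective (fun u => ⟨((u : U) : G), (u : U).2,
      mem_centralizer_singleton_iff.mpr ?_⟩)
      fun u v e => Subtype.ext (Subtype.ext (congrArg Subtype.val e :))
    obtain ⟨u₀, hu₀⟩ := u.2
    rw [← hu₀]
    show (u₀ : G) * (w * u₀ * w⁻¹) * w = w * ((u₀ : G) * (w * u₀ * w⁻¹))
    have h1 : (u₀ : G) * (w * u₀ * w⁻¹) = w * u₀ * w⁻¹ * u₀ :=
      Thompson.elab_commute hUe u₀.2 ((mem_normalizer_iff.mp hwn (u₀ : G)).mp u₀.2)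
    have hwi : w⁻¹ = w := inv_eq_of_mul_eq_one_right hww
    calc (u₀ : G) * (w * u₀ * w⁻¹) * w = u₀ * w * u₀ := by group
      _ = w * (w⁻¹ * u₀ * w * u₀) := by group
      _ = w * (w * u₀ * w⁻¹ * u₀) := by simp only [hwi]
      _ = _ := by rw [← h1]
  have h5 : Nat.card U ≤ Nat.card C * Nat.card C := by
    rw [← Subgroup.card_mul_index φ.ker, Subgroup.index_ker]
    exact Nat.mul_le_mul hker hrange
  have h6 := h5.trans (Nat.mul_le_mul hC2 hC2)
  omega

end CfsgLib.JComp
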