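import Cfsg.Agent.LocalB.JExists

/-! Maximal straddling 2-subgroups and their components. -/

set_option autoImplicit false
set_option linter.unusedVariables false
set_option linter.unusedSectionVars false

namespace CfsgLib.JComp

open Subgroup Cfsg CfsgLib
open scoped CfsgLib.Functor

variable {G : Type*} [Group G] [Finite G] {T L M : Subgroup G}

theorem maxElemAbelianOrder_eq {T A : Subgroup G} (hA : A ∈ Thompson.maxIn 2 T) :
    maxElemAbelianOrder T = Nat.card A := by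
  have h : ∀ n ∈ (fun B : Subgroup T => Nat.card B) '' maxElementaryAbelianSubgroups 2 T,
      n = Nat.card A := by
    rintro _ ⟨B, hB, rfl⟩
    have hB' : B.map T.subtype ∈ Thompson.maxIn 2 T := by
      rw [← Thompson.map_maxElementaryAbelianSubgroups]; exact ⟨B, hB, rfl⟩
    show Nat.card B = Nat.card A
    rw [← card_map_of_injective (K := B) T.subtype_injective]
    exact le_antisymm (hA.2.2 _ hB'.1 hB'.2.1) (hB'.2.2 _ hA.1 hA.2.1)
  obtain ⟨B, hB⟩ := Thompson.exists_maxE (G := T) (p := 2)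
  have hne : ((fun B : Subgroup T => Nat.card B) '' maxElementaryAbelianSubgroups 2 T).Nonempty :=
    ⟨_, B, hB, rfl⟩
  obtain ⟨n, hn⟩ := hne
  rw [maxElemAbelianOrder,
    Set.eq_singleton_iff_unique_mem.mpr ⟨(h n hn) ▸ hn, h⟩, csSup_singleton]

theorem thompsonSubgroupOf_ne_bot {T : Subgroup G} (hT : IsPGroup 2 T) (hT1 : T ≠ ⊥) :
    thompsonSubgroupOf 2 T ≠ ⊥ := by
  have : Fact (Nat.Prime 2) := ⟨Nat.prime_two⟩
  intro h
  obtain ⟨x, hx, hox⟩ := LocalB.exists_pgroup_of_dvd (LocalB.dvd_card_of_ne_bot hT hT1)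
  obtain ⟨A, hA⟩ := Thompson.exists_maxIn (p := 2) T
  have h1 := hA.2.2 _ (zpowers_le.mpr hx) (Thompson.elab_zpowers (hox ▸ pow_orderOf_eq_one x))
  have hA1 : A = ⊥ := le_bot_iff.mp (h ▸ maxIn_le_thompson hA)
  rw [Nat.card_zpowers, hox, hA1, card_bot] at h1
  omega

/-- A straddling subgroup containing `J(T)` has the same Thompson subgroup and is not larger. -/
theorem straddle_eq (hT : T ∈ maxStraddlingTwoSubgroups M) {T' : Subgroup G}
    (hT' : T' ∈ straddlingTwoSubgroups M) (hJ : thompsonSubgroupOf 2 T ≤ T') :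
    thompsonSubgroupOf 2 T' = thompsonSubgroupOf 2 T ∧ Nat.card T' ≤ Nat.card T := by
  obtain ⟨A, hA⟩ := Thompson.exists_maxIn (p := 2) T
  obtain ⟨B, hB⟩ := Thompson.exists_maxIn (p := 2) T'
  obtain ⟨h1, h2⟩ := hT.2 T' hT'
  rw [maxElemAbelianOrder_eq hA, maxElemAbelianOrder_eq hB] at h1 h2
  have hge := hB.2.2 A ((maxIn_le_thompson hA).trans hJ) hA.2.1
  have heq := le_antisymm h1 hge
  obtain ⟨h3, h4⟩ := h2 heq
  have hle : thompsonSubgroupOf 2 T ≤ thompsonSubgroupOf 2 T' := by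
    rw [Thompson.thompsonSubgroupOf_eq T]
    refine sSup_le fun C hC => maxIn_le_thompson ⟨(maxIn_le_thompson hC).trans hJ, hC.2.1,
      fun D hD hDe => (hB.2.2 D hD hDe).trans ?_⟩
    rw [heq]; exact hC.2.2 A hA.1 hA.2.1
  have hJeq := (eq_of_le_of_card_ge hle h3).symm
  exact ⟨hJeq, h4 (by rw [hJeq])⟩

/-- The normalizer of `J(T)` lies in `M`. -/
theorem normalizer_thompson_le (S : Sylow 2 G) (hMJ : normalizer (thompsonSubgroupOf 2 (S : Subgroup G) : Set G) ≤ M)
    (hT : T ∈ maxStraddlingTwoSubgroups M) :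
    normalizer (thompsonSubgroupOf 2 T : Set G) ≤ M := by
  have : Fact (Nat.Prime 2) := ⟨Nat.prime_two⟩
  obtain ⟨hTp, hT1, hTM, -⟩ := hT.1
  by_contra hNM
  have hloc : IsTwoLocal (normalizer (thompsonSubgroupOf 2 T : Set G)) :=
    ⟨_, hTp.to_le (Thompson.thompsonSubgroupOf_le T), thompsonSubgroupOf_ne_bot hTp hT1, rfl⟩
  obtain ⟨P, hP, hTP⟩ := Functor.exists_sylowIn_ge hTp hTM
  have hTeq : T = P := by
    by_contra hne
    have hlt := Functor.lt_inf_normalizer hP.2.1 (lt_of_le_of_ne hTP hne)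
    set T₁ := P ⊓ normalizer (T : Set G)
    have hT₁ : T₁ ∈ straddlingTwoSubgroups M := ⟨hP.2.1.to_le inf_le_left,
      fun h => hT1 (le_bot_iff.mp (h ▸ hlt.le)), inf_le_left.trans hP.1, _, hloc,
      inf_le_right.trans (Thompson.normalizer_le_normalizer_thompsonSubgroupOf T), hNM⟩
    exact absurd (straddle_eq hT hT₁ ((Thompson.thompsonSubgroupOf_le T).trans hlt.le)).2
      (not_le.mpr (Set.Finite.card_lt_card (Set.toFinite _) hlt))
  have hSM : (S : Subgroup G) ≤ M := (Subgroup.le_normalizer.trans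
    (Thompson.normalizer_le_normalizer_thompsonSubgroupOf _)).trans hMJ
  have hSyl : Functor.IsSylowIn 2 (S : Subgroup G) M :=
    (Functor.isSylowIn_top S).of_le hSM le_top
  obtain ⟨m, hm, hmT⟩ := (hTeq ▸ hP : Functor.IsSylowIn 2 T M).exists_cj_eq hSyl
  apply hNM
  rw [← hmT, ← Thompson.map_thompsonSubgroupOf, ← Functor.cj_normalizer,
    ← Functor.cj_eq_self_of_mem (H := M) hm]
  exact Functor.cj_mono m hMJ

/-- The main statement on overgroups of `J(T)`. -/
theorem overgroup_spec (hL : IsCharacteristicTwoType G) (S : Sylow 2 G)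
    (hMJ : normalizer (thompsonSubgroupOf 2 (S : Subgroup G) : Set G) ≤ M)
    (hT : T ∈ maxStraddlingTwoSubgroups M) (hL2 : IsTwoLocal L) (hLM : ¬ L ≤ M) {T₀ : Subgroup G}
    (hT₀ : IsSylowTwoIn T₀ L) (hJ : thompsonSubgroupOf 2 T ≤ T₀) :
    thompsonSubgroupOf 2 T = thompsonSubgroupOf 2 T₀ ∧ T₀ ∈ straddlingTwoSubgroups M ∧
      L ∈ jOvergroups T₀ := by
  have : Fact (Nat.Prime 2) := ⟨Nat.prime_two⟩
  obtain ⟨hTp, hT1, hTM, -⟩ := hT.1
  have hN := normalizer_thompson_le S hMJ hT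
  have hJ1 := thompsonSubgroupOf_ne_bot hTp hT1
  set T₁ := T₀ ⊓ M
  have hJT₁ : thompsonSubgroupOf 2 T ≤ T₁ := le_inf hJ ((Thompson.thompsonSubgroupOf_le T).trans hTM)
  have hT₁ : T₁ ∈ straddlingTwoSubgroups M := ⟨hT₀.2.1.to_le inf_le_left,
    fun h => hJ1 (le_bot_iff.mp (h ▸ hJT₁)), inf_le_right, L, hL2, inf_le_left.trans hT₀.1, hLM⟩
  obtain ⟨hJeq, -⟩ := straddle_eq hT hT₁ hJT₁
  have hT₀M : T₀ ≤ M := by
    by_contra hne
    obtain ⟨u, hu, hun, huT⟩ := LocalB.exists_mem_normalizer_not_mem hT₀.2.1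
      (inf_le_left : T₁ ≤ T₀) (fun h => hne (h ▸ inf_le_right))
    refine huT ⟨hu, hN ?_⟩
    rw [← hJeq]
    exact Thompson.normalizer_le_normalizer_thompsonSubgroupOf T₁ hun
  have hT₁₀ : T₁ = T₀ := inf_eq_left.mpr hT₀M
  rw [hT₁₀] at hT₁ hJeq
  refine ⟨hJeq.symm, hT₁, hT₀, fun hle => ?_, charTwo_centralizer_le hL hL2⟩
  have hXT : pCoreOf 2 L ≤ T₀ := Functor.pCoreOf_le_sylowIn (sylowTwo_iff.1 hT₀)
  have hJX : thompsonSubgroupOf 2 (pCoreOf 2 L) = thompsonSubgroupOf 2 T₀ :=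
    thompson_eq_of_between hXT hle
  refine hLM (le_trans (fun l hl => ?_) hN)
  rw [← hJeq, ← hJX]
  exact Thompson.normalizer_le_normalizer_thompsonSubgroupOf _
    (Functor.le_normalizer_pCoreOf 2 L hl)

namespace Setting

theorem exists_isJFactor (s : Setting T L) : ∃ η, IsJFactor s η := by
  letI := s.commV
  haveI := s.solv_range
  by_contra hno
  apply s.j_not_le
  intro j hj
  have hjL : j ∈ L := s.le (Thompson.thompsonSubgroupOf_le T hj)
  refine mem_kerV_iff.mpr ⟨hjL, ?_⟩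
  have hle := s.j_le_closure_trans ⟨⟨j, hjL⟩, hj, rfl⟩
  rw [← mem_bot]
  refine (closure_le _).mpr ?_ hle
  rintro _ ⟨⟨⟨i, hiL⟩, hi, rfl⟩, ht⟩
  obtain ⟨η, v, htf⟩ := OddOffender.exists_TF _ (act T L).range.subtype_injective s.modV_sq
    s.core_trivial ht
  exact absurd ⟨η, i, hiL, hi, v, htf⟩ hno

/-- Some component avoids `M`. -/
theorem exists_component_not_le (s : Setting T L)
    (hNJ : L ⊓ normalizer (thompsonSubgroupOf 2 T : Set G) ≤ M) (hLM : ¬ L ≤ M) :
    ∃ K, IsJComponent T K ∧ K ≤ L ∧ ¬ K ≤ M := by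
  have : Fact (Nat.Prime 2) := ⟨Nat.prime_two⟩
  letI := s.commV
  haveI := s.solv_range
  set π := (act T L).rangeRestrict with hπ
  set ρ := (act T L).range.subtype with hρdef
  have hρ : Function.Injective ρ := (act T L).range.subtype_injective
  have hV := s.modV_sq
  have hO := s.core_trivial
  set J := thompsonSubgroupOf 2 T with hJdef
  have hJT : J ≤ T := Thompson.thompsonSubgroupOf_le T
  have hJL : J ≤ L := hJT.trans s.le
  by_contra hno
  simp only [not_exists, not_and, not_not] at hno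
  -- the group generated by the transvections and their factors
  set PJ := (J.subgroupOf L).map π with hPJ
  let gens : Set (act T L).range :=
    {x | (x ∈ PJ ∧ OddOffender.IsTrans ρ x) ∨ IsJFactor s x}
  set R := closure gens with hR
  have hPJR : PJ ≤ R :=
    s.j_le_closure_trans.trans (closure_mono fun x hx => Or.inl hx)
  set P := (R.comap π).map L.subtype with hP
  have hPM : P ≤ M := by
    have hRle : R ≤ ((M.subgroupOf L)).map π := (closure_le _).mpr (by
      rintro x (⟨hx, -⟩ | hx)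
      · obtain ⟨i, hi, rfl⟩ := hx
        exact ⟨i, hNJ ⟨i.2, Subgroup.le_normalizer hi⟩, rfl⟩
      · obtain ⟨K, hK, hKL, hmem⟩ := s.exists_component hx
        exact map_mono (comap_mono (hno K hK hKL)) hmem)
    rintro _ ⟨x, hx, rfl⟩
    obtain ⟨m, hm, e⟩ := hRle hx
    have hd : ((m⁻¹ * x : L) : G) ∈ kerV T L := mem_kerV_iff.mpr ⟨(m⁻¹ * x : L).2, by
      show π (m⁻¹ * x) = 1
      rw [map_mul, map_inv, e, inv_mul_cancel]⟩
    have hdM : ((m⁻¹ * x : L) : G) ∈ M := hNJ ⟨(m⁻¹ * x : L).2,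
      Thompson.normalizer_le_normalizer_thompsonSubgroupOf T (s.kerV_normalizes hd)⟩
    have := M.mul_mem hm hdM
    simpa using this
  -- transvections of conjugates of `J` normalize `R`
  have hnorm : ∀ g : L, ∀ x ∈ PJ, π g * x * (π g)⁻¹ ∈ normalizer (R : Set (act T L).range) := by
    intro g x hx
    have hle : PJ ≤ (normalizer (R : Set (act T L).range)).comap (MulAut.conj (π g)).toMonoidHom := by
      refine s.j_le_closure_trans.trans ((closure_le _).mpr ?_)
      rintro c ⟨-, hct⟩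
      obtain ⟨ζ, w, hc⟩ := OddOffender.exists_TF ρ hρ hV hO hct
      have hb := hc.conj (hρ := hρ) (hV := hV) (hO := hO) (π g)
      set b := π g * c * (π g)⁻¹
      set ζ' := π g * ζ * (π g)⁻¹
      show b ∈ normalizer (R : Set (act T L).range)
      refine LocalB.mem_normalizer_of_conj_le ?_
      have hle : R ≤ R.comap (MulAut.conj b).toMonoidHom := by
        refine (closure_le _).mpr fun y hy => ?_
        show b * y * b⁻¹ ∈ R
        -- a pair (transvection, factor) among the generators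
        have key : ∀ a η v, a ∈ PJ → IsJFactor s η → OddOffender.TF ρ a η v →
            b * a * b⁻¹ ∈ R ∧ b * η * b⁻¹ ∈ R := by
          intro a η v ha hη htf
          have hηR : η ∈ R := subset_closure (Or.inr hη)
          have haR : a ∈ R := hPJR ha
          refine ⟨?_, ?_⟩
          · rcases htf.commute_or (hρ := hρ) (hV := hV) (hO := hO) hb with h | ⟨-, -, hz, -⟩
            · rw [show b * a = a * b from h.symm, mul_inv_cancel_right]; exact haR
            · obtain ⟨i, hi⟩ := mem_zpowers_iff.mp hz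
              have hbR : b ∈ R := by
                have := mul_mem (zpow_mem hηR i) (inv_mem haR)
                rwa [hi, mul_inv_cancel_right] at this
              exact mul_mem (mul_mem hbR haR) (inv_mem hbR)
          · have hfac' := OddOffender.IsFactor.conj ρ hρ hV hO htf.fac b
            suffices hmem : b * η * b⁻¹ ∈ zpowers η from zpowers_le.mpr hηR hmem
            refine OddOffender.mem_zpowers_of_inf_ne_bot ρ hρ hV hO htf.fac hfac' fun h0 => ?_
            have hbv : ρ b v ∈ OddOffender.comm ρ η := by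
              rcases OddOffender.pairwise ρ hρ hV hO htf.fac hb.fac with hz | ⟨-, hf⟩
              · rcases hb.range v with e | e <;> rw [e]
                · exact htf.mem
                · exact mul_mem htf.mem ((OddOffender.comm_eq_of_mem_zpowers ρ hρ hV hO htf.fac
                    hb.fac hz).le hb.mem)
              · rw [hb.triv v ((OddOffender.mem_fix_singleton ρ).mpr (hf v htf.mem))]
                exact htf.mem
            have h1 : ρ b v ∈ OddOffender.comm ρ η ⊓ OddOffender.comm ρ (b * η * b⁻¹) :=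
              ⟨hbv, by rw [← OddOffender.map_comm_eq ρ hρ hV]; exact ⟨v, htf.mem, rfl⟩⟩
            rw [h0] at h1
            exact htf.ne ((ρ b).injective ((mem_bot.mp h1).trans (map_one _).symm))
        rcases hy with ⟨hyPJ, hyt⟩ | hy
        · obtain ⟨η, v, htf⟩ := OddOffender.exists_TF ρ hρ hV hO hyt
          obtain ⟨⟨i, hiL⟩, hi, rfl⟩ := hyPJ
          exact (key _ η v ⟨⟨i, hiL⟩, hi, rfl⟩ ⟨i, hiL, hi, v, htf⟩ htf).1
        · obtain ⟨i, hiL, hi, v, htf⟩ := hy
          exact (key _ y v ⟨⟨i, hiL⟩, hi, rfl⟩ ⟨i, hiL, hi, v, htf⟩ htf).2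
      exact fun y hy => hle hy
    exact hle hx
  -- the normal closure of `J`
  set D := closure {x : G | ∃ g ∈ L, ∃ i ∈ J, x = g * i * g⁻¹} with hD
  have hDL : D ≤ L := (closure_le _).mpr (by
    rintro _ ⟨g, hg, i, hi, rfl⟩; exact mul_mem (mul_mem hg (hJL hi)) (inv_mem hg))
  have hJD : J ≤ D := fun i hi => subset_closure ⟨1, one_mem _, i, hi, by simp⟩
  have hDn : L ≤ normalizer (D : Set G) := fun g hg => by
    refine LocalB.mem_normalizer_of_conj_le ?_
    have hle : D ≤ D.comap (MulAut.conj g).toMonoidHom := (closure_le _).mpr (by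
      rintro _ ⟨h, hh, i, hi, rfl⟩
      exact subset_closure ⟨g * h, mul_mem hg hh, i, hi, by simp [mul_assoc]⟩)
    exact fun y hy => hle hy
  have hDP : D ≤ normalizer (P : Set G) := (closure_le _).mpr (by
    rintro _ ⟨g, hg, i, hi, rfl⟩
    refine LocalB.mem_normalizer_of_conj_le ?_
    rintro _ ⟨x, hx, rfl⟩
    refine ⟨⟨g, hg⟩ * ⟨i, hJL hi⟩ * (⟨g, hg⟩ : L)⁻¹ * x * (⟨g, hg⟩ * ⟨i, hJL hi⟩ * (⟨g, hg⟩ : L)⁻¹)⁻¹,
      ?_, rfl⟩
    have h := (mem_normalizer_iff.mp (hnorm ⟨g, hg⟩ _ ⟨⟨i, hJL hi⟩, hi, rfl⟩) (π x)).mp hx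
    rw [SetLike.mem_coe, mem_comap]
    simpa only [map_mul, map_inv] using h)
  have hT := sylowTwo_iff.1 s.ovg.1
  have hJTD : thompsonSubgroupOf 2 (T ⊓ D) = J :=
    thompson_eq_of_between inf_le_left (le_inf hJT hJD)
  have hfr : ∀ g ∈ L, ∃ c ∈ D, ∃ n ∈ L ⊓ normalizer (J : Set G), g = c * n := fun g hg => by
    obtain ⟨c, hc, n, hn, e⟩ := hT.frattini hDL hDn hg
    refine ⟨c, hc, n, ⟨hn.1, ?_⟩, e⟩
    rw [← hJTD]
    exact Thompson.normalizer_le_normalizer_thompsonSubgroupOf _ hn.2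
  have hJP : J ≤ P := fun i hi => ⟨⟨i, hJL hi⟩, hPJR ⟨⟨i, hJL hi⟩, hi, rfl⟩, rfl⟩
  have hDleP : D ≤ P := (closure_le _).mpr (by
    rintro _ ⟨g, hg, i, hi, rfl⟩
    obtain ⟨c, hc, n, hn, rfl⟩ := hfr g hg
    rw [show c * n * i * (c * n)⁻¹ = c * (n * i * n⁻¹) * c⁻¹ by group]
    exact (mem_normalizer_iff.mp (hDP hc) _).mp (hJP ((mem_normalizer_iff.mp hn.2 i).mp hi)))
  refine hLM fun g hg => ?_
  obtain ⟨c, hc, n, hn, rfl⟩ := hfr g hg
  exact mul_mem (hPM (hDleP hc)) (hNJ hn)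

end Setting

theorem max_straddling_overgroup (hL : IsCharacteristicTwoType G)
    (hN : ∀ N : Subgroup G, IsTwoLocal N → Group.IsSolvable ↥N)
    (hZ : ∀ S : Sylow 2 G,
      centralizer (omegaCenterOf (S : Subgroup G) : Set G) ≤ normalizer ((S : Subgroup G) : Set G))
    (S : Sylow 2 G) (hMJ : normalizer (thompsonSubgroupOf 2 (S : Subgroup G) : Set G) ≤ M)
    (hT : T ∈ maxStraddlingTwoSubgroups M) (hL2 : IsTwoLocal L) (hLM : ¬ L ≤ M) (hTL : T ≤ L) :
    L ∈ jOvergroups T ∧ ∃ K : Subgroup G, IsJComponent T K ∧ K ≤ L := by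
  have : Fact (Nat.Prime 2) := ⟨Nat.prime_two⟩
  obtain ⟨P, hP, hTP⟩ := Functor.exists_sylowIn_ge hT.1.1 hTL
  obtain ⟨-, hPs, hov⟩ := overgroup_spec hL S hMJ hT hL2 hLM (sylowTwo_iff.2 hP)
    ((Thompson.thompsonSubgroupOf_le T).trans hTP)
  have hPT : T = P := eq_of_le_of_card_ge hTP
    (straddle_eq hT hPs ((Thompson.thompsonSubgroupOf_le T).trans hTP)).2
  rw [← hPT] at hov
  obtain ⟨η, hη⟩ := (setting_of hN hZ hov).exists_isJFactor
  obtain ⟨K, hK, hKL, -⟩ := (setting_of hN hZ hov).exists_component hη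
  exact ⟨hov, K, hK, hKL⟩

theorem max_straddling_outside (hL : IsCharacteristicTwoType G)
    (hN : ∀ N : Subgroup G, IsTwoLocal N → Group.IsSolvable ↥N)
    (hZ : ∀ S : Sylow 2 G,
      centralizer (omegaCenterOf (S : Subgroup G) : Set G) ≤ normalizer ((S : Subgroup G) : Set G))
    (S : Sylow 2 G) (hMJ : normalizer (thompsonSubgroupOf 2 (S : Subgroup G) : Set G) ≤ M)
    (hT : T ∈ maxStraddlingTwoSubgroups M) : (jComponentsOutside M T).Nonempty := by
  have : Fact (Nat.Prime 2) := ⟨Nat.prime_two⟩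
  obtain ⟨-, -, -, L, hL2, hTL, hLM⟩ := hT.1
  obtain ⟨hov, -⟩ := max_straddling_overgroup hL hN hZ S hMJ hT hL2 hLM hTL
  obtain ⟨K, hK, hKL, hKM⟩ := (setting_of hN hZ hov).exists_component_not_le
    (inf_le_right.trans (normalizer_thompson_le S hMJ hT)) hLM
  have d := data_of_isJComponent hT.1.1 hK
  refine ⟨K, ⟨hK, fun S' hJS' hS' => ?_⟩, hKM, fun h0 => ?_⟩
  · exact (overgroup_spec hL S hMJ hT (isTwoLocal_normalizer_wOf d)
      (fun h => hKM ((le_sup_left.trans d.sup_le_normalizer_w).trans h)) hS' hJS').1.symm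
  · have hXT : pCoreOf 2 L ≤ T := (setting_of hN hZ hov).core_le
    have hle : pCoreOf 2 L ≤ pCoreOf 2 (K ⊔ T) := Functor.le_pCoreOf (hXT.trans le_sup_right)
      ((sup_le hKL hTL).trans (Functor.le_normalizer_pCoreOf 2 L)) (Functor.isPGroup_pCoreOf L)
    rw [h0, le_bot_iff] at hle
    apply hov.2.1
    rw [hle]
    refine le_trans (fun g _ => hov.2.2 ?_) hle.le
    rw [hle]
    exact mem_centralizer_iff.mpr fun y hy => by
      rw [SetLike.mem_coe, mem_bot] at hy
      subst hy; simp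

end CfsgLib.JComp
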