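import Cfsg.Agent.LocalB.OddOffender

/-! Transvections attached to factors. -/

set_option autoImplicit false
set_option linter.unusedVariables false
set_option linter.unusedSectionVars false

namespace CfsgLib.OddOffender

open Subgroup Cfsg CfsgLib

universe u v

variable {H : Type u} [Group H] {V : Type v} [CommGroup V] (ρ : H →* MulAut V)
variable [Finite H] [Finite V] (hρ : Function.Injective ρ) (hV : ∀ x : V, x * x = 1)

include hV

theorem delta_mul (g h : H) (x : V) :
    x * ρ (g * h) x = (x * ρ h x) * (ρ h x * ρ g (ρ h x)) := by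
  rw [apply_mul, mul_assoc, ← mul_assoc (ρ h x), hV, one_mul]

theorem comm_le_of_mem_zpowers {η ζ : H} (h : ζ ∈ zpowers η) : comm ρ ζ ≤ comm ρ η := by
  obtain ⟨i, rfl⟩ := mem_zpowers_iff.mp h
  let Wd : Subgroup H :=
    { carrier := {g | ∀ y : V, y * ρ g y ∈ comm ρ η}
      one_mem' := fun y => by rw [apply_one, hV]; exact one_mem _
      mul_mem' := fun {g k} hg hk y => by
        rw [delta_mul ρ hV]
        exact mul_mem (hk y) (hg (ρ k y))
      inv_mem' := fun {g} hg y => by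
        have := hg (ρ g⁻¹ y)
        rwa [← apply_mul, mul_inv_cancel, apply_one, mul_comm] at this }
  have hd : η ^ i ∈ Wd := zpow_mem (show η ∈ Wd from fun y => ⟨y, rfl⟩) i
  rintro _ ⟨z, rfl⟩
  exact hd z

theorem fix_le_of_mem_zpowers {η ζ : H} (h : ζ ∈ zpowers η) : fix ρ {η} ≤ fix ρ {ζ} := by
  obtain ⟨i, rfl⟩ := mem_zpowers_iff.mp h
  intro x hx
  rw [mem_fix_singleton] at hx ⊢
  let St : Subgroup H :=
    { carrier := {g | ρ g x = x}
      one_mem' := apply_one ρ x
      mul_mem' := fun {g k} hg hk => by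
        show ρ (g * k) x = x
        rw [apply_mul, hk, hg]
      inv_mem' := fun {g} hg => by
        show ρ g⁻¹ x = x
        conv_lhs => rw [← hg]
        rw [← apply_mul, inv_mul_cancel, apply_one] }
  exact zpow_mem (show η ∈ St from hx) i

include hρ
variable [Group.IsSolvable H] (hO : ∀ N : Subgroup H, N.Normal → IsPGroup 2 N → N = ⊥)
include hO

theorem comm_ne_bot {η : H} (h : IsFactor ρ η) : comm ρ η ≠ ⊥ := fun hb =>
  h.2.2.1 (eq_one_of_comm_eq_bot ρ hρ hV hb)

theorem comm_eq_of_mem_zpowers {η ζ : H} (hη : IsFactor ρ η) (hζ : IsFactor ρ ζ)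
    (h : ζ ∈ zpowers η) : comm ρ ζ = comm ρ η :=
  eq_of_le_of_card_ge (comm_le_of_mem_zpowers ρ hV h)
    (by rw [card_comm ρ hV, card_comm ρ hV, hη.2.2.2, hζ.2.2.2])

theorem fix_eq_of_mem_zpowers {η ζ : H} (hη : IsFactor ρ η) (hζ : IsFactor ρ ζ)
    (h : ζ ∈ zpowers η) : fix ρ {ζ} = fix ρ {η} := by
  refine (eq_of_le_of_card_ge (fix_le_of_mem_zpowers ρ hV h) ?_).symm
  have h1 := card_mul_index (fix ρ {η})
  have h2 := card_mul_index (fix ρ {ζ})
  rw [hη.2.2.2] at h1
  rw [hζ.2.2.2] at h2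
  omega

/-- Every element is the product of a fixed point of `η` and a commutator. -/
theorem exists_split {η : H} (hη : IsFactor ρ η) (x : V) :
    ∃ f ∈ fix ρ {η}, ∃ w ∈ comm ρ η, x = f * w := by
  have hodd := odd_of_cube ρ hρ hV hη.2.1
  let f : comm ρ η → comm ρ η := fun z => ⟨delta ρ η z, ⟨z, rfl⟩⟩
  have hf : Function.Injective f := fun z z' h => by
    have h' : delta ρ η z = delta ρ η z' := congrArg Subtype.val h
    refine Subtype.ext (inv_mul_eq_one.mp (eq_one_of_mem_comm_of_fix ρ hV hodd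
      (mul_mem (inv_mem z.2) z'.2) ((mem_fix_singleton ρ).mp ((ker_delta ρ hV η).le ?_))))
    rw [MonoidHom.mem_ker, map_mul, map_inv, h', inv_mul_cancel]
  obtain ⟨⟨w, hw⟩, hwe⟩ := Finite.surjective_of_injective hf ⟨delta ρ η x, ⟨x, rfl⟩⟩
  have hwe' : delta ρ η w = delta ρ η x := congrArg Subtype.val hwe
  refine ⟨x * w⁻¹, (ker_delta ρ hV η).le ?_, w, hw, (inv_mul_cancel_right x w).symm⟩
  rw [MonoidHom.mem_ker, map_mul, map_inv, hwe', mul_inv_cancel]

/-- A transvection `a` inverting the factor `η`, with centre `⟨v⟩`. -/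
structure TF (a η : H) (v : V) : Prop where
  fac : IsFactor ρ η
  inv : a * η * a⁻¹ = η⁻¹
  sq : a * a = 1
  ne : v ≠ 1
  mem : v ∈ comm ρ η
  fixes : ρ a v = v
  range : ∀ x, ρ a x = x ∨ ρ a x = x * v
  triv : ∀ x ∈ fix ρ {η}, ρ a x = x
  moves : ∀ u ∈ comm ρ η, u ≠ 1 → u ≠ v → ρ a u = u * v

theorem exists_TF {a : H} (ha : IsTrans ρ a) : ∃ η v, TF ρ a η v := by
  obtain ⟨ha2, hidx, η, hηF, hη1, hinv⟩ := ha
  have hfac := isFactor_of_trans ρ hρ hV hO ha2 hidx hηF hη1 hinv
  have hodd := odd_of_cube ρ hρ hV hfac.2.1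
  have hai : a⁻¹ = a := inv_eq_of_mul_eq_one_right ha2
  have hW : ∀ u ∈ comm ρ η, ρ a u ∈ comm ρ η := by
    rintro u hu
    have h1 : ρ a u ∈ (comm ρ η).map (ρ a).toMonoidHom := ⟨u, hu, rfl⟩
    rw [map_comm_eq ρ hρ hV, hinv] at h1
    exact comm_le_of_mem_zpowers ρ hV (inv_mem (mem_zpowers η)) h1
  have hfixmap : ∀ x ∈ fix ρ {η}, ρ a x ∈ fix ρ {η} := by
    intro x hx
    rw [mem_fix_singleton] at hx ⊢
    have hx' : ρ η⁻¹ x = x := by
      conv_lhs => rw [← hx]
      rw [← apply_mul, inv_mul_cancel, apply_one]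
    have e : η * a = a * η⁻¹ := by
      have h1 := congrArg (fun g => g⁻¹) hinv
      simp only [mul_inv_rev, inv_inv, hai] at h1
      calc η * a = (a * (η⁻¹ * a)) * a := by rw [h1]
        _ = a * η⁻¹ := by rw [mul_assoc, mul_assoc, ha2, mul_one]
    rw [← apply_mul, e, apply_mul, hx']
  obtain ⟨u, hu, hmove⟩ : ∃ u ∈ comm ρ η, ρ a u ≠ u := by
    by_contra h
    simp only [not_exists, not_and, not_not] at h
    refine comm_ne_bot ρ hρ hV hO hfac (eq_bot_iff.mpr fun u hu => mem_bot.mpr ?_)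
    have hηu : ρ η u ∈ comm ρ η := by
      obtain ⟨x, rfl⟩ := hu
      exact ⟨ρ η x, by
        show ρ η x * ρ η (ρ η x) = ρ η (x * ρ η x)
        rw [map_mul]⟩
    refine eq_one_of_mem_comm_of_fix ρ hV hodd hu (fix_of_sq ρ hV hodd ?_)
    have h1 : ρ η⁻¹ u = ρ η u := by
      rw [← hinv, hai, apply_mul, apply_mul, h u hu, h _ hηu]
    conv_lhs => rw [← h1]
    rw [← apply_mul, mul_inv_cancel, apply_one]
  set v := u * ρ a u with hv
  have hvW : v ∈ comm ρ η := mul_mem hu (hW u hu)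
  have hv1 : v ≠ 1 := fun h => hmove ((apply_eq ρ hV a u).trans (by rw [← hv, h, mul_one]))
  have hcard : Nat.card (comm ρ a) = 2 := (card_comm ρ hV a).trans hidx
  have hrange : ∀ x, ρ a x = x ∨ ρ a x = x * v := by
    intro x
    by_cases hd : x * ρ a x = 1
    · exact Or.inl ((apply_eq ρ hV a x).trans (by rw [hd, mul_one]))
    refine Or.inr ((apply_eq ρ hV a x).trans ?_)
    congr 1
    by_contra hne
    classical
    have : Fintype (comm ρ a) := Fintype.ofFinite _
    have hT : ({1, ⟨v, u, rfl⟩, ⟨x * ρ a x, x, rfl⟩} : Finset (comm ρ a)).card = 3 := by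
      rw [Finset.card_insert_of_notMem, Finset.card_pair]
      · exact fun h => hne (congrArg Subtype.val h).symm
      · simp only [Finset.mem_insert, Finset.mem_singleton, Subtype.ext_iff, not_or]
        exact ⟨fun h => hv1 h.symm, fun h => hd h.symm⟩
    have := Finset.card_le_univ ({1, ⟨v, u, rfl⟩, ⟨x * ρ a x, x, rfl⟩} : Finset (comm ρ a))
    rw [hT, ← Nat.card_eq_fintype_card, hcard] at this
    omega
  have hfix : ρ a v = v := by
    rw [hv, map_mul, ← apply_mul, ha2, apply_one, mul_comm]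
  refine ⟨η, v, hfac, hinv, ha2, hv1, hvW, hfix, hrange, fun x hx => ?_, fun w hw hw1 hwv => ?_⟩
  · rcases hrange x with h | h
    · exact h
    · exfalso
      have h1 := hfixmap x hx
      rw [h] at h1
      have h2 : v ∈ fix ρ {η} := by
        have := mul_mem (inv_mem hx) h1
        rwa [inv_mul_cancel_left] at this
      exact hv1 (eq_one_of_mem_comm_of_fix ρ hV hodd hvW ((mem_fix_singleton ρ).mp h2))
  · rcases hrange w with h | h
    · exfalso
      apply hmove
      classical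
      have : Fintype (comm ρ η) := Fintype.ofFinite _
      have hT : ({1, ⟨v, hvW⟩, ⟨w, hw⟩, ⟨v * w, mul_mem hvW hw⟩} : Finset (comm ρ η)).card = 4 := by
        rw [Finset.card_insert_of_notMem, Finset.card_insert_of_notMem, Finset.card_pair]
        · simp only [Ne, Subtype.mk.injEq]
          exact fun h => hv1 (mul_eq_right.mp h.symm)
        · simp only [Finset.mem_insert, Finset.mem_singleton, Subtype.mk.injEq, not_or]
          exact ⟨Ne.symm hwv, fun h => hw1 (mul_eq_left.mp h.symm)⟩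
        · simp only [Finset.mem_insert, Finset.mem_singleton, Subtype.ext_iff, not_or]
          refine ⟨fun h => hv1 h.symm, fun h => hw1 h.symm, fun h => hwv ?_⟩
          exact (mul_left_cancel ((hV v).trans h)).symm
      have huniv := Finset.eq_univ_of_card _ (hT.trans
        (by rw [← Nat.card_eq_fintype_card, card_comm ρ hV, hfac.2.2.2]))
      have hu' := huniv.ge (Finset.mem_univ (⟨u, hu⟩ : comm ρ η))
      simp only [Finset.mem_insert, Finset.mem_singleton, Subtype.ext_iff] at hu'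
      rcases hu' with h' | h' | h' | h'
      · rw [h']; exact map_one _
      · rw [h']; exact hfix
      · rw [h']; exact h
      · rw [h', map_mul, hfix, h]
    · exact h

variable {ρ hρ hV hO}

theorem TF.isTrans {a η : H} {v : V} (h : TF ρ a η v) : IsTrans ρ a := by
  refine ⟨h.sq, ?_, η, h.fac.1, h.fac.2.2.1, h.inv⟩
  rw [← card_comm ρ hV]
  have hle : ∀ x ∈ comm ρ a, x = 1 ∨ x = v := by
    rintro _ ⟨x, rfl⟩
    show x * ρ a x = 1 ∨ x * ρ a x = v
    rcases h.range x with e | e <;> rw [e]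
    · exact Or.inl (hV x)
    · exact Or.inr (by rw [← mul_assoc, hV, one_mul])
  obtain ⟨u, hu1, huv, huW⟩ : ∃ u, u ≠ 1 ∧ u ≠ v ∧ u ∈ comm ρ η := by
    by_contra hno
    simp only [not_exists, not_and] at hno
    classical
    have : Fintype (comm ρ η) := Fintype.ofFinite _
    have hsub : (Finset.univ : Finset (comm ρ η)) ⊆ {1, ⟨v, h.mem⟩} := fun z _ => by
      simp only [Finset.mem_insert, Finset.mem_singleton, Subtype.ext_iff]
      by_cases hz : (z : V) = 1
      · exact Or.inl hz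
      · exact Or.inr (by_contra fun hzv => hno z hz hzv z.2)
    have := (Finset.card_le_card hsub).trans Finset.card_le_two
    rw [Finset.card_univ, ← Nat.card_eq_fintype_card, card_comm ρ hV, h.fac.2.2.2] at this
    omega
  have hvc : v ∈ comm ρ a := ⟨u, by
    show u * ρ a u = v
    rw [h.moves u huW hu1 huv, ← mul_assoc, hV, one_mul]⟩
  classical
  have : Fintype (comm ρ a) := Fintype.ofFinite _
  have huniv : ({1, ⟨v, hvc⟩} : Finset (comm ρ a)) = Finset.univ :=
    Finset.eq_univ_iff_forall.mpr fun z => by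
      rcases hle z z.2 with e | e <;>
        simp [Subtype.ext_iff, e]
  rw [Nat.card_eq_fintype_card, ← Finset.card_univ, ← huniv, Finset.card_pair]
  exact fun e => h.ne (congrArg Subtype.val e).symm

theorem TF.commute {a η a' η' : H} {v v' : V} (h : TF ρ a η v) (h' : TF ρ a' η' v')
    (e : ρ a v' = v') (e' : ρ a' v = v) : a * a' = a' * a := by
  refine hρ (MulEquiv.ext fun x => ?_)
  rw [apply_mul, apply_mul]
  rcases h.range x with hx | hx <;> rcases h'.range x with hx' | hx' <;>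
    simp only [hx, hx', map_mul, e, e']
  exact mul_right_comm _ _ _

theorem TF.conj {a η : H} {v : V} (h : TF ρ a η v) (g : H) :
    TF ρ (g * a * g⁻¹) (g * η * g⁻¹) (ρ g v) := by
  have hgi : ∀ y, ρ g⁻¹ (ρ g y) = y := fun y => by rw [← apply_mul, inv_mul_cancel, apply_one]
  have hig : ∀ y, ρ g (ρ g⁻¹ y) = y := fun y => by rw [← apply_mul, mul_inv_cancel, apply_one]
  refine ⟨IsFactor.conj ρ hρ hV hO h.fac g, ?_, ?_, ?_, ?_, ?_, fun x => ?_, fun x hx => ?_,
    fun u hu hu1 huv => ?_⟩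
  · rw [show g * a * g⁻¹ * (g * η * g⁻¹) * (g * a * g⁻¹)⁻¹ = g * (a * η * a⁻¹) * g⁻¹ by group,
      h.inv]
    group
  · rw [show g * a * g⁻¹ * (g * a * g⁻¹) = g * (a * a) * g⁻¹ by group, h.sq]; group
  · exact fun e => h.ne ((ρ g).injective (e.trans (map_one _).symm))
  · rw [← map_comm_eq ρ hρ hV]; exact ⟨v, h.mem, rfl⟩
  · rw [apply_mul, apply_mul, hgi, h.fixes]
  · rw [apply_mul, apply_mul]
    rcases h.range (ρ g⁻¹ x) with e | e <;> rw [e]
    · exact Or.inl (hig x)
    · exact Or.inr (by rw [map_mul, hig])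
  · rw [apply_mul, apply_mul]
    rw [mem_fix_singleton, apply_mul, apply_mul] at hx
    have h1 : ρ η (ρ g⁻¹ x) = ρ g⁻¹ x := (ρ g).injective (hx.trans (hig x).symm)
    rw [h.triv _ ((mem_fix_singleton ρ).mpr h1), hig]
  · rw [← map_comm_eq ρ hρ hV] at hu
    obtain ⟨w, hw, rfl⟩ := hu
    show ρ (g * a * g⁻¹) (ρ g w) = ρ g w * ρ g v
    rw [apply_mul, apply_mul, hgi, h.moves w hw (fun e => hu1 (by subst e; exact map_one _))
      (fun e => huv (by subst e; rfl)), map_mul]

/-- Two transvections either commute or generate the cycle group of their common factor. -/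
theorem TF.commute_or {a η a' η' : H} {v v' : V} (h : TF ρ a η v) (h' : TF ρ a' η' v') :
    (a * a' = a' * a) ∨ (η' ∈ zpowers η ∧ v' ≠ v ∧ a' * a ∈ zpowers η ∧ a' * a ≠ 1) := by
  rcases pairwise ρ hρ hV hO h.fac h'.fac with hz | ⟨hdis, htriv⟩
  swap
  · refine Or.inl (h.commute (hρ := hρ) (hV := hV) (hO := hO) h' ?_ ?_)
    · refine h.triv _ ?_
      rw [mem_fix_singleton]
      rcases pairwise ρ hρ hV hO h'.fac h.fac with hz' | ⟨-, ht⟩
      · exfalso
        apply comm_ne_bot ρ hρ hV hO h.fac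
        rw [← hdis, comm_eq_of_mem_zpowers ρ hρ hV hO h'.fac h.fac hz', inf_idem]
      · exact ht v' h'.mem
    · exact h'.triv _ ((mem_fix_singleton ρ).mpr (htriv v h.mem))
  have hc := comm_eq_of_mem_zpowers ρ hρ hV hO h.fac h'.fac hz
  have hf := fix_eq_of_mem_zpowers ρ hρ hV hO h.fac h'.fac hz
  have hv' : v' ∈ comm ρ η := hc ▸ h'.mem
  have hv : v ∈ comm ρ η' := hc.symm ▸ h.mem
  by_cases hvv : v' = v
  · subst hvv
    exact Or.inl (h.commute (hρ := hρ) (hV := hV) (hO := hO) h' h.fixes h'.fixes)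
  right
  refine ⟨hz, hvv, ?_⟩
  have hodd := odd_of_cube ρ hρ hV h.fac.2.1
  have hav' : ρ a v' = v' * v := h.moves v' hv' h'.ne hvv
  have ha'v : ρ a' v = v * v' := h'.moves v hv h.ne (Ne.symm hvv)
  have hne1 : a' * a ≠ 1 := fun e => by
    have := congrArg (fun g => ρ g v) e
    simp only [apply_mul, apply_one, h.fixes, ha'v] at this
    exact h'.ne (mul_eq_left.mp this)
  refine ⟨?_, hne1⟩
  classical
  have : Fintype (comm ρ η) := Fintype.ofFinite _
  have hmem : ∀ u ∈ comm ρ η, u = 1 ∨ u = v ∨ u = v' ∨ u = v * v' := by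
    have hT : ({1, ⟨v, h.mem⟩, ⟨v', hv'⟩, ⟨v * v', mul_mem h.mem hv'⟩} :
        Finset (comm ρ η)).card = 4 := by
      rw [Finset.card_insert_of_notMem, Finset.card_insert_of_notMem, Finset.card_pair]
      · simp only [Ne, Subtype.mk.injEq]
        exact fun e => h.ne (mul_eq_right.mp e.symm)
      · simp only [Finset.mem_insert, Finset.mem_singleton, Subtype.mk.injEq, not_or]
        exact ⟨Ne.symm hvv, fun e => h'.ne (mul_eq_left.mp e.symm)⟩
      · simp only [Finset.mem_insert, Finset.mem_singleton, Subtype.ext_iff, not_or]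
        refine ⟨fun e => h.ne e.symm, fun e => h'.ne e.symm, fun e => hvv ?_⟩
        exact (mul_left_cancel ((hV v).trans e)).symm
    have huniv := Finset.eq_univ_of_card _ (hT.trans
      (by rw [← Nat.card_eq_fintype_card, card_comm ρ hV, h.fac.2.2.2]))
    intro u hu
    have hu' := huniv.ge (Finset.mem_univ (⟨u, hu⟩ : comm ρ η))
    simpa [Subtype.ext_iff] using hu'
  -- a cycle `ζ ∈ ⟨η⟩` agreeing with `a' a`
  have hcyc : ∀ ζ : H, ζ ∈ zpowers η → IsFactor ρ ζ → ρ ζ v = v * v' → a' * a = ζ := by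
    intro ζ hζ hζf hζv
    have hζc := comm_eq_of_mem_zpowers ρ hρ hV hO h.fac hζf hζ
    have hζodd := odd_of_cube ρ hρ hV hζf.2.1
    have hmap : ∀ u ∈ comm ρ η, ρ ζ u ∈ comm ρ η := fun u hu => by
      rw [← hζc] at hu ⊢
      obtain ⟨x, rfl⟩ := hu
      exact ⟨ρ ζ x, by
        show ρ ζ x * ρ ζ (ρ ζ x) = ρ ζ (x * ρ ζ x)
        rw [map_mul]⟩
    have hnfix : ∀ u ∈ comm ρ η, u ≠ 1 → ρ ζ u ≠ u := fun u hu hu1 e =>
      hu1 (eq_one_of_mem_comm_of_fix ρ hV hζodd (hζc ▸ hu) e)
    have hinj1 : ∀ u, u ≠ 1 → ρ ζ u ≠ 1 := fun u hu e =>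
      hu ((ρ ζ).injective (e.trans (map_one _).symm))
    have hvv1 : v * v' ≠ 1 := fun e => hvv (mul_left_cancel ((hV v).trans e.symm)).symm
    have h2 : ρ ζ (v * v') = v' := by
      rcases hmem _ (hmap _ (mul_mem h.mem hv')) with e | e | e | e
      · exact absurd e (hinj1 _ hvv1)
      · exfalso
        have h3 : ρ ζ (ρ ζ v) = v := by rw [hζv, e]
        exact hnfix v h.mem h.ne (fix_of_sq ρ hV hζodd h3)
      · exact e
      · exact absurd e (hnfix _ (mul_mem h.mem hv') hvv1)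
    refine hρ (MulEquiv.ext fun x => ?_)
    obtain ⟨f, hf', w, hw, rfl⟩ := exists_split ρ hρ hV hO h.fac x
    have hfζ : ρ ζ f = f := (mem_fix_singleton ρ).mp
      ((fix_eq_of_mem_zpowers ρ hρ hV hO h.fac hζf hζ).ge hf')
    have hfa : ρ (a' * a) f = f := by
      rw [apply_mul, h.triv f hf', h'.triv f (hf ▸ hf')]
    rw [map_mul (ρ (a' * a)) f, map_mul (ρ ζ) f, hfa, hfζ]
    congr 1
    rw [apply_mul]
    rcases hmem w hw with e | e | e | e <;> rw [e]
    · simp
    · rw [h.fixes, ha'v, hζv]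
    · rw [hav', map_mul, h'.fixes, ha'v]
      have : ρ ζ v' = v := by
        calc ρ ζ v' = ρ ζ (v * (v * v')) := by rw [← mul_assoc, hV, one_mul]
          _ = v := by rw [map_mul (ρ ζ) v, hζv, h2, mul_assoc, hV, mul_one]
      rw [this, mul_comm v v', ← mul_assoc, hV, one_mul]
    · rw [map_mul (ρ a) v, h.fixes, hav', mul_comm v' v, ← mul_assoc, hV, one_mul, h'.fixes, h2]
  have hmapη : ρ η v ∈ comm ρ η := by
    obtain ⟨x, hx⟩ := h.mem
    exact ⟨ρ η x, by
      show ρ η x * ρ η (ρ η x) = ρ η v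
      rw [← hx, ← map_mul]; rfl⟩
  rcases hmem _ hmapη with e | e | e | e
  · exact absurd ((ρ η).injective (e.trans (map_one _).symm)) h.ne
  · exact absurd (eq_one_of_mem_comm_of_fix ρ hV hodd h.mem e) h.ne
  · have hf2 : IsFactor ρ (η * η) := by
      refine ⟨mul_mem h.fac.1 h.fac.1, ?_, fun e2 => ?_, ?_⟩
      · rw [← pow_two, ← pow_mul, mul_comm, pow_mul, h.fac.2.1, one_pow]
      · refine h.fac.2.2.1 ?_
        calc η = η ^ 3 * (η * η)⁻¹ := by rw [pow_succ, pow_two]; group
          _ = 1 := by rw [h.fac.2.1, e2, inv_one, mul_one]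
      · have : fix ρ {η * η} = fix ρ {η} := le_antisymm (fun x hx => by
          rw [mem_fix_singleton] at hx ⊢
          refine fix_of_sq ρ hV hodd ?_
          rwa [← apply_mul]) (fix_le_of_mem_zpowers ρ hV (mul_mem (mem_zpowers η) (mem_zpowers η)))
        rw [this]; exact h.fac.2.2.2
    have := hcyc (η * η) (mul_mem (mem_zpowers η) (mem_zpowers η)) hf2 ?_
    · rw [this]; exact mul_mem (mem_zpowers η) (mem_zpowers η)
    · rw [apply_mul, e]
      have h1 : ρ η v' ∈ comm ρ η := by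
        obtain ⟨x, hx⟩ := hv'
        exact ⟨ρ η x, by
          show ρ η x * ρ η (ρ η x) = ρ η v'
          rw [← hx, ← map_mul]; rfl⟩
      rcases hmem _ h1 with e1 | e1 | e1 | e1
      · exact absurd ((ρ η).injective (e1.trans (map_one _).symm)) h'.ne
      · exfalso
        have h3 : ρ η (ρ η v) = v := by rw [e, e1]
        exact h.ne (eq_one_of_mem_comm_of_fix ρ hV hodd h.mem (fix_of_sq ρ hV hodd h3))
      · exact absurd (eq_one_of_mem_comm_of_fix ρ hV hodd hv' e1) h'.ne
      · exact e1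
  · rw [hcyc η (mem_zpowers η) h.fac e]; exact mem_zpowers η

end CfsgLib.OddOffender
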