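import Cfsg.Agent.LocalB.JComponent
import Cfsg.Agent.LocalB.TransPairs
import Cfsg.Agent.Comp.Fitting

/-! `J(T)`-components inside an overgroup in which `T` is a Sylow `2`-subgroup. -/

set_option autoImplicit false
set_option linter.unusedVariables false
set_option linter.unusedSectionVars false

namespace CfsgLib.JComp

open Subgroup Cfsg CfsgLib
open scoped commutatorElement

variable {G : Type*} [Group G]

/-- The hypotheses on an overgroup. -/
structure Setting (T L : Subgroup G) : Prop where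
  ovg : L ∈ jOvergroups T
  solv : Group.IsSolvable L
  zc : ∀ S : Sylow 2 G,
    centralizer (omegaCenterOf (S : Subgroup G) : Set G) ≤ normalizer ((S : Subgroup G) : Set G)

/-- The module generated by the conjugates of `Ω₁(Z(T))`. -/
def modV (T L : Subgroup G) : Subgroup G :=
  closure {x | ∃ l ∈ L, ∃ z ∈ omegaCenterOf T, x = l * z * l⁻¹}

/-- The kernel of the action on the module. -/
def kerV (T L : Subgroup G) : Subgroup G := L ⊓ centralizer (modV T L : Set G)

variable [Finite G] {T L K : Subgroup G}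

theorem le_normalizer_modV (T L : Subgroup G) : L ≤ normalizer (modV T L : Set G) := fun g hg => by
  refine LocalB.mem_normalizer_of_conj_le fun x hx => ?_
  have hle : modV T L ≤ (modV T L).comap (MulAut.conj g).toMonoidHom := (closure_le _).mpr (by
    rintro _ ⟨l, hl, z, hz, rfl⟩
    exact subset_closure ⟨g * l, mul_mem hg hl, z, hz, by simp [mul_assoc]⟩)
  exact hle hx

/-- The action on the module. -/
def act (T L : Subgroup G) : L →* MulAut (modV T L) :=
  (modV T L).normalizerMonoidHom.comp (Subgroup.inclusion (le_normalizer_modV T L))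

theorem act_apply (l : L) (x : modV T L) : ((act T L l x : modV T L) : G) = l * x * (l : G)⁻¹ :=
  rfl

theorem mem_kerV_iff {g : G} :
    g ∈ kerV T L ↔ ∃ hg : g ∈ L, (act T L).rangeRestrict ⟨g, hg⟩ = 1 := by
  constructor
  · rintro ⟨hgL, hgC⟩
    refine ⟨hgL, Subtype.ext (MulEquiv.ext fun x => Subtype.ext ?_)⟩
    show g * (x : G) * g⁻¹ = x
    exact mul_inv_eq_iff_eq_mul.mpr (mem_centralizer_iff.mp hgC x x.2).symm
  · rintro ⟨hgL, h⟩
    refine ⟨hgL, mem_centralizer_iff.mpr fun x hx => ?_⟩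
    have h1 : act T L ⟨g, hgL⟩ ⟨x, hx⟩ = ⟨x, hx⟩ := by
      have := congrArg Subtype.val h
      exact congrArg (fun f : MulAut (modV T L) => f ⟨x, hx⟩) this
    have h2 : g * x * g⁻¹ = x := congrArg Subtype.val h1
    exact (mul_inv_eq_iff_eq_mul.mp h2).symm

theorem kerV_conj {g c : G} (hg : g ∈ L) (hc : c ∈ kerV T L) : g * c * g⁻¹ ∈ kerV T L := by
  obtain ⟨hcL, h⟩ := mem_kerV_iff.mp hc
  refine mem_kerV_iff.mpr ⟨mul_mem (mul_mem hg hcL) (inv_mem hg), ?_⟩
  have : (⟨g * c * g⁻¹, mul_mem (mul_mem hg hcL) (inv_mem hg)⟩ : L)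
      = ⟨g, hg⟩ * ⟨c, hcL⟩ * (⟨g, hg⟩ : L)⁻¹ := rfl
  rw [this, map_mul, map_mul, h, mul_one, map_inv, mul_inv_cancel]

/-- Elements of odd order of a product with a normalizing 2-group. -/
theorem mem_of_odd {K X : Subgroup G} (hX : X ≤ normalizer (K : Set G)) (hp : IsPGroup 2 X) {g : G}
    (hg : g ∈ K ⊔ X) (hodd : Odd (orderOf g)) : g ∈ K := by
  rw [sup_comm] at hg
  obtain ⟨x, hx, k, hk, rfl⟩ := (Solvable.mem_sup_of_le_normalizer hX).mp hg
  have hpow : ∀ n : ℕ, ∃ k' ∈ K, (x * k) ^ n = x ^ n * k' := by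
    intro n
    induction n with
    | zero => exact ⟨1, one_mem _, by simp⟩
    | succ n ih =>
      obtain ⟨k', hk', e⟩ := ih
      refine ⟨x⁻¹ * k' * x * k, mul_mem ?_ hk, ?_⟩
      · simpa using (mem_normalizer_iff.mp (inv_mem (hX hx)) k').mp hk'
      · rw [pow_succ, e, pow_succ]; group
  obtain ⟨m, hm⟩ := hp ⟨x, hx⟩
  have hm' : x ^ 2 ^ m = 1 := congrArg Subtype.val hm
  obtain ⟨k', hk', e⟩ := hpow (2 ^ m)
  rw [hm', one_mul] at e
  have hcop : (2 ^ m).Coprime (orderOf (x * k)) :=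
    Nat.Coprime.pow_left _ (Nat.coprime_two_left.mpr hodd)
  obtain ⟨t, ht⟩ := exists_pow_eq_self_of_coprime hcop
  rw [← ht, e]
  exact pow_mem hk' t

/-- The elements commuting with the kernel modulo the core. -/
def central (T L : Subgroup G) : Subgroup G where
  carrier := {l | l ∈ L ∧ ∀ c ∈ kerV T L, l * c * l⁻¹ * c⁻¹ ∈ pCoreOf 2 L}
  one_mem' := ⟨one_mem _, fun c _ => by simp⟩
  mul_mem' := fun {g h} hg hh => ⟨mul_mem hg.1 hh.1, fun c hc => by
    have hX := Functor.le_normalizer_pCoreOf 2 L hg.1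
    rw [show g * h * c * (g * h)⁻¹ * c⁻¹
      = g * (h * c * h⁻¹ * c⁻¹) * g⁻¹ * (g * c * g⁻¹ * c⁻¹) by group]
    exact mul_mem ((mem_normalizer_iff.mp hX _).mp (hh.2 c hc)) (hg.2 c hc)⟩
  inv_mem' := fun {g} hg => ⟨inv_mem hg.1, fun c hc => by
    have h1 := hg.2 _ (kerV_conj (inv_mem hg.1) hc)
    rw [show g * (g⁻¹ * c * g⁻¹⁻¹) * g⁻¹ * (g⁻¹ * c * g⁻¹⁻¹)⁻¹
      = (g⁻¹ * c * g⁻¹⁻¹ * c⁻¹)⁻¹ by group] at h1
    simpa using inv_mem h1⟩

theorem central_conj {g l : G} (hg : g ∈ L) (hl : l ∈ central T L) :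
    g * l * g⁻¹ ∈ central T L := by
  refine ⟨mul_mem (mul_mem hg hl.1) (inv_mem hg), fun c hc => ?_⟩
  have h1 := hl.2 _ (kerV_conj (inv_mem hg) hc)
  have h2 := (mem_normalizer_iff.mp (Functor.le_normalizer_pCoreOf 2 L hg) _).mp h1
  convert h2 using 1
  group

namespace Setting

theorem isP (s : Setting T L) : IsPGroup 2 T := s.ovg.1.2.1

theorem le (s : Setting T L) : T ≤ L := s.ovg.1.1

/-- A 2-subgroup of `L` containing `T` equals it. -/
theorem eq_of_le (s : Setting T L) {P : Subgroup G} (hP : IsPGroup 2 P) (hTP : T ≤ P)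
    (hPL : P ≤ L) : P = T := by
  have : Fact (Nat.Prime 2) := ⟨Nat.prime_two⟩
  refine (le_antisymm hTP ?_).symm
  rw [← relIndex_eq_one]
  have h1 : T.relIndex P * P.relIndex L = T.relIndex L := relIndex_mul_relIndex _ _ _ hTP hPL
  have hodd : Odd (T.relIndex P) := by
    have := s.ovg.1.2.2
    rw [← h1] at this
    exact (Nat.odd_mul.mp this).1
  obtain ⟨n, hn⟩ := hP.exists_card_eq
  obtain ⟨j, -, hj⟩ := (Nat.dvd_prime_pow Nat.prime_two).mp (hn ▸
    (Dvd.intro_left _ ((relIndex_bot_left T).symm ▸ (relIndex_bot_left P) ▸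
      relIndex_mul_relIndex ⊥ T P bot_le hTP) : T.relIndex P ∣ Nat.card P))
  rcases j with _ | j
  · simpa using hj
  · exfalso
    rw [hj, pow_succ] at hodd
    exact Nat.not_even_iff_odd.mpr hodd (even_two.mul_left _)

theorem core_le (s : Setting T L) : pCoreOf 2 L ≤ T := by
  have : Fact (Nat.Prime 2) := ⟨Nat.prime_two⟩
  have h : IsPGroup 2 ↥(pCoreOf 2 L ⊔ T) :=
    (Functor.isPGroup_pCoreOf L).to_sup_of_normal_left' s.isP
      (s.le.trans (Functor.le_normalizer_pCoreOf 2 L))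
  exact (s.eq_of_le h le_sup_right (sup_le (Functor.pCoreOf_le 2 L) s.le)) ▸ le_sup_left

theorem omega_spec {P : Subgroup G} {z : G} (hz : z ∈ omegaCenterOf P) :
    z ∈ P ∧ z ∈ centralizer (P : Set G) ∧ z ^ 2 = 1 := Data.omegaCenter_mem_iff hz

theorem omega_le (s : Setting T L) {x : G} (hx : x ∈ modV T L) :
    x ∈ pCoreOf 2 L ∧ x ∈ centralizer (pCoreOf 2 L : Set G) ∧ x ^ 2 = 1 := by
  have hle : modV T L ≤ omegaCenterOf (pCoreOf 2 L) := (closure_le _).mpr (by
    rintro _ ⟨l, hl, z, hz, rfl⟩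
    obtain ⟨hzT, hzC, hz2⟩ := omega_spec hz
    have hzX : z ∈ centralizer (pCoreOf 2 L : Set G) :=
      mem_centralizer_iff.mpr fun u hu => mem_centralizer_iff.mp hzC u (s.core_le hu)
    have h1 : z ∈ omegaCenterOf (pCoreOf 2 L) :=
      Thompson.mem_omegaOne ⟨s.ovg.2.2 hzX, hzX⟩ hz2
    exact (mem_normalizer_iff.mp (normalizer_le_normalizer_omegaCenterOf _
      (Functor.le_normalizer_pCoreOf 2 L hl)) z).mp h1)
  exact omega_spec (hle hx)

theorem modV_comm (s : Setting T L) (a b : modV T L) : a * b = b * a :=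
  Subtype.ext (mem_centralizer_iff.mp (s.omega_le b.2).2.1 a (s.omega_le a.2).1)

theorem modV_sq (s : Setting T L) (a : modV T L) : a * a = 1 :=
  Subtype.ext (by
    show (a : G) * a = 1
    rw [← pow_two]
    exact (s.omega_le a.2).2.2)

theorem core_le_kerV (s : Setting T L) : pCoreOf 2 L ≤ kerV T L := fun x hx =>
  ⟨Functor.pCoreOf_le 2 L hx, mem_centralizer_iff.mpr fun v hv =>
    (mem_centralizer_iff.mp (s.omega_le hv).2.1 x hx).symm⟩

theorem omegaT_le (T L : Subgroup G) : omegaCenterOf T ≤ modV T L := fun z hz =>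
  subset_closure ⟨1, one_mem _, z, hz, by simp⟩

theorem kerV_normalizes (s : Setting T L) : kerV T L ≤ normalizer (T : Set G) := by
  have : Fact (Nat.Prime 2) := ⟨Nat.prime_two⟩
  obtain ⟨S, hS⟩ := s.isP.exists_le_sylow
  intro c hc
  have hcS : c ∈ normalizer ((S : Subgroup G) : Set G) := by
    refine s.zc S (mem_centralizer_iff.mpr fun z hz => ?_)
    obtain ⟨hzS, hzC, hz2⟩ := omega_spec hz
    have hzX : z ∈ centralizer (pCoreOf 2 L : Set G) := mem_centralizer_iff.mpr fun u hu =>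
      mem_centralizer_iff.mp hzC u (hS (s.core_le hu))
    have hzT : z ∈ omegaCenterOf T := Thompson.mem_omegaOne
      ⟨s.core_le (s.ovg.2.2 hzX),
        mem_centralizer_iff.mpr fun u hu => mem_centralizer_iff.mp hzC u (hS hu)⟩ hz2
    exact mem_centralizer_iff.mp hc.2 z (omegaT_le T L hzT)
  have heq : (S : Subgroup G) ⊓ L = T :=
    s.eq_of_le (S.isPGroup'.to_le inf_le_left) (le_inf hS s.le) inf_le_right
  rw [← heq]
  refine LocalB.mem_normalizer_of_conj_le fun u hu => ⟨(mem_normalizer_iff.mp hcS u).mp hu.1,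
    L.mul_mem (L.mul_mem hc.1 hu.2) (L.inv_mem hc.1)⟩

/-- The 2-elements of the kernel lie in the core. -/
theorem mem_core_of_isPGroup (s : Setting T L) {P : Subgroup G} (hP : IsPGroup 2 P)
    (hPC : P ≤ kerV T L) : P ≤ pCoreOf 2 L := by
  have : Fact (Nat.Prime 2) := ⟨Nat.prime_two⟩
  have key : ∀ R : Subgroup G, IsPGroup 2 R → R ≤ kerV T L → R ≤ T := fun R hR hRC => by
    have h := hR.to_sup_of_normal_right' s.isP (hRC.trans s.kerV_normalizes)
    exact (s.eq_of_le h le_sup_right (sup_le (hRC.trans inf_le_left) s.le)) ▸ le_sup_left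
  refine le_trans (le_inf (key P hP hPC) hPC) (Functor.le_pCoreOf ?_ ?_
    (s.isP.to_le (inf_le_left : T ⊓ kerV T L ≤ T)))
  · exact inf_le_right.trans inf_le_left
  · intro l hl
    refine LocalB.mem_normalizer_of_conj_le fun u hu => ?_
    have hzC : zpowers (l * u * l⁻¹) ≤ kerV T L := zpowers_le.mpr (kerV_conj hl hu.2)
    refine ⟨key _ (LocalB.isPGroup_zpowers ?_) hzC (mem_zpowers _), kerV_conj hl hu.2⟩
    obtain ⟨k, hk⟩ := s.isP ⟨u, hu.1⟩
    have h2 : (l * u * l⁻¹) ^ 2 ^ k = 1 := by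
      rw [conj_pow, show u ^ 2 ^ k = 1 from congrArg Subtype.val hk, mul_one, mul_inv_cancel]
    obtain ⟨i, -, hi⟩ := (Nat.dvd_prime_pow Nat.prime_two).mp (orderOf_dvd_of_pow_eq_one h2)
    exact ⟨i, hi⟩

theorem j_not_le (s : Setting T L) : ¬ thompsonSubgroupOf 2 T ≤ kerV T L := fun h =>
  s.ovg.2.1 (s.mem_core_of_isPGroup (s.isP.to_le (Thompson.thompsonSubgroupOf_le T)) h)

theorem j_le_central (s : Setting T L) : thompsonSubgroupOf 2 T ≤ central T L := by
  have hJT := Thompson.thompsonSubgroupOf_le (p := 2) T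
  intro j hj
  refine ⟨s.le (hJT hj), fun c hc => ?_⟩
  have hcn := Thompson.normalizer_le_normalizer_thompsonSubgroupOf (p := 2) T (s.kerV_normalizes hc)
  have h1 : j * (c * j⁻¹ * c⁻¹) ∈ thompsonSubgroupOf 2 T :=
    mul_mem hj ((mem_normalizer_iff.mp hcn _).mp (inv_mem hj))
  have h2 : j * c * j⁻¹ * c⁻¹ ∈ kerV T L := mul_mem (kerV_conj (s.le (hJT hj)) hc) (inv_mem hc)
  have h3 : j * c * j⁻¹ * c⁻¹ ∈ thompsonSubgroupOf 2 T := by simpa [mul_assoc] using h1
  exact s.mem_core_of_isPGroup (s.isP.to_le (inf_le_left.trans hJT)) inf_le_right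
    (⟨h3, h2⟩ : j * c * j⁻¹ * c⁻¹ ∈ thompsonSubgroupOf 2 T ⊓ kerV T L)

/-- The image of the group in the automorphisms of the module has trivial 2-core. -/
theorem core_trivial (s : Setting T L) (N : Subgroup (act T L).range) (hN : N.Normal)
    (hp : IsPGroup 2 N) : N = ⊥ := by
  have : Fact (Nat.Prime 2) := ⟨Nat.prime_two⟩
  set π := (act T L).rangeRestrict
  set P := (T.subgroupOf L).map π with hP
  have hPp : IsPGroup 2 P := (s.isP.comap_subtype).map _
  have hNP : N ≤ P := by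
    have hsup : IsPGroup 2 ↥(N ⊔ P) := hp.to_sup_of_normal_left hPp
    have hodd : Odd P.index := by
      refine Odd.of_dvd_nat ?_ (index_map_dvd (T.subgroupOf L) (act T L).rangeRestrict_surjective)
      exact s.ovg.1.2.2
    have heq : P = N ⊔ P := by
      refine le_antisymm le_sup_right ?_
      rw [← relIndex_eq_one]
      obtain ⟨n, hn⟩ := hsup.exists_card_eq
      have h1 : P.relIndex (N ⊔ P) ∣ 2 ^ n := hn ▸ Subgroup.relIndex_dvd_card P (N ⊔ P)
      have h2 : P.relIndex (N ⊔ P) ∣ P.index := relIndex_dvd_index_of_le le_sup_right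
      have h3 := Nat.dvd_gcd h1 h2
      rw [Nat.Coprime.gcd_eq_one (Nat.Coprime.pow_left _ (Nat.coprime_two_left.mpr hodd))] at h3
      exact Nat.dvd_one.mp h3
    exact heq ▸ le_sup_left
  rw [eq_bot_iff]
  intro η hη
  rw [mem_bot]
  have hfix : ∀ g ∈ N, ∀ z, ∀ hz : z ∈ omegaCenterOf T,
      (g : MulAut (modV T L)) ⟨z, omegaT_le T L hz⟩ = ⟨z, omegaT_le T L hz⟩ := by
    intro g hg z hz
    obtain ⟨t, ht, rfl⟩ := hNP hg
    refine Subtype.ext ?_
    show (t : G) * z * (t : G)⁻¹ = z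
    exact mul_inv_eq_iff_eq_mul.mpr (mem_centralizer_iff.mp (omega_spec hz).2.1 t ht)
  refine Subtype.ext (MulEquiv.ext fun x => ?_)
  show (η : MulAut (modV T L)) x = x
  obtain ⟨x, hx⟩ := x
  induction hx using closure_induction with
  | mem y hy =>
    obtain ⟨l, hl, z, hz, rfl⟩ := hy
    have hconj : (π ⟨l, hl⟩)⁻¹ * η * π ⟨l, hl⟩ ∈ N := by
      simpa using hN.conj_mem η hη (π ⟨l, hl⟩)⁻¹
    have h1 := congrArg (act T L ⟨l, hl⟩) (hfix _ hconj z hz)
    simp only [Subgroup.coe_mul, InvMemClass.coe_inv] at h1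
    have e : act T L ⟨l, hl⟩ ⟨z, omegaT_le T L hz⟩ =
        ⟨l * z * l⁻¹, subset_closure ⟨l, hl, z, hz, rfl⟩⟩ := Subtype.ext rfl
    rw [← e]
    refine Eq.trans ?_ h1
    show (η : MulAut (modV T L)) _ = (act T L ⟨l, hl⟩)
      ((((π ⟨l, hl⟩ : MulAut (modV T L)))⁻¹ * η * π ⟨l, hl⟩) ⟨z, omegaT_le T L hz⟩)
    simp [π]
  | one => exact map_one (η : MulAut (modV T L))
  | mul a b ha hb iha ihb =>
    rw [show (⟨a * b, mul_mem ha hb⟩ : modV T L) = ⟨a, ha⟩ * ⟨b, hb⟩ from rfl, map_mul, iha, ihb]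
  | inv a ha iha =>
    rw [show (⟨a⁻¹, inv_mem ha⟩ : modV T L) = (⟨a, ha⟩ : modV T L)⁻¹ from rfl, map_inv, iha]

end Setting

end CfsgLib.JComp
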