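import Cfsg.Agent.LocalB.JStructure

/-! A `J(T)`-component inside `L` is the lift of a factor of the action on the module. -/

set_option autoImplicit false
set_option linter.unusedVariables false
set_option linter.unusedSectionVars false

namespace CfsgLib.JComp

open Subgroup Cfsg CfsgLib
open scoped commutatorElement

variable {G : Type*} [Group G] [Finite G] {T L K : Subgroup G}

namespace Setting

/-- The module is abelian. -/
@[reducible] def commV (s : Setting T L) : CommGroup (modV T L) :=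
  { (inferInstance : Group (modV T L)) with mul_comm := s.modV_comm }

theorem solv_range (s : Setting T L) : Group.IsSolvable (act T L).range := by
  have := s.solv
  exact Group.isSolvable_of_surjective (act T L).rangeRestrict_surjective

/-- A maximal elementary abelian subgroup and the module. -/
theorem sup_modV (s : Setting T L) {A : Subgroup G} (hA : A ∈ Thompson.maxIn 2 T) :
    IsElementaryAbelian 2 ((A ⊓ kerV T L) ⊔ modV T L) ∧ (A ⊓ kerV T L) ⊔ modV T L ≤ T := by
  refine ⟨Thompson.elab_sup (Thompson.elab_mono hA.2.1 inf_le_left)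
    ⟨⟨⟨fun a b => s.modV_comm a b⟩⟩, fun v hv => (s.omega_le hv).2.2⟩ (inf_le_right.trans inf_le_right),
    sup_le (inf_le_left.trans hA.1) fun v hv => s.core_le (s.omega_le hv).1⟩

/-- The transvections of `J` generate its image. -/
theorem j_le_closure_trans (s : Setting T L) :
    letI := s.commV
    ((thompsonSubgroupOf 2 T).subgroupOf L).map (act T L).rangeRestrict ≤
      closure {a | a ∈ ((thompsonSubgroupOf 2 T).subgroupOf L).map (act T L).rangeRestrict ∧
        OddOffender.IsTrans (act T L).range.subtype a} := by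
  letI := s.commV
  haveI := s.solv_range
  set π := (act T L).rangeRestrict with hπ
  set ρ := (act T L).range.subtype
  have hJT := Thompson.thompsonSubgroupOf_le (p := 2) T
  have key : ∀ A ∈ Thompson.maxIn 2 T, (A.subgroupOf L).map π ≤
      closure {a | a ∈ ((thompsonSubgroupOf 2 T).subgroupOf L).map π ∧
        OddOffender.IsTrans ρ a} := by
    intro A hA
    have hAJ : A ≤ thompsonSubgroupOf 2 T := by
      rw [Thompson.thompsonSubgroupOf_eq]; exact le_sSup hA
    have hAL : A ≤ L := hA.1.trans s.le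
    set A' := (A.subgroupOf L).map π
    have hA' : IsElementaryAbelian 2 A' := Thompson.elab_map _ (Thompson.elab_subgroupOf hA.2.1 L)
    have hcard : Nat.card A' * Nat.card ↥(A ⊓ kerV T L) = Nat.card A := by
      have e1 : Nat.card A' = (π.ker).relIndex (A.subgroupOf L) := by
        rw [relIndex_ker]
      have e2 : π.ker = (kerV T L).subgroupOf L := by
        ext ⟨g, hg⟩
        rw [MonoidHom.mem_ker, mem_subgroupOf]
        exact ⟨fun h => mem_kerV_iff.mpr ⟨hg, h⟩, fun h => (mem_kerV_iff.mp h).2⟩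
      rw [e1, e2, relIndex_subgroupOf hAL, ← relIndex_bot_left (A ⊓ kerV T L), ← relIndex_bot_left A,
        mul_comm, ← inf_relIndex_right (kerV T L) A, inf_comm (kerV T L) A]
      exact relIndex_mul_relIndex _ _ _ bot_le inf_le_left
    have hle : (OddOffender.fix ρ (A' : Set (act T L).range)).index ≤ Nat.card A' := by
      obtain ⟨hel, hsub⟩ := s.sup_modV hA
      have h1 := hA.2.2 _ hsub hel
      have h2 := Solvable.card_sup_mul_card_inf (A := A ⊓ kerV T L) (K := modV T L)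
        ((inf_le_right.trans inf_le_left).trans (le_normalizer_modV T L))
      have h3 : Nat.card ↥(A ⊓ kerV T L ⊓ modV T L) ≤
          Nat.card (OddOffender.fix ρ (A' : Set (act T L).range)) := by
        refine Nat.card_le_card_of_injective (fun u => ⟨⟨(u : G), u.2.2⟩, ?_⟩) fun u v h => ?_
        · intro a ha
          obtain ⟨b, hb, rfl⟩ := ha
          refine Subtype.ext ?_
          show (b : G) * u * (b : G)⁻¹ = u
          exact mul_inv_eq_iff_eq_mul.mpr (Thompson.elab_commute hA.2.1 hb u.2.1.1)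
        · exact Subtype.ext (congrArg (fun z : OddOffender.fix ρ (A' : Set (act T L).range) =>
            ((z : modV T L) : G)) h)
      have h4 := card_mul_index (OddOffender.fix ρ (A' : Set (act T L).range))
      have h5 : 0 < Nat.card ↥(A ⊓ kerV T L) := Nat.card_pos
      by_contra hlt
      rw [not_le] at hlt
      have h6 : Nat.card A' * Nat.card ↥(A ⊓ kerV T L) *
          Nat.card (OddOffender.fix ρ (A' : Set (act T L).range)) <
          Nat.card ↥(A ⊓ kerV T L) * Nat.card (modV T L) := by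
        rw [← h4, mul_comm (Nat.card A'), mul_assoc]
        refine Nat.mul_lt_mul_of_pos_left ?_ h5
        rw [mul_comm (Nat.card A')]
        exact Nat.mul_lt_mul_of_pos_left hlt Nat.card_pos
      rw [hcard] at h6
      have h7 := Nat.mul_le_mul h1 h3
      rw [h2] at h7
      omega
    have h := OddOffender.le_closure_trans ρ (act T L).range.subtype_injective s.modV_sq
      s.core_trivial A' hA' hle
    exact h.trans (closure_mono fun a ha =>
      ⟨map_mono (comap_mono hAJ) ha.1, ha.2⟩)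
  rintro _ ⟨j, hj, rfl⟩
  have hle : thompsonSubgroupOf 2 T ≤ ((closure {a | a ∈ ((thompsonSubgroupOf 2 T).subgroupOf L).map π ∧
      OddOffender.IsTrans ρ a}).comap π).map L.subtype := by
    conv_lhs => rw [Thompson.thompsonSubgroupOf_eq]
    refine sSup_le fun A hA a ha => ⟨⟨a, s.le (hA.1 ha)⟩, key A hA ⟨⟨a, s.le (hA.1 ha)⟩, ha, rfl⟩, rfl⟩
  obtain ⟨j', hj', e⟩ := hle hj
  exact (L.subtype_injective e) ▸ hj'

/-- What we know about a component inside `L`. -/
structure Info (s : Setting T L) (K : Subgroup G) (j : G) (η : (act T L).range)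
    (v : modV T L) : Prop where
  j_mem : j ∈ thompsonSubgroupOf 2 T
  j_L : j ∈ L
  tf : letI := s.commV
    OddOffender.TF (act T L).range.subtype ((act T L).rangeRestrict ⟨j, j_L⟩) η v
  image : (K.subgroupOf L).map (act T L).rangeRestrict = zpowers η
  core : pCoreOf 2 K ≤ pCoreOf 2 L
  normal : pCoreOf 2 L ≤ normalizer (K : Set G)
  w_eq : letI := s.commV
    wOf K = (OddOffender.comm (act T L).range.subtype η).map (modV T L).subtype
  gen : ∃ k ∈ K, k * j * k⁻¹ * j⁻¹ ∈ K ∧ k * j * k⁻¹ * j⁻¹ ∉ pCoreOf 2 K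

/-- The core of `L` normalizes a component. -/
theorem core_normalizes (s : Setting T L) (d : Data (thompsonSubgroupOf 2 T) K) (hKL : K ≤ L) :
    pCoreOf 2 L ≤ normalizer (K : Set G) := by
  have : Fact (Nat.Prime 2) := ⟨Nat.prime_two⟩
  set X := pCoreOf 2 L with hX
  set D := X ⊓ normalizer (K : Set G) with hD
  have hXn : L ≤ normalizer (X : Set G) := Functor.le_normalizer_pCoreOf 2 L
  let L' : Subgroup G :=
    { carrier := {h | h ∈ L ⊓ normalizer (K : Set G) ∧ ∀ x ∈ X, x * h * x⁻¹ * h⁻¹ ∈ D}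
      one_mem' := ⟨one_mem _, fun x _ => by simp⟩
      mul_mem' := fun {g h} hg hh => ⟨mul_mem hg.1 hh.1, fun x hx => by
        rw [show x * (g * h) * x⁻¹ * (g * h)⁻¹
          = (x * g * x⁻¹ * g⁻¹) * (g * (x * h * x⁻¹ * h⁻¹) * g⁻¹) by group]
        have h1 := hh.2 x hx
        exact mul_mem (hg.2 x hx) ⟨(mem_normalizer_iff.mp (hXn hg.1.1) _).mp h1.1,
          Subgroup.mul_mem _ (Subgroup.mul_mem _ hg.1.2 h1.2) (Subgroup.inv_mem _ hg.1.2)⟩⟩
      inv_mem' := fun {g} hg => ⟨inv_mem hg.1, fun x hx => by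
        have h1 := hg.2 x hx
        rw [show x * g⁻¹ * x⁻¹ * g⁻¹⁻¹ = g⁻¹ * (x * g * x⁻¹ * g⁻¹)⁻¹ * g⁻¹⁻¹ by group]
        exact ⟨(mem_normalizer_iff.mp (hXn (inv_mem hg.1.1)) _).mp (inv_mem h1.1),
          Subgroup.mul_mem _ (Subgroup.mul_mem _ (Subgroup.inv_mem _ hg.1.2) (Subgroup.inv_mem _ h1.2))
            (Subgroup.inv_mem _ (Subgroup.inv_mem _ hg.1.2))⟩⟩ }
  have hJL' : thompsonSubgroupOf 2 T ≤ L' := fun j hj => by
    have hjT := Thompson.thompsonSubgroupOf_le T hj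
    refine ⟨⟨s.le hjT, d.le_normalizer hj⟩, fun x hx => ⟨?_, ?_⟩⟩
    · rw [show x * j * x⁻¹ * j⁻¹ = x * (j * x⁻¹ * j⁻¹) by group]
      exact mul_mem hx ((mem_normalizer_iff.mp (hXn (s.le hjT)) _).mp (inv_mem hx))
    · refine Subgroup.mul_mem _ (d.le_normalizer ?_) (Subgroup.inv_mem _ (d.le_normalizer hj))
      exact (mem_normalizer_iff.mp (Thompson.normalizer_le_normalizer_thompsonSubgroupOf T
        (Subgroup.le_normalizer (s.core_le hx))) j).mp hj
  have hKL' : K ≤ L' := by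
    refine (le_of_eq d.comm.symm).trans (commutator_le.mpr ?_)
    intro g hg j hj
    rw [commutatorElement_def]
    have hgn : g ∈ L ⊓ normalizer (K : Set G) := ⟨hKL hg, Subgroup.le_normalizer hg⟩
    refine mul_mem ⟨mul_mem (mul_mem hgn (hJL' hj).1) (inv_mem hgn), fun x hx => ?_⟩
      (inv_mem (hJL' hj))
    have h1 := (hJL' hj).2 (g⁻¹ * x * g) (by
      simpa using (mem_normalizer_iff.mp (hXn (inv_mem hgn.1)) x).mp hx)
    rw [show x * (g * j * g⁻¹) * x⁻¹ * (g * j * g⁻¹)⁻¹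
      = g * ((g⁻¹ * x * g) * j * (g⁻¹ * x * g)⁻¹ * j⁻¹) * g⁻¹ by group]
    exact ⟨(mem_normalizer_iff.mp (hXn hgn.1) _).mp h1.1,
      Subgroup.mul_mem _ (Subgroup.mul_mem _ hgn.2 h1.2) (Subgroup.inv_mem _ hgn.2)⟩
  intro x hx
  refine LocalB.mem_normalizer_of_conj_le ?_
  have hle : closure {g : G | g ∈ K ∧ Odd (orderOf g)} ≤
      K.comap (MulAut.conj x).toMonoidHom := (closure_le _).mpr (by
    rintro g ⟨hg, hodd⟩
    show x * g * x⁻¹ ∈ K
    refine mem_of_odd (X := D) inf_le_right ((Functor.isPGroup_pCoreOf L).to_le inf_le_left) ?_ ?_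
    · have h1 := (hKL' hg).2 x hx
      rw [show x * g * x⁻¹ = (x * g * x⁻¹ * g⁻¹) * g by group]
      exact mul_mem (mem_sup_right h1) (mem_sup_left hg)
    · rwa [show x * g * x⁻¹ = (MulAut.conj x).toMonoidHom g from rfl,
        orderOf_injective _ (MulAut.conj x).injective])
  rw [d.gen] at hle
  exact hle

theorem inf_kerV_le (s : Setting T L) (d : Data (thompsonSubgroupOf 2 T) K) (hKL : K ≤ L) {y : G}
    (hy : y ∈ K) (hyC : y ∈ kerV T L) : y ∈ pCoreOf 2 K := by
  have : Fact (Nat.Prime 2) := ⟨Nat.prime_two⟩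
  by_contra hyQ
  have hKC : K ≤ pCoreOf 2 K ⊔ kerV T L := d.le_of_core_le le_sup_left hy hyQ (mem_sup_right hyC)
  have hCn : pCoreOf 2 K ≤ normalizer (kerV T L : Set G) := fun q hq =>
    LocalB.mem_normalizer_of_conj_le fun c hc => kerV_conj (hKL (Functor.pCoreOf_le 2 K hq)) hc
  have hKker : K ≤ kerV T L := by
    refine (le_of_eq d.gen.symm).trans ((closure_le _).mpr ?_)
    rintro g ⟨hg, hodd⟩
    exact mem_of_odd hCn (Functor.isPGroup_pCoreOf K) (by rw [sup_comm]; exact hKC hg) hodd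
  have hKX : K ≤ pCoreOf 2 L := by
    refine (le_of_eq d.comm.symm).trans (commutator_le.mpr ?_)
    intro k hk j hj
    have h1 := (s.j_le_central hj).2 k (hKker hk)
    rw [commutatorElement_def, show k * j * k⁻¹ * j⁻¹ = (j * k * j⁻¹ * k⁻¹)⁻¹ by group]
    exact inv_mem h1
  have h2 : K ≤ pCoreOf 2 K := Functor.le_pCoreOf le_rfl Subgroup.le_normalizer
    ((Functor.isPGroup_pCoreOf L).to_le hKX)
  have := relIndex_eq_one.mpr h2
  rw [d.three] at this
  omega

theorem exists_info (s : Setting T L) (d : Data (thompsonSubgroupOf 2 T) K) (hKL : K ≤ L) :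
    ∃ j η v, Info s K j η v := by
  have : Fact (Nat.Prime 2) := ⟨Nat.prime_two⟩
  letI := s.commV
  haveI := s.solv_range
  set π := (act T L).rangeRestrict with hπ
  set ρ := (act T L).range.subtype with hρdef
  set J := thompsonSubgroupOf 2 T
  set Q := pCoreOf 2 K with hQ
  have hρ : Function.Injective ρ := (act T L).range.subtype_injective
  have hV := s.modV_sq
  have hO := s.core_trivial
  have hJL : J ≤ L := (Thompson.thompsonSubgroupOf_le T).trans s.le
  have hQn : K ⊔ J ≤ normalizer (Q : Set G) :=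
    d.sup_le_normalizer.trans (normalizer_le_normalizer_pCoreOf 2 K)
  have hKJ : ∀ k ∈ K, ∀ j ∈ J, k * j * k⁻¹ * j⁻¹ ∈ K := fun k hk j hj => by
    rw [show k * j * k⁻¹ * j⁻¹ = k * (j * k⁻¹ * j⁻¹) by group]
    exact mul_mem hk ((mem_normalizer_iff.mp (d.le_normalizer hj) _).mp (inv_mem hk))
  -- some transvection moves the component
  obtain ⟨j, hj, hjt, k, hk, he⟩ : ∃ j, ∃ hj : j ∈ J,
      OddOffender.IsTrans ρ (π ⟨j, hJL hj⟩) ∧ ∃ k ∈ K, k * j * k⁻¹ * j⁻¹ ∉ Q := by
    by_contra hno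
    simp only [not_exists, not_and, not_not] at hno
    let J' : Subgroup G :=
      { carrier := {j | j ∈ J ∧ ∀ k ∈ K, k * j * k⁻¹ * j⁻¹ ∈ Q}
        one_mem' := ⟨one_mem _, fun k _ => by simp⟩
        mul_mem' := fun {g h} hg hh => ⟨mul_mem hg.1 hh.1, fun k hk => by
          rw [show k * (g * h) * k⁻¹ * (g * h)⁻¹
            = (k * g * k⁻¹ * g⁻¹) * (g * (k * h * k⁻¹ * h⁻¹) * g⁻¹) by group]
          exact mul_mem (hg.2 k hk)
            ((mem_normalizer_iff.mp (hQn (mem_sup_right hg.1)) _).mp (hh.2 k hk))⟩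
        inv_mem' := fun {g} hg => ⟨inv_mem hg.1, fun k hk => by
          rw [show k * g⁻¹ * k⁻¹ * g⁻¹⁻¹ = g⁻¹ * (k * g * k⁻¹ * g⁻¹)⁻¹ * g⁻¹⁻¹ by group]
          exact (mem_normalizer_iff.mp (hQn (mem_sup_right (inv_mem hg.1))) _).mp
            (inv_mem (hg.2 k hk))⟩ }
    have hcl : (J.subgroupOf L).map π ≤ (J'.subgroupOf L).map π :=
      (s.j_le_closure_trans).trans ((closure_le _).mpr (by
        rintro _ ⟨⟨⟨g, hgL⟩, hg, rfl⟩, ht⟩
        exact ⟨⟨g, hgL⟩, ⟨hg, fun k hk => hno g hg ht k hk⟩, rfl⟩))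
    have hJ' : J ≤ J' := fun g hg => by
      obtain ⟨⟨g', hg'L⟩, hg', e⟩ := hcl ⟨⟨g, hJL hg⟩, hg, rfl⟩
      have hdC : g'⁻¹ * g ∈ kerV T L := mem_kerV_iff.mpr ⟨mul_mem (inv_mem hg'L) (hJL hg), by
        rw [show (⟨g'⁻¹ * g, _⟩ : L) = (⟨g', hg'L⟩ : L)⁻¹ * ⟨g, hJL hg⟩ from rfl, map_mul,
          map_inv, e, inv_mul_cancel]⟩
      have hdJ : g'⁻¹ * g ∈ J := mul_mem (inv_mem hg'.1) hg
      have hd : g'⁻¹ * g ∈ J' := ⟨hdJ, fun k hk => s.inf_kerV_le d hKL (hKJ k hk _ hdJ)
        (mul_mem (kerV_conj (hKL hk) hdC) (inv_mem hdC))⟩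
      simpa using J'.mul_mem hg' hd
    have hKQ : K ≤ Q := (le_of_eq d.comm.symm).trans (commutator_le.mpr fun k hk j hj => by
      rw [commutatorElement_def]; exact (hJ' hj).2 k hk)
    have := relIndex_eq_one.mpr hKQ
    rw [d.three] at this
    omega
  obtain ⟨η, v, htf⟩ := OddOffender.exists_TF ρ hρ hV hO hjt
  set a := π ⟨j, hJL hj⟩
  set kk := π ⟨k, hKL hk⟩
  set e := k * j * k⁻¹ * j⁻¹ with hedef
  have heK : e ∈ K := hKJ k hk j hj
  have hπe : π ⟨e, hKL heK⟩ = (kk * a * kk⁻¹) * a := by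
    rw [show (⟨e, hKL heK⟩ : L) = ⟨k, hKL hk⟩ * ⟨j, hJL hj⟩ * (⟨k, hKL hk⟩ : L)⁻¹ *
      (⟨j, hJL hj⟩ : L)⁻¹ from rfl, map_mul, map_mul, map_mul, map_inv, map_inv]
    show kk * a * kk⁻¹ * a⁻¹ = _
    rw [inv_eq_of_mul_eq_one_right htf.sq]
  have htf' := htf.conj (hρ := hρ) (hV := hV) (hO := hO) kk
  obtain ⟨-, hηu, hune⟩ : (kk * η * kk⁻¹) ∈ zpowers η ∧
      (kk * a * kk⁻¹) * a ∈ zpowers η ∧ (kk * a * kk⁻¹) * a ≠ 1 := by
    rcases htf.commute_or (hρ := hρ) (hV := hV) (hO := hO) htf' with hc | ⟨h1, -, h2, h3⟩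
    · exfalso
      apply he
      have hsq : π ⟨e, hKL heK⟩ * π ⟨e, hKL heK⟩ = 1 := by
        rw [hπe]
        calc kk * a * kk⁻¹ * a * (kk * a * kk⁻¹ * a)
            = kk * a * kk⁻¹ * (a * (kk * a * kk⁻¹)) * a := by group
          _ = kk * a * kk⁻¹ * (kk * a * kk⁻¹) * (a * a) := by rw [hc]; group
          _ = 1 := by rw [htf'.sq, htf.sq, one_mul]
      have h2 : e * e ∈ pCoreOf 2 K := s.inf_kerV_le d hKL (mul_mem heK heK)
        (mem_kerV_iff.mpr ⟨mul_mem (hKL heK) (hKL heK), by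
          rw [show (⟨e * e, _⟩ : L) = ⟨e, hKL heK⟩ * ⟨e, hKL heK⟩ from rfl, map_mul, hsq]⟩)
      have hQnK : (Q.subgroupOf K).Normal := (normal_subgroupOf_iff_le_normalizer
        (Functor.pCoreOf_le 2 K)).2 (Functor.le_normalizer_pCoreOf 2 K)
      have h3 : (⟨e, heK⟩ : K) ^ (Q.subgroupOf K).index ∈ Q.subgroupOf K := pow_index_mem _ _
      rw [show (Q.subgroupOf K).index = 3 from d.three, pow_succ, pow_two] at h3
      have h4 : (⟨e, heK⟩ : K) * ⟨e, heK⟩ ∈ Q.subgroupOf K := h2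
      have h5 := mul_mem (inv_mem h4) h3
      rwa [inv_mul_cancel_left] at h5
    · exact ⟨h1, h2, h3⟩
  rw [← hπe] at hηu hune
  have hηimg : η ∈ (K.subgroupOf L).map π := by
    obtain ⟨i, hi⟩ := mem_zpowers_iff.mp hηu
    have hu : π ⟨e, hKL heK⟩ ∈ (K.subgroupOf L).map π := ⟨_, heK, rfl⟩
    rw [← hi] at hu hune
    have h3 : η ^ (3 : ℤ) = 1 := by exact_mod_cast htf.fac.2.1
    have hmod : η ^ i = η ^ (i % 3) := by
      conv_lhs => rw [← Int.emod_add_mul_ediv i 3, zpow_add, zpow_mul, h3, one_zpow, mul_one]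
    rw [hmod] at hu hune
    rcases (show i % 3 = 0 ∨ i % 3 = 1 ∨ i % 3 = 2 by omega) with e' | e' | e' <;>
      rw [e'] at hu hune
    · simp at hune
    · simpa using hu
    · have := mul_mem hu hu
      rwa [← zpow_add, show (2 : ℤ) + 2 = 3 + 1 by norm_num, zpow_add, h3, one_mul, zpow_one] at this
  -- `K` maps into the Fitting subgroup
  have hKF : K ≤ ((fittingSubgroup (act T L).range).comap π).map L.subtype := by
    set F := ((fittingSubgroup (act T L).range).comap π).map L.subtype with hF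
    have hFn : L ≤ normalizer (F : Set G) := Functor.le_normalizer_map_of_normal _
    have heF : e ∈ F := ⟨⟨e, hKL heK⟩, by
      obtain ⟨i, hi⟩ := mem_zpowers_iff.mp hηu
      show π ⟨e, hKL heK⟩ ∈ fittingSubgroup (act T L).range
      rw [← hi]; exact zpow_mem htf.fac.1 i, rfl⟩
    have hQFn : Q ≤ normalizer (F : Set G) := ((Functor.pCoreOf_le 2 K).trans hKL).trans hFn
    have hKFQ : K ≤ F ⊔ Q := d.le_of_core_le le_sup_right heK he (mem_sup_left heF)
    refine (le_of_eq d.gen.symm).trans ((closure_le _).mpr ?_)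
    rintro g ⟨hg, hodd⟩
    exact mem_of_odd hQFn (Functor.isPGroup_pCoreOf K) (hKFQ hg) hodd
  have hQker : Q ≤ kerV T L := fun q hq => by
    have hqL := hKL (Functor.pCoreOf_le 2 K hq)
    refine mem_kerV_iff.mpr ⟨hqL, ?_⟩
    obtain ⟨q', hq', e'⟩ := hKF (Functor.pCoreOf_le 2 K hq)
    have hF : π ⟨q, hqL⟩ ∈ fittingSubgroup (act T L).range := by
      rw [show (⟨q, hqL⟩ : L) = q' from (L.subtype_injective e').symm]; exact hq'
    obtain ⟨m, hm⟩ := Functor.isPGroup_pCoreOf (p := 2) K ⟨q, hq⟩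
    have hodd := OddOffender.odd_of_mem_fitting ρ hρ hV hO hF
    have h1 : orderOf (π ⟨q, hqL⟩) ∣ 2 ^ m := by
      refine (orderOf_map_dvd π _).trans (orderOf_dvd_of_pow_eq_one (Subtype.ext ?_))
      exact (congrArg Subtype.val hm : (q : G) ^ 2 ^ m = 1)
    have h2 := Nat.dvd_gcd h1 dvd_rfl
    rw [Nat.Coprime.gcd_eq_one (Nat.Coprime.pow_left _ (Nat.coprime_two_left.mpr hodd)),
      Nat.dvd_one] at h2
    exact orderOf_eq_one_iff.mp h2
  have hQX : Q ≤ pCoreOf 2 L := s.mem_core_of_isPGroup (Functor.isPGroup_pCoreOf K) hQker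
  have himg : (K.subgroupOf L).map π = zpowers η := by
    refine le_antisymm ?_ (zpowers_le.mpr hηimg)
    have hKZ : K ≤ ((zpowers η).comap π).map L.subtype := by
      refine d.le_of_core_le (fun q hq => ⟨⟨q, hKL (Functor.pCoreOf_le 2 K hq)⟩, ?_, rfl⟩) heK he
        ⟨⟨e, hKL heK⟩, hηu, rfl⟩
      show π ⟨q, _⟩ ∈ zpowers η
      obtain ⟨_, h⟩ := mem_kerV_iff.mp (hQker hq)
      rw [h]; exact one_mem _
    rintro _ ⟨⟨g, hgL⟩, hg, rfl⟩
    obtain ⟨g', hg', e'⟩ := hKZ hg
    rw [show (⟨g, hgL⟩ : L) = g' from (L.subtype_injective e').symm]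
    exact hg'
  have hXK := s.core_normalizes d hKL
  have hw : wOf K = (OddOffender.comm ρ η).map (modV T L).subtype := by
    obtain ⟨⟨y, hyL⟩, hy, hyη⟩ := hηimg
    have hle : (OddOffender.comm ρ η).map (modV T L).subtype ≤ omegaCenterOf Q := by
      rintro _ ⟨_, ⟨x, rfl⟩, rfl⟩
      have hxs := s.omega_le x.2
      have hzs := s.omega_le ((OddOffender.delta ρ η x)).2
      have hzK : ((OddOffender.delta ρ η x : modV T L) : G) ∈ K := by
        show (x : G) * ((η : MulAut (modV T L)) x : modV T L) ∈ K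
        rw [← hyη]
        show (x : G) * (y * x * y⁻¹) ∈ K
        rw [show (x : G) * (y * x * y⁻¹) = ((x : G) * y * (x : G)⁻¹) * ((x : G) * x) * y⁻¹ by group,
          ← pow_two, hxs.2.2, mul_one]
        exact mul_mem ((mem_normalizer_iff.mp (hXK hxs.1) y).mp hy) (inv_mem hy)
      have hKXle : K ⊓ pCoreOf 2 L ≤ Q := Functor.le_pCoreOf inf_le_left (fun k hk =>
        LocalB.mem_normalizer_of_conj_le fun u hu => ⟨K.mul_mem (K.mul_mem hk hu.1) (K.inv_mem hk),
          (mem_normalizer_iff.mp (Functor.le_normalizer_pCoreOf 2 L (hKL hk)) u).mp hu.2⟩)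
        ((Functor.isPGroup_pCoreOf L).to_le inf_le_right)
      exact Thompson.mem_omegaOne ⟨hKXle ⟨hzK, hzs.1⟩,
        mem_centralizer_iff.mpr fun u hu => mem_centralizer_iff.mp hzs.2.1 u (hQX hu)⟩ hzs.2.2
    refine (eq_of_le_of_card_ge ?_ ?_).symm
    · have hodd := OddOffender.odd_of_cube ρ hρ hV htf.fac.2.1
      let f : OddOffender.comm ρ η → OddOffender.comm ρ η :=
        fun z => ⟨OddOffender.delta ρ η z, ⟨z, rfl⟩⟩
      have hf : Function.Injective f := fun z z' h => by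
        have h' : OddOffender.delta ρ η z = OddOffender.delta ρ η z' := congrArg Subtype.val h
        refine Subtype.ext (inv_mul_eq_one.mp (OddOffender.eq_one_of_mem_comm_of_fix ρ hV hodd
          (mul_mem (inv_mem z.2) z'.2) ((OddOffender.mem_fix_singleton ρ).mp
            ((OddOffender.ker_delta ρ hV η).le ?_))))
        rw [MonoidHom.mem_ker, map_mul, map_inv, h', inv_mul_cancel]
      rintro _ ⟨w, hw, rfl⟩
      obtain ⟨⟨z, hz⟩, hzw⟩ := Finite.surjective_of_injective hf ⟨w, hw⟩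
      have hzw' : OddOffender.delta ρ η z = w := congrArg Subtype.val hzw
      have hzΩ : (z : G) ∈ omegaCenterOf Q := hle ⟨z, hz, rfl⟩
      have h := commutator_mem_commutator hzΩ hy
      rw [← hzw']
      show (z : G) * ((η : MulAut (modV T L)) z : modV T L) ∈ wOf K
      rw [← hyη]
      show (z : G) * (y * z * y⁻¹) ∈ wOf K
      rw [commutatorElement_def, inv_eq_of_mul_eq_one_right
        (show (z : G) * z = 1 by rw [← pow_two]; exact (s.omega_le z.2).2.2)] at h
      simpa [wOf, mul_assoc] using h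
    · rw [card_map_of_injective (f := (modV T L).subtype) (modV T L).subtype_injective,
        OddOffender.card_comm ρ hV, htf.fac.2.2.2, d.card]
  exact ⟨j, η, v, hj, hJL hj, htf, himg, hQX, hXK, hw, k, hk, heK, he⟩

/-- An element conjugating `W` to a subgroup meeting it non-trivially normalizes the component. -/
theorem mem_normalizer_of_w (s : Setting T L) (d : Data (thompsonSubgroupOf 2 T) K) (hKL : K ≤ L)
    {g w : G} (hgL : g ∈ L) (hw : w ∈ wOf K) (hw1 : w ≠ 1) (hgw : g * w * g⁻¹ ∈ wOf K) :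
    g ∈ normalizer (K : Set G) := by
  have : Fact (Nat.Prime 2) := ⟨Nat.prime_two⟩
  letI := s.commV
  haveI := s.solv_range
  set π := (act T L).rangeRestrict with hπ
  set ρ := (act T L).range.subtype with hρdef
  have hρ : Function.Injective ρ := (act T L).range.subtype_injective
  have hV := s.modV_sq
  have hO := s.core_trivial
  obtain ⟨j, η, v, hjJ, hjL, htf, himg, hQX, hXK, hweq, k, hk, heK, he⟩ := s.exists_info d hKL
  set gg := π ⟨g, hgL⟩
  -- the conjugate factor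
  rw [hweq] at hw hgw
  obtain ⟨u, hu, rfl⟩ := hw
  obtain ⟨u', hu', hu'e⟩ := hgw
  have hu1 : u ≠ 1 := fun h => hw1 (by rw [h]; rfl)
  have hgu : ρ gg u = u' := Subtype.ext hu'e.symm
  have hfac' := OddOffender.IsFactor.conj ρ hρ hV hO htf.fac gg
  have hz : gg * η * gg⁻¹ ∈ zpowers η := by
    refine OddOffender.mem_zpowers_of_inf_ne_bot ρ hρ hV hO htf.fac hfac' fun hb => ?_
    have h1 : u' ∈ OddOffender.comm ρ (gg * η * gg⁻¹) := by
      rw [← OddOffender.map_comm_eq ρ hρ hV, ← hgu]; exact ⟨u, hu, rfl⟩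
    have h3 : u' ∈ OddOffender.comm ρ η ⊓ OddOffender.comm ρ (gg * η * gg⁻¹) := ⟨hu', h1⟩
    rw [hb] at h3
    have h2 : u' = 1 := mem_bot.mp h3
    exact hu1 ((ρ gg).injective ((hgu.trans h2).trans (map_one _).symm))
  have htf2 := htf.conj (hρ := hρ) (hV := hV) (hO := hO) gg
  -- a power of `η` with the same centre
  set v2 := ρ gg v with hv2
  have hv2mem : v2 ∈ OddOffender.comm ρ η :=
    OddOffender.comm_eq_of_mem_zpowers ρ hρ hV hO htf.fac hfac' hz ▸ htf2.mem
  obtain ⟨⟨y, hyL⟩, hyK, hyη⟩ : η ∈ (K.subgroupOf L).map π := himg ▸ mem_zpowers η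
  obtain ⟨i, hi⟩ : ∃ i : ℕ, ρ (η ^ i) v = v2 := by
    by_contra hno
    simp only [not_exists] at hno
    have hodd := OddOffender.odd_of_cube ρ hρ hV htf.fac.2.1
    have hmap : ∀ z ∈ OddOffender.comm ρ η, ρ η z ∈ OddOffender.comm ρ η := by
      rintro _ ⟨x, rfl⟩
      exact ⟨ρ η x, by
        show ρ η x * ρ η (ρ η x) = ρ η (x * ρ η x)
        rw [map_mul]⟩
    classical
    have : Fintype (OddOffender.comm ρ η) := Fintype.ofFinite _
    have hn1 : ∀ z, z ≠ 1 → ρ η z ≠ 1 := fun z hz h => hz ((ρ η).injective (h.trans (map_one _).symm))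
    have hv1 : ρ η v ≠ v := fun h =>
      htf.ne (OddOffender.eq_one_of_mem_comm_of_fix ρ hV hodd htf.mem h)
    have hw1 : ρ η (ρ η v) ≠ v := fun h => hv1 (OddOffender.fix_of_sq ρ hV hodd h)
    have hT : ({1, ⟨v, htf.mem⟩, ⟨_, hmap v htf.mem⟩, ⟨_, hmap _ (hmap v htf.mem)⟩, ⟨v2, hv2mem⟩} :
        Finset (OddOffender.comm ρ η)).card = 5 := by
      rw [Finset.card_insert_of_notMem, Finset.card_insert_of_notMem, Finset.card_insert_of_notMem,
        Finset.card_pair]
      · simp only [Ne, Subtype.mk.injEq]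
        exact fun h => hno 2 (by rw [pow_two, OddOffender.apply_mul, h])
      · simp only [Finset.mem_insert, Finset.mem_singleton, Subtype.mk.injEq, not_or]
        exact ⟨fun h => hv1 ((ρ η).injective h).symm, fun h => hno 1 (by rw [pow_one, h])⟩
      · simp only [Finset.mem_insert, Finset.mem_singleton, Subtype.mk.injEq, not_or]
        exact ⟨hv1.symm, hw1.symm, fun h => hno 0 (by rw [pow_zero, OddOffender.apply_one, h])⟩
      · simp only [Finset.mem_insert, Finset.mem_singleton, Subtype.ext_iff, not_or]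
        exact ⟨fun h => htf.ne (Subtype.ext h.symm), fun h => hn1 v htf.ne (Subtype.ext h.symm),
          fun h => hn1 _ (hn1 v htf.ne) (Subtype.ext h.symm),
          fun h => htf.ne ((ρ gg).injective ((Subtype.ext h.symm : v2 = 1).trans (map_one _).symm))⟩
    have := Finset.card_le_univ
      ({1, ⟨v, htf.mem⟩, ⟨_, hmap v htf.mem⟩, ⟨_, hmap _ (hmap v htf.mem)⟩, ⟨v2, hv2mem⟩} :
        Finset (OddOffender.comm ρ η))
    rw [hT, ← Nat.card_eq_fintype_card, OddOffender.card_comm ρ hV, htf.fac.2.2.2] at this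
    omega
  -- remove the power of `η`
  set n := (y ^ i)⁻¹ * g with hn
  have hnL : n ∈ L := mul_mem (inv_mem (pow_mem hyL i)) hgL
  have hnn : π ⟨n, hnL⟩ = (η ^ i)⁻¹ * gg := by
    rw [show (⟨n, hnL⟩ : L) = ((⟨y, hyL⟩ : L) ^ i)⁻¹ * ⟨g, hgL⟩ from rfl, map_mul, map_inv,
      map_pow, hyη]
  set a := π ⟨j, hjL⟩
  set nn := (η ^ i)⁻¹ * gg with hnn'
  have htf3 := htf.conj (hρ := hρ) (hV := hV) (hO := hO) nn
  have hzn : nn * η * nn⁻¹ ∈ zpowers η := by
    rw [hnn', show (η ^ i)⁻¹ * gg * η * ((η ^ i)⁻¹ * gg)⁻¹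
      = (η ^ i)⁻¹ * (gg * η * gg⁻¹) * η ^ i by group]
    exact mul_mem (mul_mem (inv_mem (pow_mem (mem_zpowers η) i)) hz) (pow_mem (mem_zpowers η) i)
  have hvn : ρ nn v = v := by
    rw [hnn', OddOffender.apply_mul, ← hv2, ← hi, ← OddOffender.apply_mul, inv_mul_cancel,
      OddOffender.apply_one]
  rw [hvn] at htf3
  have hfacn := htf3.fac
  have haeq : nn * a * nn⁻¹ = a := by
    refine hρ (MulEquiv.ext fun x => ?_)
    obtain ⟨f, hf, w', hw', rfl⟩ := OddOffender.exists_split ρ hρ hV hO htf.fac x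
    rw [map_mul (ρ (nn * a * nn⁻¹)) f, map_mul (ρ a) f, htf.triv f hf,
      htf3.triv f ((OddOffender.fix_eq_of_mem_zpowers ρ hρ hV hO htf.fac hfacn hzn).ge hf)]
    congr 1
    by_cases h1 : w' = 1
    · rw [h1, map_one, map_one]
    by_cases h2 : w' = v
    · rw [h2, htf.fixes, htf3.fixes]
    rw [htf.moves w' hw' h1 h2, htf3.moves w'
      ((OddOffender.comm_eq_of_mem_zpowers ρ hρ hV hO htf.fac hfacn hzn).ge hw') h1 h2]
  -- compute modulo the core
  set X := pCoreOf 2 L with hX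
  have hXL : (X.subgroupOf L).Normal := (normal_subgroupOf_iff_le_normalizer
    (Functor.pCoreOf_le 2 L)).2 (Functor.le_normalizer_pCoreOf 2 L)
  set q := QuotientGroup.mk' (X.subgroupOf L)
  have hcomm : ∀ (l : L) (c : L), (l : G) ∈ central T L → (c : G) ∈ kerV T L →
      Commute (q l) (q c) := fun l c hl hc => by
    rw [← commutatorElement_eq_one_iff_commute, ← map_commutatorElement, QuotientGroup.mk'_apply,
      QuotientGroup.eq_one_iff]
    exact hl.2 c hc
  set jj : L := ⟨j, hjL⟩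
  set n' : L := ⟨n, hnL⟩
  have hjc : (jj : G) ∈ central T L := s.j_le_central hjJ
  have hKc : K ≤ central T L := (le_of_eq d.comm.symm).trans (commutator_le.mpr fun k' hk' j' hj' => by
    rw [commutatorElement_def]
    exact mul_mem (central_conj (hKL hk') (s.j_le_central hj')) (inv_mem (s.j_le_central hj')))
  set kn : L := n' * ⟨k, hKL hk⟩ * n'⁻¹
  obtain ⟨⟨k', hk'L⟩, hk', hk'e⟩ : π kn ∈ (K.subgroupOf L).map π := by
    rw [himg]
    obtain ⟨i', hi'⟩ : π ⟨k, hKL hk⟩ ∈ zpowers η := himg ▸ ⟨_, hk, rfl⟩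
    show π (n' * ⟨k, hKL hk⟩ * n'⁻¹) ∈ zpowers η
    rw [map_mul, map_mul, map_inv, hnn, ← hi']
    show nn * η ^ i' * nn⁻¹ ∈ zpowers η
    rw [← conj_zpow]
    exact zpow_mem hzn i'
  set kk' : L := ⟨k', hk'L⟩
  set c1 : L := kk'⁻¹ * kn
  have hknc : (kn : G) ∈ central T L := central_conj hnL (hKc hk)
  have hc1c : (c1 : G) ∈ central T L := mul_mem (inv_mem (hKc hk')) hknc
  have hc1 : (c1 : G) ∈ kerV T L := mem_kerV_iff.mpr ⟨c1.2, by
    show π c1 = 1
    rw [show c1 = kk'⁻¹ * kn from rfl, map_mul, map_inv, hk'e, inv_mul_cancel]⟩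
  set c : L := n' * jj * n'⁻¹ * jj⁻¹
  have hcc : (c : G) ∈ kerV T L := mem_kerV_iff.mpr ⟨c.2, by
    show π c = 1
    rw [show c = n' * jj * n'⁻¹ * jj⁻¹ from rfl, map_mul, map_mul, map_mul, map_inv, map_inv, hnn]
    show nn * a * nn⁻¹ * a⁻¹ = 1
    rw [haeq, mul_inv_cancel]⟩
  have e1 : Commute (q jj) (q c1) := hcomm _ _ hjc hc1
  have e2 : Commute (q c1) (q c) := hcomm _ _ hc1c hcc
  have e3 : Commute (q kk') (q c) := hcomm _ _ (hKc hk') hcc
  have e4 : Commute (q jj) (q c) := hcomm _ _ hjc hcc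
  have hmain : q (n' * (⟨k, hKL hk⟩ * jj * (⟨k, hKL hk⟩ : L)⁻¹ * jj⁻¹) * n'⁻¹)
      = q (kk' * jj * kk'⁻¹ * jj⁻¹) := by
    rw [show n' * (⟨k, hKL hk⟩ * jj * (⟨k, hKL hk⟩ : L)⁻¹ * jj⁻¹) * n'⁻¹
      = (kk' * c1) * (c * jj) * (kk' * c1)⁻¹ * (c * jj)⁻¹ by
        show _ = (kk' * (kk'⁻¹ * (n' * ⟨k, hKL hk⟩ * n'⁻¹))) * (n' * jj * n'⁻¹ * jj⁻¹ * jj) *
          (kk' * (kk'⁻¹ * (n' * ⟨k, hKL hk⟩ * n'⁻¹)))⁻¹ * (n' * jj * n'⁻¹ * jj⁻¹ * jj)⁻¹
        group]
    simp only [map_mul, map_inv, mul_inv_rev]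
    generalize q kk' = K' at e3 ⊢
    generalize q jj = J' at e1 e4 ⊢
    generalize q c1 = C1 at e1 e2 ⊢
    generalize q c = C at e2 e3 e4 ⊢
    have h1 : Commute C1 (C * J') := e2.mul_right e1.symm
    calc K' * C1 * (C * J') * (C1⁻¹ * K'⁻¹) * (J'⁻¹ * C⁻¹)
        = K' * (C1 * (C * J') * C1⁻¹) * K'⁻¹ * J'⁻¹ * C⁻¹ := by group
      _ = K' * C * J' * K'⁻¹ * J'⁻¹ * C⁻¹ := by rw [h1.eq, mul_inv_cancel_right]; group
      _ = C * (K' * J' * K'⁻¹ * J'⁻¹) * C⁻¹ := by rw [e3.eq]; group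
      _ = K' * J' * K'⁻¹ * J'⁻¹ := by
        have h2 : Commute (K' * J' * K'⁻¹ * J'⁻¹) C :=
          ((e3.mul_left e4).mul_left e3.inv_left).mul_left e4.inv_left
        rw [h2.symm.eq, mul_inv_cancel_right]
  rw [QuotientGroup.mk'_eq_mk'] at hmain
  obtain ⟨x, hx, hxe⟩ := hmain
  have hne : n * (k * j * k⁻¹ * j⁻¹) * n⁻¹ ∈ K ⊔ X := by
    have h1 : k' * j * k'⁻¹ * j⁻¹ ∈ K := by
      rw [show k' * j * k'⁻¹ * j⁻¹ = k' * (j * k'⁻¹ * j⁻¹) by group]
      exact mul_mem hk' ((mem_normalizer_iff.mp (d.le_normalizer hjJ) _).mp (inv_mem hk'))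
    have h2 : n * (k * j * k⁻¹ * j⁻¹) * n⁻¹ * (x : G) = k' * j * k'⁻¹ * j⁻¹ := congrArg Subtype.val hxe
    rw [← eq_mul_inv_iff_mul_eq] at h2
    rw [h2]
    exact mul_mem (mem_sup_left h1) (mem_sup_right (inv_mem hx))
  have hnK : n ∈ normalizer (K : Set G) := by
    refine LocalB.mem_normalizer_of_conj_le ?_
    have hsub : K ≤ (K ⊔ X).comap (MulAut.conj n).toMonoidHom :=
      d.le_of_core_le (fun q' hq' => mem_sup_right
        ((mem_normalizer_iff.mp (Functor.le_normalizer_pCoreOf 2 L hnL) q').mp (hQX hq'))) heK he hne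
    have hle : closure {g : G | g ∈ K ∧ Odd (orderOf g)} ≤
        K.comap (MulAut.conj n).toMonoidHom := (closure_le _).mpr (by
      rintro g' ⟨hg', hodd⟩
      refine mem_of_odd hXK (Functor.isPGroup_pCoreOf L) (hsub hg') ?_
      rwa [orderOf_injective _ (MulAut.conj n).injective])
    rw [d.gen] at hle
    exact hle
  have := mul_mem (Subgroup.le_normalizer (pow_mem (show y ∈ K from hyK) i)) hnK
  rwa [hn, mul_inv_cancel_left] at this

/-- A component is subnormal in `L`. -/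
theorem subnormal (s : Setting T L) (d : Data (thompsonSubgroupOf 2 T) K) (hKL : K ≤ L) :
    (K.subgroupOf L).IsSubnormal := by
  have : Fact (Nat.Prime 2) := ⟨Nat.prime_two⟩
  letI := s.commV
  haveI := s.solv_range
  set π := (act T L).rangeRestrict with hπ
  obtain ⟨j, η, v, hjJ, hjL, htf, himg, hQX, hXK, hweq, k, hk, heK, he⟩ := s.exists_info d hKL
  -- a subgroup of the Fitting subgroup is subnormal
  have hsn : (zpowers η).IsSubnormal := by
    set F := fittingSubgroup (act T L).range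
    have : Group.IsNilpotent F := Solvable.isNilpotent_fittingSubgroup
    have key : ∀ n, ∀ Z : Subgroup F, Z.index = n → Z.IsSubnormal := by
      intro n
      induction n using Nat.strong_induction_on with
      | _ n ih =>
      intro Z hZ
      by_cases htop : Z = ⊤
      · rw [htop]; exact Subgroup.IsSubnormal.top
      have hlt : Z < normalizer (Z : Set F) :=
        (Group.normalizerCondition_of_isNilpotent Z (lt_top_iff_ne_top.mpr htop))
      refine Subgroup.IsSubnormal.step Z _ hlt.le (ih _ ?_ _ rfl) Subgroup.normal_in_normalizer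
      rw [← hZ]
      exact index_strictAnti hlt
    have h1 := key _ ((zpowers η).subgroupOf F) rfl
    exact Subgroup.IsSubnormal.trans (zpowers_le.mpr htf.fac.1) h1
      (Solvable.fittingSubgroup_normal).isSubnormal
  set P := ((K.subgroupOf L).map π).comap π with hP
  have hPsn : P.IsSubnormal := (himg ▸ hsn).comap π
  set C := (kerV T L).subgroupOf L
  set X := (pCoreOf 2 L).subgroupOf L
  have hPeq : P = K.subgroupOf L ⊔ C := by
    rw [hP, comap_map_eq]
    congr 1
    ext ⟨g, hg⟩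
    rw [MonoidHom.mem_ker, mem_subgroupOf]
    exact ⟨fun h => mem_kerV_iff.mpr ⟨hg, h⟩, fun h => (mem_kerV_iff.mp h).2⟩
  have hKc : K ≤ central T L := (le_of_eq d.comm.symm).trans (commutator_le.mpr fun k' hk' j' hj' => by
    rw [commutatorElement_def]
    exact mul_mem (central_conj (hKL hk') (s.j_le_central hj')) (inv_mem (s.j_le_central hj')))
  have hCn : C.Normal := ⟨fun c hc g => kerV_conj g.2 hc⟩
  have hXn : X.Normal := (normal_subgroupOf_iff_le_normalizer
    (Functor.pCoreOf_le 2 L)).2 (Functor.le_normalizer_pCoreOf 2 L)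
  have h1 : (K.subgroupOf L ⊔ X).IsSubnormal := by
    refine Subgroup.IsSubnormal.step _ P (hPeq ▸ sup_le_sup_left (fun x hx => s.core_le_kerV hx) _)
      hPsn ?_
    refine (normal_subgroupOf_iff_le_normalizer
      (hPeq ▸ sup_le_sup_left (fun x hx => s.core_le_kerV hx) _)).2 ?_
    rw [hPeq]
    refine sup_le (le_sup_left.trans Subgroup.le_normalizer) fun c hc => ?_
    refine LocalB.mem_normalizer_of_conj_le fun x hx => ?_
    have hle : K.subgroupOf L ⊔ X ≤ (K.subgroupOf L ⊔ X).comap (MulAut.conj c).toMonoidHom := by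
      refine sup_le (fun u hu => ?_) fun u hu => mem_sup_right (hXn.conj_mem u hu c)
      show c * u * c⁻¹ ∈ K.subgroupOf L ⊔ X
      have h2 : u * c * u⁻¹ * c⁻¹ ∈ X := (hKc hu).2 c hc
      rw [show c * u * c⁻¹ = (u * c * u⁻¹ * c⁻¹)⁻¹ * u by group]
      exact mul_mem (mem_sup_right (inv_mem h2)) (mem_sup_left hu)
    exact hle hx
  refine Subgroup.IsSubnormal.step _ _ le_sup_left h1 ((normal_subgroupOf_iff_le_normalizer le_sup_left).2 ?_)
  refine sup_le Subgroup.le_normalizer fun x hx => ?_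
  refine LocalB.mem_normalizer_of_conj_le fun u hu => ?_
  exact (mem_normalizer_iff.mp (hXK hx) (u : G)).mp hu

end Setting

end CfsgLib.JComp
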