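import Cfsg.Agent.LocalB.JZero
import Cfsg.Agent.CharP.Subnormal

/-! A subnormal component of another conjugate is normalized by `J(T)`. -/

set_option autoImplicit false
set_option linter.unusedVariables false
set_option linter.unusedSectionVars false

namespace CfsgLib.JComp

open Subgroup Cfsg CfsgLib
open scoped commutatorElement

variable {G : Type*} [Group G] [Finite G] {T L K J' : Subgroup G}

/-- Elements of odd order lie in subnormal subgroups of 2-power index. -/
theorem mem_of_subnormal_two {P : Type*} [Group P] [Finite P] {A : Subgroup P} (hA : A.IsSubnormal)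
    (n : ℕ) (hn : A.index ∣ 2 ^ n) {g : P} (hg : Odd (orderOf g)) : g ∈ A := by
  induction hA with
  | top => exact mem_top g
  | step A B hle hB hnorm ih =>
    have hdvd : A.relIndex B * B.index ∣ 2 ^ n := (relIndex_mul_index hle).symm ▸ hn
    have hgB := ih ((dvd_mul_left _ _).trans hdvd)
    have h1 := pow_index_mem (H := A.subgroupOf B) (⟨g, hgB⟩ : B)
    rw [mem_subgroupOf] at h1
    have hcop : Nat.Coprime (A.relIndex B) (orderOf g) := Nat.Coprime.coprime_dvd_left
      ((dvd_mul_right _ _).trans hdvd) (Nat.Coprime.pow_left _ (Nat.coprime_two_left.mpr hg))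
    obtain ⟨m, hm⟩ := exists_pow_eq_self_of_coprime hcop
    rw [← hm]
    exact pow_mem h1 m

/-- A subnormal subgroup generated by odd elements is normalized by the normal 2-subgroups. -/
theorem le_normalizer_of_subnormal {K H N : Subgroup G}
    (hgen : closure {g : G | g ∈ K ∧ Odd (orderOf g)} = K) (hKH : K ≤ H)
    (hsn : (K.subgroupOf H).IsSubnormal) (hNH : N ≤ H) (hHN : H ≤ normalizer (N : Set G))
    (hN : IsPGroup 2 N) : N ≤ normalizer (K : Set G) ∧
      ∀ g ∈ K ⊔ N, Odd (orderOf g) → g ∈ K := by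
  have : Fact (Nat.Prime 2) := ⟨Nat.prime_two⟩
  have hP : K ⊔ N ≤ H := sup_le hKH hNH
  have hcard := Solvable.card_sup_mul_card_inf (A := K) (K := N) (hKH.trans hHN)
  obtain ⟨n, hn⟩ := hN.exists_card_eq
  have hidx : K.relIndex (K ⊔ N) ∣ 2 ^ n := by
    refine ⟨Nat.card ↥(K ⊓ N), Nat.eq_of_mul_eq_mul_left (Nat.card_pos : 0 < Nat.card K) ?_⟩
    rw [← mul_assoc, ← hn, ← hcard]
    congr 1
    rw [← relIndex_bot_left K, relIndex_mul_relIndex _ _ _ bot_le le_sup_left, relIndex_bot_left]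
  have hsn' : (K.subgroupOf (K ⊔ N)).IsSubnormal := hsn.comap (Subgroup.inclusion hP)
  have hodd : ∀ g ∈ K ⊔ N, Odd (orderOf g) → g ∈ K := fun g hg ho =>
    mem_of_subnormal_two hsn' n hidx (g := ⟨g, hg⟩) (by rwa [← Subgroup.orderOf_coe])
  refine ⟨fun x hx => LocalB.mem_normalizer_of_conj_le fun k hk => ?_, hodd⟩
  have hle : closure {g : G | g ∈ K ∧ Odd (orderOf g)} ≤ K.comap (MulAut.conj x).toMonoidHom :=
    (closure_le _).mpr fun g hg => hodd _
      (mul_mem (mul_mem (mem_sup_right hx) (mem_sup_left hg.1)) (inv_mem (mem_sup_right hx)))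
      ((orderOf_injective (MulAut.conj x).toMonoidHom (MulAut.conj x).injective g).symm ▸ hg.2)
  rw [hgen] at hle
  exact hle hk

/-- Pairwise commuting 2-elements generate a 2-group. -/
theorem isPGroup_closure_of_commute {P : Type*} [Group P] {s : Set P}
    (hs : ∀ x ∈ s, ∃ n : ℕ, x ^ 2 ^ n = 1) (hc : ∀ x ∈ s, ∀ y ∈ s, Commute x y) :
    IsPGroup 2 (closure s) := by
  have h1 : closure s ≤ centralizer s := (closure_le _).mpr fun a ha =>
    mem_centralizer_iff.mpr fun b hb => hc b hb a ha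
  have hcomm : ∀ x ∈ closure s, ∀ y ∈ closure s, Commute x y := fun x hx y hy => by
    have h2 : closure s ≤ centralizer {x} := (closure_le _).mpr fun b hb =>
      mem_centralizer_singleton_iff.mpr (mem_centralizer_iff.mp (h1 hx) b hb)
    exact (mem_centralizer_singleton_iff.mp (h2 hy)).symm
  rintro ⟨x, hx⟩
  suffices ∃ n : ℕ, x ^ 2 ^ n = 1 by
    obtain ⟨n, hn⟩ := this
    exact ⟨n, Subtype.ext hn⟩
  induction hx using closure_induction with
  | mem x hx => exact hs x hx
  | one => exact ⟨0, one_pow _⟩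
  | mul x y hx hy ihx ihy =>
    obtain ⟨n, hn⟩ := ihx
    obtain ⟨m, hm⟩ := ihy
    refine ⟨n + m, ?_⟩
    rw [(hcomm x hx y hy).mul_pow]
    nth_rw 1 [pow_add, pow_mul, hn, one_pow, one_mul, add_comm, pow_add, pow_mul, hm, one_pow]
  | inv x hx ih =>
    obtain ⟨n, hn⟩ := ih
    exact ⟨n, by rw [inv_pow, hn, inv_one]⟩

theorem pCoreOf_le_of_subnormal {K H : Subgroup G} (hKH : K ≤ H)
    (hsn : (K.subgroupOf H).IsSubnormal) : pCoreOf 2 K ≤ pCoreOf 2 H := by
  have : Fact (Nat.Prime 2) := ⟨Nat.prime_two⟩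
  have hQH : pCoreOf 2 K ≤ H := (Functor.pCoreOf_le 2 K).trans hKH
  have hn : ((pCoreOf 2 K).subgroupOf K).Normal := (normal_subgroupOf_iff_le_normalizer
    (Functor.pCoreOf_le 2 K)).2 (Functor.le_normalizer_pCoreOf 2 K)
  have hQsn : ((pCoreOf 2 K).subgroupOf H).IsSubnormal := by
    refine Subgroup.IsSubnormal.step _ (K.subgroupOf H) (comap_mono (Functor.pCoreOf_le 2 K)) hsn ?_
    refine ⟨fun x hx g => ?_⟩
    exact (mem_normalizer_iff.mp (Functor.le_normalizer_pCoreOf 2 K g.2) _).mp hx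
  have h := map_mono (f := H.subtype) (CharP.subnormal_pGroup_le_pCore (p := 2) hQsn
    (Functor.isPGroup_pCoreOf K).comap_subtype)
  rwa [map_subgroupOf_eq_of_le hQH] at h

namespace Setting

/-- `π(J)` consists of elements preserving every factor space. -/
theorem j_preserves (s : Setting T L) {η : (act T L).range}
    (hη : letI := s.commV; OddOffender.IsFactor (act T L).range.subtype η) {j : G}
    (hj : j ∈ thompsonSubgroupOf 2 T) (hjL : j ∈ L) :
    letI := s.commV
    ∀ w ∈ OddOffender.comm (act T L).range.subtype η,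
      (act T L).range.subtype ((act T L).rangeRestrict ⟨j, hjL⟩) w
        ∈ OddOffender.comm (act T L).range.subtype η := by
  letI := s.commV
  haveI := s.solv_range
  set ρ := (act T L).range.subtype
  have hρ : Function.Injective ρ := (act T L).range.subtype_injective
  set W := OddOffender.comm ρ η
  let St : Subgroup (act T L).range :=
    { carrier := {g | ∀ w, ρ g w ∈ W ↔ w ∈ W}
      one_mem' := fun w => by rw [OddOffender.apply_one]
      mul_mem' := fun {g h} hg hh w => by rw [OddOffender.apply_mul, hg, hh]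
      inv_mem' := fun {g} hg w => by
        rw [← hg, ← OddOffender.apply_mul, mul_inv_cancel, OddOffender.apply_one] }
  intro w hw
  have hgen := s.j_le_closure_trans ⟨⟨j, hjL⟩, hj, rfl⟩
  refine ((closure_le St).mpr ?_ hgen w).mpr hw
  rintro b ⟨-, hb⟩
  obtain ⟨ζ, v, hb⟩ := OddOffender.exists_TF ρ hρ s.modV_sq s.core_trivial hb
  have hmap : ∀ u ∈ W, ρ b u ∈ W := fun u hu => by
    rcases OddOffender.pairwise ρ hρ s.modV_sq s.core_trivial hη hb.fac with hz | ⟨-, hf⟩
    · rcases hb.range u with e | e <;> rw [e]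
      · exact hu
      · refine mul_mem hu ?_
        exact (OddOffender.comm_eq_of_mem_zpowers ρ hρ s.modV_sq s.core_trivial hη hb.fac hz).le hb.mem
    · rwa [hb.triv u ((OddOffender.mem_fix_singleton ρ).mpr (hf u hu))]
  refine fun u => ⟨fun hu => ?_, hmap u⟩
  have := hmap _ hu
  rwa [← OddOffender.apply_mul, hb.sq, OddOffender.apply_one] at this

/-- The key step: `J(T)` normalizes `W`. -/
theorem le_normalizer_wOf (s : Setting T L) (d : Data J' K) (hKL : K ≤ L)
    (hsn : (K.subgroupOf (K ⊔ thompsonSubgroupOf 2 T)).IsSubnormal) :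
    thompsonSubgroupOf 2 T ≤ normalizer (wOf K : Set G) := by
  have : Fact (Nat.Prime 2) := ⟨Nat.prime_two⟩
  letI := s.commV
  haveI := s.solv_range
  set π := (act T L).rangeRestrict with hπ
  set ρ := (act T L).range.subtype with hρdef
  set J := thompsonSubgroupOf 2 T with hJdef
  set X := pCoreOf 2 L with hXdef
  set Q := pCoreOf 2 K with hQdef
  set H := K ⊔ J with hH
  have hρ : Function.Injective ρ := (act T L).range.subtype_injective
  have hV := s.modV_sq
  have hO := s.core_trivial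
  have hJT : J ≤ T := Thompson.thompsonSubgroupOf_le T
  have hJp : IsPGroup 2 J := s.isP.to_le hJT
  have hJL : J ≤ L := hJT.trans s.le
  have hHL : H ≤ L := sup_le hKL hJL
  have hKH : K ≤ H := le_sup_left
  have hXn : L ≤ normalizer (X : Set G) := Functor.le_normalizer_pCoreOf 2 L
  set HH := (H.subgroupOf L).map π with hHH
  by_cases hex : ∃ a η v, a ∈ (J.subgroupOf L).map π ∧ OddOffender.TF ρ a η v ∧ η ∈ HH
  swap
  · -- all conjugates of the transvections commute
    let S : Set L := {l | (∃ h ∈ H, ∃ hhL : h ∈ L, ∃ j, ∃ hj : j ∈ J,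
      OddOffender.IsTrans ρ (π ⟨j, hJL hj⟩) ∧ l = ⟨h, hhL⟩ * ⟨j, hJL hj⟩ * (⟨h, hhL⟩ : L)⁻¹)}
    have hXL : (X.subgroupOf L).Normal := (normal_subgroupOf_iff_le_normalizer
      (Functor.pCoreOf_le 2 L)).2 hXn
    set q := QuotientGroup.mk' (X.subgroupOf L) with hq
    have hS2 : ∀ l ∈ S, ∃ n : ℕ, l ^ 2 ^ n = 1 := by
      rintro l ⟨h, hh, hhL, j, hj, -, rfl⟩
      obtain ⟨n, hn⟩ := hJp ⟨j, hj⟩
      refine ⟨n, ?_⟩
      rw [conj_pow, show (⟨j, hJL hj⟩ : L) ^ 2 ^ n = 1 from Subtype.ext (congrArg Subtype.val hn :),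
        mul_one, mul_inv_cancel]
    have hScen : ∀ l ∈ S, (l : G) ∈ central T L := by
      rintro l ⟨h, hh, hhL, j, hj, -, rfl⟩
      exact central_conj hhL (s.j_le_central hj)
    have hπc : ∀ l ∈ S, ∀ l' ∈ S, Commute (π l) (π l') := by
      rintro l ⟨h, hh, hhL, j, hj, ht, rfl⟩ l' ⟨h', hh', hhL', j', hj', ht', rfl⟩
      obtain ⟨η, v, htf⟩ := OddOffender.exists_TF ρ hρ hV hO ht
      obtain ⟨η', v', htf'⟩ := OddOffender.exists_TF ρ hρ hV hO ht'
      set u : L := (⟨h, hhL⟩ : L)⁻¹ * ⟨h', hhL'⟩ with hu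
      have hc := htf'.conj (hρ := hρ) (hV := hV) (hO := hO) (π u)
      rcases htf.commute_or (hρ := hρ) (hV := hV) (hO := hO) hc with hcc | ⟨-, -, hz, hne⟩
      · have e : π (⟨h', hhL'⟩ * ⟨j', hJL hj'⟩ * (⟨h', hhL'⟩ : L)⁻¹) = π ⟨h, hhL⟩ *
            (π u * π ⟨j', hJL hj'⟩ * (π u)⁻¹) * (π ⟨h, hhL⟩)⁻¹ := by
          rw [hu]; simp only [map_mul, map_inv]; group
        rw [e, map_mul, map_mul, map_inv]
        exact (Commute.conj_iff (π ⟨h, hhL⟩)).mpr hcc
      · exfalso
        refine hex ⟨_, η, v, ⟨_, hj, rfl⟩, htf, ?_⟩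
        have hmem : π u * π ⟨j', hJL hj'⟩ * (π u)⁻¹ * π ⟨j, hJL hj⟩ ∈ HH := by
          refine ⟨u * ⟨j', hJL hj'⟩ * u⁻¹ * ⟨j, hJL hj⟩, ?_, by simp only [map_mul, map_inv]⟩
          rw [SetLike.mem_coe, mem_subgroupOf]
          have huH : (u : G) ∈ H := mul_mem (inv_mem hh) hh'
          exact mul_mem (mul_mem (mul_mem huH (mem_sup_right hj')) (inv_mem huH)) (mem_sup_right hj)
        obtain ⟨i, hi⟩ := mem_zpowers_iff.mp hz
        have h3 : η ^ (3 : ℤ) = 1 := by exact_mod_cast htf.fac.2.1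
        have hmod : η ^ i = η ^ (i % 3) := by
          conv_lhs => rw [← Int.emod_add_mul_ediv i 3, zpow_add, zpow_mul, h3, one_zpow, mul_one]
        rw [← hi, hmod] at hne hmem
        rcases (show i % 3 = 0 ∨ i % 3 = 1 ∨ i % 3 = 2 by omega) with e' | e' | e' <;>
          rw [e'] at hne hmem
        · simp at hne
        · simpa using hmem
        · have := mul_mem hmem hmem
          rwa [← zpow_add, show (2 : ℤ) + 2 = 3 + 1 by norm_num, zpow_add, h3, one_mul,
            zpow_one] at this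
    have hqc : ∀ x ∈ q '' S, ∀ y ∈ q '' S, Commute x y := by
      rintro _ ⟨l, hl, rfl⟩ _ ⟨l', hl', rfl⟩
      set c := l * l' * l⁻¹ * l'⁻¹ with hc
      have hcker : (c : G) ∈ kerV T L := mem_kerV_iff.mpr ⟨c.2, by
        show π c = 1
        rw [hc, map_mul, map_mul, map_mul, map_inv, map_inv, (hπc l hl l' hl').eq]
        group⟩
      have hcomm : ∀ m ∈ S, Commute (q m) (q c) := fun m hm => by
        rw [← commutatorElement_eq_one_iff_commute, ← map_commutatorElement,
          QuotientGroup.mk'_apply, QuotientGroup.eq_one_iff]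
        exact (hScen m hm).2 c hcker
      obtain ⟨n, hn⟩ := hS2 l' hl'
      have e : q l * q l' * (q l)⁻¹ = q c * q l' := by
        rw [hc]; simp only [map_mul, map_inv]; group
      have hcn : q c ^ 2 ^ n = 1 := by
        have h1 := congrArg (· ^ 2 ^ n) e
        simp only [conj_pow, (hcomm l' hl').symm.mul_pow, ← map_pow, hn, map_one, mul_one,
          mul_inv_cancel] at h1
        exact (map_pow q c _).symm ▸ h1.symm
      rw [← map_pow, QuotientGroup.mk'_apply, QuotientGroup.eq_one_iff, mem_subgroupOf] at hcn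
      obtain ⟨m, hm⟩ := Functor.isPGroup_pCoreOf (p := 2) L ⟨_, hcn⟩
      have hcX : (c : G) ∈ X := by
        refine s.mem_core_of_isPGroup (LocalB.isPGroup_zpowers ?_) (zpowers_le.mpr hcker)
          (mem_zpowers _)
        have h2 : (c : G) ^ 2 ^ (n + m) = 1 := by
          rw [pow_add, pow_mul]
          have := congrArg Subtype.val hm
          simpa using this
        obtain ⟨i, -, hi⟩ := (Nat.dvd_prime_pow Nat.prime_two).mp (orderOf_dvd_of_pow_eq_one h2)
        exact ⟨i, hi⟩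
      have hc1 : q c = 1 := by
        rw [QuotientGroup.mk'_apply, QuotientGroup.eq_one_iff]; exact hcX
      rw [hc1, one_mul] at e
      exact mul_inv_eq_iff_eq_mul.mp e
    set P := closure (q '' S) with hP
    have hPp : IsPGroup 2 P := isPGroup_closure_of_commute (by
      rintro _ ⟨l, hl, rfl⟩
      obtain ⟨n, hn⟩ := hS2 l hl
      exact ⟨n, by rw [← map_pow, hn, map_one]⟩) hqc
    set N := ((P.comap q).map L.subtype) ⊓ H with hN
    have hqker : IsPGroup 2 q.ker := by
      rw [hq, QuotientGroup.ker_mk']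
      exact (Functor.isPGroup_pCoreOf L).comap_subtype
    have hNp : IsPGroup 2 N :=
      ((hPp.comap_of_ker_isPGroup q hqker).map _).to_le inf_le_left
    have hJN : J ≤ N := by
      intro j hj
      refine ⟨?_, mem_sup_right hj⟩
      set J1 := (closure {l : L | ∃ i, ∃ hi : i ∈ J, OddOffender.IsTrans ρ (π ⟨i, hJL hi⟩) ∧
        l = ⟨i, hJL hi⟩}) with hJ1
      have h1 : (J.subgroupOf L).map π ≤ J1.map π :=
        s.j_le_closure_trans.trans ((closure_le _).mpr (by
          rintro _ ⟨⟨⟨i, hiL⟩, hi, rfl⟩, ht⟩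
          exact ⟨_, subset_closure ⟨i, hi, ht, rfl⟩, rfl⟩))
      have hJ1J : J1 ≤ J.subgroupOf L := (closure_le _).mpr (by
        rintro _ ⟨i, hi, -, rfl⟩; exact hi)
      have hJ1P : J1 ≤ P.comap q := (closure_le _).mpr (by
        rintro _ ⟨i, hi, ht, rfl⟩
        exact subset_closure ⟨_, ⟨1, one_mem _, one_mem _, i, hi, ht, Subtype.ext (by simp)⟩, rfl⟩)
      obtain ⟨j', hj', e⟩ := h1 ⟨⟨j, hJL hj⟩, hj, rfl⟩
      have hd : ((j'⁻¹ * ⟨j, hJL hj⟩ : L) : G) ∈ kerV T L :=
        mem_kerV_iff.mpr ⟨(j'⁻¹ * ⟨j, hJL hj⟩ : L).2, by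
          show π (j'⁻¹ * ⟨j, hJL hj⟩) = 1
          rw [map_mul, map_inv, e, inv_mul_cancel]⟩
      have hdJ : ((j'⁻¹ * ⟨j, hJL hj⟩ : L) : G) ∈ J := mul_mem (inv_mem (hJ1J hj')) hj
      have hdX : (j'⁻¹ * ⟨j, hJL hj⟩ : L) ∈ X.subgroupOf L := s.mem_core_of_isPGroup
        (hJp.to_le inf_le_left) inf_le_right
        (⟨hdJ, hd⟩ : ((j'⁻¹ * ⟨j, hJL hj⟩ : L) : G) ∈ J ⊓ kerV T L)
      refine ⟨⟨j, hJL hj⟩, ?_, rfl⟩
      have : j' * (j'⁻¹ * ⟨j, hJL hj⟩) ∈ P.comap q := mul_mem (hJ1P hj') (by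
        rw [mem_comap, QuotientGroup.mk'_apply, (QuotientGroup.eq_one_iff _).mpr hdX]
        exact one_mem _)
      rwa [mul_inv_cancel_left] at this
    have hHN : H ≤ normalizer (N : Set G) := by
      intro g hg
      refine LocalB.mem_normalizer_of_conj_le ?_
      rintro x ⟨⟨l, hl, rfl⟩, hx⟩
      refine ⟨⟨⟨g, hHL hg⟩ * l * (⟨g, hHL hg⟩ : L)⁻¹, ?_, rfl⟩, H.mul_mem (H.mul_mem hg hx) (H.inv_mem hg)⟩
      have hle : P ≤ P.comap (MulAut.conj (q ⟨g, hHL hg⟩)).toMonoidHom := (closure_le _).mpr (by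
        rintro _ ⟨_, ⟨h, hh, hhL, i, hi, ht, rfl⟩, rfl⟩
        refine subset_closure ⟨_, ⟨g * h, mul_mem hg hh, mul_mem (hHL hg) hhL, i, hi, ht, rfl⟩, ?_⟩
        show q ((⟨g, hHL hg⟩ * ⟨h, hhL⟩) * ⟨i, hJL hi⟩ * ((⟨g, hHL hg⟩ : L) * ⟨h, hhL⟩)⁻¹) =
          q ⟨g, hHL hg⟩ * q (⟨h, hhL⟩ * ⟨i, hJL hi⟩ * (⟨h, hhL⟩ : L)⁻¹) * (q ⟨g, hHL hg⟩)⁻¹
        simp only [map_mul, map_inv, mul_inv_rev]
        group)
      rw [SetLike.mem_coe, mem_comap, map_mul, map_mul, map_inv]
      exact hle hl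
    exact hJN.trans ((le_normalizer_of_subnormal d.gen hKH hsn inf_le_right hHN hNp).1.trans
      (normalizer_le_normalizer_wOf K))
  -- a factor inside the image of `⟨K, J⟩`
  obtain ⟨a, η, v, ⟨⟨ja, hjaL⟩, hja, rfl⟩, htf, hη⟩ := hex
  set W := OddOffender.comm ρ η with hW
  have hodd := OddOffender.odd_of_cube ρ hρ hV htf.fac.2.1
  have hWc : Nat.card W = 4 := (OddOffender.card_comm ρ hV η).trans htf.fac.2.2.2
  have hmapη : ∀ u ∈ W, ρ η u ∈ W := by
    rintro _ ⟨x, rfl⟩
    exact ⟨ρ η x, by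
      show ρ η x * ρ η (ρ η x) = ρ η (x * ρ η x)
      rw [map_mul]⟩
  have hV4 : ∀ u ∈ W, ∀ u' ∈ W, u ≠ 1 → u' ≠ 1 → u ≠ u' → ∀ w ∈ W,
      w = 1 ∨ w = u ∨ w = u' ∨ w = u * u' := by
    intro u hu u' hu' h1 h1' hne
    classical
    have : Fintype W := Fintype.ofFinite _
    have hT : ({1, ⟨u, hu⟩, ⟨u', hu'⟩, ⟨u * u', mul_mem hu hu'⟩} : Finset W).card = 4 := by
      rw [Finset.card_insert_of_notMem, Finset.card_insert_of_notMem, Finset.card_pair]
      · simp only [Ne, Subtype.mk.injEq]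
        exact fun e => h1 (mul_eq_right.mp e.symm)
      · simp only [Finset.mem_insert, Finset.mem_singleton, Subtype.mk.injEq, not_or]
        exact ⟨hne, fun e => h1' (mul_eq_left.mp e.symm)⟩
      · simp only [Finset.mem_insert, Finset.mem_singleton, Subtype.ext_iff, not_or]
        refine ⟨fun e => h1 (Subtype.ext e.symm), fun e => h1' (Subtype.ext e.symm), fun e => hne ?_⟩
        exact mul_left_cancel ((hV u).trans (Subtype.ext e))
    have huniv := Finset.eq_univ_of_card _ (hT.trans (by rw [← Nat.card_eq_fintype_card, hWc]))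
    intro w hw
    have := huniv.ge (Finset.mem_univ (⟨w, hw⟩ : W))
    simp only [Finset.mem_insert, Finset.mem_singleton, Subtype.ext_iff] at this
    rcases this with e | e | e | e
    · exact Or.inl (Subtype.ext e)
    · exact Or.inr (Or.inl (Subtype.ext e))
    · exact Or.inr (Or.inr (Or.inl (Subtype.ext e)))
    · exact Or.inr (Or.inr (Or.inr (Subtype.ext e)))
  -- `W` lies in `H`
  set Vh := modV T L ⊓ H with hVh
  have hVhn : H ≤ normalizer (Vh : Set G) := fun g hg => LocalB.mem_normalizer_of_conj_le fun x hx =>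
    ⟨(mem_normalizer_iff.mp (le_normalizer_modV T L (hHL hg)) x).mp hx.1,
      H.mul_mem (H.mul_mem hg hx.2) (H.inv_mem hg)⟩
  have hVX : modV T L ≤ X := fun x hx => (s.omega_le hx).1
  have hVhp : IsPGroup 2 Vh := (Functor.isPGroup_pCoreOf L).to_le (inf_le_left.trans hVX)
  have hVhK := le_normalizer_of_subnormal d.gen hKH hsn inf_le_right hVhn hVhp
  have hWH : ∀ u ∈ W, (u : G) ∈ H := by
    have hvH : (v : G) ∈ H := by
      obtain ⟨u, hu1, huv, huW⟩ : ∃ u, u ≠ 1 ∧ u ≠ v ∧ u ∈ W := by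
        have h1 : ρ η v ≠ v := fun e =>
          htf.ne (OddOffender.eq_one_of_mem_comm_of_fix ρ hV hodd htf.mem e)
        have h2 : ρ η v ≠ 1 := fun e => htf.ne ((ρ η).injective (e.trans (map_one _).symm))
        exact ⟨_, h2, h1, hmapη v htf.mem⟩
      have e : (v : G) = u * (ja * u * ja⁻¹) := by
        have h1 : u * ρ (π ⟨ja, hjaL⟩) u = v := by
          rw [htf.moves u huW hu1 huv, ← mul_assoc, hV, one_mul]
        exact (congrArg Subtype.val h1).symm
      have huT : (u : G) ∈ normalizer (J : Set G) :=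
        Thompson.normalizer_le_normalizer_thompsonSubgroupOf T
          (Subgroup.le_normalizer (s.core_le (hVX u.2)))
      have huu : (u : G)⁻¹ = u := inv_eq_of_mul_eq_one_right (congrArg Subtype.val (hV u) :)
      rw [e]
      refine mem_sup_right ?_
      have h2 : (u : G) * ja * (u : G)⁻¹ ∈ J := (mem_normalizer_iff.mp huT ja).mp hja
      rw [show (u : G) * (ja * u * ja⁻¹) = ((u : G) * ja * (u : G)) * ja⁻¹ by group]
      nth_rw 2 [← huu]
      exact mul_mem h2 (inv_mem hja)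
    obtain ⟨⟨h, hhL⟩, hh, hhe⟩ := hη
    intro u hu
    have h1 : ρ η v ≠ v := fun e =>
      htf.ne (OddOffender.eq_one_of_mem_comm_of_fix ρ hV hodd htf.mem e)
    have h2 : ρ η v ≠ 1 := fun e => htf.ne ((ρ η).injective (e.trans (map_one _).symm))
    have hev : ((ρ η v : modV T L) : G) ∈ H := by
      rw [← hhe]
      exact mul_mem (mul_mem hh hvH) (inv_mem hh)
    rcases hV4 v htf.mem _ (hmapη v htf.mem) htf.ne h2 (Ne.symm h1) u hu with e | e | e | e <;>
      rw [e]
    · exact one_mem _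
    · exact hvH
    · exact hev
    · exact mul_mem hvH hev
  -- `Q` acts trivially on `W`
  have hKH' : (K.subgroupOf L).map π ≤ HH := map_mono (comap_mono hKH)
  have hQKn : K ≤ normalizer (Q : Set G) := Functor.le_normalizer_pCoreOf 2 K
  have hQη : ∀ q, ∀ hq : q ∈ Q, Commute (π ⟨q, hKL (Functor.pCoreOf_le 2 K hq)⟩) η := by
    intro q hq
    set M := pCoreOf 2 H with hM
    have hQM : Q ≤ M := by
      have hKsn : (K.subgroupOf H).IsSubnormal := hsn
      exact pCoreOf_le_of_subnormal hKH hKsn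
    set F := fittingSubgroup (act T L).range
    set PM := (M.subgroupOf L).map π with hPM
    have hPMp : IsPGroup 2 PM := ((Functor.isPGroup_pCoreOf H).comap_subtype).map _
    have hFn : F.Normal := Solvable.fittingSubgroup_normal
    have hqM : π ⟨q, hKL (Functor.pCoreOf_le 2 K hq)⟩ ∈ PM := ⟨_, hQM hq, rfl⟩
    set x := π ⟨q, hKL (Functor.pCoreOf_le 2 K hq)⟩
    have hcF : x * η * x⁻¹ * η⁻¹ ∈ F := mul_mem (hFn.conj_mem η htf.fac.1 x) (inv_mem htf.fac.1)
    have hcP : x * η * x⁻¹ * η⁻¹ ∈ PM := by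
      obtain ⟨⟨h, hhL⟩, hh, hhe⟩ := hη
      rw [show x * η * x⁻¹ * η⁻¹ = x * (η * x⁻¹ * η⁻¹) by group]
      refine mul_mem hqM ⟨⟨h, hhL⟩ * ⟨q, hKL (Functor.pCoreOf_le 2 K hq)⟩⁻¹ * (⟨h, hhL⟩ : L)⁻¹,
        ?_, ?_⟩
      · exact (mem_normalizer_iff.mp (Functor.le_normalizer_pCoreOf 2 H hh) _).mp (inv_mem (hQM hq))
      · rw [map_mul, map_mul, map_inv, map_inv, hhe]
    have hoddc := OddOffender.odd_of_mem_fitting ρ hρ hV hO hcF
    obtain ⟨n, hn⟩ := hPMp ⟨_, hcP⟩
    have hn' : (x * η * x⁻¹ * η⁻¹) ^ 2 ^ n = 1 := congrArg Subtype.val hn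
    have h1 := Nat.dvd_gcd (orderOf_dvd_of_pow_eq_one hn') dvd_rfl
    rw [(Nat.Coprime.pow_left _ (Nat.coprime_two_left.mpr hoddc)).gcd_eq_one, Nat.dvd_one,
      orderOf_eq_one_iff, mul_inv_eq_one, mul_inv_eq_iff_eq_mul] at h1
    exact h1
  have hQW : ∀ q, ∀ hq : q ∈ Q, ∀ u ∈ W,
      ρ (π ⟨q, hKL (Functor.pCoreOf_le 2 K hq)⟩) u = u := by
    intro q hq u hu
    set x := π ⟨q, hKL (Functor.pCoreOf_le 2 K hq)⟩
    have hc := (hQη q hq).eq
    have hxW : ∀ w ∈ W, ρ x w ∈ W := by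
      rintro _ ⟨z, rfl⟩
      refine ⟨ρ x z, ?_⟩
      show ρ x z * ρ η (ρ x z) = ρ x (z * ρ η z)
      rw [map_mul, ← OddOffender.apply_mul, ← OddOffender.apply_mul, hc]
    obtain ⟨n, hn⟩ := Functor.isPGroup_pCoreOf (p := 2) K ⟨q, hq⟩
    have hn' : x ^ 2 ^ n = 1 := by
      rw [← map_pow, show (⟨q, _⟩ : L) ^ 2 ^ n = 1 from Subtype.ext (congrArg Subtype.val hn :),
        map_one]
    -- a fixed point of a 2-element
    obtain ⟨w, hw, hw1, hwx⟩ : ∃ w ∈ W, w ≠ 1 ∧ ρ x w = w := by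
      by_contra hno
      simp only [not_exists, not_and] at hno
      have hx1 : ρ x v ≠ v := hno v htf.mem htf.ne
      have hxv1 : ρ x v ≠ 1 := fun e => htf.ne ((ρ x).injective (e.trans (map_one _).symm))
      have hxxv : ρ x (ρ x v) = v * ρ x v := by
        rcases hV4 v htf.mem _ (hxW v htf.mem) htf.ne hxv1 (Ne.symm hx1) _
          (hxW _ (hxW v htf.mem)) with e | e | e | e
        · exact absurd ((ρ x).injective (e.trans (map_one _).symm)) hxv1
        · exfalso
          refine hno (v * ρ x v) (mul_mem htf.mem (hxW v htf.mem))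
            (fun e' => hx1 (mul_left_cancel ((hV v).trans e'.symm)).symm) ?_
          rw [map_mul, e, mul_comm]
        · exact absurd e (hno _ (hxW v htf.mem) hxv1)
        · exact e
      have h3 : ρ (x ^ 3) v = v := by
        rw [pow_succ, pow_two, OddOffender.apply_mul, OddOffender.apply_mul, hxxv, map_mul, hxxv,
          mul_comm v, ← mul_assoc, hV, one_mul]
      have hcop : Nat.Coprime 3 (orderOf x) := by
        refine Nat.Coprime.coprime_dvd_right (orderOf_dvd_of_pow_eq_one hn') ?_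
        exact Nat.Coprime.pow_right _ (by norm_num)
      obtain ⟨m, hm⟩ := exists_pow_eq_self_of_coprime hcop
      apply hx1
      rw [← hm]
      clear hm
      induction m with
      | zero => rw [pow_zero, OddOffender.apply_one]
      | succ m ih => rw [pow_succ, OddOffender.apply_mul, h3, ih]
    have hηw : ρ x (ρ η w) = ρ η w := by
      rw [← OddOffender.apply_mul, hc, OddOffender.apply_mul, hwx]
    have h1 : ρ η w ≠ w := fun e => hw1 (OddOffender.eq_one_of_mem_comm_of_fix ρ hV hodd hw e)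
    have h2 : ρ η w ≠ 1 := fun e => hw1 ((ρ η).injective (e.trans (map_one _).symm))
    rcases hV4 w hw _ (hmapη w hw) hw1 h2 (Ne.symm h1) u hu with e | e | e | e <;> rw [e]
    · exact map_one _
    · exact hwx
    · exact hηw
    · rw [map_mul, hwx, hηw]
  -- products `w · ʸw` lie in `Ω₁(Z(Q))`
  obtain ⟨y, hy, hyQ⟩ := d.exists_mem_not_core
  have hz : ∀ u ∈ W, ∀ i : ℕ,
      (u : G) * (y ^ i * u * (y ^ i)⁻¹) ∈ omegaCenterOf Q := by
    intro u hu i
    have hyi : y ^ i ∈ K := pow_mem hy i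
    have huV : (u : G) ∈ Vh := ⟨u.2, hWH u hu⟩
    have hyu : y ^ i * u * (y ^ i)⁻¹ ∈ Vh := (mem_normalizer_iff.mp (hVhn (hKH hyi)) _).mp huV
    have hzV : (u : G) * (y ^ i * u * (y ^ i)⁻¹) ∈ Vh := mul_mem huV hyu
    have huu : (u : G)⁻¹ = u := inv_eq_of_mul_eq_one_right (congrArg Subtype.val (hV u) :)
    have hzK : (u : G) * (y ^ i * u * (y ^ i)⁻¹) ∈ K := by
      rw [show (u : G) * (y ^ i * u * (y ^ i)⁻¹) = ((u : G) * y ^ i * (u : G)) * (y ^ i)⁻¹ by group]
      nth_rw 2 [← huu]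
      exact mul_mem ((mem_normalizer_iff.mp (hVhK.1 huV) _).mp hyi) (inv_mem hyi)
    have hVKQ : Vh ⊓ K ≤ Q := Functor.le_pCoreOf inf_le_right (fun g hg =>
      LocalB.mem_normalizer_of_conj_le fun x hx =>
        ⟨(mem_normalizer_iff.mp (hVhn (hKH hg)) x).mp hx.1,
          K.mul_mem (K.mul_mem hg hx.2) (K.inv_mem hg)⟩) (hVhp.to_le inf_le_left)
    refine Thompson.mem_omegaOne ⟨hVKQ ⟨hzV, hzK⟩, mem_centralizer_iff.mpr fun q hq => ?_⟩
      (s.omega_le hzV.1).2.2
    have hfix : ∀ q ∈ Q, q * u = u * q := fun q hq =>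
      mul_inv_eq_iff_eq_mul.mp (congrArg Subtype.val (hQW q hq u hu) :)
    have h1 : (y ^ i)⁻¹ * q * y ^ i ∈ Q := by
      simpa using (mem_normalizer_iff.mp (inv_mem (hQKn hyi)) q).mp hq
    have h2 : Commute q (y ^ i * u * (y ^ i)⁻¹) := by
      show q * (y ^ i * u * (y ^ i)⁻¹) = (y ^ i * u * (y ^ i)⁻¹) * q
      calc q * (y ^ i * u * (y ^ i)⁻¹) = y ^ i * ((y ^ i)⁻¹ * q * y ^ i * u) * (y ^ i)⁻¹ := by group
        _ = _ := by rw [hfix _ h1]; group
    exact ((show Commute q (u : G) from hfix q hq).mul_right h2).eq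
  have hW' : ∀ z ∈ omegaCenterOf Q, ∀ k ∈ K, z * (k * z⁻¹ * k⁻¹) ∈ wOf K := fun z hz k hk => by
    have := commutator_mem_commutator hz hk
    rwa [commutatorElement_def, show z * k * z⁻¹ * k⁻¹ = z * (k * z⁻¹ * k⁻¹) by group] at this
  have hsq : ∀ z ∈ omegaCenterOf Q, z⁻¹ = z := fun z hz =>
    inv_eq_of_mul_eq_one_right (by rw [← pow_two]; exact (omega_spec hz).2.2)
  have hy3 : y * y * y ∈ Q := by
    have hQnK : (Q.subgroupOf K).Normal := (normal_subgroupOf_iff_le_normalizer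
      (Functor.pCoreOf_le 2 K)).2 hQKn
    have h3 := pow_index_mem (H := Q.subgroupOf K) (⟨y, hy⟩ : K)
    rw [show (Q.subgroupOf K).index = 3 from d.three, pow_succ, pow_two] at h3
    exact h3
  set yy := π ⟨y, hKL hy⟩ with hyy
  have h3fix : ∀ u ∈ W, ρ (yy * yy * yy) u = u := fun u hu => by
    have h := hQW _ hy3 u hu
    have e : π ⟨y * y * y, hKL (Functor.pCoreOf_le 2 K hy3)⟩ = yy * yy * yy := by
      rw [hyy, ← map_mul π, ← map_mul π]; rfl
    rwa [e] at h
  -- the elements `w · ʸw` and `w · ʸ²w` are in `W_K`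
  have hm1 : ∀ u ∈ W, (((u * ρ yy u : modV T L)) : G) ∈ wOf K ∧
      (((u * ρ (yy * yy) u : modV T L)) : G) ∈ wOf K := by
    intro u hu
    have hcom : Commute (u : G) (y * y * y) :=
      (mul_inv_eq_iff_eq_mul.mp (congrArg Subtype.val (hQW _ hy3 u hu) :)).symm
    have huu : (u : G) * u = 1 := congrArg Subtype.val (hV u)
    have e4 : y * y * (y * y) * (u : G) * (y * y * (y * y))⁻¹ = y * u * y⁻¹ := by
      rw [show y * y * (y * y) * (u : G) * (y * y * (y * y))⁻¹
        = y * ((y * y * y) * u) * (y * y * y)⁻¹ * y⁻¹ by group, ← hcom.eq]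
      group
    constructor
    · have hz2 := hz u hu 2
      have h := hW' _ hz2 (y ^ 2) (pow_mem hy 2)
      rw [hsq _ hz2, pow_two] at h
      generalize y * y = Y at h e4
      rw [show (u : G) * (Y * u * Y⁻¹) * (Y * ((u : G) * (Y * u * Y⁻¹)) * Y⁻¹) =
        (u : G) * (Y * (u * u) * Y⁻¹) * (Y * Y * (u : G) * (Y * Y)⁻¹) by group, huu, e4, mul_one,
        mul_inv_cancel, mul_one] at h
      exact h
    · have hz1 := hz u hu 1
      have h := hW' _ hz1 y hy
      rw [hsq _ hz1, pow_one, show (u : G) * (y * u * y⁻¹) * (y * ((u : G) * (y * u * y⁻¹)) * y⁻¹)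
        = (u : G) * (y * (u * u) * y⁻¹) * (y * (y * u * y⁻¹) * y⁻¹) by group, huu, mul_one,
        mul_inv_cancel, mul_one] at h
      rw [OddOffender.apply_mul]
      exact h
  -- `y` preserves `W`
  have hyW : ∀ u ∈ W, ρ yy u ∈ W := by
    have hfac' := OddOffender.IsFactor.conj ρ hρ hV hO htf.fac yy
    rcases OddOffender.pairwise ρ hρ hV hO htf.fac hfac' with hzp | ⟨hdis, -⟩
    · intro u hu
      rw [hW, ← OddOffender.comm_eq_of_mem_zpowers ρ hρ hV hO htf.fac hfac' hzp,
        ← OddOffender.map_comm_eq ρ hρ hV]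
      exact ⟨u, hu, rfl⟩
    exfalso
    have hηfix : ∀ g : (act T L).range, g * η * g⁻¹ ∉ zpowers η →
        ∀ u ∈ W, ρ η (ρ g u) = ρ g u := by
      intro g hg u hu
      have hf := OddOffender.IsFactor.conj ρ hρ hV hO htf.fac g
      rcases OddOffender.pairwise ρ hρ hV hO hf htf.fac with hzp' | ⟨-, hfix'⟩
      · refine absurd ?_ hg
        obtain ⟨i, hi⟩ := mem_zpowers_iff.mp hzp'
        have h3 : orderOf η = 3 := orderOf_eq_prime htf.fac.2.1 htf.fac.2.2.1
        have h3' : orderOf (g * η * g⁻¹) = 3 := orderOf_eq_prime hf.2.1 hf.2.2.1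
        have hle : zpowers η ≤ zpowers (g * η * g⁻¹) := zpowers_le.mpr hzp'
        have := eq_of_le_of_card_ge hle (by rw [Nat.card_zpowers, Nat.card_zpowers, h3, h3'])
        exact this ▸ mem_zpowers _
      · refine hfix' _ ?_
        rw [← OddOffender.map_comm_eq ρ hρ hV]
        exact ⟨u, hu, rfl⟩
    have hout : yy * η * yy⁻¹ ∉ zpowers η := fun h => by
      exact OddOffender.comm_ne_bot ρ hρ hV hO htf.fac (by
        rw [← hdis, OddOffender.comm_eq_of_mem_zpowers ρ hρ hV hO htf.fac hfac' h, inf_idem])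
    have hq3 : (yy * yy * yy) * η = η * (yy * yy * yy) := by
      have h := (hQη _ hy3).eq
      have e : π ⟨y * y * y, hKL (Functor.pCoreOf_le 2 K hy3)⟩ = yy * yy * yy := by
        rw [hyy, ← map_mul π, ← map_mul π]; rfl
      rwa [e] at h
    have hout2 : (yy * yy) * η * (yy * yy)⁻¹ ∉ zpowers η := by
      intro h
      obtain ⟨i, hi⟩ := mem_zpowers_iff.mp h
      apply hout
      -- `y` itself would preserve the factor
      have h4 : yy * η * yy⁻¹ = (η ^ i) ^ i := by
        have e : (yy * yy) * ((yy * yy) * η * (yy * yy)⁻¹) * (yy * yy)⁻¹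
            = yy * η * yy⁻¹ := by
          calc (yy * yy) * ((yy * yy) * η * (yy * yy)⁻¹) * (yy * yy)⁻¹
              = yy * ((yy * yy * yy) * η * (yy * yy * yy)⁻¹) * yy⁻¹ := by group
            _ = _ := by rw [hq3, mul_inv_cancel_right]
        rw [← e, ← hi, ← conj_zpow, ← hi]
      rw [h4]
      exact zpow_mem (zpow_mem (mem_zpowers η) i) i
    obtain ⟨w, hw, hw1⟩ : ∃ w ∈ W, w ≠ 1 := ⟨v, htf.mem, htf.ne⟩
    -- two descriptions of the same four-group
    let f : W → wOf K := fun u => ⟨_, (hm1 u u.2).1⟩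
    have hf : Function.Injective f := fun u u' e => by
      have e' : (u : modV T L) * ρ yy u = u' * ρ yy u' :=
        Subtype.ext (congrArg Subtype.val e :)
      have h1 := congrArg (fun z => z * ρ η z) e'
      simp only [map_mul, hηfix yy hout _ u.2, hηfix yy hout _ u'.2] at h1
      rw [mul_mul_mul_comm, hV, mul_one, mul_mul_mul_comm, hV, mul_one] at h1
      refine Subtype.ext ?_
      have h2 : ρ η ((u : modV T L) * u') = (u : modV T L) * u' := by
        rw [map_mul]
        calc ρ η u * ρ η (u' : modV T L) = (u : modV T L) * (u * ρ η u) * ρ η u' := by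
              rw [← mul_assoc (u : modV T L), hV, one_mul]
          _ = u * u' * (ρ η u' * ρ η u') := by rw [h1]; simp only [mul_assoc]
          _ = _ := by rw [hV, mul_one]
      have h3 := OddOffender.eq_one_of_mem_comm_of_fix ρ hV hodd (mul_mem u.2 u'.2) h2
      exact mul_left_cancel ((hV _).trans h3.symm)
    obtain ⟨w', hw'⟩ := (Nat.bijective_iff_injective_and_card f).mpr
      ⟨hf, by rw [hWc, d.card]⟩ |>.2 ⟨_, (hm1 w hw).2⟩
    have e' : (w' : modV T L) * ρ yy w' = w * ρ (yy * yy) w :=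
      Subtype.ext (congrArg Subtype.val hw' :)
    have h1 := congrArg (fun z => z * ρ η z) e'
    simp only [map_mul (ρ η), hηfix yy hout _ w'.2, hηfix _ hout2 _ hw] at h1
    rw [mul_mul_mul_comm, hV, mul_one, mul_mul_mul_comm, hV, mul_one] at h1
    have h2 : (w' : modV T L) = w := by
      have h4 : ρ η ((w' : modV T L) * w) = (w' : modV T L) * w := by
        rw [map_mul]
        calc ρ η w' * ρ η w = (w' : modV T L) * (w' * ρ η w') * ρ η w := by
              rw [← mul_assoc (w' : modV T L), hV, one_mul]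
          _ = w' * w * (ρ η w * ρ η w) := by rw [h1]; simp only [mul_assoc]
          _ = _ := by rw [hV, mul_one]
      exact mul_left_cancel ((hV _).trans
        (OddOffender.eq_one_of_mem_comm_of_fix ρ hV hodd (mul_mem w'.2 hw) h4).symm)
    rw [h2] at e'
    have h5 : ρ yy (ρ yy w) = ρ yy w := by
      rw [← OddOffender.apply_mul]; exact (mul_left_cancel e').symm
    have h6 : ρ yy w = w := (ρ yy).injective h5
    have h7 : w ∈ W ⊓ OddOffender.comm ρ (yy * η * yy⁻¹) := by
      refine ⟨hw, ?_⟩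
      rw [← OddOffender.map_comm_eq ρ hρ hV]
      exact ⟨w, hw, h6⟩
    rw [hdis] at h7
    exact hw1 (mem_bot.mp h7)
  -- `y` acts without fixed points on `W`
  have hyfpf : ∀ u ∈ W, ρ yy u = u → u = 1 := by
    intro u hu hu'
    by_contra hu1
    -- then `K` centralizes `W`, against the action of `η`
    have hyfix : ∀ w ∈ W, ρ yy w = w := by
      have hη1 : ρ η u ≠ u := fun e => hu1 (OddOffender.eq_one_of_mem_comm_of_fix ρ hV hodd hu e)
      have hη2 : ρ η u ≠ 1 := fun e => hu1 ((ρ η).injective (e.trans (map_one _).symm))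
      intro w hw
      set u' := ρ η u
      rcases hV4 u hu u' (hmapη u hu) hu1 hη2 (Ne.symm hη1) _ (hyW _ (hmapη u hu))
        with e | e | e | e
      · exact absurd ((ρ yy).injective (e.trans (map_one _).symm)) hη2
      · exact absurd ((ρ yy).injective (e.trans hu'.symm)) hη1
      · rcases hV4 u hu u' (hmapη u hu) hu1 hη2 (Ne.symm hη1) w hw with h | h | h | h <;> rw [h]
        · exact map_one _
        · exact hu'
        · exact e
        · rw [map_mul, hu', e]
      · exfalso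
        have h3 := h3fix _ (hmapη u hu)
        rw [OddOffender.apply_mul, OddOffender.apply_mul, e, map_mul, hu', e, ← mul_assoc, hV,
          one_mul] at h3
        exact hu1 (mul_eq_right.mp (e.symm.trans h3))
    have hKfix : ∀ k, ∀ hk : k ∈ K, ∀ w ∈ W, ρ (π ⟨k, hKL hk⟩) w = w := by
      let F : Subgroup G :=
        { carrier := {g | ∃ hg : g ∈ L, ∀ w ∈ W, ρ (π ⟨g, hg⟩) w = w}
          one_mem' := ⟨one_mem _, fun w _ => by
            rw [show (⟨1, one_mem L⟩ : L) = 1 from rfl, map_one, OddOffender.apply_one]⟩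
          mul_mem' := fun {g h} ⟨hg, hg'⟩ ⟨hh, hh'⟩ => ⟨mul_mem hg hh, fun w hw => by
            rw [show (⟨g * h, _⟩ : L) = ⟨g, hg⟩ * ⟨h, hh⟩ from rfl, map_mul,
              OddOffender.apply_mul, hh' w hw, hg' w hw]⟩
          inv_mem' := fun {g} ⟨hg, hg'⟩ => ⟨inv_mem hg, fun w hw => by
            conv_lhs => rw [← hg' w hw]
            rw [show (⟨g⁻¹, _⟩ : L) = (⟨g, hg⟩ : L)⁻¹ from rfl, map_inv,
              ← OddOffender.apply_mul, inv_mul_cancel, OddOffender.apply_one]⟩ }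
      have hKF : K ≤ F := d.le_of_core_le (fun q hq => ⟨_, hQW q hq⟩) hy hyQ ⟨_, hyfix⟩
      exact fun k hk => (hKF hk).2
    let St : Subgroup (act T L).range :=
      { carrier := {g | ∀ w, ρ g w ∈ W ↔ w ∈ W}
        one_mem' := fun w => by rw [OddOffender.apply_one]
        mul_mem' := fun {g h} hg hh w => by rw [OddOffender.apply_mul, hg, hh]
        inv_mem' := fun {g} hg w => by
          rw [← hg, ← OddOffender.apply_mul, mul_inv_cancel, OddOffender.apply_one] }
    -- elements acting on `W` as an element of `J`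
    let Im : Subgroup G :=
      { carrier := {g | ∃ hg : g ∈ L, ∃ j, ∃ hj : j ∈ J, ∀ w ∈ W,
            ρ (π ⟨g, hg⟩) w = ρ (π ⟨j, hJL hj⟩) w}
        one_mem' := ⟨one_mem _, 1, one_mem _, fun w _ => rfl⟩
        mul_mem' := fun {g h} ⟨hg, i, hi, hg'⟩ ⟨hh, k, hk, hh'⟩ => ⟨mul_mem hg hh, i * k,
          mul_mem hi hk, fun w hw => by
            rw [show (⟨g * h, _⟩ : L) = ⟨g, hg⟩ * ⟨h, hh⟩ from rfl,
              show (⟨i * k, _⟩ : L) = ⟨i, hJL hi⟩ * ⟨k, hJL hk⟩ from rfl, map_mul π, map_mul π,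
              OddOffender.apply_mul, OddOffender.apply_mul, hh' w hw,
              hg' _ (s.j_preserves htf.fac hk (hJL hk) w hw)]⟩
        inv_mem' := fun {g} ⟨hg, i, hi, hg'⟩ => ⟨inv_mem hg, i⁻¹, inv_mem hi, fun w hw => by
          refine (ρ (π ⟨g, hg⟩)).injective ?_
          rw [hg' _ (s.j_preserves htf.fac (inv_mem hi) (hJL (inv_mem hi)) w hw),
            show (⟨g⁻¹, _⟩ : L) = (⟨g, hg⟩ : L)⁻¹ from rfl,
            show (⟨i⁻¹, _⟩ : L) = (⟨i, hJL hi⟩ : L)⁻¹ from rfl, map_inv π, map_inv π,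
            ← OddOffender.apply_mul, ← OddOffender.apply_mul, mul_inv_cancel, mul_inv_cancel]⟩ }
    have hHIm : H ≤ Im := sup_le
      (fun k hk => ⟨hKL hk, 1, one_mem _, fun w hw => by
        rw [hKfix k hk w hw, show (⟨1, _⟩ : L) = 1 from rfl, map_one, OddOffender.apply_one]⟩)
      (fun i hi => ⟨hJL hi, i, hi, fun w hw => rfl⟩)
    obtain ⟨⟨h, hhL⟩, hh, hhe⟩ := hη
    obtain ⟨_, j, hj, hj'⟩ := hHIm hh
    obtain ⟨n, hn⟩ := hJp ⟨j, hj⟩
    have hpow : ∀ m : ℕ, ∀ w ∈ W, ρ (η ^ m) w = ρ (π ⟨j, hJL hj⟩ ^ m) w := by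
      intro m
      induction m with
      | zero => intro w _; rw [pow_zero, pow_zero]
      | succ m ih =>
        intro w hw
        have e : ρ η w = ρ (π ⟨j, hJL hj⟩) w := by rw [← hhe]; exact hj' w hw
        rw [pow_succ, pow_succ, OddOffender.apply_mul, OddOffender.apply_mul, e,
          ih _ (s.j_preserves htf.fac hj (hJL hj) w hw)]
    have h2n : ρ (η ^ 2 ^ n) u = u := by
      rw [hpow _ u hu, ← map_pow, show (⟨j, hJL hj⟩ : L) ^ 2 ^ n = 1 from
        Subtype.ext (congrArg Subtype.val hn :), map_one, OddOffender.apply_one]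
    obtain ⟨m, hm⟩ := exists_pow_eq_self_of_coprime (x := η) (n := 2 ^ n)
      (Nat.Coprime.pow_left _ (Nat.coprime_two_left.mpr hodd))
    refine hu1 (OddOffender.eq_one_of_mem_comm_of_fix ρ hV hodd hu ?_)
    rw [← hm]
    clear hm
    induction m with
    | zero => rw [pow_zero, OddOffender.apply_one]
    | succ m ih => rw [pow_succ, OddOffender.apply_mul, h2n, ih]
  -- identify the four-group
  have heq : wOf K = W.map (modV T L).subtype := by
    refine (eq_of_le_of_card_ge ?_ ?_).symm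
    · rintro _ ⟨w, hw, rfl⟩
      let f : W → W := fun u => ⟨(u : modV T L) * ρ yy u, mul_mem u.2 (hyW u u.2)⟩
      have hf : Function.Injective f := fun u u' e => by
        have e' : (u : modV T L) * ρ yy u = u' * ρ yy u' := congrArg Subtype.val e
        have h2 : ρ yy ((u : modV T L) * u') = (u : modV T L) * u' := by
          rw [map_mul]
          calc ρ yy u * ρ yy (u' : modV T L) = (u : modV T L) * (u * ρ yy u) * ρ yy u' := by
                rw [← mul_assoc (u : modV T L), hV, one_mul]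
            _ = u * u' * (ρ yy u' * ρ yy u') := by rw [e']; simp only [mul_assoc]
            _ = _ := by rw [hV, mul_one]
        exact Subtype.ext (mul_left_cancel ((hV _).trans
          (hyfpf _ (mul_mem u.2 u'.2) h2).symm))
      obtain ⟨u, hu⟩ := Finite.surjective_of_injective hf ⟨w, hw⟩
      have hu' : (u : modV T L) * ρ yy u = w := congrArg Subtype.val hu
      rw [← hu']
      exact (hm1 u u.2).1
    · rw [card_map_of_injective (f := (modV T L).subtype) (modV T L).subtype_injective, hWc, d.card]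
  intro j hj
  rw [heq]
  refine LocalB.mem_normalizer_of_conj_le ?_
  rintro _ ⟨w, hw, rfl⟩
  exact ⟨_, s.j_preserves htf.fac hj (hJL hj) w hw, rfl⟩

end Setting

theorem isJComponent_of_zero_conjugate (hL : IsCharacteristicTwoType G)
    (hN : ∀ N : Subgroup G, IsTwoLocal N → Group.IsSolvable ↥N)
    (hZ : ∀ S : Sylow 2 G,
      centralizer (omegaCenterOf (S : Subgroup G) : Set G) ≤ normalizer ((S : Subgroup G) : Set G))
    (hT : IsPGroup 2 ↥T) (hLT : L ∈ jOvergroups T) (hKL : K ≤ L)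
    (hsn : (K.subgroupOf (K ⊔ thompsonSubgroupOf 2 T)).IsSubnormal) (g : G)
    (hK : K ∈ jComponentsZero (T.map (MulAut.conj g).toMonoidHom)) : IsJComponent T K := by
  have hT' : IsPGroup 2 ↥(T.map (MulAut.conj g).toMonoidHom) := hT.map _
  have hJ := (setting_of hN hZ hLT).le_normalizer_wOf (data_of_isJComponent hT' hK.1) hKL hsn
  have e : (T.map (MulAut.conj g).toMonoidHom).map (MulAut.conj g⁻¹).toMonoidHom = T :=
    Functor.cj_inv_cj g T
  have h := (jComponentZero_normalizer_eq hL hN hZ hT' hK).2 g⁻¹ (by rwa [e])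
  rwa [e] at h

end CfsgLib.JComp
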