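import Cfsg.Agent.LocalB.JNonComm
import Mathlib.GroupTheory.Transfer

/-! Maximal 2-local subgroups isomorphic to `S₄` or `S₄ × 2`. -/

set_option autoImplicit false
set_option linter.unusedVariables false
set_option linter.unusedSectionVars false
set_option linter.style.haveILetI false

namespace CfsgLib.JComp

open Subgroup Cfsg CfsgLib
open scoped CfsgLib.Functor

variable {G : Type*} [Group G] [Finite G] {T L₁ L₂ K₁ K₂ : Subgroup G} {v₁ v₂ : G}

namespace OutComp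

variable (o₁ : OutComp T K₁ L₁ v₁) (o₂ : OutComp T K₂ L₂ v₂)
include o₁ o₂

theorem exists_moving (hG : Hyp G) (hne : L₁ ≠ L₂) :
    ∃ w ∈ wOf K₁, ∃ a ∈ wOf K₂, w ∉ coreT T K₂ ∧ a ∉ coreT T K₁ ∧ a * w * a⁻¹ ≠ w := by
  have h := o₁.not_commute o₂ hG hne
  obtain ⟨w, hw, hwC⟩ := SetLike.not_le_iff_exists.mp h
  obtain ⟨a, ha, haw⟩ : ∃ a ∈ wOf K₂, a * w ≠ w * a := by
    by_contra hall
    simp only [not_exists, not_and, ne_eq, not_not] at hall
    exact hwC (mem_centralizer_iff.mpr hall)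
  exact ⟨w, hw, a, ha, fun h' => hwC h'.2,
    fun h' => haw (mem_centralizer_iff.mp h'.2 w hw).symm,
    fun e => haw (mul_inv_eq_iff_eq_mul.mp e)⟩

/-- The two fixed points coincide. -/
theorem fixed_eq (hG : Hyp G) (hne : L₁ ≠ L₂) : v₁ = v₂ := by
  obtain ⟨w, hw, a, ha, -, -, haw⟩ := o₁.exists_moving o₂ hG hne
  have h1 := (o₁.conj_cases (o₂.w_le ha) hw).resolve_left haw
  rcases o₂.conj_cases (o₁.w_le hw) (inv_mem ha) with h2 | h2
  · refine absurd ?_ haw
    calc a * w * a⁻¹ = a * (w * a⁻¹ * w⁻¹) * w := by group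
      _ = w := by rw [h2, mul_inv_cancel, one_mul]
  · have e : a * (w * a⁻¹ * w⁻¹) = a * w * a⁻¹ * w⁻¹ := by group
    rw [h2, h1, ← mul_assoc, mul_inv_cancel, one_mul, o₁.v_comm (o₁.w_le hw),
      mul_inv_cancel_right] at e
    exact e.symm

theorem sq_mem (hG : Hyp G) (hne : L₁ ≠ L₂) {x : G} (hx : x ∈ coreT T K₁) :
    ∃ r ∈ coreT T K₁ ⊓ coreT T K₂, r * r = x * x := by
  obtain ⟨w, hw, a, ha, hwQ, -, -⟩ := o₁.exists_moving o₂ hG hne
  by_cases hx2 : x ∈ coreT T K₂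
  · exact ⟨x, ⟨hx, hx2⟩, rfl⟩
  refine ⟨x * w, ⟨mul_mem hx (o₁.w_le_coreT hw), o₂.mul_mem_coreT (o₁.w_le hw) hx.1 hwQ hx2⟩, ?_⟩
  have h : w * x = x * w := mem_centralizer_iff.mp hx.2 w hw
  calc x * w * (x * w) = x * (w * x) * w := by group
    _ = x * x * (w * w) := by rw [h]; group
    _ = x * x := by rw [o₁.data.sq w hw, mul_one]

/-- `O₂` of the two groups is elementary abelian. -/
theorem coreT_sq (hG : Hyp G) (hne : L₁ ≠ L₂) {x : G} (hx : x ∈ coreT T K₁) : x * x = 1 := by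
  set Y := closure {z : G | ∃ r ∈ coreT T K₁ ⊓ coreT T K₂, z = r * r} with hY
  have hYT : Y ≤ T := (closure_le _).mpr (by
    rintro z ⟨r, hr, rfl⟩
    exact mul_mem hr.1.1 hr.1.1)
  have hn : ∀ {Ki Li : Subgroup G} {vi : G}, OutComp T Ki Li vi →
      (∀ x ∈ coreT T Ki, ∃ r ∈ coreT T K₁ ⊓ coreT T K₂, r * r = x * x) →
      coreT T K₁ ⊓ coreT T K₂ ≤ coreT T Ki → Ki ⊔ T ≤ normalizer (Y : Set G) := by
    intro Ki Li vi oi hs hle p hp
    refine LocalB.mem_normalizer_of_conj_le fun z hz => ?_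
    have h : Y ≤ Y.comap (MulAut.conj p).toMonoidHom := (closure_le _).mpr (by
      rintro z ⟨r, hr, rfl⟩
      obtain ⟨r', hr', e⟩ := hs _ (oi.conj_mem_coreT hp (hle hr))
      refine subset_closure ⟨r', hr', ?_⟩
      show p * (r * r) * p⁻¹ = r' * r'
      rw [e]; group)
    exact h hz
  have hb : Y = ⊥ := o₁.eq_bot_of_normalized o₂ hne hYT
    (hn o₁ (fun x hx => o₁.sq_mem o₂ hG hne hx) inf_le_left)
    (hn o₂ (fun x hx => by
      obtain ⟨r, hr, e⟩ := o₂.sq_mem o₁ hG hne.symm hx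
      exact ⟨r, ⟨hr.2, hr.1⟩, e⟩) inf_le_right)
  obtain ⟨r, hr, e⟩ := o₁.sq_mem o₂ hG hne hx
  have h : r * r ∈ Y := subset_closure ⟨r, hr, rfl⟩
  rw [hb] at h
  rw [← e]
  exact mem_bot.mp h

theorem coreT_comm (hG : Hyp G) (hne : L₁ ≠ L₂) {x y : G} (hx : x ∈ coreT T K₁)
    (hy : y ∈ coreT T K₁) : x * y = y * x := by
  have h := o₁.coreT_sq o₂ hG hne (mul_mem hx hy)
  have hxx := o₁.coreT_sq o₂ hG hne hx
  have hyy := o₁.coreT_sq o₂ hG hne hy
  calc x * y = x * (x * y * (x * y)) * y := by rw [h, mul_one]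
    _ = (x * x) * (y * x) * (y * y) := by group
    _ = y * x := by rw [hxx, hyy, one_mul, mul_one]

theorem inf_eq_omega (hG : Hyp G) (hne : L₁ ≠ L₂) :
    coreT T K₁ ⊓ coreT T K₂ = omegaCenterOf T := by
  obtain ⟨w, hw, a, ha, hwQ, haQ, -⟩ := o₁.exists_moving o₂ hG hne
  refine le_antisymm (fun r hr => ?_) (fun e he => ?_)
  · refine Thompson.mem_omegaOne ⟨hr.1.1, mem_centralizer_iff.mpr fun t ht => ?_⟩
      (by rw [pow_two]; exact o₁.coreT_sq o₂ hG hne hr.1)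
    by_cases htQ : t ∈ coreT T K₁
    · exact o₁.coreT_comm o₂ hG hne htQ hr.1
    · have hta : t * a ∈ coreT T K₁ := o₁.mul_mem_coreT (o₂.w_le ha) ht haQ htQ
      have c1 : Commute (t * a) r := o₁.coreT_comm o₂ hG hne hta hr.1
      have c2 : Commute a r := mem_centralizer_iff.mp hr.2.2 a ha
      simpa using (c1.mul_left c2.inv_left).eq
  · obtain ⟨heT, heC, -⟩ := Setting.omega_spec he
    exact ⟨⟨heT, mem_centralizer_iff.mpr fun u hu => mem_centralizer_iff.mp heC u (o₁.w_le hu)⟩,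
      ⟨heT, mem_centralizer_iff.mpr fun u hu => mem_centralizer_iff.mp heC u (o₂.w_le hu)⟩⟩

theorem card_coreT (hG : Hyp G) (hne : L₁ ≠ L₂) :
    Nat.card (coreT T K₁) = 2 * Nat.card ↥(omegaCenterOf T) := by
  have h := o₂.relIndex_inf (coreT T K₁) inf_le_left (o₂.coreT_not_le o₁ hne.symm)
  have hm := relIndex_mul_relIndex ⊥ (coreT T K₁ ⊓ coreT T K₂) (coreT T K₁) bot_le inf_le_left
  rw [h, relIndex_bot_left, relIndex_bot_left, o₁.inf_eq_omega o₂ hG hne, mul_comm] at hm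
  exact hm.symm

theorem card_coreT_le (hG : Hyp G) (hne : L₁ ≠ L₂) :
    Nat.card (coreT T K₁) = 4 ∨ Nat.card (coreT T K₁) = 8 := by
  rw [o₁.card_coreT o₂ hG hne]
  rcases o₁.card_two_or_four with h | h <;> rw [h] <;> omega

/-- `L₁` normalizes `W₁`. -/
theorem max_normalizes_w (hG : Hyp G) (hne : L₁ ≠ L₂) : L₁ ≤ normalizer (wOf K₁ : Set G) := by
  intro q hq
  obtain ⟨hK₃, hK₃L⟩ := o₁.isJComponent_conj hG hq
  have d₃ := data_of_isJComponent o₁.isP hK₃
  rcases o₁.set.comp_pair o₁.data d₃ o₁.le hK₃L with h | ⟨hdis, hK₃C⟩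
  · rw [← cj_wOf] at h
    exact Functor.mem_normalizer_iff_cj.2 h
  exfalso
  obtain ⟨j, η, u, hinfo⟩ := o₁.set.exists_info d₃ hK₃L
  have hW₃ : wOf (q ⋆ K₁) ≤ coreT T K₁ :=
    ((wOf_le_core _).trans hinfo.core).trans o₁.core_set_le
  have h1 := Solvable.card_sup_mul_card_inf (A := wOf (q ⋆ K₁)) (K := wOf K₁)
    (((wOf_le_core _).trans (Functor.pCoreOf_le 2 _)).trans
      (o₁.set.comp_normalizes o₁.data d₃ o₁.le hK₃L))
  rw [hdis, card_bot, mul_one, o₁.data.card, d₃.card] at h1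
  have h2 := Nat.card_le_card_of_injective _
    (inclusion_injective (_root_.sup_le hW₃ o₁.w_le_coreT))
  rcases o₁.card_coreT_le o₂ hG hne with h | h <;> omega

/-- The centralizer of `W₁` in `L₁`. -/
theorem max_inf_centralizer (hG : Hyp G) (hne : L₁ ≠ L₂) :
    L₁ ⊓ centralizer (wOf K₁ : Set G) ≤ coreT T K₁ := by
  have : Fact (Nat.Prime 2) := ⟨Nat.prime_two⟩
  set Q := coreT T K₁ with hQdef
  have hcore : pCoreOf 2 L₁ = Q := by
    refine le_antisymm o₁.core_set_le (fun x hx => o₁.set.ovg.2.2 (mem_centralizer_iff.mpr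
      fun u hu => o₁.coreT_comm o₂ hG hne (o₁.core_set_le hu) hx))
  have hLQ : L₁ ≤ normalizer (Q : Set G) := hcore ▸ Functor.le_normalizer_pCoreOf 2 L₁
  have hCn : L₁ ≤ normalizer ((L₁ ⊓ centralizer (wOf K₁ : Set G) : Subgroup G) : Set G) := by
    intro x hx
    refine LocalB.mem_normalizer_of_conj_le fun q hq =>
      ⟨L₁.mul_mem (L₁.mul_mem hx hq.1) (L₁.inv_mem hx), mem_centralizer_iff.mpr fun u hu => ?_⟩
    have h1 : x⁻¹ * u * x ∈ wOf K₁ := by
      simpa using (mem_normalizer_iff.mp (inv_mem (o₁.max_normalizes_w o₂ hG hne hx)) u).mp hu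
    have h2 := mem_centralizer_iff.mp hq.2 _ h1
    calc u * (x * q * x⁻¹) = x * (x⁻¹ * u * x * q) * x⁻¹ := by group
      _ = x * q * x⁻¹ * u := by rw [h2]; group
  suffices hp : IsPGroup 2 ↥(L₁ ⊓ centralizer (wOf K₁ : Set G)) by
    rw [← hcore]; exact Functor.le_pCoreOf inf_le_left hCn hp
  -- squares centralize `Q`
  have hsq : ∀ x ∈ L₁ ⊓ centralizer (wOf K₁ : Set G), x * x ∈ Q := by
    intro x hx
    refine o₁.centralizer_coreT (mem_centralizer_iff.mpr fun u hu => ?_)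
    have hxw : ∀ w ∈ wOf K₁, x * w * x⁻¹ = w := fun w hw =>
      mul_inv_eq_iff_eq_mul.mpr (mem_centralizer_iff.mp hx.2 w hw).symm
    refine (mul_inv_eq_iff_eq_mul.mp ?_).symm
    by_cases huW : u ∈ wOf K₁
    · rw [show x * x * u * (x * x)⁻¹ = x * (x * u * x⁻¹) * x⁻¹ by group, hxw u huW, hxw u huW]
    have hxu : x * u * x⁻¹ ∈ Q := (mem_normalizer_iff.mp (hLQ hx.1) u).mp hu
    have hidx : (wOf K₁).relIndex Q = 2 := by
      have h := relIndex_mul_relIndex ⊥ (wOf K₁) Q bot_le o₁.w_le_coreT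
      rw [relIndex_bot_left, relIndex_bot_left, o₁.data.card] at h
      rcases o₁.card_coreT_le o₂ hG hne with h8 | h8
      · exfalso
        apply huW
        have he := eq_of_le_of_card_ge o₁.w_le_coreT (by rw [o₁.data.card]; exact h8.le)
        exact he.ge hu
      · rw [h8] at h; omega
    have hd : x * u * x⁻¹ * u ∈ wOf K₁ := by
      have h := (mul_mem_iff_of_index_two (H := (wOf K₁).subgroupOf Q) hidx
        (a := ⟨_, hxu⟩) (b := ⟨u, hu⟩)).mpr
      simp only [mem_subgroupOf] at h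
      refine h ⟨fun h' => absurd ?_ huW, fun h' => absurd h' huW⟩
      have h'' := hxw _ h'
      rw [show x * u * x⁻¹ = x * u * x⁻¹ from rfl] at h''
      have e : x * u * x⁻¹ = u := (MulAut.conj x).injective h''
      rwa [e] at h'
    have huu : u * u = 1 := o₁.coreT_sq o₂ hG hne hu
    have e1 : x * u * x⁻¹ = x * u * x⁻¹ * u * u := by rw [mul_assoc _ u u, huu, mul_one]
    calc x * x * u * (x * x)⁻¹ = x * (x * u * x⁻¹) * x⁻¹ := by group
      _ = x * (x * u * x⁻¹ * u) * x⁻¹ * (x * u * x⁻¹) := by conv_lhs => rw [e1]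
                                                            group
      _ = x * u * x⁻¹ * u * (x * u * x⁻¹) := by rw [hxw _ hd]
      _ = x * u * x⁻¹ * (u * (x * u * x⁻¹)) := by group
      _ = x * u * x⁻¹ * ((x * u * x⁻¹) * u) := by rw [o₁.coreT_comm o₂ hG hne hu hxu]
      _ = (x * (u * u) * x⁻¹) * u := by group
      _ = u := by rw [huu, mul_one, mul_inv_cancel, one_mul]
  rintro ⟨x, hx⟩
  refine ⟨2, Subtype.ext ?_⟩
  show x ^ 2 ^ 2 = 1
  rw [show x ^ 2 ^ 2 = (x * x) * (x * x) by rw [show (2 : ℕ) ^ 2 = 4 by rfl]; simp [pow_succ, mul_assoc]]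
  exact o₁.coreT_sq o₂ hG hne (hsq x hx)

/-- `L₁` is generated by `K₁` and `T`. -/
theorem max_eq (hG : Hyp G) (hne : L₁ ≠ L₂) : L₁ = K₁ ⊔ T := by
  refine le_antisymm (fun l hl => ?_) o₁.sup_le
  have hlW : l * v₁ * l⁻¹ ∈ wOf K₁ :=
    (mem_normalizer_iff.mp (o₁.max_normalizes_w o₂ hG hne hl) v₁).mp o₁.memW
  obtain ⟨k, hk, hkv⟩ := o₁.transitive hlW (fun e => o₁.ne_one (conj_eq_one_iff.mp e))
  set x := k⁻¹ * l with hxdef
  have hxL : x ∈ L₁ := mul_mem (inv_mem (o₁.le hk)) hl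
  have hxv : x * v₁ * x⁻¹ = v₁ := by
    calc x * v₁ * x⁻¹ = k⁻¹ * (l * v₁ * l⁻¹) * k := by rw [hxdef]; group
      _ = v₁ := by rw [← hkv]; group
  suffices hx : x ∈ T by
    have : k * x ∈ K₁ ⊔ T := mul_mem (mem_sup_left hk) (mem_sup_right hx)
    rwa [hxdef, mul_inv_cancel_left] at this
  obtain ⟨w, hw, hw1, hwv⟩ := o₁.data.exists_other v₁
  have hfix : ∀ z ∈ L₁, z * v₁ * z⁻¹ = v₁ → z * w * z⁻¹ = w → z ∈ T := by
    intro z hz hzv hzw
    refine (o₁.max_inf_centralizer o₂ hG hne ⟨hz, mem_centralizer_iff.mpr fun u hu => ?_⟩).1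
    have c1 : Commute v₁ z := (mul_inv_eq_iff_eq_mul.mp hzv).symm
    have c2 : Commute w z := (mul_inv_eq_iff_eq_mul.mp hzw).symm
    rcases o₁.data.mem_w_cases o₁.memW hw o₁.ne_one hw1 (Ne.symm hwv) hu with e | e | e | e
    · rw [e]; simp
    · rw [e]; exact c1.eq
    · rw [e]; exact c2.eq
    · rw [e]; exact (c1.mul_left c2).eq
  have hxW : x * w * x⁻¹ ∈ wOf K₁ :=
    (mem_normalizer_iff.mp (o₁.max_normalizes_w o₂ hG hne hxL) w).mp hw
  rcases o₁.data.mem_w_cases o₁.memW hw o₁.ne_one hw1 (Ne.symm hwv) hxW with e | e | e | e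
  · exact absurd (conj_eq_one_iff.mp e) hw1
  · exact absurd ((MulAut.conj x).injective (show x * w * x⁻¹ = x * v₁ * x⁻¹ by rw [e, hxv])) hwv
  · exact hfix x hxL hxv e
  · obtain ⟨a, ha, haQ⟩ := o₁.exists_not_coreT
    have hav : a * v₁ * a⁻¹ = v₁ := mul_inv_eq_iff_eq_mul.mpr (o₁.v_comm ha)
    have hax : a * x ∈ T := by
      refine hfix _ (mul_mem (o₁.set.le ha) hxL) ?_ ?_
      · rw [show a * x * v₁ * (a * x)⁻¹ = a * (x * v₁ * x⁻¹) * a⁻¹ by group, hxv, hav]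
      · rw [show a * x * w * (a * x)⁻¹ = a * (x * w * x⁻¹) * a⁻¹ by group, e,
          show a * (v₁ * w) * a⁻¹ = (a * v₁ * a⁻¹) * (a * w * a⁻¹) by group, hav,
          o₁.conj_of_not_mem ha haQ hw hw1 hwv, o₁.v_comm (o₁.w_le hw), ← mul_assoc,
          o₁.sq o₁.memZ, one_mul]
    simpa using mul_mem (inv_mem ha) hax

/-- A character of `T` not vanishing on a fixed point of `K₁`. -/
theorem exists_char (hG : Hyp G) (hne : L₁ ≠ L₂) {c : G} (hc : c ∈ omegaCenterOf T) (hc1 : c ≠ 1)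
    (hKc : K₁ ≤ centralizer ({c} : Set G)) (h16 : Nat.card T = 16) :
    ∃ φ : T →* Multiplicative (ZMod 2), φ ⟨c, (Setting.omega_spec hc).1⟩ ≠ 1 := by
  have hW : wOf K₂ ≤ normalizer (wOf K₁ : Set G) := o₂.w_le.trans o₁.norm_w
  set D := wOf K₂ ⊔ wOf K₁ with hDdef
  have hDT : D ≤ T := _root_.sup_le o₂.w_le o₁.w_le
  have hvv := o₁.fixed_eq o₂ hG hne
  have hI : Nat.card ↥(wOf K₂ ⊓ wOf K₁) = 2 := by
    have h1 : Nat.card ↥(wOf K₂ ⊓ wOf K₁) ∣ 4 :=
      o₂.data.card ▸ card_dvd_of_le (inf_le_left : wOf K₂ ⊓ wOf K₁ ≤ wOf K₂)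
    have h2 : 1 < Nat.card ↥(wOf K₂ ⊓ wOf K₁) := by
      refine Finite.one_lt_card_iff_nontrivial.mpr ((nontrivial_iff_ne_bot _).mpr fun h => ?_)
      refine o₁.ne_one ?_
      have h' : v₁ ∈ wOf K₂ ⊓ wOf K₁ := ⟨hvv ▸ o₂.memW, o₁.memW⟩
      rw [h] at h'
      exact mem_bot.mp h'
    have h3 : Nat.card ↥(wOf K₂ ⊓ wOf K₁) ≠ 4 := by
      intro h4
      have he := eq_of_le_of_card_ge (inf_le_left : wOf K₂ ⊓ wOf K₁ ≤ wOf K₂)
        (by rw [h4, o₂.data.card])
      have he' := eq_of_le_of_card_ge (inf_le_right : wOf K₂ ⊓ wOf K₁ ≤ wOf K₁)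
        (by rw [h4, o₁.data.card])
      exact o₁.not_commute o₂ hG hne (by rw [← he, he']; exact o₁.w_abelian)
    obtain ⟨i, hi, e⟩ := (Nat.dvd_prime_pow Nat.prime_two).mp (show _ ∣ 2 ^ 2 from h1)
    rw [e] at h2 h3 ⊢
    interval_cases i <;> simp_all
  have hD8 : Nat.card D = 8 := by
    have h1 := Solvable.card_sup_mul_card_inf (A := wOf K₂) (K := wOf K₁) hW
    rw [hI, o₁.data.card, o₂.data.card] at h1
    show Nat.card ↥(wOf K₂ ⊔ wOf K₁) = 8
    omega
  have hidx : (D.subgroupOf T).index = 2 := by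
    have h := relIndex_mul_relIndex ⊥ D T bot_le hDT
    rw [relIndex_bot_left, relIndex_bot_left, hD8, h16] at h
    show D.relIndex T = 2
    omega
  classical
  refine ⟨{ toFun := fun t => if (t : G) ∈ D then 1 else Multiplicative.ofAdd 1
            map_one' := if_pos (one_mem D)
            map_mul' := fun a b => ?_ }, ?_⟩
  · have h := mul_mem_iff_of_index_two hidx (a := a) (b := b)
    simp only [mem_subgroupOf] at h
    by_cases ha : (a : G) ∈ D <;> by_cases hb : (b : G) ∈ D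
    · rw [if_pos (h.mpr (iff_of_true ha hb)), if_pos ha, if_pos hb, one_mul]
    · rw [if_neg (fun h' => hb ((h.mp h').mp ha)), if_pos ha, if_neg hb, one_mul]
    · rw [if_neg (fun h' => ha ((h.mp h').mpr hb)), if_neg ha, if_pos hb, mul_one]
    · rw [if_pos (h.mpr (iff_of_false ha hb)), if_neg ha, if_neg hb]
      rfl
  · show (if c ∈ D then (1 : Multiplicative (ZMod 2)) else Multiplicative.ofAdd 1) ≠ 1
    rw [if_neg]
    · decide
    intro hcD
    obtain ⟨w₂, hw₂, w₁, hw₁, e⟩ := (Solvable.mem_sup_of_le_normalizer hW).mp hcD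
    have hcQ : c ∈ coreT T K₁ ⊓ coreT T K₂ := by rw [o₁.inf_eq_omega o₂ hG hne]; exact hc
    have hw₂Q : w₂ ∈ coreT T K₁ := by
      rw [show w₂ = c * w₁⁻¹ by rw [← e]; group]
      exact mul_mem hcQ.1 (inv_mem (o₁.w_le_coreT hw₁))
    have hw₂Z : w₂ ∈ omegaCenterOf T := by
      rw [← o₁.inf_eq_omega o₂ hG hne]; exact ⟨hw₂Q, o₂.w_le_coreT hw₂⟩
    have hcW : c ∈ wOf K₁ := by
      rcases o₂.only w₂ hw₂ (mem_centralizer_iff.mpr fun j hj =>
        mem_centralizer_iff.mp (Setting.omega_spec hw₂Z).2.1 j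
          (Thompson.thompsonSubgroupOf_le T hj)) with h | h
      · rw [← e, h, one_mul]; exact hw₁
      · rw [← e, h, ← hvv]; exact mul_mem o₁.memW hw₁
    obtain ⟨y, hy, hyQ⟩ := o₁.data.exists_mem_not_core
    exact hc1 (o₁.data.fixed_eq_one hy hyQ hcW (mem_centralizer_singleton_iff.mp (hKc hy)))

set_option maxHeartbeats 800000 in
/-- The isomorphism type of `L₁`. -/
theorem iso_symFour (hG : Hyp G) (hne : L₁ ≠ L₂) :
    (Nat.card ↥(omegaCenterOf T) = 2 ∧ Nonempty (L₁ ≃* Equiv.Perm (Fin 4))) ∨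
      (Nat.card ↥(omegaCenterOf T) = 4 ∧
        Nonempty (L₁ ≃* Equiv.Perm (Fin 4) × Multiplicative (ZMod 2))) := by
  have : Fact (Nat.Prime 2) := ⟨Nat.prime_two⟩
  have : Fact (Nat.Prime 3) := ⟨Nat.prime_three⟩
  have hL := o₁.max_eq o₂ hG hne
  have hQ := o₁.card_coreT o₂ hG hne
  have hT := o₁.card_T
  have hcardL : Nat.card L₁ = 3 * Nat.card T := by rw [hL, o₁.card_sup]
  have hfree : ∀ x ∈ L₁, x ^ 3 = 1 → x ≠ 1 → ∀ w ∈ wOf K₁, x * w * x⁻¹ = w → w = 1 := by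
    intro x hx hx3 hx1 w hw hfix
    by_contra hw1
    obtain ⟨k, hk, hkv⟩ := o₁.transitive hw hw1
    have hmem : k⁻¹ * x * k ∈ K₁ ⊔ T :=
      mul_mem (mul_mem (inv_mem (mem_sup_left hk)) (hL ▸ hx)) (mem_sup_left hk)
    have hyT := o₁.mem_T_of_fix hmem (by
      calc k⁻¹ * x * k * v₁ * (k⁻¹ * x * k)⁻¹ = k⁻¹ * (x * (k * v₁ * k⁻¹) * x⁻¹) * k := by group
        _ = v₁ := by rw [hkv, hfix, ← hkv]; group)
    obtain ⟨n, hn⟩ := o₁.isP ⟨_, hyT⟩
    have hn' : (k⁻¹ * x * k) ^ 2 ^ n = 1 := congrArg Subtype.val hn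
    have h3 : (k⁻¹ * x * k) ^ 3 = 1 := by
      rw [show k⁻¹ * x * k = k⁻¹ * x * k⁻¹⁻¹ by group, conj_pow, hx3]; group
    have hg := pow_gcd_eq_one.mpr ⟨hn', h3⟩
    rw [show Nat.gcd (2 ^ n) 3 = 1 from
      Nat.Coprime.pow_left n (by norm_num : Nat.Coprime 2 3), pow_one] at hg
    apply hx1
    calc x = k * (k⁻¹ * x * k) * k⁻¹ := by group
      _ = 1 := by rw [hg]; group
  have hTidx : (T.subgroupOf L₁).index = 3 := by
    have h := relIndex_mul_relIndex ⊥ T L₁ bot_le o₁.set.le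
    rw [relIndex_bot_left, relIndex_bot_left, hcardL, mul_comm 3] at h
    exact Nat.eq_of_mul_eq_mul_left (Nat.card_pos : 0 < Nat.card T) h
  have hZ24 : Nat.card ↥(omegaCenterOf T) = 2 ∧ Nat.card L₁ = 24 ∨
      Nat.card ↥(omegaCenterOf T) = 4 ∧ Nat.card L₁ = 48 := by
    rcases o₁.card_two_or_four with h | h <;> rw [h] at hQ ⊢ <;> omega
  obtain ⟨P⟩ : Nonempty (Sylow 3 L₁) := inferInstance
  have hPcard : Nat.card (P : Subgroup L₁) = 3 := by
    obtain ⟨k, hk⟩ := P.2.exists_card_eq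
    have hmul := (P : Subgroup L₁).card_mul_index
    have hnd := P.not_dvd_index
    rw [hk] at hmul
    rcases k with _ | _ | k
    · rw [pow_zero, one_mul] at hmul
      refine absurd ?_ hnd
      rw [hmul, hcardL]; exact Dvd.intro _ rfl
    · rw [hk]; rfl
    · have h9 : 9 ∣ Nat.card L₁ := ⟨3 ^ k * (P : Subgroup L₁).index, by rw [← hmul]; ring⟩
      rcases hZ24 with ⟨-, h⟩ | ⟨-, h⟩ <;> rw [h] at h9 <;> omega
  have hPidx : (P : Subgroup L₁).index = Nat.card T := by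
    have hmul := (P : Subgroup L₁).card_mul_index
    rw [hPcard, hcardL] at hmul
    omega
  obtain ⟨x, hxP, hx1⟩ : ∃ x ∈ (P : Subgroup L₁), x ≠ 1 := by
    have : Nontrivial (P : Subgroup L₁) :=
      Finite.one_lt_card_iff_nontrivial.mp (by rw [hPcard]; norm_num)
    obtain ⟨⟨y, hy⟩, hy1⟩ := exists_ne (1 : (P : Subgroup L₁))
    exact ⟨y, hy, fun h => hy1 (Subtype.ext h)⟩
  have hx3 : (x : G) ^ 3 = 1 := by
    have h := pow_card_eq_one' (x := (⟨x, hxP⟩ : (P : Subgroup L₁)))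
    rw [hPcard] at h
    exact congrArg Subtype.val (congrArg Subtype.val h)
  have hxG : (x : G) ≠ 1 := fun h => hx1 (Subtype.ext h)
  -- a normalizer of `P` inside `W₁` is trivial
  have hNW : ∀ n : L₁, (n : G) ∈ wOf K₁ → n ∈ normalizer ((P : Subgroup L₁) : Set L₁) → n = 1 := by
    intro n hn hnP
    refine Subtype.ext (hfree x x.2 hx3 hxG n hn ?_)
    set e := (x : G) * n * (x : G)⁻¹ * (n : G)⁻¹ with he
    have h1 : x * n * x⁻¹ * n⁻¹ ∈ (P : Subgroup L₁) := by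
      rw [show x * n * x⁻¹ * n⁻¹ = x * (n * x⁻¹ * n⁻¹) by group]
      exact mul_mem hxP ((mem_normalizer_iff.mp hnP _).mp (inv_mem hxP))
    have h2 : e ∈ wOf K₁ := mul_mem
      ((mem_normalizer_iff.mp (o₁.max_normalizes_w o₂ hG hne x.2) n).mp hn) (inv_mem hn)
    have h3 : e ^ 3 = 1 := by
      have h := pow_card_eq_one' (x := (⟨_, h1⟩ : (P : Subgroup L₁)))
      rw [hPcard] at h
      exact congrArg Subtype.val (congrArg Subtype.val h)
    rw [pow_succ, pow_two, o₁.data.sq e h2, one_mul, he] at h3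
    exact mul_inv_eq_one.mp h3
  have hnot1 : Nat.card (Sylow 3 L₁) ≠ 1 := by
    intro h1
    refine o₁.ne_one (congrArg Subtype.val (hNW ⟨v₁, o₁.set.le o₁.v_mem⟩ o₁.memW ?_))
    have := P.card_eq_index_normalizer
    rw [h1] at this
    exact (index_eq_one.mp this.symm).ge (mem_top _)
  have hmod := card_sylow_modEq_one 3 L₁
  have hdvd : Nat.card (Sylow 3 L₁) ∣ Nat.card T := hPidx ▸ P.card_dvd_index
  unfold Nat.ModEq at hmod
  set φ := MulAction.toPermHom L₁ (Sylow 3 L₁) with hφ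
  have hkP : ∀ n ∈ φ.ker, n ∈ normalizer ((P : Subgroup L₁) : Set L₁) := fun n hn =>
    Sylow.smul_eq_iff_mem_normalizer.mp
      (congrArg (fun f : Equiv.Perm (Sylow 3 L₁) => f P) (MonoidHom.mem_ker.mp hn) :)
  have hkerQ : ∀ n ∈ φ.ker, (n : G) ∈ coreT T K₁ := by
    intro n hn
    refine o₁.max_inf_centralizer o₂ hG hne ⟨n.2, mem_centralizer_iff.mpr fun w hw => ?_⟩
    set w' : L₁ := ⟨w, o₁.set.le (o₁.w_le hw)⟩
    have hk : n * w' * n⁻¹ * w'⁻¹ ∈ φ.ker := by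
      rw [show n * w' * n⁻¹ * w'⁻¹ = n * (w' * n⁻¹ * w'⁻¹) by group]
      exact mul_mem hn ((inferInstance : φ.ker.Normal).conj_mem _ (inv_mem hn) w')
    have hWm : ((n * w' * n⁻¹ * w'⁻¹ : L₁) : G) ∈ wOf K₁ := mul_mem
      ((mem_normalizer_iff.mp (o₁.max_normalizes_w o₂ hG hne n.2) w).mp hw) (inv_mem hw)
    have h1 := congrArg Subtype.val (hNW _ hWm (hkP _ hk))
    have h2 : (n : G) * w * (n : G)⁻¹ * w⁻¹ = 1 := h1
    exact (mul_inv_eq_iff_eq_mul.mp (mul_inv_eq_one.mp h2)).symm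
  rcases hZ24 with ⟨hZ, h24⟩ | ⟨hZ, h48⟩
  · refine Or.inl ⟨hZ, ?_⟩
    have hT8 : Nat.card T = 8 := by omega
    have h4 : Nat.card (Sylow 3 L₁) = 4 := by
      rw [hT8] at hdvd
      have hle := Nat.le_of_dvd (by norm_num) hdvd
      generalize Nat.card (Sylow 3 L₁) = n at hdvd hle hnot1 hmod
      interval_cases n <;> omega
    have hinj : Function.Injective φ := by
      refine (MonoidHom.ker_eq_bot_iff φ).mp (eq_bot_iff.mpr fun n hn => mem_bot.mpr ?_)
      have he := eq_of_le_of_card_ge o₁.w_le_coreT (by rw [o₁.data.card, hQ, hZ])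
      exact hNW n (he ▸ hkerQ n hn) (hkP n hn)
    have hbij : Function.Bijective φ := (Nat.bijective_iff_injective_and_card φ).mpr
      ⟨hinj, by rw [h24, Nat.card_perm, h4]; rfl⟩
    exact ⟨(MulEquiv.ofBijective φ hbij).trans
      (Equiv.permCongrHom (Finite.equivFinOfCardEq h4))⟩
  · refine Or.inr ⟨hZ, ?_⟩
    have hT16 : Nat.card T = 16 := by omega
    obtain ⟨c, hc, hc1, hcv, hKc, -⟩ := o₁.cases.resolve_left (by
      intro h
      have h2 : Nat.card ↥(omegaCenterOf T) ≤ 2 := by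
        rw [show Nat.card ↥(omegaCenterOf T) = (omegaCenterOf T : Set G).ncard from
          Nat.card_coe_set_eq _]
        exact (Set.ncard_le_ncard (fun e he => h e he : _ ⊆ ({1, v₁} : Set G))).trans
          (Set.ncard_insert_le 1 {v₁}) |>.trans (by rw [Set.ncard_singleton])
      omega)
    have hcT : c ∈ T := (Setting.omega_spec hc).1
    set c' : L₁ := ⟨c, o₁.set.le hcT⟩ with hc'def
    have hcen : ∀ g : L₁, g * c' = c' * g := by
      rintro ⟨g, hg⟩
      have hle : L₁ ≤ centralizer ({c} : Set G) := hL.le.trans (_root_.sup_le hKc fun t ht =>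
        mem_centralizer_singleton_iff.mpr (mem_centralizer_iff.mp (Setting.omega_spec hc).2.1 t ht))
      exact Subtype.ext (mem_centralizer_singleton_iff.mp (hle hg))
    have hcQ : ∀ Q' : Sylow 3 L₁, c' ∈ normalizer ((Q' : Subgroup L₁) : Set L₁) := fun Q' =>
      LocalB.mem_normalizer_of_conj_le fun u hu => by
        rwa [← hcen u, mul_inv_cancel_right]
    have hcker : c' ∈ φ.ker := by
      rw [MonoidHom.mem_ker]
      exact Equiv.ext fun Q' => Sylow.smul_eq_iff_mem_normalizer.mpr (hcQ Q')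
    have hcc : c * c = 1 := o₁.sq hc
    have h4 : Nat.card (Sylow 3 L₁) = 4 := by
      have hN := P.card_eq_index_normalizer
      have h2 : 2 ∣ Nat.card ↥(normalizer ((P : Subgroup L₁) : Set L₁)) := by
        have ho : orderOf c' = 2 := orderOf_eq_prime (Subtype.ext (by
          show c ^ 2 = 1
          rw [pow_two, hcc])) (fun h => hc1 (congrArg Subtype.val h))
        rw [← ho, ← Nat.card_zpowers]
        exact card_dvd_of_le (zpowers_le.mpr (hcQ P))
      have h3 : 3 ∣ Nat.card ↥(normalizer ((P : Subgroup L₁) : Set L₁)) :=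
        (dvd_of_eq hPcard.symm).trans (card_dvd_of_le Subgroup.le_normalizer)
      have hm : Nat.card ↥(normalizer ((P : Subgroup L₁) : Set L₁)) * Nat.card (Sylow 3 L₁) = 48 := by
        rw [hN]; exact (card_mul_index _).trans h48
      have h6 : 6 ∣ Nat.card ↥(normalizer ((P : Subgroup L₁) : Set L₁)) :=
        (by norm_num : Nat.Coprime 2 3).mul_dvd_of_dvd_of_dvd h2 h3
      obtain ⟨m, hm'⟩ := h6
      rw [hm'] at hm
      have h8 : Nat.card (Sylow 3 L₁) ∣ 8 := ⟨m, by nlinarith⟩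
      have hle := Nat.le_of_dvd (by norm_num) h8
      generalize Nat.card (Sylow 3 L₁) = n at h8 hle hnot1 hmod
      interval_cases n <;> omega
    obtain ⟨ψ, hψ⟩ := o₁.exists_char o₂ hG hne hc hc1 hKc hT16
    let e : ↥(T.subgroupOf L₁) →* T :=
      { toFun := fun t => ⟨((t : L₁) : G), t.2⟩
        map_one' := rfl
        map_mul' := fun _ _ => rfl }
    set χ := MonoidHom.transfer (ψ.comp e) with hχdef
    have hχc : χ c' ≠ 1 := by
      have key : ∀ (k : ℕ) (g₀ : L₁), g₀⁻¹ * c' ^ k * g₀ ∈ T.subgroupOf L₁ →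
          g₀⁻¹ * c' ^ k * g₀ = c' ^ k := fun k g₀ _ => by
        rw [mul_assoc, ← ((show Commute g₀ c' from hcen g₀).pow_right k).eq, inv_mul_cancel_left]
      rw [hχdef, MonoidHom.transfer_eq_pow (ψ.comp e) c' key]
      show ψ _ ≠ 1
      convert hψ using 3
      show (((c' ^ (T.subgroupOf L₁).index : L₁)) : G) = c
      rw [hTidx, Subgroup.coe_pow]
      show c ^ 3 = c
      rw [pow_succ, pow_two, hcc, one_mul]
    set Φ := φ.prod χ with hΦ
    have hinj : Function.Injective Φ := by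
      refine (MonoidHom.ker_eq_bot_iff Φ).mp (eq_bot_iff.mpr fun n hn => mem_bot.mpr ?_)
      rw [MonoidHom.mem_ker, hΦ, MonoidHom.prod_apply, Prod.mk_eq_one] at hn
      have hnQ := hkerQ n (MonoidHom.mem_ker.mpr hn.1)
      by_cases hnW : (n : G) ∈ wOf K₁
      · exact hNW n hnW (hkP n (MonoidHom.mem_ker.mpr hn.1))
      exfalso
      have hcQ₁ : c ∈ coreT T K₁ := by
        have : c ∈ coreT T K₁ ⊓ coreT T K₂ := by rw [o₁.inf_eq_omega o₂ hG hne]; exact hc
        exact this.1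
      have hidx : (wOf K₁).relIndex (coreT T K₁) = 2 := by
        have h := relIndex_mul_relIndex ⊥ (wOf K₁) (coreT T K₁) bot_le o₁.w_le_coreT
        rw [relIndex_bot_left, relIndex_bot_left, o₁.data.card, hQ, hZ] at h
        omega
      have hcW : c ∉ wOf K₁ := fun h => hc1 (by
        obtain ⟨y, hy, hyQ⟩ := o₁.data.exists_mem_not_core
        exact o₁.data.fixed_eq_one hy hyQ h (mem_centralizer_singleton_iff.mp (hKc hy)))
      have hm := (mul_mem_iff_of_index_two (H := (wOf K₁).subgroupOf (coreT T K₁)) hidx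
        (a := ⟨(n : G), hnQ⟩) (b := ⟨c, hcQ₁⟩)).mpr
      simp only [mem_subgroupOf] at hm
      have h1 := hNW (n * c') (hm (iff_of_false hnW hcW))
        (hkP _ (mul_mem (MonoidHom.mem_ker.mpr hn.1) hcker))
      have hnc : n = c' := by
        rw [mul_eq_one_iff_eq_inv.mp h1]
        exact inv_eq_of_mul_eq_one_right (Subtype.ext hcc)
      exact hχc (hnc ▸ hn.2)
    have hbij : Function.Bijective Φ := (Nat.bijective_iff_injective_and_card Φ).mpr
      ⟨hinj, by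
        rw [h48, Nat.card_prod, Nat.card_perm, h4,
          Nat.card_congr (Multiplicative.toAdd : Multiplicative (ZMod 2) ≃ ZMod 2), Nat.card_zmod]
        rfl⟩
    exact ⟨(MulEquiv.ofBijective Φ hbij).trans
      ((Equiv.permCongrHom (Finite.equivFinOfCardEq h4)).prodCongr (MulEquiv.refl _))⟩

end OutComp

end CfsgLib.JComp
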