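import Cfsg.Agent.LocalB.JStraddle

/-! The maximal 2-local overgroup of a component is unique. -/

set_option autoImplicit false
set_option linter.unusedVariables false
set_option linter.unusedSectionVars false

namespace CfsgLib.JComp

open Subgroup Cfsg CfsgLib
open scoped CfsgLib.Functor

variable {G : Type*} [Group G] [Finite G] {T L M K : Subgroup G}

/-- The standing hypotheses. -/
structure Hyp (G : Type*) [Group G] : Prop where
  charTwo : IsCharacteristicTwoType G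
  solv : ∀ N : Subgroup G, IsTwoLocal N → Group.IsSolvable ↥N
  zc : ∀ S : Sylow 2 G,
    centralizer (omegaCenterOf (S : Subgroup G) : Set G) ≤ normalizer ((S : Subgroup G) : Set G)

theorem exists_maximal_twoLocal {X : Subgroup G} (hX : IsTwoLocal X) :
    ∃ L, IsMaximalTwoLocal L ∧ X ≤ L := by
  obtain ⟨L, ⟨hL, hXL⟩, hmax⟩ := Set.Finite.exists_maximalFor (fun L : Subgroup G => Nat.card L)
    {L | IsTwoLocal L ∧ X ≤ L} (Set.toFinite _) ⟨X, hX, le_rfl⟩
  exact ⟨L, ⟨hL, fun N hN hLN => (eq_of_le_of_card_ge hLN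
    (hmax ⟨hN, hXL.trans hLN⟩ (Nat.card_le_card_of_injective _ (inclusion_injective hLN)))).symm⟩, hXL⟩

theorem maximal_eq_normalizer (hL : IsMaximalTwoLocal L) {P : Subgroup G} (hP : IsPGroup 2 P)
    (hP1 : P ≠ ⊥) (hLP : L ≤ normalizer (P : Set G)) : normalizer (P : Set G) = L :=
  hL.2 _ ⟨P, hP, hP1, rfl⟩ hLP

theorem twoLocal_core_ne_bot (hL : IsTwoLocal L) : pCoreOf 2 L ≠ ⊥ := by
  have : Fact (Nat.Prime 2) := ⟨Nat.prime_two⟩
  obtain ⟨Q, hQ, hQ1, rfl⟩ := hL
  exact fun h => hQ1 (le_bot_iff.mp (h ▸ Functor.le_pCoreOf Subgroup.le_normalizer le_rfl hQ))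

theorem normalizer_core_eq (hL : IsMaximalTwoLocal L) :
    normalizer (pCoreOf 2 L : Set G) = L := by
  have : Fact (Nat.Prime 2) := ⟨Nat.prime_two⟩
  exact maximal_eq_normalizer hL (Functor.isPGroup_pCoreOf L) (twoLocal_core_ne_bot hL.1)
    (Functor.le_normalizer_pCoreOf 2 L)

theorem normalizer_maximal_le (hL : IsMaximalTwoLocal L) : normalizer (L : Set G) ≤ L := by
  have : Fact (Nat.Prime 2) := ⟨Nat.prime_two⟩
  exact (normalizer_le_normalizer_pCoreOf 2 L).trans (normalizer_core_eq hL).le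

theorem isMaximal_cj (hL : IsMaximalTwoLocal L) (g : G) : IsMaximalTwoLocal (g ⋆ L) := by
  have key : ∀ (h : G) (X : Subgroup G), IsTwoLocal X → IsTwoLocal (h ⋆ X) := by
    rintro h _ ⟨Q, hQ, hQ1, rfl⟩
    exact ⟨h ⋆ Q, Functor.isPGroup_cj h hQ, fun e => hQ1 (Functor.cj_eq_bot_iff.1 e),
      Functor.cj_normalizer h Q⟩
  refine ⟨key g L hL.1, fun N hN hle => ?_⟩
  have h1 := Functor.cj_mono g⁻¹ hle
  rw [Functor.cj_inv_cj] at h1
  rw [← hL.2 _ (key g⁻¹ N hN) h1, Functor.cj_cj_inv]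

theorem mem_of_cj_eq (hL : IsMaximalTwoLocal L) {g : G} (h : g ⋆ L = L) : g ∈ L :=
  normalizer_maximal_le hL (Functor.mem_normalizer_iff_cj.2 h)

theorem cj_pCoreOf (g : G) (H : Subgroup G) : g ⋆ pCoreOf 2 H = pCoreOf 2 (g ⋆ H) := by
  have : Fact (Nat.Prime 2) := ⟨Nat.prime_two⟩
  have key : ∀ (h : G) (X : Subgroup G), h ⋆ pCoreOf 2 X ≤ pCoreOf 2 (h ⋆ X) := fun h X => by
    refine Functor.le_pCoreOf (Functor.cj_mono h (Functor.pCoreOf_le 2 X)) ?_
      (Functor.isPGroup_cj h (Functor.isPGroup_pCoreOf X))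
    rw [← Functor.cj_normalizer]
    exact Functor.cj_mono h (Functor.le_normalizer_pCoreOf 2 X)
  refine le_antisymm (key g H) ?_
  have h1 := Functor.cj_mono g (key g⁻¹ (g ⋆ H))
  rwa [Functor.cj_cj_inv, Functor.cj_inv_cj] at h1

theorem cj_omegaCenterOf (g : G) (X : Subgroup G) :
    g ⋆ omegaCenterOf X = omegaCenterOf (g ⋆ X) := by
  rw [omegaCenterOf, omegaCenterOf, Thompson.map_omegaOne _ (MulAut.conj g).injective,
    Functor.cj_inf, Functor.cj_centralizer]

theorem cj_wOf (g : G) (K : Subgroup G) : g ⋆ wOf K = wOf (g ⋆ K) := by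
  rw [wOf, wOf, Functor.cj_commutator, cj_omegaCenterOf, cj_pCoreOf]

theorem isJComponent_cj (g : G) (hK : IsJComponent T K) : IsJComponent (g ⋆ T) (g ⋆ K) := by
  obtain ⟨h1, h2, h3, h4, h5, h6⟩ := hK
  have hJ : g ⋆ thompsonSubgroupOf 2 T = thompsonSubgroupOf 2 (g ⋆ T) :=
    Thompson.map_thompsonSubgroupOf _ T
  refine ⟨?_, ?_, ?_, fun S hS hJS => ?_, ?_, ?_⟩
  · refine le_antisymm ((closure_le _).mpr fun x hx => hx.1) ?_
    conv_lhs => rw [← h1, MonoidHom.map_closure]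
    refine closure_mono ?_
    rintro _ ⟨x, hx, rfl⟩
    refine ⟨⟨x, hx.1, rfl⟩, ?_⟩
    rw [orderOf_injective (MulAut.conj g).toMonoidHom (MulAut.conj g).injective]
    exact hx.2
  · rw [← hJ, ← Functor.cj_commutator, h2]
  · rw [← cj_pCoreOf, Functor.cj_relIndex, h3]
  · rw [← hJ, ← Subgroup.map_sup] at hS
    rw [← hJ] at hJS
    have hS' := (sylowTwo_iff.1 hS).cj g⁻¹
    rw [Functor.cj_inv_cj] at hS'
    have hJS' := Functor.cj_mono g⁻¹ hJS
    rw [Functor.cj_inv_cj] at hJS'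
    have h7 := h4 _ (sylowTwo_iff.2 hS') hJS'
    rw [← hJ, ← h7, Thompson.map_thompsonSubgroupOf]
    exact congrArg (thompsonSubgroupOf 2) (Functor.cj_cj_inv g S).symm
  · rw [← cj_wOf, Functor.card_cj, h5]
  · rw [← cj_wOf]
    rintro _ ⟨w, hw, rfl⟩
    rw [← map_mul, h6 w hw, map_one]

/-- Components are carried to components by elements normalizing `J(T)`. -/
theorem isJComponent_cj_of_mem {g : G} (hg : g ∈ normalizer (thompsonSubgroupOf 2 T : Set G))
    (hK : IsJComponent T K) : IsJComponent T (g ⋆ K) := by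
  refine isJComponent_congr ?_ (isJComponent_cj g hK)
  rw [← Thompson.map_thompsonSubgroupOf]
  exact Functor.mem_normalizer_iff_cj.1 hg

namespace Setting

theorem wOf_le_modV (s : Setting T L) (d : Data (thompsonSubgroupOf 2 T) K) (hKL : K ≤ L) :
    wOf K ≤ modV T L := by
  obtain ⟨j, η, v, hinfo⟩ := s.exists_info d hKL
  rw [hinfo.w_eq]
  exact map_subtype_le _

/-- Two components inside `L`. -/
theorem comp_pair (s : Setting T L) {K' : Subgroup G} (d : Data (thompsonSubgroupOf 2 T) K)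
    (d' : Data (thompsonSubgroupOf 2 T) K') (hKL : K ≤ L) (hK'L : K' ≤ L) :
    wOf K' = wOf K ∨ (wOf K' ⊓ wOf K = ⊥ ∧ K' ≤ centralizer (wOf K : Set G)) := by
  letI := s.commV
  haveI := s.solv_range
  set ρ := (act T L).range.subtype with hρdef
  have hρ : Function.Injective ρ := (act T L).range.subtype_injective
  obtain ⟨j, η, v, hjm, hjL, htf, himg, -, -, hw, -⟩ := s.exists_info d hKL
  obtain ⟨j', η', v', hjm', hjL', htf', himg', -, -, hw', -⟩ := s.exists_info d' hK'L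
  rcases OddOffender.pairwise ρ hρ s.modV_sq s.core_trivial htf.fac htf'.fac with hz | ⟨hdis, hfix⟩
  · left
    rw [hw, hw', OddOffender.comm_eq_of_mem_zpowers ρ hρ s.modV_sq s.core_trivial htf.fac htf'.fac hz]
  right
  refine ⟨?_, fun k hk => mem_centralizer_iff.mpr ?_⟩
  · rw [hw, hw', ← map_inf _ _ _ (modV T L).subtype_injective, inf_comm]
    refine (map_eq_bot_iff_of_injective _ (modV T L).subtype_injective).2 hdis
  · rw [hw]
    rintro _ ⟨w, hwW, rfl⟩
    obtain ⟨i, hi⟩ := mem_zpowers_iff.mp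
      (himg' ▸ ⟨⟨k, hK'L hk⟩, hk, rfl⟩ : (act T L).rangeRestrict ⟨k, hK'L hk⟩ ∈ zpowers η')
    let St : Subgroup (act T L).range :=
      { carrier := {g | ρ g w = w}
        one_mem' := OddOffender.apply_one ρ w
        mul_mem' := fun {g h} hg hh => by
          show ρ (g * h) w = w
          rw [OddOffender.apply_mul, hh, hg]
        inv_mem' := fun {g} hg => by
          show ρ g⁻¹ w = w
          conv_lhs => rw [← hg]
          rw [← OddOffender.apply_mul, inv_mul_cancel, OddOffender.apply_one] }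
    have h1 : η' ^ i ∈ St := zpow_mem (show η' ∈ St from hfix w hwW) i
    rw [hi] at h1
    exact (mul_inv_eq_iff_eq_mul.mp (congrArg Subtype.val (h1 : ρ _ w = w) :)).symm

theorem comp_normalizes (s : Setting T L) {K' : Subgroup G} (d : Data (thompsonSubgroupOf 2 T) K)
    (d' : Data (thompsonSubgroupOf 2 T) K') (hKL : K ≤ L) (hK'L : K' ≤ L) :
    K' ≤ normalizer (wOf K : Set G) := by
  rcases s.comp_pair d d' hKL hK'L with h | ⟨-, h⟩
  · exact h ▸ le_sup_left.trans d'.sup_le_normalizer_w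
  · exact h.trans (centralizer_le_normalizer _)

end Setting

/-- The product of the four-groups of the components inside `L`. -/
def compsW (T L : Subgroup G) : Subgroup G :=
  closure {x | ∃ K, IsJComponent T K ∧ K ≤ L ∧ x ∈ wOf K}

theorem wOf_le_compsW {T L K : Subgroup G} (hK : IsJComponent T K) (hKL : K ≤ L) :
    wOf K ≤ compsW T L := fun x hx => subset_closure ⟨K, hK, hKL, hx⟩

/-- The overgroup normalizes the product of the four-groups. -/
theorem le_normalizer_compsW {T₀ : Subgroup G} (hT : IsPGroup 2 T) (s : Setting T₀ L)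
    (hJ : thompsonSubgroupOf 2 T = thompsonSubgroupOf 2 T₀) :
    L ≤ normalizer (compsW T L : Set G) := by
  have key : ∀ g : G, (∀ K, IsJComponent T K → K ≤ L → ∀ x ∈ wOf K, g * x * g⁻¹ ∈ compsW T L) →
      g ∈ normalizer (compsW T L : Set G) := by
    intro g hg
    refine LocalB.mem_normalizer_of_conj_le ?_
    have hle : compsW T L ≤ (compsW T L).comap (MulAut.conj g).toMonoidHom :=
      (closure_le _).mpr (by rintro x ⟨K, hK, hKL, hx⟩; exact hg K hK hKL x hx)
    exact fun x hx => hle hx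
  by_contra hno
  have hle : L ⊓ normalizer (thompsonSubgroupOf 2 T₀ : Set G) ≤ normalizer (compsW T L : Set G) := by
    rintro g ⟨hgL, hg⟩
    refine key g fun K hK hKL x hx => ?_
    rw [← hJ] at hg
    have h1 := wOf_le_compsW (isJComponent_cj_of_mem hg hK)
      ((Functor.cj_mono g hKL).trans (Functor.cj_eq_self_of_mem hgL).le)
    rw [← cj_wOf] at h1
    exact h1 ⟨x, hx, rfl⟩
  obtain ⟨K', hK', hK'L, hK'N⟩ := s.exists_component_not_le hle hno
  refine hK'N fun k hk => key k fun K hK hKL x hx => wOf_le_compsW hK hKL ?_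
  exact (mem_normalizer_iff.mp (s.comp_normalizes (hJ ▸ data_of_isJComponent hT hK)
    (data_of_isJComponent s.isP hK') hKL hK'L hk) x).mp hx

/-- A 2-local subgroup outside `M` containing `J(T)`. -/
theorem setting_at (hG : Hyp G) (S : Sylow 2 G)
    (hMJ : normalizer (thompsonSubgroupOf 2 (S : Subgroup G) : Set G) ≤ M)
    (hT : T ∈ maxStraddlingTwoSubgroups M) (hL : IsTwoLocal L) (hLM : ¬ L ≤ M)
    (hJL : thompsonSubgroupOf 2 T ≤ L) :
    ∃ T₀, Setting T₀ L ∧ thompsonSubgroupOf 2 T = thompsonSubgroupOf 2 T₀ := by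
  have : Fact (Nat.Prime 2) := ⟨Nat.prime_two⟩
  obtain ⟨T₀, hT₀, hJT₀⟩ := Functor.exists_sylowIn_ge
    (hT.1.1.to_le (Thompson.thompsonSubgroupOf_le T)) hJL
  obtain ⟨hJ, -, hov⟩ := overgroup_spec hG.charTwo S hMJ hT hL hLM (sylowTwo_iff.2 hT₀) hJT₀
  exact ⟨T₀, setting_of hG.solv hG.zc hov, hJ⟩

/-- Uniqueness of the maximal 2-local overgroup. -/
theorem unique_maximal (hG : Hyp G) (S : Sylow 2 G)
    (hMJ : normalizer (thompsonSubgroupOf 2 (S : Subgroup G) : Set G) ≤ M)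
    (hT : T ∈ maxStraddlingTwoSubgroups M) (hK : IsJComponent T K) (hKM : ¬ K ≤ M)
    {L₁ L₂ : Subgroup G} (h₁ : IsMaximalTwoLocal L₁) (h₂ : IsMaximalTwoLocal L₂)
    (hle₁ : K ⊔ thompsonSubgroupOf 2 T ≤ L₁) (hle₂ : K ⊔ thompsonSubgroupOf 2 T ≤ L₂) :
    L₁ = L₂ := by
  have : Fact (Nat.Prime 2) := ⟨Nat.prime_two⟩
  have hTp := hT.1.1
  have d := data_of_isJComponent hTp hK
  set N := normalizer (wOf K : Set G)
  have hN : IsTwoLocal N := isTwoLocal_normalizer_wOf d
  have hNM : ¬ N ≤ M := fun h => hKM ((le_sup_left.trans d.sup_le_normalizer_w).trans h)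
  obtain ⟨T₀, s₀, hJ₀⟩ := setting_at hG S hMJ hT hN hNM (le_sup_right.trans d.sup_le_normalizer_w)
  have d₀ : ∀ {K' : Subgroup G}, IsJComponent T K' → Data (thompsonSubgroupOf 2 T₀) K' :=
    fun h => hJ₀ ▸ data_of_isJComponent hTp h
  have key : ∀ L, IsMaximalTwoLocal L → K ⊔ thompsonSubgroupOf 2 T ≤ L →
      normalizer (compsW T L : Set G) = L ∧
        ∀ K', IsJComponent T K' → (K' ≤ L ↔ K' ≤ N) := by
    intro L hL hle
    have hLM : ¬ L ≤ M := fun h => hKM ((le_sup_left.trans hle).trans h)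
    obtain ⟨T₁, s, hJ⟩ := setting_at hG S hMJ hT hL.1 hLM (le_sup_right.trans hle)
    have d₁ : ∀ {K' : Subgroup G}, IsJComponent T K' → Data (thompsonSubgroupOf 2 T₁) K' :=
      fun h => hJ ▸ data_of_isJComponent hTp h
    have hKL : K ≤ L := le_sup_left.trans hle
    have hWp : IsPGroup 2 ↥(compsW T L) := by
      refine (Functor.isPGroup_pCoreOf L).to_le ((closure_le _).mpr ?_)
      rintro x ⟨K', hK', hK'L, hx⟩
      exact (s.omega_le (s.wOf_le_modV (d₁ hK') hK'L hx)).1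
    have hW1 : compsW T L ≠ ⊥ := fun h =>
      d.w_ne_bot (le_bot_iff.mp (h ▸ wOf_le_compsW hK hKL))
    have heq := maximal_eq_normalizer hL hWp hW1 (le_normalizer_compsW hTp s hJ)
    have h1 : ∀ K', IsJComponent T K' → K' ≤ L → K' ≤ N :=
      fun K' hK' hK'L => s.comp_normalizes (d₁ hK) (d₁ hK') hKL hK'L
    refine ⟨heq, fun K' hK' => ⟨h1 K' hK', fun hK'N k hk => ?_⟩⟩
    rw [← heq]
    refine LocalB.mem_normalizer_of_conj_le ?_
    have hle' : compsW T L ≤ (compsW T L).comap (MulAut.conj k).toMonoidHom :=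
      (closure_le _).mpr (by
        rintro x ⟨K'', hK'', hK''L, hx⟩
        exact wOf_le_compsW hK'' hK''L ((mem_normalizer_iff.mp (s₀.comp_normalizes (d₀ hK'') (d₀ hK')
          (h1 K'' hK'' hK''L) hK'N hk) x).mp hx))
    exact fun x hx => hle' hx
  obtain ⟨e₁, hc₁⟩ := key L₁ h₁ hle₁
  obtain ⟨e₂, hc₂⟩ := key L₂ h₂ hle₂
  have hW : compsW T L₁ = compsW T L₂ := by
    have : ∀ x, (∃ K', IsJComponent T K' ∧ K' ≤ L₁ ∧ x ∈ wOf K') ↔
        (∃ K', IsJComponent T K' ∧ K' ≤ L₂ ∧ x ∈ wOf K') := fun x =>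
      exists_congr fun K' => and_congr_right fun h =>
        and_congr_left fun _ => (hc₁ K' h).trans (hc₂ K' h).symm
    simp only [compsW, this]
  rw [← e₁, hW, e₂]

theorem outside_overgroup (hG : Hyp G) (S : Sylow 2 G)
    (hMJ : normalizer (thompsonSubgroupOf 2 (S : Subgroup G) : Set G) ≤ M)
    (hT : T ∈ maxStraddlingTwoSubgroups M) (hK : K ∈ jComponentsOutside M T) :
    ∃ L, IsMaximalTwoLocal L ∧ K ⊔ thompsonSubgroupOf 2 T ≤ L ∧
      (∀ L', IsMaximalTwoLocal L' → K ⊔ thompsonSubgroupOf 2 T ≤ L' → L' = L) ∧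
      (K.subgroupOf L).IsSubnormal ∧ L ∈ jOvergroups T := by
  have : Fact (Nat.Prime 2) := ⟨Nat.prime_two⟩
  obtain ⟨⟨hKc, -⟩, hKM, hR⟩ := hK
  have hloc : IsTwoLocal (normalizer (pCoreOf 2 (K ⊔ T) : Set G)) :=
    ⟨_, Functor.isPGroup_pCoreOf _, hR, rfl⟩
  obtain ⟨L, hL, hle⟩ := exists_maximal_twoLocal hloc
  have hKT : K ⊔ T ≤ L := (Functor.le_normalizer_pCoreOf 2 _).trans hle
  have hLM : ¬ L ≤ M := fun h => hKM ((le_sup_left.trans hKT).trans h)
  obtain ⟨hov, -⟩ := max_straddling_overgroup hG.charTwo hG.solv hG.zc S hMJ hT hL.1 hLM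
    (le_sup_right.trans hKT)
  have hKJ : K ⊔ thompsonSubgroupOf 2 T ≤ L :=
    (sup_le_sup_left (Thompson.thompsonSubgroupOf_le T) K).trans hKT
  exact ⟨L, hL, hKJ, fun L' hL' hle' => unique_maximal hG S hMJ hT hKc hKM hL' hL hle' hKJ,
    (setting_of hG.solv hG.zc hov).subnormal (data_of_isJComponent hT.1.1 hKc) (le_sup_left.trans hKJ),
    hov⟩

end CfsgLib.JComp
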