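import Cfsg.Agent.LocalB.JApply
import Cfsg.Agent.Functor.Sylow
import Cfsg.Prelude.Def_CaseTheorems

/-! `J(T)`-components which are maximal in the normalizer of their four-group. -/

set_option autoImplicit false
set_option linter.unusedVariables false
set_option linter.unusedSectionVars false

namespace CfsgLib.JComp

open Subgroup Cfsg CfsgLib
open scoped CfsgLib.Functor

variable {G : Type*} [Group G] [Finite G] {T L K : Subgroup G}

theorem sylowTwo_iff {P H : Subgroup G} : IsSylowTwoIn P H ↔ Functor.IsSylowIn 2 P H :=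
  and_congr_right fun _ => and_congr_right fun _ => by
    rw [← even_iff_two_dvd, Nat.not_even_iff_odd]

theorem maxIn_le_thompson {U A : Subgroup G} (hA : A ∈ Thompson.maxIn 2 U) :
    A ≤ thompsonSubgroupOf 2 U := by
  rw [Thompson.thompsonSubgroupOf_eq]; exact le_sSup hA

theorem maxIn_thompson {U A : Subgroup G} (hA : A ∈ Thompson.maxIn 2 U) :
    A ∈ Thompson.maxIn 2 (thompsonSubgroupOf 2 U) :=
  ⟨maxIn_le_thompson hA, hA.2.1, fun B hB hBe =>
    hA.2.2 B (hB.trans (Thompson.thompsonSubgroupOf_le U)) hBe⟩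

/-- If `J(U) = J(V)`, then `U` and `V` have maximal elementary abelian subgroups of equal order. -/
theorem card_maxIn_eq {U V A B : Subgroup G}
    (h : thompsonSubgroupOf 2 U = thompsonSubgroupOf 2 V) (hA : A ∈ Thompson.maxIn 2 U)
    (hB : B ∈ Thompson.maxIn 2 V) : Nat.card A = Nat.card B := by
  have hA' := maxIn_thompson hA
  have hB' := maxIn_thompson hB
  rw [h] at hA'
  exact le_antisymm (hB'.2.2 A hA'.1 hA.2.1) (hA'.2.2 B hB'.1 hB.2.1)

/-- A conjugate of `J(T)` inside a group with the same Thompson subgroup equals it. -/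
theorem cj_thompson_eq {S : Subgroup G} (hS : thompsonSubgroupOf 2 S = thompsonSubgroupOf 2 T)
    {g : G} (hg : g ⋆ thompsonSubgroupOf 2 T ≤ S) :
    g ⋆ thompsonSubgroupOf 2 T = thompsonSubgroupOf 2 T := by
  refine Functor.eq_of_le_of_card_le' ?_ (Functor.card_cj g _).ge
  rw [map_le_iff_le_comap]
  conv_lhs => rw [Thompson.thompsonSubgroupOf_eq]
  refine sSup_le fun A hA => map_le_iff_le_comap.mp ?_
  have hle : g ⋆ A ≤ S := (map_mono (maxIn_le_thompson hA)).trans hg
  obtain ⟨B, hB⟩ := Thompson.exists_maxIn (p := 2) S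
  have hcard : Nat.card B ≤ Nat.card ↥(g ⋆ A) := by
    rw [Functor.card_cj, card_maxIn_eq hS hB hA]
  rw [← hS]
  exact maxIn_le_thompson ⟨hle, Thompson.elab_map _ hA.2.1,
    fun C hC hCe => (hB.2.2 C hC hCe).trans hcard⟩

/-- Transport of a component by an element normalizing it. -/
theorem isJComponent_of_cj {T' : Subgroup G} {h : G} (hK : IsJComponent T K)
    (hh : h ∈ normalizer (K : Set G))
    (hJ : h ⋆ thompsonSubgroupOf 2 T' = thompsonSubgroupOf 2 T) : IsJComponent T' K := by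
  obtain ⟨h1, h2, h3, h4, h5⟩ := hK
  have hKe : h ⋆ K = K := Functor.mem_normalizer_iff_cj.1 hh
  refine ⟨h1, Functor.cj_inj (g := h) ?_, h3, fun S hS hJS => ?_, h5⟩
  · rw [Functor.cj_commutator, hJ, hKe, h2]
  · have hsup : h ⋆ (K ⊔ thompsonSubgroupOf 2 T') = K ⊔ thompsonSubgroupOf 2 T := by
      rw [Subgroup.map_sup, hKe, hJ]
    have hS' := (sylowTwo_iff.1 hS).cj h
    rw [hsup] at hS'
    have h6 := h4 _ (sylowTwo_iff.2 hS') (hJ ▸ Functor.cj_mono h hJS)
    rw [← hJ] at h6
    refine Functor.cj_inj (g := h) (Eq.trans ?_ h6)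
    exact Thompson.map_thompsonSubgroupOf _ S

/-- Components normalize their four-groups, and these are nontrivial 2-groups. -/
theorem isPGroup_wOf (d : Data (thompsonSubgroupOf 2 T) K) : IsPGroup 2 ↥(wOf K) :=
  IsPGroup.of_card (n := 2) (by rw [d.card]; norm_num)

theorem isTwoLocal_normalizer_wOf (d : Data (thompsonSubgroupOf 2 T) K) :
    IsTwoLocal (normalizer (wOf K : Set G)) :=
  ⟨_, isPGroup_wOf d, d.w_ne_bot, rfl⟩

theorem charTwo_centralizer_le (hL : IsCharacteristicTwoType G) {N : Subgroup G}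
    (hN : IsTwoLocal N) : centralizer (pCoreOf 2 N : Set G) ≤ pCoreOf 2 N := by
  obtain ⟨Q, hQ, hQ1, rfl⟩ := hN
  have : Fact (Nat.Prime 2) := ⟨Nat.prime_two⟩
  intro x hx
  have hQle : Q ≤ pCoreOf 2 (normalizer (Q : Set G)) :=
    Functor.le_pCoreOf Subgroup.le_normalizer le_rfl hQ
  have hxN : x ∈ normalizer (Q : Set G) :=
    centralizer_le_normalizer _ (centralizer_le hQle hx)
  refine ⟨⟨x, hxN⟩, hL.2 Q hQ hQ1 (mem_centralizer_iff.mpr fun y hy => Subtype.ext ?_), rfl⟩
  exact mem_centralizer_iff.mp hx (y : G) ⟨y, hy, rfl⟩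

theorem not_le_core (d : Data (thompsonSubgroupOf 2 T) K) {N : Subgroup G} (hKN : K ≤ N) :
    ¬ thompsonSubgroupOf 2 T ≤ pCoreOf 2 N := by
  intro h
  have : Fact (Nat.Prime 2) := ⟨Nat.prime_two⟩
  have hKX : K ≤ pCoreOf 2 N := (le_of_eq d.comm.symm).trans (commutator_le.mpr fun k hk j hj => by
    rw [commutatorElement_def]
    exact mul_mem ((mem_normalizer_iff.mp (Functor.le_normalizer_pCoreOf 2 N (hKN hk)) j).mp (h hj))
      (inv_mem (h hj)))
  have h2 : K ≤ pCoreOf 2 K := Functor.le_pCoreOf le_rfl Subgroup.le_normalizer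
    ((Functor.isPGroup_pCoreOf N).to_le hKX)
  have h3 := d.three
  rw [relIndex_eq_one.mpr h2] at h3
  omega

theorem jComponentZero_normalizer_eq (hL : IsCharacteristicTwoType G)
    (hN : ∀ N : Subgroup G, IsTwoLocal N → Group.IsSolvable ↥N)
    (hZ : ∀ S : Sylow 2 G,
      centralizer (omegaCenterOf (S : Subgroup G) : Set G) ≤ normalizer ((S : Subgroup G) : Set G))
    (hT : IsPGroup 2 ↥T) (hK : K ∈ jComponentsZero T) :
    normalizer (K : Set G) = normalizer (wOf K : Set G) ∧
      ∀ g : G, thompsonSubgroupOf 2 (T.map (MulAut.conj g).toMonoidHom) ≤ normalizer (wOf K : Set G) →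
        IsJComponent (T.map (MulAut.conj g).toMonoidHom) K := by
  have : Fact (Nat.Prime 2) := ⟨Nat.prime_two⟩
  have d := data_of_isJComponent hT hK.1
  set N := normalizer (wOf K : Set G) with hNdef
  have hKN : K ≤ N := le_sup_left.trans d.sup_le_normalizer_w
  have hJN : thompsonSubgroupOf 2 T ≤ N := le_sup_right.trans d.sup_le_normalizer_w
  obtain ⟨S', hS', hJS'⟩ := Functor.exists_sylowIn_ge
    (hT.to_le (Thompson.thompsonSubgroupOf_le T)) hJN
  have hJeq : thompsonSubgroupOf 2 S' = thompsonSubgroupOf 2 T :=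
    hK.2 S' hJS' (sylowTwo_iff.2 hS')
  have hov : N ∈ jOvergroups S' := ⟨sylowTwo_iff.2 hS', by rw [hJeq]; exact not_le_core d hKN,
    charTwo_centralizer_le hL (isTwoLocal_normalizer_wOf d)⟩
  have d' : Data (thompsonSubgroupOf 2 S') K := hJeq ▸ d
  have hNK : N ≤ normalizer (K : Set G) := fun g hg => by
    obtain ⟨w, hw, hw1, -⟩ := d.exists_fixed
    exact (setting_of hN hZ hov).mem_normalizer_of_w d' hKN hg hw hw1
      ((mem_normalizer_iff.mp hg w).mp hw)
  refine ⟨le_antisymm (normalizer_le_normalizer_wOf K) hNK, fun g hg => ?_⟩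
  obtain ⟨h, hhN, hhle⟩ := hS'.exists_cj_le
    ((Functor.isPGroup_cj g hT).to_le (Thompson.thompsonSubgroupOf_le _)) hg
  refine isJComponent_of_cj hK.1 (hNK hhN) ?_
  rw [← Thompson.map_thompsonSubgroupOf, Functor.cj_cj]
  rw [← Thompson.map_thompsonSubgroupOf, Functor.cj_cj] at hhle
  exact cj_thompson_eq hJeq hhle

end CfsgLib.JComp
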