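import Cfsg.Prelude.Def_Transfer
import Cfsg.Agent.Solvable.Basics
import Cfsg.Agent.Signalizer.Basic
import Cfsg.Agent.Solvable.Fitting
import Cfsg.Agent.PLocal.Thompson
import Mathlib.GroupTheory.Index

/-! Offenders of solvable groups without normal `2`-subgroups on modules over the field with two
elements. -/

set_option autoImplicit false
set_option linter.unusedVariables false
set_option linter.unusedSectionVars false

namespace CfsgLib.OddOffender

open Subgroup Cfsg CfsgLib
open scoped commutatorElement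

universe u v

variable {H : Type u} [Group H] {V : Type v} [CommGroup V] (ρ : H →* MulAut V)

/-- The fixed points of a set of operators. -/
def fix (A : Set H) : Subgroup V where
  carrier := {x | ∀ a ∈ A, ρ a x = x}
  one_mem' := fun a _ => map_one _
  mul_mem' := fun {x y} hx hy a ha => by rw [map_mul, hx a ha, hy a ha]
  inv_mem' := fun {x} hx a ha => by rw [map_inv, hx a ha]

theorem mem_fix {A : Set H} {x : V} : x ∈ fix ρ A ↔ ∀ a ∈ A, ρ a x = x := Iff.rfl

theorem fix_anti {A B : Set H} (h : A ⊆ B) : fix ρ B ≤ fix ρ A := fun x hx a ha => hx a (h ha)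

theorem mem_fix_singleton {a : H} {x : V} : x ∈ fix ρ {a} ↔ ρ a x = x := by
  simp [mem_fix]

theorem apply_mul (a b : H) (x : V) : ρ (a * b) x = ρ a (ρ b x) := by
  rw [map_mul]; rfl

theorem apply_one (x : V) : ρ 1 x = x := by rw [map_one]; rfl

/-- The map `x ↦ x · η(x)`. -/
def delta (η : H) : V →* V where
  toFun x := x * ρ η x
  map_one' := by simp
  map_mul' x y := by rw [map_mul]; exact mul_mul_mul_comm _ _ _ _

/-- `[V, η]`. -/
def comm (η : H) : Subgroup V := (delta ρ η).range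

variable [Finite H] [Finite V] (hρ : Function.Injective ρ) (hV : ∀ x : V, x * x = 1)

include hV

theorem ker_delta (η : H) : (delta ρ η).ker = fix ρ {η} := by
  ext x
  rw [MonoidHom.mem_ker, mem_fix_singleton]
  show x * ρ η x = 1 ↔ _
  constructor
  · intro h; exact mul_left_cancel (h.trans (hV x).symm)
  · intro h; rw [h, hV]

theorem card_comm (η : H) : Nat.card (comm ρ η) = (fix ρ {η}).index := by
  rw [comm, ← ker_delta ρ hV, index_ker]

theorem inv_eq (x : V) : x⁻¹ = x := inv_eq_of_mul_eq_one_right (hV x)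

theorem apply_eq (η : H) (x : V) : ρ η x = x * (x * ρ η x) := by
  rw [← mul_assoc, hV, one_mul]

/-- An element fixed by the square of an element of odd order is fixed by the element. -/
theorem fix_of_sq {η : H} (hodd : Odd (orderOf η)) {x : V} (h : ρ η (ρ η x) = x) : ρ η x = x := by
  obtain ⟨t, ht⟩ := hodd
  have h1 : η = (η * η) ^ (t + 1) := by
    rw [← pow_two, ← pow_mul, show 2 * (t + 1) = orderOf η + 1 by omega, pow_succ,
      pow_orderOf_eq_one, one_mul]
  have h2 : ∀ n : ℕ, ρ ((η * η) ^ n) x = x := by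
    intro n
    induction n with
    | zero => rw [pow_zero, apply_one]
    | succ n ih => rw [pow_succ, apply_mul, apply_mul, h, ih]
  conv_lhs => rw [h1]
  exact h2 _

theorem eq_one_of_mem_comm_of_fix {η : H} (hodd : Odd (orderOf η)) {u : V}
    (hu : u ∈ comm ρ η) (hfix : ρ η u = u) : u = 1 := by
  obtain ⟨x, rfl⟩ := hu
  apply (ker_delta ρ hV η).ge
  rw [mem_fix_singleton]
  refine fix_of_sq ρ hV hodd ?_
  have h1 : ρ η (x * ρ η x) = x * ρ η x := hfix
  rw [map_mul] at h1
  calc ρ η (ρ η x) = ρ η x * (ρ η x * ρ η (ρ η x)) := apply_eq ρ hV η (ρ η x)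
    _ = ρ η x * (x * ρ η x) := by rw [h1]
    _ = x := by rw [mul_left_comm, hV, mul_one]

include hρ

theorem eq_one_of_comm_eq_bot {η : H} (h : comm ρ η = ⊥) : η = 1 := by
  refine hρ ?_
  rw [map_one]
  ext x
  show ρ η x = x
  have h1 : delta ρ η x = 1 := by
    have : delta ρ η x ∈ comm ρ η := ⟨x, rfl⟩
    rwa [h, mem_bot] at this
  exact mem_fix_singleton ρ |>.mp ((ker_delta ρ hV η).le h1)

/-- The `A × B` lemma. -/
theorem eq_one_of_fix_le {B : Subgroup H} (hB : IsPGroup 2 B) {η : H} (hodd : Odd (orderOf η))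
    (hc : ∀ b ∈ B, b * η = η * b) (h : fix ρ (B : Set H) ≤ fix ρ {η}) : η = 1 := by
  refine eq_one_of_comm_eq_bot ρ hρ hV ?_
  by_contra hne
  have hinv : ∀ (b : B) (u : V), u ∈ comm ρ η → ρ (b : H) u ∈ comm ρ η := by
    rintro b _ ⟨x, rfl⟩
    refine ⟨ρ (b : H) x, ?_⟩
    show ρ (b : H) x * ρ η (ρ (b : H) x) = ρ (b : H) (x * ρ η x)
    rw [map_mul, ← apply_mul, ← apply_mul, hc b b.2]
  letI : MulAction B (comm ρ η) :=
    { smul := fun b u => ⟨ρ (b : H) u, hinv b u u.2⟩
      one_smul := fun u => Subtype.ext (apply_one ρ _)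
      mul_smul := fun a b u => Subtype.ext (apply_mul ρ _ _ _) }
  have h2 : 2 ∣ Nat.card (comm ρ η) := by
    obtain ⟨u, hu1⟩ := (comm ρ η).ne_bot_iff_exists_ne_one.mp hne
    have h2 : orderOf u = 2 := orderOf_eq_prime (Subtype.ext (by
      rw [pow_two]; exact hV _)) hu1
    rw [← h2]; exact orderOf_dvd_natCard u
  obtain ⟨u, hu, hu1⟩ := hB.exists_fixed_point_of_prime_dvd_card_of_fixed_point (comm ρ η) h2
    (a := (1 : comm ρ η)) (fun b => Subtype.ext (map_one _))
  apply hu1
  refine Subtype.ext (eq_one_of_mem_comm_of_fix ρ hV hodd u.2 ?_).symm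
  exact (mem_fix_singleton ρ).mp (h fun b hb => congrArg Subtype.val (hu ⟨b, hb⟩))

variable [Group.IsSolvable H] (hO : ∀ N : Subgroup H, N.Normal → IsPGroup 2 N → N = ⊥)

include hO

theorem odd_of_mem_fitting {η : H} (h : η ∈ fittingSubgroup H) : Odd (orderOf η) := by
  have : Fact (Nat.Prime 2) := ⟨Nat.prime_two⟩
  rw [Nat.odd_iff, ← Nat.two_dvd_ne_zero]
  intro hd
  set F := fittingSubgroup H
  have : Group.IsNilpotent F := Solvable.isNilpotent_fittingSubgroup
  have hd' : 2 ∣ Nat.card F := hd.trans (F.orderOf_dvd_natCard h)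
  obtain ⟨P, hP⟩ : ∃ P : Sylow 2 F, True := ⟨default, trivial⟩
  have : (P : Subgroup F).Normal := inferInstance
  have : (P : Subgroup F).Characteristic := Sylow.characteristic_of_normal P inferInstance
  have hb := hO ((P : Subgroup F).map F.subtype) inferInstance (P.isPGroup'.map _)
  rw [map_eq_bot_iff_of_injective _ F.subtype_injective] at hb
  have := P.dvd_card_of_dvd_card hd'
  rw [hb, card_bot] at this
  omega

omit hρ hV in
theorem not_two_dvd_fitting : ¬ 2 ∣ Nat.card (fittingSubgroup H) := by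
  intro hd
  have : Fact (Nat.Prime 2) := ⟨Nat.prime_two⟩
  have : Group.IsNilpotent (fittingSubgroup H) := Solvable.isNilpotent_fittingSubgroup
  obtain ⟨P, -⟩ : ∃ P : Sylow 2 (fittingSubgroup H), True := ⟨default, trivial⟩
  have : (P : Subgroup (fittingSubgroup H)).Normal := inferInstance
  have : (P : Subgroup (fittingSubgroup H)).Characteristic :=
    Sylow.characteristic_of_normal P inferInstance
  have hb := hO ((P : Subgroup (fittingSubgroup H)).map (fittingSubgroup H).subtype) inferInstance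
    (P.isPGroup'.map _)
  rw [map_eq_bot_iff_of_injective _ (fittingSubgroup H).subtype_injective] at hb
  have := P.dvd_card_of_dvd_card hd
  rw [hb, card_bot] at this
  omega

omit hρ hV in
/-- An element of `F` inverted by `a` and centralized by a hyperplane not containing `B₀`. -/
theorem exists_inverted {A B₀ : Subgroup H} (hA : IsElementaryAbelian 2 A) (hB₀ : B₀ ≤ A)
    (hne : B₀ ≠ ⊥) : ∃ B : Subgroup H, ∃ a η : H, B ≤ A ∧ B ≠ B₀ ∧ a ∈ A ∧ a ∉ B ∧
      zpowers a ⊔ B = A ∧ Nat.card A = 2 * Nat.card B ∧ η ∈ fittingSubgroup H ∧ η ≠ 1 ∧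
      (∀ b ∈ B, b * η = η * b) ∧ a * η * a⁻¹ = η⁻¹ := by
  have : Fact (Nat.Prime 2) := ⟨Nat.prime_two⟩
  set F := fittingSubgroup H with hF
  have hFC : ¬ F ≤ centralizer (B₀ : Set H) := by
    intro h
    apply hne
    have h1 : B₀ ≤ F := fun b hb => Fitting.centralizer_fittingSubgroup_le_of_solvable
      (mem_centralizer_iff.mpr fun f hf => (mem_centralizer_iff.mp (h hf) b hb).symm)
    rw [eq_bot_iff]
    intro b hb
    have h2 : orderOf b ∣ 2 := orderOf_dvd_of_pow_eq_one (hA.2 b (hB₀ hb))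
    have h3 : orderOf b ∣ Nat.card F := F.orderOf_dvd_natCard (h1 hb)
    rcases (Nat.dvd_prime Nat.prime_two).mp h2 with h4 | h4
    · exact mem_bot.mpr (orderOf_eq_one_iff.mp h4)
    · exact absurd (h4 ▸ h3) (not_two_dvd_fitting hO)
  obtain ⟨B, hBA, hidx, hnle⟩ : ∃ B : Subgroup H, B ≤ A ∧ B.relIndex A ≤ 2 ∧
      ¬ F ⊓ centralizer (B : Set H) ≤ centralizer (B₀ : Set H) := by
    by_contra h
    simp only [not_exists, not_and, not_not] at h
    exact hFC (Signalizer.le_of_forall_hyperplane (p := 2) hA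
      Subgroup.le_normalizer_of_normal (not_two_dvd_fitting hO) h)
  obtain ⟨c, ⟨hcF, hcB⟩, hc0⟩ := SetLike.not_le_iff_exists.mp hnle
  obtain ⟨a, ha, hac⟩ : ∃ a ∈ B₀, a * c ≠ c * a := by
    by_contra h
    simp only [not_exists, not_and, not_not] at h
    exact hc0 (mem_centralizer_iff.mpr h)
  have haB : a ∉ B := fun h => hac (mem_centralizer_iff.mp hcB a h)
  have haA := hB₀ ha
  have ha2 : a * a = 1 := by rw [← pow_two]; exact hA.2 a haA
  have hai : a⁻¹ = a := inv_eq_of_mul_eq_one_right ha2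
  have hAc : ∀ b ∈ A, b * a = a * b := fun b hb => Thompson.elab_commute hA hb haA
  have hcard : Nat.card A = B.relIndex A * Nat.card B := by
    rw [← relIndex_bot_left A, ← relIndex_bot_left B, mul_comm,
      relIndex_mul_relIndex _ _ _ bot_le hBA]
  have hle : zpowers a ⊔ B ≤ A := sup_le (zpowers_le.mpr haA) hBA
  have hcard' : Nat.card ↥(zpowers a ⊔ B) = 2 * Nat.card B :=
    Signalizer.card_sup_zpowers (p := 2) hA hBA haA haB
  have hAle : Nat.card A ≤ Nat.card ↥(zpowers a ⊔ B) := by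
    rw [hcard', hcard]; exact Nat.mul_le_mul_right _ hidx
  have hsup := eq_of_le_of_card_ge hle hAle
  refine ⟨B, a, c * a * c⁻¹ * a⁻¹, hBA, fun h => haB (h ▸ ha), haA, haB, hsup, hsup ▸ hcard',
    ?_, ?_, fun b hb => ?_, ?_⟩
  · rw [show c * a * c⁻¹ * a⁻¹ = c * (a * c⁻¹ * a⁻¹) by group]
    exact mul_mem hcF ((inferInstance : F.Normal).conj_mem _ (inv_mem hcF) a)
  · rw [Ne, mul_inv_eq_one, mul_inv_eq_iff_eq_mul]
    exact fun h => hac h.symm
  · have h1 : Commute b c := mem_centralizer_iff.mp hcB b hb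
    have h2 : Commute b a := hAc b (hBA hb)
    exact (((h1.mul_right h2).mul_right h1.inv_right).mul_right h2.inv_right).eq
  · simp only [mul_inv_rev, inv_inv, hai]
    calc a * (c * a * c⁻¹ * a) * a = a * c * a * c⁻¹ * (a * a) := by group
      _ = a * (c * (a * c⁻¹)) := by rw [ha2, mul_one]; group

theorem card_le_index : ∀ A : Subgroup H, IsElementaryAbelian 2 A →
    Nat.card A ≤ (fix ρ (A : Set H)).index := by
  intro A
  induction hn : Nat.card A using Nat.strong_induction_on generalizing A with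
  | _ n ih =>
  intro hA
  subst hn
  by_cases hA1 : A = ⊥
  · rw [hA1, card_bot]
    exact Nat.one_le_iff_ne_zero.mpr index_ne_zero_of_finite
  obtain ⟨B, a, η, hBA, -, haA, haB, hsup, hcard, hηF, hη1, hηc, hinv⟩ :=
    exists_inverted hO hA le_rfl hA1
  have hlt : Nat.card B < Nat.card A := by
    rw [hcard]; have := Nat.card_pos (α := B); omega
  have h1 := ih _ hlt B rfl (Thompson.elab_mono hA hBA)
  have hle : fix ρ (A : Set H) ≤ fix ρ (B : Set H) := fix_anti ρ hBA
  have hne : fix ρ (A : Set H) ≠ fix ρ (B : Set H) := by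
    intro heq
    refine hη1 (eq_one_of_fix_le ρ hρ hV (Thompson.elab_isPGroup (Thompson.elab_mono hA hBA))
      (odd_of_mem_fitting ρ hρ hV hO hηF) hηc fun x hx => (mem_fix_singleton ρ).mpr ?_)
    refine fix_of_sq ρ hV (odd_of_mem_fitting ρ hρ hV hO hηF) ?_
    set y := ρ η x with hy
    have hyB : y ∈ fix ρ (B : Set H) := fun b hb => by
      rw [hy, ← apply_mul, hηc b hb, apply_mul, hx b hb]
    have hax : ρ a x = x := (heq.ge hx) a haA
    have hay : ρ a y = y := (heq.ge hyB) a haA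
    have h3 : ρ η⁻¹ x = y := by
      rw [← hinv, apply_mul, apply_mul]
      have : ρ a⁻¹ x = x := by
        conv_lhs => rw [← hax]
        rw [← apply_mul, inv_mul_cancel, apply_one]
      rw [this, ← hy, hay]
    conv_lhs => rw [← h3]
    rw [← apply_mul, mul_inv_cancel, apply_one]
  have hrel : 2 ≤ (fix ρ (A : Set H)).relIndex (fix ρ (B : Set H)) := by
    by_contra h
    have h0 : (fix ρ (A : Set H)).relIndex (fix ρ (B : Set H)) ≠ 0 :=
      index_ne_zero_of_finite
    exact hne (le_antisymm hle (relIndex_eq_one.mp (by omega)))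
  rw [hcard, ← relIndex_mul_index hle]
  exact Nat.mul_le_mul hrel h1

/-- A transvection inverting an element of the Fitting subgroup. -/
def IsTrans (a : H) : Prop :=
  a * a = 1 ∧ (fix ρ {a}).index = 2 ∧ ∃ η ∈ fittingSubgroup H, η ≠ 1 ∧ a * η * a⁻¹ = η⁻¹

theorem le_closure_trans : ∀ A : Subgroup H, IsElementaryAbelian 2 A →
    (fix ρ (A : Set H)).index ≤ Nat.card A →
      A ≤ closure {a : H | a ∈ A ∧ IsTrans ρ a} := by
  intro A
  induction hn : Nat.card A using Nat.strong_induction_on generalizing A with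
  | _ n ih =>
  intro hA hidx
  subst hn
  by_cases hA1 : A = ⊥
  · rw [hA1]; exact bot_le
  have key : ∀ (B : Subgroup H) (a η : H), B ≤ A → a ∈ A → a ∉ B →
      Nat.card A = 2 * Nat.card B → η ∈ fittingSubgroup H → η ≠ 1 →
      (∀ b ∈ B, b * η = η * b) → a * η * a⁻¹ = η⁻¹ →
      B ≤ closure {a : H | a ∈ A ∧ IsTrans ρ a} := by
    intro B a η hBA haA haB hcard hηF hη1 hηc hinv
    have hlt : Nat.card B < Nat.card A := by
      rw [hcard]; have := Nat.card_pos (α := B); omega
    have hle : fix ρ (A : Set H) ≤ fix ρ (B : Set H) := fix_anti ρ hBA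
    have hrel : 2 ≤ (fix ρ (A : Set H)).relIndex (fix ρ (B : Set H)) := by
      by_contra h
      have h0 : (fix ρ (A : Set H)).relIndex (fix ρ (B : Set H)) ≠ 0 :=
        index_ne_zero_of_finite
      have heq := le_antisymm hle (relIndex_eq_one.mp (by omega))
      refine hη1 (eq_one_of_fix_le ρ hρ hV (Thompson.elab_isPGroup (Thompson.elab_mono hA hBA))
        (odd_of_mem_fitting ρ hρ hV hO hηF) hηc fun x hx => (mem_fix_singleton ρ).mpr ?_)
      refine fix_of_sq ρ hV (odd_of_mem_fitting ρ hρ hV hO hηF) ?_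
      set y := ρ η x with hy
      have hyB : y ∈ fix ρ (B : Set H) := fun b hb => by
        rw [hy, ← apply_mul, hηc b hb, apply_mul, hx b hb]
      have hax : ρ a x = x := (heq.ge hx) a haA
      have hay : ρ a y = y := (heq.ge hyB) a haA
      have h3 : ρ η⁻¹ x = y := by
        rw [← hinv, apply_mul, apply_mul]
        have : ρ a⁻¹ x = x := by
          conv_lhs => rw [← hax]
          rw [← apply_mul, inv_mul_cancel, apply_one]
        rw [this, ← hy, hay]
      conv_lhs => rw [← h3]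
      rw [← apply_mul, mul_inv_cancel, apply_one]
    have h1 := relIndex_mul_index hle
    have h2 : (fix ρ (B : Set H)).index ≤ Nat.card B := by nlinarith
    exact (ih _ hlt B rfl (Thompson.elab_mono hA hBA) h2).trans
      (closure_mono fun b hb => ⟨hBA hb.1, hb.2⟩)
  obtain ⟨B, a, η, hBA, -, haA, haB, hsup, hcard, hηF, hη1, hηc, hinv⟩ :=
    exists_inverted hO hA le_rfl hA1
  have hBle := key B a η hBA haA haB hcard hηF hη1 hηc hinv
  by_cases hB1 : B = ⊥
  · subst hB1
    rw [sup_bot_eq] at hsup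
    rw [← hsup, zpowers_le]
    refine subset_closure ⟨hsup ▸ haA, by rw [← pow_two]; exact hA.2 a haA, ?_, η, hηF, hη1, hinv⟩
    have h3 : fix ρ {a} = fix ρ (A : Set H) := by
      refine le_antisymm (fun x hx => ?_) (fix_anti ρ (by simpa using haA))
      intro b hb
      rw [← hsup, SetLike.mem_coe, mem_zpowers_iff] at hb
      obtain ⟨i, rfl⟩ := hb
      have hax : ρ a x = x := (mem_fix_singleton ρ).mp hx
      have hstab : a ∈ ({ carrier := {h | ρ h x = x}, one_mem' := apply_one ρ x,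
                          mul_mem' := fun {g h} hg hh => by
                            show ρ (g * h) x = x
                            rw [apply_mul, hh, hg],
                          inv_mem' := fun {g} hg => by
                            show ρ g⁻¹ x = x
                            conv_lhs => rw [← hg]
                            rw [← apply_mul, inv_mul_cancel, apply_one] } : Subgroup H) := hax
      exact zpow_mem hstab i
    have h4 := card_le_index ρ hρ hV hO A hA
    rw [hcard, card_bot] at hidx h4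
    rw [h3]
    omega
  · obtain ⟨B', a', η', hBA', hne', haA', haB', -, hcard', hηF', hη1', hηc', hinv'⟩ :=
      exists_inverted hO hA hBA hB1
    have hBle' := key B' a' η' hBA' haA' haB' hcard' hηF' hη1' hηc' hinv'
    obtain ⟨b, hb, hbB⟩ : ∃ b ∈ B', b ∉ B := by
      by_contra h
      simp only [not_exists, not_and, not_not] at h
      exact hne' (eq_of_le_of_card_ge h (by omega))
    have h5 : zpowers b ⊔ B = A := by
      refine eq_of_le_of_card_ge (sup_le (zpowers_le.mpr (hBA' hb)) hBA) ?_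
      rw [Signalizer.card_sup_zpowers (p := 2) hA hBA (hBA' hb) hbB, hcard]
    conv_lhs => rw [← h5]
    exact sup_le (zpowers_le.mpr (hBle' hb)) hBle

/-- An element of order three of the Fitting subgroup with a commutator space of order four. -/
def IsFactor (η : H) : Prop :=
  η ∈ fittingSubgroup H ∧ η ^ 3 = 1 ∧ η ≠ 1 ∧ (fix ρ {η}).index = 4

omit hO in
theorem odd_of_cube {η : H} (h : η ^ 3 = 1) : Odd (orderOf η) := by
  rcases (Nat.dvd_prime Nat.prime_three).mp (orderOf_dvd_of_pow_eq_one h) with h1 | h1 <;>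
    rw [h1] <;> decide

theorem isFactor_of_trans {a η : H} (ha2 : a * a = 1) (hidx : (fix ρ {a}).index = 2)
    (hηF : η ∈ fittingSubgroup H) (hη1 : η ≠ 1) (hinv : a * η * a⁻¹ = η⁻¹) : IsFactor ρ η := by
  have hodd := odd_of_mem_fitting ρ hρ hV hO hηF
  have hai : a⁻¹ = a := inv_eq_of_mul_eq_one_right ha2
  set a' := η * a * η⁻¹ with ha'
  have hsq : a' * a = η * η := by
    have : a * η⁻¹ * a = η := by
      have h1 := congrArg (fun g => g⁻¹) hinv
      simpa [mul_inv_rev, hai, mul_assoc] using h1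
    rw [ha', show η * a * η⁻¹ * a = η * (a * η⁻¹ * a) by group, this]
  have hle : fix ρ {a} ⊓ fix ρ {a'} ≤ fix ρ {η} := fun x hx => by
    rw [mem_fix_singleton]
    refine fix_of_sq ρ hV hodd ?_
    rw [← apply_mul, ← hsq, apply_mul, (mem_fix_singleton ρ).mp hx.1,
      (mem_fix_singleton ρ).mp hx.2]
  have hidx' : (fix ρ {a'}).index = 2 := by
    have : fix ρ {a'} = (fix ρ {a}).map (ρ η).toMonoidHom := by
      ext x
      rw [mem_fix_singleton, ha', apply_mul, apply_mul, Subgroup.mem_map]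
      constructor
      · intro h
        refine ⟨ρ η⁻¹ x, (mem_fix_singleton ρ).mpr ((ρ η).injective ?_), ?_⟩
        · rw [h, ← apply_mul, mul_inv_cancel, apply_one]
        · show ρ η (ρ η⁻¹ x) = x
          rw [← apply_mul, mul_inv_cancel, apply_one]
      · rintro ⟨y, hy, rfl⟩
        show ρ η (ρ a (ρ η⁻¹ (ρ η y))) = ρ η y
        rw [← apply_mul (b := η), inv_mul_cancel, apply_one, (mem_fix_singleton ρ).mp hy]
    rw [this]
    exact (index_map_of_bijective (ρ η).bijective _).trans hidx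
  have h4 : (fix ρ {η}).index ≤ 4 := by
    refine (Nat.le_of_dvd (Nat.pos_of_ne_zero index_ne_zero_of_finite)
      (index_dvd_of_le hle)).trans (index_inf_le.trans ?_)
    rw [hidx, hidx']
  have hne : comm ρ η ≠ ⊥ := fun h => hη1 (eq_one_of_comm_eq_bot ρ hρ hV h)
  have hη2 : ∀ u ∈ comm ρ η, u ≠ 1 → ρ η u ∈ comm ρ η ∧ ρ η u ≠ u ∧ ρ η u ≠ 1 := by
    intro u hu hu1
    refine ⟨?_, fun h => hu1 (eq_one_of_mem_comm_of_fix ρ hV hodd hu h), fun h => hu1 ?_⟩
    · obtain ⟨x, rfl⟩ := hu
      exact ⟨ρ η x, by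
        show ρ η x * ρ η (ρ η x) = ρ η (x * ρ η x)
        rw [map_mul]⟩
    · exact (ρ η).injective (h.trans (map_one _).symm)
  obtain ⟨⟨u, hu⟩, hu1'⟩ := (comm ρ η).ne_bot_iff_exists_ne_one.mp hne
  have hu1 : u ≠ 1 := fun h => hu1' (Subtype.ext h)
  classical
  have : Fintype (comm ρ η) := Fintype.ofFinite _
  have hv := hη2 u hu hu1
  have hw := hη2 _ hv.1 hv.2.2
  have hwu : ρ η (ρ η u) ≠ u := fun h => hv.2.1 (fix_of_sq ρ hV hodd h)
  set T : Finset (comm ρ η) := {1, ⟨u, hu⟩, ⟨_, hv.1⟩, ⟨_, hw.1⟩} with hT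
  have hTc : T.card = 4 := by
    rw [hT, Finset.card_insert_of_notMem, Finset.card_insert_of_notMem, Finset.card_pair]
    · simpa [Subtype.ext_iff] using hw.2.1.symm
    · simp only [Finset.mem_insert, Finset.mem_singleton, Subtype.mk.injEq, not_or]
      exact ⟨hv.2.1.symm, hwu.symm⟩
    · simp only [Finset.mem_insert, Finset.mem_singleton, Subtype.ext_iff, not_or]
      exact ⟨fun h => hu1 h.symm, fun h => hv.2.2 h.symm, fun h => hw.2.2 h.symm⟩
  have hcard : (fix ρ {η}).index = 4 := by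
    refine le_antisymm h4 ?_
    rw [← card_comm ρ hV, Nat.card_eq_fintype_card, ← hTc]
    exact Finset.card_le_univ T
  refine ⟨hηF, ?_, hη1, hcard⟩
  have huniv : T = Finset.univ := Finset.eq_univ_of_card T (by
    rw [hTc, ← Nat.card_eq_fintype_card, card_comm ρ hV, hcard])
  have hmem : ∀ w ∈ comm ρ η, w = 1 ∨ w = u ∨ w = ρ η u ∨ w = ρ η (ρ η u) := fun w hw' => by
    have := huniv ▸ Finset.mem_univ (⟨w, hw'⟩ : comm ρ η)
    simpa [hT, Subtype.ext_iff] using this
  have hcyc : ρ η (ρ η (ρ η u)) = u := by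
    have hz := hη2 _ hw.1 hw.2.2
    rcases hmem _ hz.1 with h | h | h | h
    · exact absurd h hz.2.2
    · exact h
    · exact absurd ((ρ η).injective h) hwu
    · exact absurd h hz.2.1
  have hcyc' : ∀ w ∈ comm ρ η, ρ η (ρ η (ρ η w)) = w := fun w hw' => by
    rcases hmem w hw' with rfl | rfl | rfl | rfl
    · simp
    · exact hcyc
    · exact congrArg _ hcyc
    · exact congrArg (fun t => ρ η (ρ η t)) hcyc
  refine hρ ?_
  rw [map_one]
  ext x
  show ρ (η ^ 3) x = x
  set d := x * ρ η x with hd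
  have hd' : d ∈ comm ρ η := ⟨x, rfl⟩
  have hd1 := (hη2 : _)
  have e : ρ (η ^ 3) x = x * (d * ρ η d * ρ η (ρ η d)) := by
    rw [show η ^ 3 = η * (η * η) by rw [pow_succ', pow_two], apply_mul, apply_mul, hd, map_mul,
      map_mul]
    symm
    calc x * (x * ρ η x * (ρ η x * ρ η (ρ η x)) * (ρ η (ρ η x) * ρ η (ρ η (ρ η x))))
        = x * x * (ρ η x * ρ η x) * (ρ η (ρ η x) * ρ η (ρ η x)) * ρ η (ρ η (ρ η x)) := by
          simp only [mul_assoc, mul_comm, mul_left_comm]
      _ = ρ η (ρ η (ρ η x)) := by simp only [hV, one_mul]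
  rw [e]
  by_cases hd0 : d = 1
  · rw [hd0]; simp
  have hm : d * ρ η d * ρ η (ρ η d) ∈ comm ρ η :=
    mul_mem (mul_mem hd' (hη2 d hd' hd0).1) (hη2 _ (hη2 d hd' hd0).1 (hη2 d hd' hd0).2.2).1
  have : d * ρ η d * ρ η (ρ η d) = 1 := eq_one_of_mem_comm_of_fix ρ hV hodd hm (by
    rw [map_mul, map_mul, hcyc' d hd']
    simp only [mul_comm, mul_left_comm])
  rw [this, mul_one]

omit [Group.IsSolvable H] hO in
theorem map_comm_eq (g η : H) :
    (comm ρ η).map (ρ g).toMonoidHom = comm ρ (g * η * g⁻¹) := by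
  ext x
  constructor
  · rintro ⟨_, ⟨y, rfl⟩, rfl⟩
    refine ⟨ρ g y, ?_⟩
    show ρ g y * ρ (g * η * g⁻¹) (ρ g y) = ρ g (y * ρ η y)
    rw [apply_mul, apply_mul, ← apply_mul ρ g⁻¹ g, inv_mul_cancel, apply_one, map_mul]
  · rintro ⟨y, rfl⟩
    refine ⟨delta ρ η (ρ g⁻¹ y), ⟨_, rfl⟩, ?_⟩
    show ρ g (ρ g⁻¹ y * ρ η (ρ g⁻¹ y)) = y * ρ (g * η * g⁻¹) y
    rw [map_mul, ← apply_mul ρ g g⁻¹, mul_inv_cancel, apply_one, apply_mul, apply_mul]

theorem IsFactor.conj {η : H} (h : IsFactor ρ η) (g : H) : IsFactor ρ (g * η * g⁻¹) := by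
  refine ⟨(inferInstance : (fittingSubgroup H).Normal).conj_mem _ h.1 g,
    by rw [conj_pow, h.2.1, mul_one, mul_inv_cancel], fun e => h.2.2.1 (conj_eq_one_iff.mp e), ?_⟩
  rw [← card_comm ρ hV, ← map_comm_eq ρ hρ hV,
    card_map_of_injective (f := (ρ g).toMonoidHom) (ρ g).injective, card_comm ρ hV, h.2.2.2]

/-- The commutator spaces of commuting factors. -/
theorem pairwise_of_commute {η ζ : H} (hη : IsFactor ρ η) (hζ : IsFactor ρ ζ)
    (hc : η * ζ = ζ * η) :
    ζ ∈ zpowers η ∨ (comm ρ η ⊓ comm ρ ζ = ⊥ ∧ ∀ u ∈ comm ρ η, ρ ζ u = u) := by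
  have hoη := odd_of_cube ρ hρ hV hη.2.1
  have hoζ := odd_of_cube ρ hρ hV hζ.2.1
  set W := comm ρ η with hW
  have hWc : Nat.card W = 4 := (card_comm ρ hV η).trans hη.2.2.2
  have hWζ : ∀ u ∈ W, ρ ζ u ∈ W := by
    rintro _ ⟨x, rfl⟩
    refine ⟨ρ ζ x, ?_⟩
    show ρ ζ x * ρ η (ρ ζ x) = ρ ζ (x * ρ η x)
    rw [map_mul, ← apply_mul, ← apply_mul, hc]
  have hWη : ∀ u ∈ W, ρ η u ∈ W := by
    rintro _ ⟨x, rfl⟩
    exact ⟨ρ η x, by
      show ρ η x * ρ η (ρ η x) = ρ η (x * ρ η x)
      rw [map_mul]⟩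
  obtain ⟨⟨u, hu⟩, hu1'⟩ := W.ne_bot_iff_exists_ne_one.mp (by
    intro h; rw [h, card_bot] at hWc; omega)
  have hu1 : u ≠ 1 := fun h => hu1' (Subtype.ext h)
  have hv1 : ρ η u ≠ u := fun h => hu1 (eq_one_of_mem_comm_of_fix ρ hV hoη hu h)
  have hw1 : ρ η (ρ η u) ≠ u := fun h => hv1 (fix_of_sq ρ hV hoη h)
  classical
  have : Fintype W := Fintype.ofFinite _
  set T : Finset W := {1, ⟨u, hu⟩, ⟨_, hWη u hu⟩, ⟨_, hWη _ (hWη u hu)⟩} with hT
  have hne : ∀ z, z ≠ 1 → ρ η z ≠ 1 := fun z hz h => hz ((ρ η).injective (h.trans (map_one _).symm))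
  have hTc : T.card = 4 := by
    rw [hT, Finset.card_insert_of_notMem, Finset.card_insert_of_notMem, Finset.card_pair]
    · simp only [Ne, Subtype.mk.injEq]
      exact fun h => hv1 ((ρ η).injective h).symm
    · simp only [Finset.mem_insert, Finset.mem_singleton, Subtype.mk.injEq, not_or]
      exact ⟨hv1.symm, hw1.symm⟩
    · simp only [Finset.mem_insert, Finset.mem_singleton, Subtype.ext_iff, not_or]
      exact ⟨fun h => hu1 h.symm, fun h => hne u hu1 h.symm,
        fun h => hne _ (hne u hu1) h.symm⟩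
  have huniv : T = Finset.univ := Finset.eq_univ_of_card T (by
    rw [hTc, ← Nat.card_eq_fintype_card, hWc])
  have hmem : ∀ w ∈ W, w = 1 ∨ w = u ∨ w = ρ η u ∨ w = ρ η (ρ η u) := fun w hw' => by
    have := huniv ▸ Finset.mem_univ (⟨w, hw'⟩ : W)
    simpa [hT, Subtype.ext_iff] using this
  obtain ⟨i, hi⟩ : ∃ i : ℕ, ρ ζ u = ρ (η ^ i) u := by
    rcases hmem _ (hWζ u hu) with h | h | h | h
    · exact absurd ((ρ ζ).injective (h.trans (map_one _).symm)) hu1
    · exact ⟨0, by rw [pow_zero, apply_one, h]⟩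
    · exact ⟨1, by rw [pow_one, h]⟩
    · exact ⟨2, by rw [pow_two, apply_mul, h]⟩
  have hζW : ∀ w ∈ W, ρ ζ w = ρ (η ^ i) w := by
    intro w hw
    have hcomm : ∀ z, ρ ζ (ρ η z) = ρ η (ρ ζ z) := fun z => by
      rw [← apply_mul, ← apply_mul, hc]
    have hcomm' : ∀ z, ρ (η ^ i) (ρ η z) = ρ η (ρ (η ^ i) z) := fun z => by
      rw [← apply_mul, ← apply_mul, ← pow_succ, ← pow_succ']
    rcases hmem w hw with rfl | rfl | rfl | rfl
    · simp
    · exact hi
    · rw [hcomm, hi, hcomm']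
    · rw [hcomm, hcomm, hi, hcomm', hcomm']
  by_cases htriv : ∀ w ∈ W, ρ ζ w = w
  · refine Or.inr ⟨?_, htriv⟩
    rw [eq_bot_iff]
    exact fun w hw => mem_bot.mpr (eq_one_of_mem_comm_of_fix ρ hV hoζ hw.2 (htriv w hw.1))
  left
  simp only [not_forall] at htriv
  obtain ⟨w, hw, hwne⟩ := htriv
  have heq : comm ρ ζ = W := by
    have hle : W.map (delta ρ ζ) ≤ comm ρ ζ := map_le_range _ _
    have hle' : W.map (delta ρ ζ) ≤ W := by
      rintro _ ⟨z, hz, rfl⟩
      exact mul_mem hz (hWζ z hz)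
    have hinj : ∀ z ∈ W, delta ρ ζ z = 1 → z = 1 := by
      intro z hz h
      have hfz : ρ ζ z = z := (mem_fix_singleton ρ).mp ((ker_delta ρ hV ζ).le h)
      rcases hmem z hz with h0 | h0 | h0 | h0
      · exact h0
      all_goals exfalso
      all_goals apply hwne
      all_goals
        have hpw : ρ (η ^ i) u = u := by
          first
            | (rw [h0, hζW u hu] at hfz; exact hfz)
            | (rw [h0, hζW _ (hWη u hu), ← apply_mul, ← pow_succ, pow_succ', apply_mul] at hfz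
               exact (ρ η).injective hfz)
            | (rw [h0, hζW _ (hWη _ (hWη u hu)), ← apply_mul, ← pow_succ, pow_succ', apply_mul,
                ← apply_mul ρ (η ^ i) η, ← pow_succ, pow_succ', apply_mul] at hfz
               exact (ρ η).injective ((ρ η).injective hfz))
        rw [hζW w hw]
        rcases hmem w hw with rfl | rfl | rfl | rfl
        · simp
        · exact hpw
        · rw [← apply_mul, ← pow_succ, pow_succ', apply_mul, hpw]
        · rw [← apply_mul, ← pow_succ, pow_succ', apply_mul, ← apply_mul ρ (η ^ i) η, ← pow_succ,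
            pow_succ', apply_mul, hpw]
    have hcardW : Nat.card (W.map (delta ρ ζ)) = 4 := by
      rw [← hWc]
      refine Nat.card_congr (Equiv.ofBijective
        (fun z : W => (⟨delta ρ ζ z, z, z.2, rfl⟩ : W.map (delta ρ ζ))) ⟨?_, ?_⟩).symm
      · intro z z' h
        have h' : delta ρ ζ z = delta ρ ζ z' := congrArg Subtype.val h
        refine Subtype.ext (inv_mul_eq_one.mp (hinj _ (mul_mem (inv_mem z.2) z'.2) ?_))
        rw [map_mul, map_inv, h', inv_mul_cancel]
      · rintro ⟨_, z, hz, rfl⟩; exact ⟨⟨z, hz⟩, rfl⟩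
    have e1 := eq_of_le_of_card_ge hle' (by rw [hcardW, hWc])
    have e2 := eq_of_le_of_card_ge hle (by rw [hcardW, card_comm ρ hV, hζ.2.2.2])
    rw [← e2, e1]
  refine mem_zpowers_iff.mpr ⟨i, ?_⟩
  rw [zpow_natCast]
  refine hρ (MulEquiv.ext fun x => ?_)
  -- split `x` into a fixed point of `η` and an element of `W`
  obtain ⟨⟨w', hw'⟩, hw'e⟩ : ∃ w' : W, delta ρ η w' = delta ρ η x := by
    let f : W → W := fun z => ⟨delta ρ η z, ⟨z, rfl⟩⟩
    have hf : Function.Injective f := fun z z' h => by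
      have h' : delta ρ η z = delta ρ η z' := congrArg Subtype.val h
      refine Subtype.ext (inv_mul_eq_one.mp (eq_one_of_mem_comm_of_fix ρ hV hoη
        (mul_mem (inv_mem z.2) z'.2) ((mem_fix_singleton ρ).mp ((ker_delta ρ hV η).le ?_))))
      rw [MonoidHom.mem_ker, map_mul, map_inv, h', inv_mul_cancel]
    obtain ⟨z, hz⟩ := Finite.surjective_of_injective hf ⟨delta ρ η x, ⟨x, rfl⟩⟩
    exact ⟨z, congrArg Subtype.val hz⟩
  set f := x * w'⁻¹ with hf
  have hfη : ρ η f = f := (mem_fix_singleton ρ).mp ((ker_delta ρ hV η).le (by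
    rw [MonoidHom.mem_ker, hf, map_mul, map_inv, hw'e, mul_inv_cancel]))
  have hfi : ρ (η ^ i) f = f := by
    clear hi hζW
    induction i with
    | zero => rw [pow_zero, apply_one]
    | succ i ih => rw [pow_succ, apply_mul, hfη, ih]
  have hfζ : ρ ζ f = f := by
    have h1 : f * ρ ζ f ∈ comm ρ ζ := ⟨f, rfl⟩
    rw [heq] at h1
    have h2 : ρ η (f * ρ ζ f) = f * ρ ζ f := by
      rw [map_mul, hfη, ← apply_mul, hc, apply_mul, hfη]
    have h3 : f * ρ ζ f = 1 := eq_one_of_mem_comm_of_fix ρ hV hoη h1 h2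
    calc ρ ζ f = f * (f * ρ ζ f) := apply_eq ρ hV ζ f
      _ = f := by rw [h3, mul_one]
  have hfx : f * w' = x := by rw [hf, inv_mul_cancel_right]
  calc ρ (η ^ i) x = ρ (η ^ i) (f * w') := congrArg _ hfx.symm
    _ = ρ ζ (f * w') := by
      rw [map_mul (ρ (η ^ i)) f, map_mul (ρ ζ) f, hfi, hfζ, hζW w' hw']
    _ = ρ ζ x := congrArg _ hfx

omit hρ hV [Group.IsSolvable H] hO in
theorem nilpotent_le_of_ne_top {R : Type*} [Group R] [Finite R] [Group.IsNilpotent R]
    {X : Subgroup R} (hX : X ≠ ⊤) : ∃ M : Subgroup R, X ≤ M ∧ M ≠ ⊤ ∧ commutator R ≤ M := by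
  obtain ⟨M, hM, hXM⟩ := (eq_top_or_exists_le_coatom X).resolve_left hX
  have hMn : M.Normal :=
    NormalizerCondition.normal_of_coatom M Group.normalizerCondition_of_isNilpotent hM
  refine ⟨M, hXM, hM.1, ?_⟩
  rw [commutator_def, commutator_le]
  intro a _ b _
  by_contra hab
  apply hab
  rw [← QuotientGroup.eq_one_iff, ← QuotientGroup.mk'_apply, map_commutatorElement,
    commutatorElement_eq_one_iff_commute]
  by_cases ha : a ∈ M
  · rw [QuotientGroup.mk'_apply, (QuotientGroup.eq_one_iff a).mpr ha]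
    exact Commute.one_left _
  have htop : M ⊔ zpowers a = ⊤ := hM.2 _ (lt_of_le_of_ne le_sup_left fun h =>
    ha (h ▸ mem_sup_right (mem_zpowers a)))
  have hb : b ∈ M ⊔ zpowers a := htop ▸ mem_top b
  rw [← SetLike.mem_coe, Subgroup.normal_mul] at hb
  obtain ⟨m, hm, z, hz, rfl⟩ := hb
  obtain ⟨i, rfl⟩ := mem_zpowers_iff.mp hz
  rw [map_mul, QuotientGroup.mk'_apply M m, (QuotientGroup.eq_one_iff m).mpr hm, one_mul, map_zpow]
  exact (Commute.refl _).zpow_right i

/-- Distinct factors commute and have disjoint commutator spaces. -/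
theorem pairwise {η ζ : H} (hη : IsFactor ρ η) (hζ : IsFactor ρ ζ) :
    ζ ∈ zpowers η ∨ (comm ρ η ⊓ comm ρ ζ = ⊥ ∧ ∀ u ∈ comm ρ η, ρ ζ u = u) := by
  refine pairwise_of_commute ρ hρ hV hO hη hζ ?_
  suffices hh : ∀ n : ℕ, ∀ η ζ : H, IsFactor ρ η → IsFactor ρ ζ →
      Nat.card (closure ({η, ζ} : Set H)) = n → η * ζ = ζ * η from hh _ η ζ hη hζ rfl
  intro n
  induction n using Nat.strong_induction_on with
  | _ n ih =>
  intro η ζ hη hζ hn
  by_contra hcne
  set R := closure ({η, ζ} : Set H) with hR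
  have hηR : η ∈ R := subset_closure (by simp)
  have hζR : ζ ∈ R := subset_closure (by simp)
  have hRF : R ≤ fittingSubgroup H := (closure_le _).mpr (by
    rintro g (rfl | rfl)
    · exact hη.1
    · exact hζ.1)
  have : Group.IsNilpotent (fittingSubgroup H) := Solvable.isNilpotent_fittingSubgroup
  have : Group.IsNilpotent R :=
    Group.nilpotent_of_mulEquiv (subgroupOfEquivOfLe hRF)
  have hX : zpowers (⟨ζ, hζR⟩ : R) ≠ ⊤ := by
    intro h
    obtain ⟨i, hi⟩ := mem_zpowers_iff.mp (h ▸ mem_top (⟨η, hηR⟩ : R))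
    apply hcne
    have : ζ ^ i = η := congrArg Subtype.val hi
    rw [← this]
    exact ((Commute.refl ζ).zpow_left i).eq
  obtain ⟨M, hXM, hMtop, hcomm⟩ := nilpotent_le_of_ne_top hX
  set ζ' := η * ζ * η⁻¹ with hζ'
  have hζ'f : IsFactor ρ ζ' := IsFactor.conj ρ hρ hV hO hζ η
  have hζM : (⟨ζ, hζR⟩ : R) ∈ M := hXM (mem_zpowers _)
  have hζ'M : (⟨η, hηR⟩ : R) * ⟨ζ, hζR⟩ * (⟨η, hηR⟩ : R)⁻¹ ∈ M := by
    have h1 : ⁅(⟨η, hηR⟩ : R), (⟨ζ, hζR⟩ : R)⁆ ∈ M :=
      hcomm (commutator_mem_commutator (mem_top _) (mem_top _))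
    rw [commutatorElement_def] at h1
    simpa using mul_mem h1 hζM
  have hlt : Nat.card (closure ({ζ, ζ'} : Set H)) < n := by
    have hle : closure ({ζ, ζ'} : Set H) ≤ M.map R.subtype := (closure_le _).mpr (by
      rintro g (rfl | rfl)
      · exact ⟨_, hζM, rfl⟩
      · exact ⟨_, hζ'M, rfl⟩)
    refine lt_of_le_of_lt (Nat.card_le_card_of_injective _ (inclusion_injective hle)) ?_
    rw [card_map_of_injective (f := R.subtype) R.subtype_injective, ← hn]
    exact lt_of_le_of_ne (Nat.le_of_dvd Nat.card_pos (card_subgroup_dvd_card _))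
      fun h => hMtop (eq_top_of_card_eq _ h)
  have hc1 := ih _ hlt ζ ζ' hζ hζ'f rfl
  have hη3 : η ^ 3 = 1 := hη.2.1
  rcases pairwise_of_commute ρ hρ hV hO hζ hζ'f hc1 with h | ⟨hdis, hfix'⟩
  · -- `η` normalizes `⟨ζ⟩`
    obtain ⟨i, hi⟩ := mem_zpowers_iff.mp h
    have hinv : ζ⁻¹ = ζ * ζ := inv_eq_of_mul_eq_one_right (by
      rw [← mul_assoc, ← pow_two, ← pow_succ]; exact hζ.2.1)
    have hmod : ζ ^ i = 1 ∨ ζ ^ i = ζ ∨ ζ ^ i = ζ⁻¹ := by
      have h3 : ζ ^ (3 : ℤ) = 1 := by exact_mod_cast hζ.2.1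
      have : ζ ^ i = ζ ^ (i % 3) := by
        conv_lhs => rw [← Int.emod_add_mul_ediv i 3, zpow_add, zpow_mul, h3, one_zpow, mul_one]
      rw [this]
      rcases (show i % 3 = 0 ∨ i % 3 = 1 ∨ i % 3 = 2 by omega) with e | e | e <;> rw [e]
      · exact Or.inl (zpow_zero _)
      · exact Or.inr (Or.inl (zpow_one _))
      · exact Or.inr (Or.inr (by rw [hinv, zpow_two]))
    rw [hζ'] at hi
    rcases hmod with e | e | e <;> rw [e] at hi
    · exact hζ.2.2.1 (conj_eq_one_iff.mp hi.symm)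
    · exact hcne (mul_inv_eq_iff_eq_mul.mp hi.symm)
    · refine hcne ?_
      have h2 : η * η * ζ * (η * η)⁻¹ = ζ := by
        rw [show η * η * ζ * (η * η)⁻¹ = η * (η * ζ * η⁻¹) * η⁻¹ by group, ← hi, ← conj_inv, ← hi,
          inv_inv]
      have h4 : η = (η * η) * (η * η) := by
        rw [← mul_assoc, ← pow_two, ← pow_succ, hη3, one_mul]
      rw [h4]
      exact ((show Commute (η * η) ζ from mul_inv_eq_iff_eq_mul.mp h2).mul_left
        (mul_inv_eq_iff_eq_mul.mp h2)).eq
  · -- three commutator spaces inside a group of order at most 16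
    set W' := comm ρ ζ
    set W'' := comm ρ ζ'
    set ζ'' := η * ζ' * η⁻¹ with hζ''
    set W''' := comm ρ ζ''
    set U := comm ρ η ⊔ W' with hU
    have hmap : ∀ X : Subgroup V, X ≤ U → X.map (ρ η).toMonoidHom ≤ U := by
      intro X hX
      rintro _ ⟨z, hz, rfl⟩
      show ρ η z ∈ U
      rw [apply_eq ρ hV η z]
      exact mul_mem (hX hz) (mem_sup_left ⟨z, rfl⟩)
    have hW'' : W'' = W'.map (ρ η).toMonoidHom := (map_comm_eq ρ hρ hV η ζ).symm
    have hW''' : W''' = W''.map (ρ η).toMonoidHom := (map_comm_eq ρ hρ hV η ζ').symm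
    have hW''U : W'' ≤ U := hW'' ▸ hmap _ le_sup_right
    have hW'''U : W''' ≤ U := hW''' ▸ hmap _ hW''U
    have hcardU : Nat.card U ≤ 16 := by
      have := Solvable.card_sup_mul_card_inf (A := comm ρ η) (K := W') Subgroup.le_normalizer_of_normal
      rw [card_comm ρ hV, card_comm ρ hV, hη.2.2.2, hζ.2.2.2, ← hU] at this
      have h0 : 0 < Nat.card ↥(comm ρ η ⊓ W') := Nat.card_pos
      nlinarith
    have hsup : W' ⊔ W'' = U := by
      refine eq_of_le_of_card_ge (sup_le le_sup_right hW''U) (hcardU.trans ?_)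
      have := Solvable.card_sup_mul_card_inf (A := W') (K := W'') Subgroup.le_normalizer_of_normal
      rw [hdis, card_bot, mul_one, card_comm ρ hV, card_comm ρ hV, hζ.2.2.2, hζ'f.2.2.2] at this
      rw [this]
    have hζ''f : IsFactor ρ ζ'' := IsFactor.conj ρ hρ hV hO hζ'f η
    have hdis' : W'' ⊓ W''' = ⊥ := by
      rw [hW''']
      conv_lhs => arg 1; rw [hW'']
      rw [← map_inf_eq _ _ _ (ρ η).injective, show W' ⊓ W'' = ⊥ from hdis, Subgroup.map_bot]
    have hle : closure ({ζ'', ζ} : Set H) ≤ M.map R.subtype := (closure_le _).mpr (by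
      rintro g (rfl | rfl)
      · refine ⟨(⟨η, hηR⟩ : R) * ((⟨η, hηR⟩ : R) * ⟨ζ, hζR⟩ * (⟨η, hηR⟩ : R)⁻¹) *
          (⟨η, hηR⟩ : R)⁻¹, ?_, rfl⟩
        have h1 : ⁅(⟨η, hηR⟩ : R), (⟨η, hηR⟩ : R) * ⟨ζ, hζR⟩ * (⟨η, hηR⟩ : R)⁻¹⁆ ∈ M :=
          hcomm (commutator_mem_commutator (mem_top _) (mem_top _))
        rw [commutatorElement_def] at h1
        have h2 := mul_mem h1 hζ'M
        rwa [inv_mul_cancel_right] at h2
      · exact ⟨_, hζM, rfl⟩)
    have hlt' : Nat.card (closure ({ζ'', ζ} : Set H)) < n := by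
      refine lt_of_le_of_lt (Nat.card_le_card_of_injective _ (inclusion_injective hle)) ?_
      rw [card_map_of_injective (f := R.subtype) R.subtype_injective, ← hn]
      exact lt_of_le_of_ne (Nat.le_of_dvd Nat.card_pos (card_subgroup_dvd_card _))
        fun h => hMtop (eq_top_of_card_eq _ h)
    have hc2 := ih _ hlt' ζ'' ζ hζ''f hζ rfl
    rcases pairwise_of_commute ρ hρ hV hO hζ''f hζ hc2 with h | ⟨-, hfix''⟩
    · -- `W''' = W'`
      have hWeq : W' ≤ W''' := by
        obtain ⟨i, hi⟩ := mem_zpowers_iff.mp h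
        rintro _ ⟨z, rfl⟩
        rw [← hi]
        let Wd : Subgroup H :=
          { carrier := {g | ∀ y : V, y * ρ g y ∈ W'''}
            one_mem' := fun y => by rw [apply_one, hV]; exact one_mem _
            mul_mem' := fun {g k} hg hk y => by
              have := mul_mem (hk y) (hg (ρ k y))
              rw [← apply_mul] at this
              rwa [show y * ρ k y * (ρ k y * ρ (g * k) y) = y * ρ (g * k) y by
                rw [mul_assoc, ← mul_assoc (ρ k y), hV, one_mul]] at this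
            inv_mem' := fun {g} hg y => by
              have := hg (ρ g⁻¹ y)
              rwa [← apply_mul, mul_inv_cancel, apply_one, mul_comm] at this }
        have hd : ζ'' ∈ Wd := fun y => ⟨y, rfl⟩
        exact zpow_mem hd i z
      have hW34 : W''' = W' := (eq_of_le_of_card_ge hWeq (by
        rw [card_comm ρ hV, card_comm ρ hV, hζ''f.2.2.2, hζ.2.2.2])).symm
      have h5 : W'.map (ρ η).toMonoidHom = W' := by
        calc W'.map (ρ η).toMonoidHom = W'''.map (ρ η).toMonoidHom := by rw [hW34]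
          _ = W' := by
            rw [map_comm_eq ρ hρ hV, hζ'', hζ',
              show η * (η * (η * ζ * η⁻¹) * η⁻¹) * η⁻¹ = η ^ 3 * ζ * (η ^ 3)⁻¹ by
                rw [show η ^ 3 = η * η * η by rw [pow_succ, pow_two]]; group, hη3]
            simp [W']
      have hWne : W' ≠ ⊥ := fun h => hζ.2.2.1 (eq_one_of_comm_eq_bot ρ hρ hV h)
      have h6 : W' ⊓ W'' = W' := by rw [hW'', h5, inf_idem]
      exact hWne (h6.symm.trans hdis)
    · -- `ζ` centralizes `W'''`, so `W''' ≤ W''`
      have hle3 : W''' ≤ W'' := by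
        intro e he
        have he' : e ∈ W' ⊔ W'' := hsup ▸ hW'''U he
        rw [← SetLike.mem_coe, Subgroup.normal_mul] at he'
        obtain ⟨u', hu', u'', hu'', rfl⟩ := he'
        have h1 : ρ ζ (u' * u'') = u' * u'' := hfix'' _ he
        -- `ζ` centralizes `W''`
        have h2 : ρ ζ u'' = u'' := by
          rcases pairwise_of_commute ρ hρ hV hO hζ'f hζ hc1.symm with h | ⟨-, hf⟩
          · exfalso
            have hne : W' ≠ ⊥ := fun h => hζ.2.2.1 (eq_one_of_comm_eq_bot ρ hρ hV h)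
            obtain ⟨i, hi⟩ := mem_zpowers_iff.mp h
            apply hne
            rw [eq_bot_iff]
            intro z hz
            rw [mem_bot]
            refine eq_one_of_mem_comm_of_fix ρ hV (odd_of_cube ρ hρ hV hζ.2.1) hz ?_
            let St : Subgroup H :=
              { carrier := {g | ρ g z = z}
                one_mem' := apply_one ρ z
                mul_mem' := fun {g k} hg hk => by
                  show ρ (g * k) z = z
                  rw [apply_mul, hk, hg]
                inv_mem' := fun {g} hg => by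
                  show ρ g⁻¹ z = z
                  conv_lhs => rw [← hg]
                  rw [← apply_mul, inv_mul_cancel, apply_one] }
            rw [← hi]
            exact zpow_mem (show ζ' ∈ St from hfix' z hz) i
          · exact hf u'' hu''
        rw [map_mul, h2] at h1
        have hu'1 := eq_one_of_mem_comm_of_fix ρ hV (odd_of_cube ρ hρ hV hζ.2.1) hu'
          (mul_right_cancel h1)
        show u' * u'' ∈ W''
        rw [hu'1, one_mul]
        exact hu''
      have hne : W''' ≠ ⊥ := fun h => hζ''f.2.2.1 (eq_one_of_comm_eq_bot ρ hρ hV h)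
      exact hne (le_bot_iff.mp (hdis' ▸ le_inf hle3 le_rfl))

/-- Factors with intersecting commutator spaces generate the same subgroup. -/
theorem mem_zpowers_of_inf_ne_bot {η ζ : H} (hη : IsFactor ρ η) (hζ : IsFactor ρ ζ)
    (h : comm ρ η ⊓ comm ρ ζ ≠ ⊥) : ζ ∈ zpowers η :=
  (pairwise ρ hρ hV hO hη hζ).resolve_right fun hh => h hh.1

end CfsgLib.OddOffender
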