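import Cfsg.Agent.CharP.PMinimal
import Cfsg.Agent.Solvable.Fitting
import Cfsg.Agent.LocalB.SpreadCoords
import Cfsg.Agent.RootSubgroups.SL2Pair

/-!
A `p`-minimal group generated by two conjugates of a minimal offender acts on the module modulo its fixed
points as `SL₂(q)` on its natural module.
-/

set_option autoImplicit false
set_option linter.style.haveILetI false
set_option linter.unusedSectionVars false

namespace CfsgLib.OffGen

open Subgroup Matrix CfsgLib.SL2Pair

variable {P : Type*} [Group P] [Finite P]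
variable {V : Type*} [AddCommGroup V] [Finite V] [DistribMulAction P V]

variable (V) in
/-- The fixed points of a subgroup. -/
def fix (A : Subgroup P) : AddSubgroup V where
  carrier := {v | ∀ a ∈ A, a • v = v}
  add_mem' := fun {x y} hx hy a ha => by rw [smul_add, hx a ha, hy a ha]
  zero_mem' := fun a _ => smul_zero a
  neg_mem' := fun {x} hx a ha => by rw [smul_neg, hx a ha]

theorem mem_fix {A : Subgroup P} {v : V} : v ∈ fix V A ↔ ∀ a ∈ A, a • v = v := Iff.rfl

theorem fix_of_conj {A : Subgroup P} {x : P}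
    (hgen : A ⊔ A.map (MulAut.conj x).toMonoidHom = ⊤) {v : V} (h1 : v ∈ fix V A)
    (h2 : x⁻¹ • v ∈ fix V A) : v ∈ fix V (⊤ : Subgroup P) := by
  intro g _
  have hle : (⊤ : Subgroup P) ≤ MulAction.stabilizer P v := by
    rw [← hgen]
    refine sup_le (fun a ha => h1 a ha) ?_
    rintro - ⟨a, ha, rfl⟩
    rw [MulAction.mem_stabilizer_iff, MulEquiv.coe_toMonoidHom, MulAut.conj_apply, mul_smul,
      mul_smul, h2 a ha, smul_inv_smul]
  exact hle (mem_top g)

/-- A subgroup of `V` mapped into itself by `A` and by a conjugate generating `P` with it is invariant. -/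
theorem invariant_of_gen {A : Subgroup P} {x : P}
    (hgen : A ⊔ A.map (MulAut.conj x).toMonoidHom = ⊤) (S : AddSubgroup V)
    (hA : ∀ a ∈ A, ∀ v ∈ S, a • v ∈ S)
    (hB : ∀ a ∈ A, ∀ v ∈ S, (x * a * x⁻¹) • v ∈ S) : ∀ (g : P), ∀ v ∈ S, g • v ∈ S := by
  intro g
  have hg : g ∈ A ⊔ A.map (MulAut.conj x).toMonoidHom := hgen.symm ▸ mem_top g
  rw [Subgroup.sup_eq_closure] at hg
  induction hg using Subgroup.closure_induction with
  | mem y hy =>
    rcases hy with hy | ⟨a, ha, rfl⟩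
    · exact hA y hy
    · simpa using hB a ha
  | one => intro v hv; rwa [one_smul]
  | mul y z _ _ hy hz => intro v hv; rw [mul_smul]; exact hy _ (hz v hv)
  | inv y _ hy =>
    intro v hv
    have hmaps : Set.MapsTo (fun w : V => y • w) (S : Set V) (S : Set V) := hy
    obtain ⟨w, hw, hwv⟩ := ((Set.toFinite (S : Set V)).injOn_iff_bijOn_of_mapsTo hmaps).1
      (MulAction.injective y).injOn |>.surjOn hv
    rw [← hwv, inv_smul_smul]
    exact hw

/-! ### The faithful module without fixed points -/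

variable (V) in
/-- A module in which every element off the fixed line of `A` moves it to a complementary one. -/
structure Line (p : ℕ) (A M : Subgroup P) : Prop where
  exp : ∀ w : V, p • w = 0
  faithful : ∀ g : P, (∀ w : V, g • w = w) → g = 1
  top : M ≠ ⊤
  gen : ∀ x, x ∉ M → A ⊔ A.map (MulAut.conj x).toMonoidHom = ⊤
  quad : ∀ a ∈ A, ∀ b ∈ A, ∀ w : V, b • (a • w - w) = a • w - w
  fixAll : ∀ w ∈ fix V (⊤ : Subgroup P), w = 0
  card : Nat.card (fix V A) = Nat.card A
  key : ∀ a ∈ A, a ≠ 1 → ∀ w : V, a • w = w → w ∈ fix V A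
  sum : ∀ x, x ∉ M → ∀ w : V, ∃ l ∈ fix V A, ∃ l' ∈ fix V A, w = l + x • l'
  nontriv : A ≠ ⊥
  le : A ≤ M

namespace Line

variable {p : ℕ} {A M : Subgroup P} (H : Line V p A M)

include H

theorem eq_zero_of_both {x : P} (hx : x ∉ M) {l : V} (hl : l ∈ fix V A) (hxl : x • l ∈ fix V A) :
    l = 0 := by
  have := H.fixAll _ (fix_of_conj (H.gen x hx) hxl (by rwa [inv_smul_smul]))
  simpa using congrArg (fun w => x⁻¹ • w) this

theorem unique {x : P} (hx : x ∉ M) {l l' m m' : V} (hl : l ∈ fix V A) (hl' : l' ∈ fix V A)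
    (hm : m ∈ fix V A) (hm' : m' ∈ fix V A) (h : l + x • l' = m + x • m') : l = m ∧ l' = m' := by
  have h1 : x • (l' - m') = m - l := by
    rw [smul_sub, sub_eq_sub_iff_add_eq_add, add_comm _ l, h]
  have h2 := H.eq_zero_of_both hx ((fix V A).sub_mem hl' hm') (h1 ▸ (fix V A).sub_mem hm hl)
  rw [h2, smul_zero] at h1
  exact ⟨(sub_eq_zero.1 h1.symm).symm, sub_eq_zero.1 h2⟩

/-- `l ↦ [y • l, a]`. -/
def dmap (y : P) : Additive A →+ (fix V A →+ fix V A) where
  toFun a :=
    { toFun := fun l => ⟨((Additive.toMul a : A) : P) • (y • (l : V)) - y • (l : V),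
        fun b hb => H.quad _ (Additive.toMul a).2 b hb _⟩
      map_zero' := by ext; simp
      map_add' := fun l m => by
        ext
        simp only [AddSubgroup.coe_add, smul_add]
        abel }
  map_zero' := by ext l; simp
  map_add' a b := by
    ext l
    simp only [AddMonoidHom.coe_mk, ZeroHom.coe_mk, AddMonoidHom.add_apply, AddSubgroup.coe_add,
      toMul_add, Subgroup.coe_mul, mul_smul]
    have e := H.quad _ (Additive.toMul b).2 _ (Additive.toMul a).2 (y • (l : V))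
    rw [smul_sub] at e
    rw [eq_add_of_sub_eq e]
    abel

theorem dmap_apply (y : P) (a : Additive A) (l : fix V A) :
    ((H.dmap y a l : fix V A) : V) =
      ((Additive.toMul a : A) : P) • (y • (l : V)) - y • (l : V) := rfl

theorem dmap_inj {y : P} (hy : y ∉ M) {a : Additive A} (h : a ≠ 0) :
    Function.Injective (H.dmap y a) := by
  rw [injective_iff_map_eq_zero]
  intro l hl
  have h0 := congrArg Subtype.val hl
  rw [H.dmap_apply, AddSubgroup.coe_zero, sub_eq_zero] at h0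
  have h1 : ((Additive.toMul a : A) : P) ≠ 1 := fun e => h (by
    apply Additive.toMul.injective
    exact Subtype.ext e)
  exact Subtype.ext (H.eq_zero_of_both hy l.2 (H.key _ (Additive.toMul a).2 h1 _ h0))

theorem dmap_bij {y : P} (hy : y ∉ M) {a : Additive A} (h : a ≠ 0) :
    Function.Bijective (H.dmap y a) :=
  Finite.injective_iff_bijective.1 (H.dmap_inj hy h)

theorem nontrivial_fix : Nontrivial (fix V A) := by
  haveI : Nontrivial A := (Subgroup.nontrivial_iff_ne_bot A).2 H.nontriv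
  exact Finite.one_lt_card_iff_nontrivial.1 (H.card ▸ Finite.one_lt_card)

theorem dmap_injective {y : P} (hy : y ∉ M) : Function.Injective (H.dmap y) := by
  rw [injective_iff_map_eq_zero]
  intro a ha
  by_contra h
  haveI := H.nontrivial_fix
  obtain ⟨l, hl⟩ := exists_ne (0 : fix V A)
  exact hl (H.dmap_inj hy h (by rw [ha]; simp))

theorem eval_surj {y : P} (hy : y ∉ M) {l' : fix V A} (hl' : l' ≠ 0) (l : fix V A) :
    ∃ a, H.dmap y a l' = l := by
  have hinj : Function.Injective (fun a => H.dmap y a l') := by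
    intro a b hab
    by_contra hne
    refine hl' (H.dmap_inj hy (sub_ne_zero.2 hne) ?_)
    rw [map_sub, AddMonoidHom.sub_apply, map_zero]
    exact sub_eq_zero.2 hab
  exact ((Nat.bijective_iff_injective_and_card _).2 ⟨hinj, H.card.symm⟩).2 l

/-- The maps along two complementary lines are mutually inverse. -/
theorem dmap_inverse {x : P} (hx : x ∉ M) {a : Additive A} (ha : a ≠ 0) :
    ∃ c : Additive A, c ≠ 0 ∧ ∀ l, H.dmap x c (H.dmap x⁻¹ a l) = l := by
  have hxi : x⁻¹ ∉ M := fun h => hx (inv_inv x ▸ M.inv_mem h)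
  set b : P := x * ((Additive.toMul a : A) : P) * x⁻¹ with hb
  have hbl : ∀ l : fix V A, b • (l : V) = (l : V) + x • ((H.dmap x⁻¹ a l : fix V A) : V) := by
    intro l
    rw [H.dmap_apply, smul_sub, smul_inv_smul, hb, mul_smul, mul_smul]
    abel
  haveI := H.nontrivial_fix
  obtain ⟨l₁, hl₁⟩ := exists_ne (0 : fix V A)
  have ht : H.dmap x⁻¹ a l₁ ≠ 0 := fun h => hl₁ (H.dmap_inj hxi ha (h.trans (map_zero _).symm))
  obtain ⟨c, hc⟩ := H.eval_surj hx ht l₁
  have hc0 : c ≠ 0 := by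
    rintro rfl
    simp [eq_comm, hl₁] at hc
  refine ⟨c, hc0, ?_⟩
  set γ : P := ((Additive.toMul c : A) : P) with hγ
  set m : P := x⁻¹ * γ⁻¹ * b with hm
  have hb1 : b • (l₁ : V) = γ • (x • ((H.dmap x⁻¹ a l₁ : fix V A) : V)) := by
    rw [hbl]
    nth_rewrite 1 [← hc]
    rw [H.dmap_apply, sub_add_cancel]
  have hm1 : m • (l₁ : V) = ((H.dmap x⁻¹ a l₁ : fix V A) : V) := by
    rw [hm, mul_smul, mul_smul, hb1, inv_smul_smul, inv_smul_smul]
  have hmM : m ∈ M := by
    by_contra hmM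
    exact hl₁ (Subtype.ext (H.eq_zero_of_both hmM l₁.2
      (hm1 ▸ (H.dmap x⁻¹ a l₁).2)))
  intro l
  -- `M` stabilises the line of `A`
  have hml : m • (l : V) ∈ fix V A := by
    obtain ⟨u, hu, u', hu', e⟩ := H.sum x hx (m • (l : V))
    by_cases hu0 : (⟨u', hu'⟩ : fix V A) = 0
    · have := congrArg Subtype.val hu0
      rw [AddSubgroup.coe_zero] at this
      subst this
      rwa [e, smul_zero, add_zero]
    obtain ⟨d, hd⟩ := H.eval_surj hx hu0 ⟨u, hu⟩
    have hd' := congrArg Subtype.val hd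
    rw [H.dmap_apply] at hd'
    change _ = u at hd'
    rw [← hd', sub_add_cancel] at e
    set δ : P := ((Additive.toMul d : A) : P) with hδ
    have hy : x⁻¹ * δ⁻¹ * m ∉ M → (l : V) = 0 := fun hy => H.eq_zero_of_both hy l.2 (by
      rw [mul_smul, mul_smul, e, inv_smul_smul, inv_smul_smul]; exact hu')
    by_cases hl0 : (l : V) = 0
    · rw [hl0, smul_zero]; exact (fix V A).zero_mem
    · exfalso
      have h1 : x⁻¹ * δ⁻¹ * m ∈ M := by_contra fun h => hl0 (hy h)
      refine hxi ?_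
      rw [show x⁻¹ = (x⁻¹ * δ⁻¹ * m) * (m⁻¹ * δ) by group]
      exact M.mul_mem h1 (M.mul_mem (M.inv_mem hmM) (H.le (Additive.toMul d).2))
  have e : b • (l : V) = γ • (x • (m • (l : V))) := by
    rw [← mul_smul x m, ← mul_smul γ (x * m)]
    exact congrArg (fun g : P => g • (l : V)) (by rw [hm]; group)
  have hu := H.unique hx (H.dmap x c ⟨_, hml⟩).2 hml l.2 (H.dmap x⁻¹ a l).2 (by
    rw [← hbl, e, H.dmap_apply, sub_add_cancel])
  have hu2 : (⟨_, hml⟩ : fix V A) = H.dmap x⁻¹ a l := Subtype.ext hu.2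
  rw [← hu2]
  exact Subtype.ext hu.1

theorem pair {x : P} (hx : x ∉ M) :
    SpreadField.Pair p (H.dmap x).range (H.dmap x⁻¹).range := by
  have hxi : x⁻¹ ∉ M := fun h => hx (inv_inv x ▸ M.inv_mem h)
  haveI := H.nontrivial_fix
  choose c hc0 hc using fun a : {a : Additive A // a ≠ 0} => H.dmap_inverse hx a.2
  have hcinj : Function.Injective (fun a => (⟨c a, hc0 a⟩ : {a : Additive A // a ≠ 0})) := by
    intro a b hab
    have hab' : c a = c b := congrArg Subtype.val hab
    apply Subtype.ext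
    apply H.dmap_injective hxi
    ext l
    have h1 := hc a l
    have h2 := hc b l
    rw [← hab'] at h2
    rw [(H.dmap_bij hx (hc0 a)).1 (h1.trans h2.symm)]
  refine ⟨fun l => Subtype.ext (H.exp l), ?_, ?_, ?_, ?_⟩
  · rintro s ⟨a, rfl⟩ hs
    exact H.dmap_bij hx (fun h => hs (by rw [h, map_zero]))
  · rw [H.card]
    exact Nat.card_congr
      ((AddMonoidHom.ofInjective (H.dmap_injective hx)).symm.toEquiv.trans Additive.toMul)
  · rintro s ⟨d, rfl⟩ hd
    have hd0 : d ≠ 0 := fun h => hd (by rw [h, map_zero])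
    obtain ⟨a, ha⟩ := (Finite.injective_iff_surjective.1 hcinj) ⟨d, hd0⟩
    refine ⟨_, ⟨a.1, rfl⟩, fun y => ?_⟩
    have ha' : c a = d := congrArg Subtype.val ha
    have := hc a (H.dmap x d y)
    rw [ha'] at this
    exact (H.dmap_bij hx hd0).1 this
  · rintro t ⟨a, rfl⟩ ha
    have ha0 : a ≠ 0 := fun h => ha (by rw [h, map_zero])
    exact ⟨_, ⟨c ⟨a, ha0⟩, rfl⟩, hc ⟨a, ha0⟩⟩

theorem exists_natural [Fact p.Prime] :
    ∃ (F : Type) (_ : Field F) (_ : Fintype F), Fintype.card F = Nat.card A ∧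
      ∃ (ρ : P ≃* Matrix.SpecialLinearGroup (Fin 2) F) (ψ : V ≃+ (Fin 2 → F)),
        ∀ (g : P) (w : V), ψ (g • w) = (ρ g : Matrix (Fin 2) (Fin 2) F).mulVec (ψ w) := by
  classical
  obtain ⟨x, hx⟩ : ∃ x, x ∉ M := by
    by_contra hall
    push_neg at hall
    exact H.top (top_le_iff.1 fun g _ => hall g)
  haveI := H.nontrivial_fix
  obtain ⟨F, iF, iFt, e, e', hcF, hS1, hS2, hT1, hT2⟩ := (H.pair hx).exists_coords
  let Ψ : (Fin 2 → F) →+ V :=
    { toFun := fun v => (e (v 0) : V) + x • (e' (v 1) : V)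
      map_zero' := by simp
      map_add' := fun v w => by
        simp only [Pi.add_apply, map_add, AddSubgroup.coe_add, smul_add]; abel }
  have hΨ : ∀ v, Ψ v = (e (v 0) : V) + x • (e' (v 1) : V) := fun _ => rfl
  have hΨbij : Function.Bijective Ψ := by
    refine ⟨fun v w h => ?_, fun w => ?_⟩
    · obtain ⟨h1, h2⟩ := H.unique hx (e (v 0)).2 (e' (v 1)).2 (e (w 0)).2 (e' (w 1)).2 h
      funext i
      fin_cases i
      · exact e.injective (Subtype.ext h1)
      · exact e'.injective (Subtype.ext h2)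
    · obtain ⟨l, hl, l', hl', rfl⟩ := H.sum x hx w
      refine ⟨![e.symm ⟨l, hl⟩, e'.symm ⟨l', hl'⟩], ?_⟩
      simp [hΨ]
  let R : Subgroup P :=
    { carrier := {g | ∃ m : Matrix.SpecialLinearGroup (Fin 2) F,
        ∀ v, g • Ψ v = Ψ ((m : Matrix (Fin 2) (Fin 2) F).mulVec v)}
      one_mem' := ⟨1, fun v => by simp⟩
      mul_mem' := fun {g h} ⟨m, hm⟩ ⟨k, hk⟩ => ⟨m * k, fun v => by
        rw [mul_smul, hk, hm, Matrix.SpecialLinearGroup.coe_mul, Matrix.mulVec_mulVec]⟩
      inv_mem' := fun {g} ⟨m, hm⟩ => ⟨m⁻¹, fun v => by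
        rw [inv_smul_eq_iff, hm, Matrix.mulVec_mulVec, ← Matrix.SpecialLinearGroup.coe_mul,
          mul_inv_cancel, Matrix.SpecialLinearGroup.coe_one, Matrix.one_mulVec]⟩ }
  have hup : ∀ (a : A) (c : F), (∀ y, H.dmap x (Additive.ofMul a) (e' y) = e (c * y)) →
      ∀ v, (a : P) • Ψ v = Ψ ((up c : Matrix (Fin 2) (Fin 2) F).mulVec v) := by
    intro a c hc v
    have h1 := congrArg Subtype.val (hc (v 1))
    rw [H.dmap_apply, sub_eq_iff_eq_add] at h1
    simp only [hΨ, up_coe, smul_add, Matrix.mulVec, dotProduct, Fin.sum_univ_two]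
    simp only [toMul_ofMul] at h1
    rw [(e (v 0)).2 a a.2, h1]
    simp [map_add, add_assoc]
  have hlow : ∀ (a : A) (c : F), (∀ y, H.dmap x⁻¹ (Additive.ofMul a) (e y) = e' (c * y)) →
      ∀ v, (x * a * x⁻¹) • Ψ v = Ψ ((low c : Matrix (Fin 2) (Fin 2) F).mulVec v) := by
    intro a c hc v
    have h1 := congrArg Subtype.val (hc (v 0))
    rw [H.dmap_apply, sub_eq_iff_eq_add] at h1
    simp only [toMul_ofMul] at h1
    simp only [hΨ, low_coe, smul_add, Matrix.mulVec, dotProduct, Fin.sum_univ_two]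
    rw [mul_smul, mul_smul, mul_smul, mul_smul, inv_smul_smul, (e' (v 1)).2 a a.2, h1, smul_add,
      smul_inv_smul]
    simp [map_add, smul_add]
    abel
  have hR : ∀ g : P, ∃ m : Matrix.SpecialLinearGroup (Fin 2) F,
      ∀ v, g • Ψ v = Ψ ((m : Matrix (Fin 2) (Fin 2) F).mulVec v) := by
    intro g
    have hle : (⊤ : Subgroup P) ≤ R := by
      rw [← H.gen x hx]
      refine sup_le (fun a ha => ?_) ?_
      · obtain ⟨c, hc⟩ := hS1 _ ⟨Additive.ofMul ⟨a, ha⟩, rfl⟩
        exact ⟨up c, hup ⟨a, ha⟩ c hc⟩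
      · rintro - ⟨a, ha, rfl⟩
        obtain ⟨c, hc⟩ := hT1 _ ⟨Additive.ofMul ⟨a, ha⟩, rfl⟩
        exact ⟨low c, by simpa using hlow ⟨a, ha⟩ c hc⟩
    exact hle (mem_top g)
  choose ρ₀ hρ using hR
  have huniq : ∀ (g : P) (m : Matrix.SpecialLinearGroup (Fin 2) F),
      (∀ v, g • Ψ v = Ψ ((m : Matrix (Fin 2) (Fin 2) F).mulVec v)) → ρ₀ g = m := by
    intro g m hm
    refine Subtype.ext (Matrix.ext_of_mulVec_single fun i => ?_)
    exact hΨbij.1 ((hρ g _).symm.trans (hm _))
  let ρ₁ : P →* Matrix.SpecialLinearGroup (Fin 2) F :=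
    { toFun := ρ₀
      map_one' := huniq 1 1 (fun v => by simp)
      map_mul' := fun g h => huniq _ _ (fun v => by
        rw [mul_smul, hρ h, hρ g, Matrix.SpecialLinearGroup.coe_mul, Matrix.mulVec_mulVec]) }
  have hinj : Function.Injective ρ₁ := by
    rw [injective_iff_map_eq_one]
    intro g hg
    refine H.faithful g fun w => ?_
    obtain ⟨v, rfl⟩ := hΨbij.2 w
    rw [hρ g, show ρ₀ g = 1 from hg, Matrix.SpecialLinearGroup.coe_one, Matrix.one_mulVec]
  have hsurj : Function.Surjective ρ₁ := by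
    rw [← MonoidHom.range_eq_top, eq_top_iff, ← sup_eq_top (k := F)]
    refine sup_le (fun g hg => ?_) (fun g hg => ?_)
    · obtain ⟨c, rfl⟩ := mem_lower.1 hg
      obtain ⟨s, ⟨a, rfl⟩, hc⟩ := hT2 c
      exact ⟨_, huniq _ _ (hlow (Additive.toMul a) c hc)⟩
    · obtain ⟨c, rfl⟩ := mem_upper.1 hg
      obtain ⟨s, ⟨a, rfl⟩, hc⟩ := hS2 c
      exact ⟨_, huniq _ _ (hup (Additive.toMul a) c hc)⟩
  refine ⟨F, iF, iFt, hcF.trans H.card, MulEquiv.ofBijective ρ₁ ⟨hinj, hsurj⟩,
    (AddEquiv.ofBijective Ψ hΨbij).symm, fun g w => ?_⟩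
  rw [AddEquiv.symm_apply_eq]
  exact (congrArg (fun w : V => g • w)
    ((AddEquiv.ofBijective Ψ hΨbij).apply_symm_apply w).symm).trans (hρ g _)

end Line

/-! ### Reduction to the faithful module -/

variable (V) in
/-- A strict offender generating a `p`-minimal group with each conjugate outside the maximal subgroup. -/
structure Offender (p : ℕ) (T : Sylow p P) (M A : Subgroup P) : Prop where
  exp : ∀ w : V, p • w = 0
  faithful : ∀ g : P, (∀ w : V, g • w = w) → g = 1
  hover : CfsgLib.PMin.Over (T : Subgroup P) M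
  le : A ≤ T
  gen : ∀ x, x ∉ M → A ⊔ A.map (MulAut.conj x).toMonoidHom = ⊤
  quad : ∀ a ∈ A, ∀ b ∈ A, ∀ w : V, b • (a • w - w) = a • w - w
  bound : Nat.card V ≤ Nat.card A * Nat.card (fix V A)
  strict : ∀ B : Subgroup P, B ≤ A → B ≠ ⊥ → B ≠ A →
    Nat.card B * Nat.card (fix V B) < Nat.card A * Nat.card (fix V A)
  moved : ∃ v ∈ fix V (T : Subgroup P), ∃ g : P, g • v ≠ v

variable (V) in
/-- `[V, A]`. -/
def com (A : Subgroup P) : AddSubgroup V :=
  AddSubgroup.closure {x | ∃ a ∈ A, ∃ v : V, x = a • v - v}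

namespace Offender

variable {p : ℕ} [Fact p.Prime] {T : Sylow p P} {M A : Subgroup P} (H : Offender V p T M A)

include H

theorem core_le : ∀ a ∈ A, a ∉ Cfsg.pCore p P → ∃ y : P, y * a * y⁻¹ ∉ M := by
  intro a ha hQ
  by_contra hall
  push_neg at hall
  have hN : a ∈ M.normalCore := fun b => hall b
  exact hQ (CfsgLib.PMin.normal_inf_le_pCore H.hover M.normalCore M.normalCore_le ⟨hN, H.le ha⟩)

theorem exists_natural :
    ∃ (F : Type) (_ : Field F) (_ : Fintype F), Fintype.card F = Nat.card A ∧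
      ∃ (ρ : P ≃* Matrix.SpecialLinearGroup (Fin 2) F) (ψ : V →+ (Fin 2 → F)),
        Function.Surjective ψ ∧ (∀ w, ψ w = 0 ↔ w ∈ fix V (⊤ : Subgroup P)) ∧
        (∀ (g : P) (w : V), ψ (g • w) = (ρ g : Matrix (Fin 2) (Fin 2) F).mulVec (ψ w)) ∧
        fix V A ≤ com V A ⊔ fix V (⊤ : Subgroup P) := by
  classical
  have hAM : A ≤ M := H.le.trans H.hover.1
  obtain ⟨x₀, hx₀⟩ : ∃ x, x ∉ M := by
    by_contra hall
    push_neg at hall
    exact H.hover.2.1 (top_le_iff.1 fun g _ => hall g)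
  set Q := Cfsg.pCore p P with hQdef
  have hQT : Q ≤ T := CfsgLib.Fitting.pCore_le_sylow T
  haveI hQn : Q.Normal := CfsgLib.Solvable.pCore_normal p
  set Z := fix V (⊤ : Subgroup P) with hZdef
  have hZA : Z ≤ fix V A := fun w hw a _ => hw a (mem_top a)
  obtain ⟨v₀, hv₀, g₀, hg₀⟩ := H.moved
  let U : AddSubgroup V := AddSubgroup.closure (Set.range fun g : P => g • v₀)
  have hv₀U : v₀ ∈ U := AddSubgroup.subset_closure ⟨1, one_smul _ _⟩
  have hUinv : ∀ (g : P), ∀ u ∈ U, g • u ∈ U := by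
    intro g u hu
    induction hu using AddSubgroup.closure_induction with
    | mem y hy =>
      obtain ⟨h, rfl⟩ := hy
      exact AddSubgroup.subset_closure ⟨g * h, mul_smul g h v₀⟩
    | zero => rw [smul_zero]; exact U.zero_mem
    | add y z _ _ hy hz => rw [smul_add]; exact U.add_mem hy hz
    | neg y _ hy => rw [smul_neg]; exact U.neg_mem hy
  have hQU : ∀ q ∈ Q, ∀ u ∈ U, q • u = u := by
    intro q hq u hu
    induction hu using AddSubgroup.closure_induction with
    | mem y hy =>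
      obtain ⟨h, rfl⟩ := hy
      have hq' : h⁻¹ * q * h ∈ Q := by simpa using hQn.conj_mem q hq h⁻¹
      have e := congrArg (h • ·) (hv₀ _ (hQT hq'))
      simpa [mul_smul, smul_inv_smul] using e
    | zero => rw [smul_zero]
    | add y z _ _ hy hz => rw [smul_add, hy, hz]
    | neg y _ hy => rw [smul_neg, hy]
  -- `U` is the sum of its parts on two complementary lines
  have hsumU : ∀ x, x ∉ M → ∀ u ∈ U, ∃ l ∈ U ⊓ fix V A, ∃ l' ∈ U ⊓ fix V A, u = l + x • l' := by
    intro x hx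
    let S : AddSubgroup V :=
      (U ⊓ fix V A) ⊔ (U ⊓ fix V A).map (DistribSMul.toAddMonoidHom V x)
    have hmemS : ∀ w, w ∈ S ↔ ∃ l ∈ U ⊓ fix V A, ∃ l' ∈ U ⊓ fix V A, w = l + x • l' := by
      intro w
      rw [AddSubgroup.mem_sup]
      constructor
      · rintro ⟨l, hl, y, ⟨l', hl', rfl⟩, rfl⟩
        exact ⟨l, hl, l', hl', rfl⟩
      · rintro ⟨l, hl, l', hl', rfl⟩
        exact ⟨l, hl, _, ⟨l', hl', rfl⟩, rfl⟩
    have hd : ∀ a ∈ A, ∀ w ∈ U, a • w - w ∈ U ⊓ fix V A := fun a ha w hw =>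
      ⟨U.sub_mem (hUinv a w hw) hw, fun b hb => H.quad a ha b hb w⟩
    have hinv := invariant_of_gen (H.gen x hx) S (fun a ha w hw => ?_) (fun a ha w hw => ?_)
    · intro u hu
      rw [← hmemS]
      induction hu using AddSubgroup.closure_induction with
      | mem y hy =>
        obtain ⟨g, rfl⟩ := hy
        exact hinv g _ ((hmemS _).2 ⟨v₀, ⟨hv₀U, fun a ha => hv₀ a (H.le ha)⟩, 0,
          (U ⊓ fix V A).zero_mem, by simp⟩)
      | zero => exact S.zero_mem
      | add y z _ _ hy hz => exact S.add_mem hy hz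
      | neg y _ hy => exact S.neg_mem hy
    · obtain ⟨l, hl, l', hl', rfl⟩ := (hmemS w).1 hw
      refine (hmemS _).2 ⟨l + (a • (x • l') - x • l'),
        (U ⊓ fix V A).add_mem hl (hd a ha _ (hUinv x _ hl'.1)), l', hl', ?_⟩
      rw [smul_add, hl.2 a ha]; abel
    · obtain ⟨l, hl, l', hl', rfl⟩ := (hmemS w).1 hw
      refine (hmemS _).2 ⟨l, hl, l' + (a • (x⁻¹ • l) - x⁻¹ • l),
        (U ⊓ fix V A).add_mem hl' (hd a ha _ (hUinv x⁻¹ _ hl.1)), ?_⟩
      rw [smul_add, mul_smul, mul_smul, mul_smul, mul_smul, inv_smul_smul, hl'.2 a ha,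
        smul_add, smul_sub, smul_inv_smul]
      abel
  have hkeyU : ∀ a ∈ A, a ∉ Q → ∀ u ∈ U, a • u - u ∈ Z → u ∈ fix V A := by
    intro a ha haQ u hu hz
    obtain ⟨y, hy⟩ := H.core_le a ha haQ
    have hyM : y ∉ M := fun h => hy (M.mul_mem (M.mul_mem h (hAM ha)) (M.inv_mem h))
    obtain ⟨l, hl, l', hl', rfl⟩ := hsumU y⁻¹ (fun h => hyM (inv_inv y ▸ M.inv_mem h)) u hu
    have hz' : a • (y⁻¹ • l') - y⁻¹ • l' ∈ Z := by
      have e : a • (l + y⁻¹ • l') - (l + y⁻¹ • l') = a • (y⁻¹ • l') - y⁻¹ • l' := by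
        rw [smul_add, hl.2 a ha]; abel
      rwa [e] at hz
    have hl'Z : l' ∈ Z := by
      refine fix_of_conj (H.gen (y * a * y⁻¹)⁻¹ fun h => hy (by simpa using M.inv_mem h)) hl'.2 ?_
      rw [inv_inv, mul_smul, mul_smul]
      have e : y • a • y⁻¹ • l' = l' + (a • (y⁻¹ • l') - y⁻¹ • l') := by
        conv_lhs => rw [← sub_add_cancel (a • y⁻¹ • l') (y⁻¹ • l')]
        rw [smul_add, smul_inv_smul, hz' y (mem_top _), add_comm]
      rw [e]
      exact (fix V A).add_mem hl'.2 (hZA hz')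
    exact (fix V A).add_mem hl.2 (by rw [hl'Z y⁻¹ (mem_top _)]; exact hl'.2)
  have hUA : ¬ U ≤ fix V A := fun h => hg₀
    (fix_of_conj (H.gen x₀ hx₀) (h hv₀U) (h (hUinv _ _ hv₀U)) g₀ (mem_top _))
  obtain ⟨u₀, hu₀, hu₀A⟩ := SetLike.not_le_iff_exists.1 hUA
  have hAQ : ¬ A ≤ Q := by
    intro hle
    refine H.hover.2.1 (top_le_iff.1 ?_)
    rw [← H.gen x₀ hx₀]
    refine sup_le hAM ?_
    rintro - ⟨a, ha, rfl⟩
    exact H.hover.1 (hQT (hQn.conj_mem a (hle ha) x₀))
  let π : V →+ V ⧸ Z := QuotientAddGroup.mk' Z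
  have hπ : ∀ w, π w = 0 ↔ w ∈ Z := fun w => QuotientAddGroup.eq_zero_iff w
  let φ : Additive A →+ V ⧸ Z :=
    { toFun := fun a => π (((Additive.toMul a : A) : P) • u₀ - u₀)
      map_zero' := by simp
      map_add' := fun a b => by
        rw [← map_add]
        congr 1
        have e := H.quad _ (Additive.toMul b).2 _ (Additive.toMul a).2 u₀
        rw [smul_sub] at e
        rw [toMul_add, Subgroup.coe_mul, mul_smul, eq_add_of_sub_eq e]
        abel }
  set Lb := (U ⊓ fix V A).map π with hLb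
  have hrange : φ.range ≤ Lb := by
    rintro - ⟨a, rfl⟩
    exact ⟨_, ⟨U.sub_mem (hUinv _ _ hu₀) hu₀,
      fun b hb => H.quad _ (Additive.toMul a).2 b hb u₀⟩, rfl⟩
  set B := A ⊓ Q with hBdef
  have hker : Nat.card φ.ker ≤ Nat.card B := by
    refine Nat.card_le_card_of_injective (fun a => (⟨((Additive.toMul a.1 : A) : P),
      (Additive.toMul a.1).2, ?_⟩ : B)) (fun a b h => ?_)
    · by_contra haQ
      exact hu₀A (hkeyU _ (Additive.toMul a.1).2 haQ u₀ hu₀ ((hπ _).1 a.2))
    · exact Subtype.ext (Additive.toMul.injective (Subtype.ext (congrArg (fun t : B => (t : P)) h :)))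
  have hcardA : Nat.card A = Nat.card φ.ker * Nat.card φ.range := by
    rw [← Nat.card_congr (QuotientAddGroup.quotientKerEquivRange φ).toEquiv, mul_comm,
      ← AddSubgroup.card_eq_card_quotient_mul_card_addSubgroup]
    exact (Nat.card_congr Additive.toMul).symm
  have hA1 : Nat.card A ≤ Nat.card B * Nat.card Lb := by
    rw [hcardA]
    exact Nat.mul_le_mul hker (AddSubgroup.card_le_of_le hrange)
  -- sections of the quotient
  have hsec : ∀ K : AddSubgroup V, K ≤ fix V A → ∀ C : AddSubgroup V,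
      (∀ l ∈ K, x₀ • l ∈ C) → fix V A ≤ C → ∃ f : K.map π × fix V A → C, Function.Injective f ∧
        ∀ z, ∃ l ∈ K, ∃ m ∈ fix V A, (f z : V) = x₀ • l + m := by
    intro K hK C hC hAC
    have hex : ∀ z : K.map π, ∃ l, l ∈ K ∧ π l = z := fun z => z.2
    choose r hr hπr using hex
    refine ⟨fun z => ⟨x₀ • r z.1 + z.2, C.add_mem (hC _ (hr _)) (hAC z.2.2)⟩, fun z w h => ?_,
      fun z => ⟨_, hr z.1, _, z.2.2, rfl⟩⟩
    have h' : x₀ • r z.1 + (z.2 : V) = x₀ • r w.1 + w.2 := congrArg Subtype.val h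
    have e : x₀ • (r z.1 - r w.1) = (w.2 : V) - z.2 := by
      rw [smul_sub, sub_eq_sub_iff_add_eq_add, h', add_comm]
    have hxi : x₀⁻¹ ∉ M := fun h => hx₀ (inv_inv x₀ ▸ M.inv_mem h)
    have hZ : r z.1 - r w.1 ∈ Z := fix_of_conj (H.gen _ hxi) ((fix V A).sub_mem (hK (hr _)) (hK (hr _)))
      (by rw [inv_inv, e]; exact (fix V A).sub_mem w.2.2 z.2.2)
    have h1 : z.1 = w.1 := by
      apply Subtype.ext
      rw [← hπr, ← hπr, ← sub_eq_zero, ← map_sub]
      exact (hπ _).2 hZ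
    refine Prod.ext h1 (Subtype.ext ?_)
    rw [h1] at h'
    exact add_left_cancel h'
  have hfixle : fix V A ≤ fix V B := fun w hw a ha => hw a ha.1
  have hB : B = ⊥ := by
    by_contra hne
    have hBA : B ≠ A := fun h => hAQ (inf_eq_left.1 h)
    obtain ⟨f, hf, -⟩ := hsec (U ⊓ fix V A) inf_le_right (fix V B)
      (fun l hl a ha => hQU a ha.2 _ (hUinv _ _ hl.1)) hfixle
    have h1 := Nat.card_le_card_of_injective f hf
    rw [Nat.card_prod, ← hLb] at h1
    have h2 := H.strict B inf_le_left hne hBA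
    have h3 := Nat.mul_le_mul_right (Nat.card (fix V A)) hA1
    have h4 := Nat.mul_le_mul_left (Nat.card B) h1
    rw [mul_assoc] at h3
    omega
  have hnQ : ∀ a ∈ A, a ≠ 1 → a ∉ Q := fun a ha h1 haQ => h1 (by
    have : a ∈ B := ⟨ha, haQ⟩
    rwa [hB, mem_bot] at this)
  rw [hB, Subgroup.card_bot] at hA1 hker
  rw [one_mul] at hA1
  have htop : Nat.card (⊤ : AddSubgroup V) = Nat.card V := AddSubgroup.card_top
  obtain ⟨f, hf, hfe⟩ := hsec (U ⊓ fix V A) inf_le_right ⊤ (fun _ _ => trivial) le_top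
  have hposA : 0 < Nat.card (fix V A) := Nat.card_pos
  have hf1 := Nat.card_le_card_of_injective f hf
  rw [Nat.card_prod, htop, ← hLb] at hf1
  have hLbA : Nat.card Lb = Nat.card A :=
    le_antisymm (Nat.le_of_mul_le_mul_right (hf1.trans H.bound) hposA) hA1
  have hfb : Function.Bijective f := by
    refine (Nat.bijective_iff_injective_and_card _).2 ⟨hf, le_antisymm
      (Nat.card_le_card_of_injective f hf) ?_⟩
    rw [Nat.card_prod, htop, ← hLb, hLbA]
    exact H.bound
  obtain ⟨f2, hf2, -⟩ := hsec (fix V A) le_rfl ⊤ (fun _ _ => trivial) le_top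
  have hf3 := Nat.card_le_card_of_injective f2 hf2
  rw [Nat.card_prod, htop] at hf3
  set Fb := (fix V A).map π with hFb
  have hFbA : Nat.card Fb ≤ Nat.card A := Nat.le_of_mul_le_mul_right (hf3.trans H.bound) hposA
  have hLF : Lb = Fb :=
    AddSubgroup.eq_of_le_of_card_ge (AddSubgroup.map_mono inf_le_right) (hFbA.trans hLbA.ge)
  have hφker : Nat.card φ.ker = 1 := le_antisymm hker Nat.card_pos
  have hRF : φ.range = Fb := by
    refine AddSubgroup.eq_of_le_of_card_ge (hLF ▸ hrange) ?_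
    rw [hφker, one_mul] at hcardA
    exact hFbA.trans hcardA.le
  have hcover : ∀ m ∈ fix V A, ∃ a ∈ A, ∃ z ∈ Z, m = (a • u₀ - u₀) + z := by
    intro m hm
    have hm' : π m ∈ φ.range := hRF ▸ ⟨m, hm, rfl⟩
    obtain ⟨a, ha⟩ := hm'
    refine ⟨_, (Additive.toMul a).2, m - (((Additive.toMul a : A) : P) • u₀ - u₀), (hπ _).1 ?_,
      by abel⟩
    rw [map_sub, ← ha]
    exact sub_self _
  -- every element is congruent to an element of `U`
  have hVUA : ∀ v : V, ∃ u ∈ U, ∃ m ∈ fix V A, v = u + m := by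
    intro v
    obtain ⟨z, hz⟩ := hfb.2 ⟨v, trivial⟩
    obtain ⟨l, hl, m, hm, e⟩ := hfe z
    exact ⟨_, hUinv x₀ l hl.1, m, hm, (congrArg Subtype.val hz).symm.trans e⟩
  have hQ1 : ∀ q ∈ Q, q = 1 := by
    intro q hq
    refine H.faithful q fun v => ?_
    obtain ⟨u, hu, m, hm, rfl⟩ := hVUA v
    obtain ⟨a, -, z, hz, rfl⟩ := hcover m hm
    rw [smul_add, smul_add, hQU q hq u hu, hQU q hq _ (U.sub_mem (hUinv a _ hu₀) hu₀),
      hz q (mem_top _)]
  have hkeyV : ∀ a ∈ A, a ≠ 1 → ∀ v : V, a • v - v ∈ Z → v ∈ fix V A := by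
    intro a ha h1 v hv
    obtain ⟨u, hu, m, hm, rfl⟩ := hVUA v
    refine (fix V A).add_mem (hkeyU a ha (hnQ a ha h1) u hu ?_) hm
    have e : a • (u + m) - (u + m) = a • u - u := by rw [smul_add, hm a ha]; abel
    rwa [e] at hv
  have hsumV : ∀ x, x ∉ M → ∀ v : V, ∃ l ∈ fix V A, ∃ l' ∈ fix V A, v = l + x • l' := by
    intro x hx v
    obtain ⟨u, hu, m, hm, rfl⟩ := hVUA v
    obtain ⟨l, hl, l', hl', rfl⟩ := hsumU x hx u hu
    exact ⟨l + m, (fix V A).add_mem hl.2 hm, l', hl'.2, by abel⟩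
  -- the action on the quotient
  letI act : DistribMulAction P (V ⧸ Z) :=
    { smul := fun g w => QuotientAddGroup.map Z Z (DistribSMul.toAddMonoidHom V g)
        (fun z hz => by
          show g • z ∈ Z
          rw [hz g (mem_top _)]; exact hz) w
      one_smul := fun w => by
        obtain ⟨v, rfl⟩ := QuotientAddGroup.mk_surjective w
        exact congrArg π (one_smul P v)
      mul_smul := fun g h w => by
        obtain ⟨v, rfl⟩ := QuotientAddGroup.mk_surjective w
        exact congrArg π (mul_smul g h v)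
      smul_zero := fun g => map_zero (QuotientAddGroup.map Z Z (DistribSMul.toAddMonoidHom V g) _)
      smul_add := fun g u v =>
        map_add (QuotientAddGroup.map Z Z (DistribSMul.toAddMonoidHom V g) _) u v }
  have hact : ∀ (g : P) (v : V), g • π v = π (g • v) := fun _ _ => rfl
  have hsurj : Function.Surjective π := QuotientAddGroup.mk'_surjective Z
  have hne : A ≠ ⊥ := fun h => hAQ (h.le.trans bot_le)
  obtain ⟨⟨a₁, ha₁⟩, ha₁1'⟩ := Subgroup.ne_bot_iff_exists_ne_one.1 hne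
  have ha₁1 : a₁ ≠ 1 := fun e => ha₁1' (Subtype.ext e)
  have hfixW : fix (V ⧸ Z) A = Fb := by
    refine le_antisymm (fun w hw => ?_) ?_
    · obtain ⟨v, rfl⟩ := hsurj w
      refine ⟨v, hkeyV a₁ ha₁ ha₁1 v ?_, rfl⟩
      have := hw a₁ ha₁
      rw [hact, ← sub_eq_zero, ← map_sub] at this
      exact (hπ _).1 this
    · rintro - ⟨v, hv, rfl⟩ a ha
      rw [hact, hv a ha]
  have hline : Line (V ⧸ Z) p A M :=
    { exp := fun w => by
        obtain ⟨v, rfl⟩ := hsurj w
        rw [← map_nsmul, H.exp, map_zero]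
      faithful := fun g hg => by
        let K : Subgroup P :=
          { carrier := {g | ∀ w : V ⧸ Z, g • w = w}
            one_mem' := fun w => one_smul _ _
            mul_mem' := fun {a b} ha hb w => by rw [mul_smul, hb, ha]
            inv_mem' := fun {a} ha w => by rw [inv_smul_eq_iff, ha] }
        have hKn : K.Normal := ⟨fun k hk g w => by rw [mul_smul, mul_smul, hk, smul_inv_smul]⟩
        have hKp : IsPGroup p K := fun k => ⟨1, by
          refine Subtype.ext (H.faithful _ fun v => ?_)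
          have hz : (k : P) • v - v ∈ Z := (hπ _).1 (by
            rw [map_sub, ← hact, k.2, sub_self])
          have hn : ∀ m : ℕ, (k : P) ^ m • v = v + m • ((k : P) • v - v) := by
            intro m
            induction m with
            | zero => simp
            | succ m ih =>
              rw [pow_succ', mul_smul, ih, smul_add, succ_nsmul,
                (Z.nsmul_mem hz m) (k : P) (mem_top _)]
              abel
          simpa [H.exp] using hn p⟩
        exact hQ1 g (CfsgLib.Solvable.le_pCore p hKn hKp (show g ∈ K from hg))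
      top := H.hover.2.1
      gen := H.gen
      quad := fun a ha b hb w => by
        obtain ⟨v, rfl⟩ := hsurj w
        rw [hact, ← map_sub, hact, H.quad a ha b hb v]
      fixAll := fun w hw => by
        obtain ⟨v, rfl⟩ := hsurj w
        have hA' : v ∈ fix V A := hkeyV a₁ ha₁ ha₁1 v ((hπ _).1 (by
          rw [map_sub, ← hact, hw a₁ (mem_top _), sub_self]))
        have hx : x₀⁻¹ • v ∈ fix V A := hkeyV a₁ ha₁ ha₁1 _ ((hπ _).1 (by
          rw [map_sub, ← hact, ← hact, hw x₀⁻¹ (mem_top _), hw a₁ (mem_top _), sub_self]))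
        exact (hπ v).2 (fix_of_conj (H.gen x₀ hx₀) hA' hx)
      card := by
        rw [hfixW, ← hLF, hLbA]
      key := fun a ha h1 w hw => by
        obtain ⟨v, rfl⟩ := hsurj w
        rw [hfixW]
        refine ⟨v, hkeyV a ha h1 v ?_, rfl⟩
        rw [hact, ← sub_eq_zero, ← map_sub] at hw
        exact (hπ _).1 hw
      sum := fun x hx w => by
        obtain ⟨v, rfl⟩ := hsurj w
        obtain ⟨l, hl, l', hl', rfl⟩ := hsumV x hx v
        exact ⟨π l, hfixW ▸ ⟨l, hl, rfl⟩, π l', hfixW ▸ ⟨l', hl', rfl⟩, map_add _ _ _⟩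
      nontriv := hne
      le := hAM }
  obtain ⟨F, iF, iFt, hcF, ρ, ψ, hψ⟩ := hline.exists_natural
  refine ⟨F, iF, iFt, hcF, ρ, ψ.toAddMonoidHom.comp π, ψ.surjective.comp hsurj,
    fun w => ?_, fun g w => ?_, fun m hm => ?_⟩
  · exact (map_eq_zero_iff ψ ψ.injective).trans (hπ w)
  · exact (congrArg ψ (hact g w).symm).trans (hψ g (π w))
  · obtain ⟨a, ha, z, hz, rfl⟩ := hcover m hm
    exact AddSubgroup.add_mem_sup (AddSubgroup.subset_closure ⟨a, ha, u₀, rfl⟩) hz

end Offender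

end CfsgLib.OffGen
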