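import Cfsg.Agent.Coprime.Generation
import Cfsg.Agent.InvChar.UniqueInvolution
import Cfsg.Agent.Solvable.PGroupBasic
import Cfsg.Agent.Solvable.Factor
import Cfsg.Prelude.Def_Transfer
import Mathlib.GroupTheory.SpecificGroups.Cyclic
import Mathlib.GroupTheory.SpecificGroups.Quaternion
import Mathlib.GroupTheory.Nilpotent
import Mathlib.Algebra.Group.Pointwise.Set.Basic
import Mathlib.Tactic.LinearCombination

/-!
A noncyclic abelian group of odd order acting on a 2-group so that no nontrivial element fixes two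
involutions: the group has order 9 and the 2-group is extraspecial of order `2^5`, `2^7` or `2^9`.
-/

set_option autoImplicit false
set_option linter.style.haveILetI false
set_option linter.unusedSectionVars false

namespace CfsgLib.OneInvol

open Subgroup CfsgLib.Coprime
open scoped commutatorElement Pointwise

variable {W : Type*} [Group W] [Finite W]

theorem dvd_eight {d : ℕ} (h : d ∣ 8) : d = 1 ∨ d = 2 ∨ d = 4 ∨ d = 8 := by
  obtain ⟨j, hj, rfl⟩ := (Nat.dvd_prime_pow Nat.prime_two).1 (show d ∣ 2 ^ 3 by norm_num; exact h)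
  interval_cases j <;> simp

theorem fixed_of_index_two {A : Type*} [Group A] [Finite A] [MulDistribMulAction A W]
    (hW : IsPGroup 2 W) (hA : Odd (Nat.card A)) {N U : Subgroup W} (hNU : N ≤ U)
    (hcard : Nat.card U = 2 * Nat.card N) (hU : IsInvariant A U)
    (hN : ∀ a : A, ∀ n ∈ N, a • n = n) : ∀ a : A, ∀ u ∈ U, a • u = u := by
  intro a u hu
  have hidx : (N.subgroupOf U).index = 2 := by
    have h1 := Subgroup.card_mul_index (N.subgroupOf U)
    rw [Nat.card_congr (subgroupOfEquivOfLe hNU).toEquiv, hcard, mul_comm 2] at h1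
    exact Nat.eq_of_mul_eq_mul_left Nat.card_pos h1
  obtain ⟨k, hk⟩ := IsPGroup.iff_card.1 (hW.to_subgroup N)
  refine smul_eq_self_of_stabilizes N ?_ u (fun b => ?_) hN a
  · rw [hk]
    exact Nat.Coprime.pow_right _ (Nat.coprime_two_right.2 hA)
  · have hbu : b • u ∈ U := hU b u hu
    have h2 := mul_mem_iff_of_index_two hidx (a := (⟨u, hu⟩ : ↥U)⁻¹) (b := ⟨b • u, hbu⟩)
    rw [inv_mem_iff] at h2
    simp only [mem_subgroupOf, Subgroup.coe_mul, InvMemClass.coe_inv] at h2
    refine h2.2 ⟨fun h => by rw [hN b u h]; exact h, fun h => ?_⟩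
    have := hN b⁻¹ _ h
    rw [inv_smul_smul] at this
    rw [this]
    exact h

theorem smul_eq_of_fix {A : Type*} [Group A] [MulDistribMulAction A W] {f : A} {x : W}
    (hf : Odd (orderOf f)) (h : f • f • x = x) : f • x = x := by
  obtain ⟨k, hk⟩ := hf
  have hiter : ∀ j : ℕ, f ^ (2 * j) • x = x := by
    intro j
    induction j with
    | zero => simp
    | succ j ih =>
      rw [show 2 * (j + 1) = 2 * j + 2 by ring, pow_add, mul_smul, pow_two, mul_smul, h, ih]
  have h3 : f ^ (2 * (k + 1)) • x = x := hiter (k + 1)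
  rw [show 2 * (k + 1) = (2 * k + 1) + 1 by ring, pow_succ, mul_smul, ← hk, pow_orderOf_eq_one,
    one_smul] at h3
  exact h3

section

variable {A : Type*} [CommGroup A] [Finite A] [MulDistribMulAction A W]

variable (W A) in
/-- The standing hypotheses. -/
structure Setup : Prop where
  hW : IsPGroup 2 W
  odd : Odd (Nat.card A)
  faith : ∀ a : A, (∀ w : W, a • w = w) → a = 1
  nc : ¬ IsCyclic A
  one_invol : ∀ a : A, a ≠ 1 → ∀ x y : W, orderOf x = 2 → orderOf y = 2 →
    a • x = x → a • y = y → x = y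

/-- The fixed points of one element. -/
def fix (a : A) : Subgroup W where
  carrier := {w | a • w = w}
  mul_mem' := fun {u v} (hu : a • u = u) (hv : a • v = v) => by
    show a • (u * v) = u * v
    rw [smul_mul', hu, hv]
  one_mem' := smul_one a
  inv_mem' := fun {u} (hu : a • u = u) => by
    show a • u⁻¹ = u⁻¹
    rw [smul_inv', hu]

theorem mem_fix {a : A} {w : W} : w ∈ fix a ↔ a • w = w := Iff.rfl

theorem isInvariant_fix (a : A) : IsInvariant A (fix a : Subgroup W) := fun b w hw => by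
  rw [mem_fix] at hw ⊢
  rw [smul_smul, mul_comm, mul_smul, hw]

namespace Setup

variable (S : Setup W A)

include S

theorem coprime (U : Subgroup W) : (Nat.card A).Coprime (Nat.card U) := by
  obtain ⟨k, hk⟩ := IsPGroup.iff_card.1 (S.hW.to_subgroup U)
  rw [hk]
  exact Nat.Coprime.pow_right _ (Nat.coprime_two_right.2 S.odd)

theorem odd_orderOf (a : A) : Odd (orderOf a) := S.odd.of_dvd_nat (orderOf_dvd_natCard a)

/-- Coprime generation inside an invariant subgroup. -/
theorem le_of_fix_le {U K : Subgroup W} (hU : IsInvariant A U)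
    (hK : ∀ a : A, a ≠ 1 → fix a ⊓ U ≤ K) : U ≤ K := by
  letI : MulDistribMulAction A ↥U :=
    { smul := fun a u => ⟨a • (u : W), hU a u u.2⟩
      one_smul := fun u => Subtype.ext (one_smul A (u : W))
      mul_smul := fun a b u => Subtype.ext (mul_smul a b (u : W))
      smul_mul := fun a u v => Subtype.ext (smul_mul' a (u : W) (v : W))
      smul_one := fun a => Subtype.ext (smul_one a) }
  have htop := closure_fixed_eq_top (A := A) (G := ↥U) S.nc (S.coprime U)
  intro u hu
  have hle : closure {g : ↥U | ∃ a : A, a ≠ 1 ∧ a • g = g} ≤ K.subgroupOf U := by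
    rw [closure_le]
    rintro g ⟨a, ha, hga⟩
    exact mem_subgroupOf.2 (hK a ha ⟨congrArg Subtype.val hga, g.2⟩)
  exact mem_subgroupOf.1 (hle (htop.ge (mem_top (⟨u, hu⟩ : ↥U))))

theorem smul_invol {a : A} (ha : a ≠ 1) {x : W} (hx : orderOf x = 2) (hax : a • x = x) (b : A) :
    b • x = x := by
  refine S.one_invol a ha (b • x) x ?_ hx ?_ hax
  · rw [← hx]
    exact orderOf_injective (MulDistribMulAction.toMonoidHom W b) (MulAction.injective b) x
  · rw [smul_smul, mul_comm, mul_smul, hax]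

theorem exists_z : ∃ z : W, orderOf z = 2 ∧ z ∈ center W ∧ (∀ b : A, b • z = z) ∧
    ∀ a : A, a ≠ 1 → ∀ x : W, orderOf x = 2 → a • x = x → x = z := by
  have hAnt : Nontrivial A := by
    by_contra h
    rw [not_nontrivial_iff_subsingleton] at h
    exact S.nc isCyclic_of_subsingleton
  obtain ⟨a₀, ha₀⟩ := exists_ne (1 : A)
  have hWnt : Nontrivial W := by
    by_contra h
    rw [not_nontrivial_iff_subsingleton] at h
    exact ha₀ (S.faith a₀ fun w => Subsingleton.elim _ _)
  let Z : Subgroup W :=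
    { carrier := {x | x ∈ center W ∧ x * x = 1}
      mul_mem' := fun {u v} hu hv => ⟨mul_mem hu.1 hv.1, by
        rw [show u * v * (u * v) = u * u * (v * v) by
          rw [mul_assoc, ← mul_assoc v, mem_center_iff.1 hu.1 v, mul_assoc, ← mul_assoc u]]
        rw [hu.2, hv.2, mul_one]⟩
      one_mem' := ⟨one_mem _, mul_one 1⟩
      inv_mem' := fun {u} hu => ⟨inv_mem hu.1, by rw [← mul_inv_rev, hu.2, inv_one]⟩ }
  have hZ : IsInvariant A Z := fun b u hu => ⟨by
    refine mem_center_iff.2 fun g => ?_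
    have := congrArg (b • ·) (mem_center_iff.1 hu.1 (b⁻¹ • g))
    simpa [smul_mul'] using this, by rw [← smul_mul', hu.2, smul_one]⟩
  obtain ⟨a, ha, z, hz, hz1, haz⟩ :
      ∃ a : A, a ≠ 1 ∧ ∃ z ∈ Z, z ≠ 1 ∧ a • z = z := by
    by_contra hno
    push Not at hno
    have hbot : Z ≤ ⊥ := S.le_of_fix_le hZ fun a ha u hu => by
      by_contra h1
      exact hno a ha u hu.2 (mt mem_bot.2 h1) hu.1
    haveI := S.hW.center_nontrivial
    obtain ⟨⟨c, hc⟩, hc1⟩ := exists_ne (1 : center W)
    obtain ⟨k, hk⟩ := IsPGroup.iff_orderOf.1 (S.hW.to_subgroup (center W)) ⟨c, hc⟩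
    rcases k with _ | k
    · exact hc1 (orderOf_eq_one_iff.1 (by rw [hk, pow_zero]))
    · rw [Subgroup.orderOf_mk] at hk
      have h2 : c ^ 2 ^ k ∈ Z := ⟨pow_mem hc _, by
        rw [← pow_add, ← two_mul, ← pow_succ', ← hk, pow_orderOf_eq_one]⟩
      have h3 := mem_bot.1 (hbot h2)
      have h4 := orderOf_dvd_of_pow_eq_one h3
      rw [hk] at h4
      exact absurd (Nat.le_of_dvd (by positivity) h4) (by
        simp [pow_succ])
  have hzo : orderOf z = 2 := orderOf_eq_prime (by rw [pow_two]; exact hz.2) hz1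
  refine ⟨z, hzo, hz.1, S.smul_invol ha hzo haz, fun b hb x hx hbx => ?_⟩
  exact S.one_invol b hb x z hx hzo hbx (S.smul_invol ha hzo haz b)

end Setup

variable (W A) in
/-- The hypotheses with the distinguished involution. -/
structure Data (z : W) : Prop extends Setup W A where
  zord : orderOf z = 2
  zcen : z ∈ center W
  zfix : ∀ b : A, b • z = z
  zuniq : ∀ a : A, a ≠ 1 → ∀ x : W, orderOf x = 2 → a • x = x → x = z

namespace Data

variable {z : W} (D : Data W A z)

include D

theorem zne : z ≠ 1 := fun h => by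
  have := D.zord
  rw [h, orderOf_one] at this
  exact absurd this (by norm_num)

theorem card_zpowers : Nat.card (zpowers z) = 2 := by rw [Nat.card_zpowers, D.zord]

theorem mem_zpowers_iff' {x : W} : x ∈ zpowers z ↔ x = 1 ∨ x = z := by
  constructor
  · intro hx
    rw [← mem_powers_iff_mem_zpowers, Submonoid.mem_powers_iff] at hx
    obtain ⟨n, rfl⟩ := hx
    rw [← pow_mod_orderOf, D.zord]
    rcases Nat.mod_two_eq_zero_or_one n with h | h <;> simp [h]
  · rintro (rfl | rfl)
    exacts [one_mem _, mem_zpowers x]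

theorem zpowers_le_fix (a : A) : zpowers z ≤ fix a := zpowers_le.2 (D.zfix a)

theorem invol_mem {U : Subgroup W} (hU : IsInvariant A U) (hab : IsMulCommutative ↥U) :
    ∀ x ∈ U, orderOf x = 2 → x = z := by
  let Z : Subgroup W :=
    { carrier := {x | x ∈ U ∧ x * x = 1}
      mul_mem' := fun {u v} hu hv => ⟨mul_mem hu.1 hv.1, by
        have hc : v * u = u * v := congrArg Subtype.val (mul_comm' (⟨v, hv.1⟩ : ↥U) ⟨u, hu.1⟩)
        rw [show u * v * (u * v) = u * u * (v * v) by
          rw [mul_assoc, ← mul_assoc v, hc, mul_assoc, ← mul_assoc u]]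
        rw [hu.2, hv.2, mul_one]⟩
      one_mem' := ⟨one_mem _, mul_one 1⟩
      inv_mem' := fun {u} hu => ⟨inv_mem hu.1, by rw [← mul_inv_rev, hu.2, inv_one]⟩ }
  have hZ : IsInvariant A Z := fun b u hu => ⟨hU b u hu.1, by rw [← smul_mul', hu.2, smul_one]⟩
  have hle : Z ≤ zpowers z := D.le_of_fix_le hZ fun a ha u hu => by
    rcases eq_or_ne u 1 with rfl | h1
    · exact one_mem _
    · rw [D.zuniq a ha u (orderOf_eq_prime (by rw [pow_two]; exact hu.2.2) h1) hu.1]
      exact mem_zpowers z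
  intro x hx hxo
  have h2 : x ∈ Z := ⟨hx, by rw [← pow_two, ← hxo, pow_orderOf_eq_one]⟩
  rcases D.mem_zpowers_iff'.1 (hle h2) with rfl | rfl
  · rw [orderOf_one] at hxo; exact absurd hxo (by norm_num)
  · rfl

/-- Invariant abelian subgroups are fixed pointwise. -/
theorem fixed_of_abelian {U : Subgroup W} (hU : IsInvariant A U) (hab : IsMulCommutative ↥U) :
    ∀ a : A, ∀ u ∈ U, a • u = u := by
  have hu : ∀ x y : ↥U, orderOf x = 2 → orderOf y = 2 → y ∈ zpowers x := by
    intro x y hx hy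
    rw [← Subgroup.orderOf_coe] at hx hy
    rw [show y = x from Subtype.ext ((D.invol_mem hU hab y y.2 hy).trans
      (D.invol_mem hU hab x x.2 hx).symm)]
    exact mem_zpowers x
  have hcyc : IsCyclic ↥U := by
    rcases UniqueInvol.cyclic_or_quaternion (D.hW.to_subgroup U) hu with h | ⟨-, n, hn, ⟨e⟩⟩
    · exact h
    · exfalso
      have h1 := congrArg e (mul_comm' (e.symm (QuaternionGroup.a 1)) (e.symm (QuaternionGroup.xa 0)))
      rw [map_mul, map_mul, e.apply_symm_apply, e.apply_symm_apply] at h1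
      rw [QuaternionGroup.a_mul_xa, QuaternionGroup.xa_mul_a] at h1
      have h2 := QuaternionGroup.xa.inj h1
      simp only [zero_sub, zero_add] at h2
      have hlt : 2 < 2 * 2 ^ n := by
        have : 2 ≤ 2 ^ n := by
          calc 2 = 2 ^ 1 := (pow_one 2).symm
            _ ≤ 2 ^ n := Nat.pow_le_pow_right (by norm_num) hn
        omega
      have h3 : ((2 : ℕ) : ZMod (2 * 2 ^ n)) = 0 := by
        push_cast
        linear_combination -h2
      rw [ZMod.natCast_eq_zero_iff] at h3
      exact absurd (Nat.le_of_dvd (by norm_num) h3) (by omega)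
  let φ : A →* MulAut ↥U :=
    { toFun := fun a =>
        { toFun := fun u => ⟨a • (u : W), hU a u u.2⟩
          invFun := fun u => ⟨a⁻¹ • (u : W), hU a⁻¹ u u.2⟩
          left_inv := fun u => Subtype.ext (inv_smul_smul a (u : W))
          right_inv := fun u => Subtype.ext (smul_inv_smul a (u : W))
          map_mul' := fun u v => Subtype.ext (smul_mul' a (u : W) (v : W)) }
      map_one' := MulEquiv.ext fun u => Subtype.ext (one_smul A (u : W))
      map_mul' := fun a b => MulEquiv.ext fun u => Subtype.ext (mul_smul a b (u : W)) }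
  intro a u hu'
  have h1 : orderOf (φ a) ∣ Nat.card (MulAut ↥U) := orderOf_dvd_natCard _
  obtain ⟨k, hk⟩ := IsPGroup.iff_card.1 (D.hW.to_subgroup U)
  have h2 : ∃ j, Nat.card (MulAut ↥U) = 2 ^ j := by
    rw [IsCyclic.card_mulAut, hk]
    rcases k with _ | k
    · exact ⟨0, by simp⟩
    · exact ⟨k, by rw [Nat.totient_prime_pow_succ Nat.prime_two]; simp⟩
  obtain ⟨j, hj⟩ := h2
  have h3 : orderOf (φ a) = 1 := Nat.eq_one_of_dvd_coprimes
    (Nat.Coprime.pow_right j (Nat.coprime_two_right.2 (D.odd_orderOf a)))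
    (orderOf_map_dvd φ a) (hj ▸ h1)
  rw [orderOf_eq_one_iff] at h3
  exact congrArg Subtype.val (DFunLike.congr_fun h3 (⟨u, hu'⟩ : ↥U))

/-- A moved fixed-point subgroup has order 8. -/
theorem card_fix_eq {a : A} (ha : a ≠ 1) (hmov : ¬ ∀ b : A, ∀ u ∈ (fix a : Subgroup W), b • u = u) :
    Nat.card (fix a : Subgroup W) = 8 := by
  have hu : ∀ x y : ↥(fix a : Subgroup W), orderOf x = 2 → orderOf y = 2 → y ∈ zpowers x := by
    intro x y hx hy
    rw [← Subgroup.orderOf_coe] at hx hy
    rw [show y = x from Subtype.ext ((D.zuniq a ha y hy y.2).trans (D.zuniq a ha x hx x.2).symm)]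
    exact mem_zpowers x
  rcases UniqueInvol.structure_thm (D.hW.to_subgroup _) hu with hcyc |
    ⟨-, c, n, hn, hc, hidx, hout⟩
  · exact absurd (D.fixed_of_abelian (isInvariant_fix a)
      ⟨⟨fun x y => by letI := hcyc.commGroup; exact mul_comm x y⟩⟩) hmov
  have hcard : Nat.card (fix a : Subgroup W) = 2 ^ n * 2 := by
    rw [← (zpowers c).card_mul_index, Nat.card_zpowers, hc, hidx]
  rcases hn.lt_or_eq with hn3 | rfl
  swap
  · simpa using hcard
  exfalso
  apply hmov
  set N : Subgroup W := zpowers (c : W)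
  have hNfix : N ≤ fix a := zpowers_le.2 c.2
  have hN : IsInvariant A N := by
    intro b w hw
    obtain ⟨i, rfl⟩ := mem_zpowers_iff.1 hw
    rw [smul_zpow']
    refine N.zpow_mem ?_ i
    by_contra hb
    have hmem : b • (c : W) ∈ (fix a : Subgroup W) := isInvariant_fix a b (c : W) c.2
    have hnot : (⟨_, hmem⟩ : ↥(fix a : Subgroup W)) ∉ zpowers c := by
      intro h
      refine hb ?_
      obtain ⟨i, hi⟩ := mem_zpowers_iff.1 h
      exact mem_zpowers_iff.2 ⟨i, by simpa using congrArg Subtype.val hi⟩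
    have h4 := (hout _ hnot).2
    have h5 : (⟨_, hmem⟩ : ↥(fix a : Subgroup W)) ^ 4 = 1 := by
      rw [show 4 = 2 * 2 by norm_num, pow_mul, h4, ← pow_mul, ← pow_succ,
        Nat.sub_add_cancel (by omega), ← hc, pow_orderOf_eq_one]
    have h6 : b • ((c : W) ^ 4) = 1 := by
      rw [smul_pow']
      simpa using congrArg Subtype.val h5
    rw [smul_eq_iff_eq_inv_smul, smul_one] at h6
    have h7 := orderOf_dvd_of_pow_eq_one h6
    rw [Subgroup.orderOf_coe, hc] at h7
    have h8 : 2 ^ 3 ≤ 2 ^ n := Nat.pow_le_pow_right (by norm_num) hn3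
    have h9 := Nat.le_of_dvd (by norm_num) h7
    norm_num at h8
    omega
  refine fixed_of_index_two D.hW D.odd hNfix ?_ (isInvariant_fix a)
    (D.fixed_of_abelian hN inferInstance)
  rw [hcard, Nat.card_zpowers, Subgroup.orderOf_coe, hc, mul_comm]

/-- An element moving a point of a subgroup of order 8 leaves no proper subgroup containing it
invariant. -/
theorem eq_of_moved {Q H : Subgroup W} (hQ : Nat.card Q = 8) (hHQ : H ≤ Q) (hz : z ∈ H)
    {f : A} (hf : ∀ w ∈ H, f • w ∈ H) {x : W} (hx : x ∈ H) (hfx : f • x ≠ x) : H = Q := by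
  classical
  have hx1 : x ≠ 1 := by rintro rfl; exact hfx (smul_one f)
  have hxz : x ≠ z := by rintro rfl; exact hfx (D.zfix f)
  have hffx : f • f • x ≠ x := fun h => hfx (smul_eq_of_fix (D.odd_orderOf f) h)
  have hinj : Function.Injective (fun w : W => f • w) := MulAction.injective f
  let s : Finset W := {1, z, x, f • x, f • f • x}
  have hs : s.card = 5 := by
    have e1 : f • x ≠ 1 := fun h => hx1 (hinj (h.trans (smul_one f).symm))
    have e2 : f • x ≠ z := fun h => hxz (hinj (h.trans (D.zfix f).symm))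
    have e3 : f • f • x ≠ 1 := fun h => e1 (hinj (h.trans (smul_one f).symm))
    have e4 : f • f • x ≠ z := fun h => e2 (hinj (h.trans (D.zfix f).symm))
    have e5 : f • f • x ≠ f • x := fun h => hfx (hinj h)
    simp [s, Ne.symm D.zne, hx1.symm, e1.symm, e2.symm, e3.symm, e4.symm, hxz.symm, Ne.symm hffx,
      e5.symm, Ne.symm hfx]
  have hsub : (s : Set W) ⊆ H := by
    intro w hw
    simp only [s, Finset.coe_insert, Finset.coe_singleton, Set.mem_insert_iff,
      Set.mem_singleton_iff] at hw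
    rcases hw with rfl | rfl | rfl | rfl | rfl
    exacts [one_mem _, hz, hx, hf _ hx, hf _ (hf _ hx)]
  have h5 : 5 ≤ Nat.card H := by
    have := Set.ncard_le_ncard hsub (Set.toFinite _)
    rwa [Set.ncard_coe_finset, hs, ← Nat.card_coe_set_eq] at this
  refine SetLike.coe_injective (Set.eq_of_subset_of_ncard_le hHQ ?_ (Set.toFinite _))
  rw [← Nat.card_coe_set_eq, ← Nat.card_coe_set_eq]
  have hd := card_dvd_of_le hHQ
  rw [hQ] at hd
  show Nat.card Q ≤ Nat.card H
  rw [hQ]
  rcases dvd_eight hd with h | h | h | h <;> omega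

/-- In a moved fixed-point subgroup only `⟨z⟩` is fixed by everything. -/
theorem mem_zpowers_of_fixed_in {a : A} (ha : a ≠ 1) (hmov : ¬ ∀ b : A, ∀ u ∈ (fix a : Subgroup W), b • u = u)
    {x : W} (hx : x ∈ fix a) (hfx : ∀ b : A, b • x = x) : x ∈ zpowers z := by
  by_contra hxz
  have h8 := D.card_fix_eq ha hmov
  let F : Subgroup W :=
    { carrier := {w | w ∈ fix a ∧ ∀ b : A, b • w = w}
      mul_mem' := fun {u v} hu hv => ⟨mul_mem hu.1 hv.1, fun b => by rw [smul_mul', hu.2, hv.2]⟩
      one_mem' := ⟨one_mem _, fun b => smul_one b⟩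
      inv_mem' := fun {u} hu => ⟨inv_mem hu.1, fun b => by rw [smul_inv', hu.2]⟩ }
  have hFQ : F ≤ fix a := fun u hu => hu.1
  have hzF : zpowers z < F := lt_of_le_of_ne
    (zpowers_le.2 ⟨D.zfix a, D.zfix⟩) fun e => hxz (e.ge ⟨hx, hfx⟩)
  have hd := card_dvd_of_le hFQ
  rw [h8] at hd
  have h2 : 2 < Nat.card F := by
    rw [← D.card_zpowers]
    by_contra hle
    push Not at hle
    exact hzF.ne (SetLike.coe_injective (Set.eq_of_subset_of_ncard_le hzF.le
      (by rwa [← Nat.card_coe_set_eq, ← Nat.card_coe_set_eq]) (Set.toFinite _)))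
  rcases dvd_eight hd with h | h | h | h
  · omega
  · omega
  · exact hmov (fixed_of_index_two D.hW D.odd hFQ (by omega) (isInvariant_fix a)
      fun b n hn => hn.2 b)
  · refine hmov fun b u hu => ?_
    have he : F = fix a := SetLike.coe_injective (Set.eq_of_subset_of_ncard_le hFQ
      (by rw [← Nat.card_coe_set_eq, ← Nat.card_coe_set_eq]
          show Nat.card (fix a : Subgroup W) ≤ Nat.card F
          omega) (Set.toFinite _))
    exact (he.ge hu).2 b

/-- A moved fixed-point subgroup exists. -/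
theorem exists_moved : ∃ a : A, a ≠ 1 ∧ ¬ ∀ b : A, ∀ u ∈ (fix a : Subgroup W), b • u = u := by
  by_contra hno
  push Not at hno
  let C : Subgroup W :=
    { carrier := {w | ∀ b : A, b • w = w}
      mul_mem' := fun {u v} hu hv b => by rw [smul_mul', hu b, hv b]
      one_mem' := fun b => smul_one b
      inv_mem' := fun {u} hu b => by rw [smul_inv', hu b] }
  have htop : (⊤ : Subgroup W) ≤ C :=
    D.le_of_fix_le (IsInvariant.top A) fun a ha u hu b => hno a ha b u hu.1
  refine D.nc (@isCyclic_of_subsingleton _ _ ⟨fun a b => ?_⟩)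
  rw [D.faith a (fun w => htop (mem_top w) a), D.faith b (fun w => htop (mem_top w) b)]

/-- Nothing outside `⟨z⟩` is fixed by the whole group. -/
theorem mem_zpowers_of_fixed {x : W} (hx : ∀ b : A, b • x = x) : x ∈ zpowers z := by
  obtain ⟨a, ha, hmov⟩ := D.exists_moved
  exact D.mem_zpowers_of_fixed_in ha hmov (hx a) hx

omit D in
/-- `Q` is the moved fixed-point subgroup of some element. -/
def IsQ (z : W) (Q : Subgroup W) : Prop :=
  ∃ a : A, a ≠ 1 ∧ fix a = Q ∧ ¬ Q ≤ zpowers z

theorem IsQ.moved {a : A} (h : ¬ (fix a : Subgroup W) ≤ zpowers z) :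
    ¬ ∀ b : A, ∀ u ∈ (fix a : Subgroup W), b • u = u :=
  fun hall => h fun u hu => D.mem_zpowers_of_fixed fun b => hall b u hu

theorem isQ_card {Q : Subgroup W} (h : IsQ (A := A) z Q) : Nat.card Q = 8 := by
  obtain ⟨a, ha, rfl, hn⟩ := h
  exact D.card_fix_eq ha (IsQ.moved D hn)

theorem isQ_inv {Q : Subgroup W} (h : IsQ (A := A) z Q) : IsInvariant A Q := by
  obtain ⟨a, -, rfl, -⟩ := h
  exact isInvariant_fix a

theorem z_mem {Q : Subgroup W} (h : IsQ (A := A) z Q) : z ∈ Q := by
  obtain ⟨a, -, rfl, -⟩ := h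
  exact D.zfix a

/-- An element fixing a point of `Q` outside `⟨z⟩` fixes `Q`. -/
theorem fix_all {Q : Subgroup W} (h : IsQ (A := A) z Q) {f : A} {x : W} (hx : x ∈ Q)
    (hxz : x ∉ zpowers z) (hfx : f • x = x) : ∀ w ∈ Q, f • w = w := by
  by_contra hno
  push Not at hno
  obtain ⟨w, hw, hfw⟩ := hno
  have h8 := D.isQ_card h
  have hne : Q ⊓ fix f ≠ Q := fun e => hfw (e.ge hw).2
  have hgt : 2 < Nat.card (Q ⊓ fix f : Subgroup W) := by
    rw [← D.card_zpowers]
    by_contra hle
    push Not at hle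
    have he := SetLike.coe_injective (Set.eq_of_subset_of_ncard_le
      (show ((zpowers z : Subgroup W) : Set W) ⊆ (Q ⊓ fix f : Subgroup W) from
        zpowers_le.2 ⟨D.z_mem h, D.zfix f⟩)
      (by rwa [← Nat.card_coe_set_eq, ← Nat.card_coe_set_eq]) (Set.toFinite _))
    exact hxz (he.ge ⟨hx, hfx⟩)
  have hd := card_dvd_of_le (inf_le_left : Q ⊓ fix f ≤ Q)
  rw [h8] at hd
  have hlt : Nat.card (Q ⊓ fix f : Subgroup W) ≠ 8 := fun e =>
    hne (SetLike.coe_injective (Set.eq_of_subset_of_ncard_le (SetLike.coe_subset_coe.2 inf_le_left)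
      (show (Q : Set W).ncard ≤ ((Q ⊓ fix f : Subgroup W) : Set W).ncard by
        rw [← Nat.card_coe_set_eq, ← Nat.card_coe_set_eq]
        show Nat.card Q ≤ Nat.card (Q ⊓ fix f : Subgroup W)
        omega)
      (Set.toFinite _)))
  have h4 : Nat.card (Q ⊓ fix f : Subgroup W) = 4 := by
    rcases dvd_eight hd with hh | hh | hh | hh <;> omega
  refine hfw (fixed_of_index_two (A := ↥(zpowers f)) (N := Q ⊓ fix f) (U := Q) D.hW ?_ inf_le_left (by omega)
    (fun b n hn => D.isQ_inv h b n hn) (fun b n hn => ?_) ⟨f, mem_zpowers f⟩ w hw)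
  · rw [Nat.card_zpowers]; exact D.odd_orderOf f
  · obtain ⟨i, hi⟩ := mem_zpowers_iff.1 b.2
    have hmem : f ∈ MulAction.stabilizer A n := hn.2
    have := (MulAction.stabilizer A n).zpow_mem hmem i
    rw [hi] at this
    exact this

theorem eq_of_inf_ne {Q : Subgroup W} (h : IsQ (A := A) z Q) {U : Subgroup W}
    (hU : IsInvariant A U) (hz : z ∈ U) {x : W} (hxU : x ∈ U) (hxQ : x ∈ Q)
    (hx : x ∉ zpowers z) : Q ≤ U := by
  obtain ⟨f, hf⟩ : ∃ f : A, f • x ≠ x := by
    by_contra hno
    push Not at hno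
    exact hx (D.mem_zpowers_of_fixed hno)
  have := D.eq_of_moved (H := Q ⊓ U) (D.isQ_card h) inf_le_left ⟨D.z_mem h, hz⟩
    (fun w hw => ⟨D.isQ_inv h f w hw.1, hU f w hw.2⟩) ⟨hxQ, hxU⟩ hf
  exact this.ge.trans inf_le_right

theorem exists_q_le {U : Subgroup W} (hU : IsInvariant A U) (hz : z ∈ U)
    (hne : ¬ U ≤ zpowers z) : ∃ Q, IsQ (A := A) z Q ∧ Q ≤ U := by
  by_contra hno
  push Not at hno
  refine hne (D.le_of_fix_le hU fun a ha u hu => ?_)
  by_contra hu'
  have hQ : IsQ (A := A) z (fix a : Subgroup W) := ⟨a, ha, rfl, fun hle => hu' (hle hu.1)⟩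
  exact hno _ hQ (D.eq_of_inf_ne hQ hU hz hu.2 hu.1 hu')

theorem center_inf {U : Subgroup W} (hU : IsInvariant A U) {x : W} (hx : x ∈ U)
    (hc : ∀ u ∈ U, u * x = x * u) : x ∈ zpowers z := by
  let Z : Subgroup W := U ⊓ centralizer (U : Set W)
  have hZ : IsInvariant A Z := fun b w hw => ⟨hU b w hw.1, mem_centralizer_iff.2 fun u hu => by
    have := congrArg (b • ·) (mem_centralizer_iff.1 hw.2 (b⁻¹ • u) (hU b⁻¹ u hu))
    simpa [smul_mul'] using this⟩
  have hab : IsMulCommutative ↥Z :=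
    ⟨⟨fun u v => Subtype.ext (mem_centralizer_iff.1 v.2.2 u u.2.1)⟩⟩
  exact D.mem_zpowers_of_fixed fun b =>
    D.fixed_of_abelian hZ hab b x ⟨hx, mem_centralizer_iff.2 hc⟩

/-- An invariant subgroup has a `Q` whose commutators with it are in `⟨z⟩`. -/
theorem exists_q_commutator {U : Subgroup W} (hU : IsInvariant A U) (hz : z ∈ U)
    (hne : ¬ U ≤ zpowers z) :
    ∃ Q, IsQ (A := A) z Q ∧ Q ≤ U ∧ ∀ q ∈ Q, ∀ u ∈ U, q * u * q⁻¹ * u⁻¹ ∈ zpowers z := by
  have hzc : ∀ w ∈ zpowers z, w ∈ center W := fun w hw => zpowers_le.2 D.zcen hw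
  let V : Subgroup W :=
    { carrier := {x | x ∈ U ∧ ∀ u ∈ U, x * u * x⁻¹ * u⁻¹ ∈ zpowers z}
      mul_mem' := fun {a b} ha hb => ⟨mul_mem ha.1 hb.1, fun u hu => by
        have h1 := ha.2 u hu
        have h2 := hb.2 u hu
        have hc := mem_center_iff.1 (hzc _ h2) a
        rw [show a * b * u * (a * b)⁻¹ * u⁻¹ =
          a * (b * u * b⁻¹ * u⁻¹) * u * a⁻¹ * u⁻¹ by group, hc,
          show b * u * b⁻¹ * u⁻¹ * a * u * a⁻¹ * u⁻¹ =
            b * u * b⁻¹ * u⁻¹ * (a * u * a⁻¹ * u⁻¹) by group]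
        exact mul_mem h2 h1⟩
      one_mem' := ⟨one_mem _, fun u _ => by simp⟩
      inv_mem' := fun {a} ha => ⟨inv_mem ha.1, fun u hu => by
        have h1 := ha.2 (a⁻¹ * u * a) (mul_mem (mul_mem (inv_mem ha.1) hu) ha.1)
        rw [show a⁻¹ * u * a⁻¹⁻¹ * u⁻¹ = (a * (a⁻¹ * u * a) * a⁻¹ * (a⁻¹ * u * a)⁻¹)⁻¹ by group]
        exact inv_mem h1⟩ }
  have hV : IsInvariant A V := fun b w hw => ⟨hU b w hw.1, fun u hu => by
    have h1 := hw.2 (b⁻¹ • u) (hU b⁻¹ u hu)
    have h2 : b • (w * (b⁻¹ • u) * w⁻¹ * (b⁻¹ • u)⁻¹) = b • w * u * (b • w)⁻¹ * u⁻¹ := by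
      simp [smul_mul', smul_inv']
    rw [← h2]
    rcases D.mem_zpowers_iff'.1 h1 with e | e
    · rw [e, smul_one]; exact one_mem _
    · rw [e, D.zfix]; exact mem_zpowers z⟩
  have hzV : z ∈ V := ⟨hz, fun u _ => by
    rw [show z * u * z⁻¹ * u⁻¹ = (z * u) * z⁻¹ * u⁻¹ by group,
      (mem_center_iff.1 D.zcen u).symm]
    simp⟩
  have hVne : ¬ V ≤ zpowers z := by
    intro hle
    haveI : Group.IsNilpotent ↥U := (D.hW.to_subgroup U).isNilpotent
    have hcen : center ↥U ≤ (zpowers z).subgroupOf U := fun x hx =>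
      mem_subgroupOf.2 (D.center_inf hU x.2 fun u hu =>
        congrArg Subtype.val (mem_center_iff.1 hx ⟨u, hu⟩))
    have h2 : ∀ x : ↥U, x ∈ Subgroup.upperCentralSeries ↥U 2 → x ∈ center ↥U := by
      intro x hx
      rw [Subgroup.mem_upperCentralSeries_succ_iff] at hx
      have hxV : (x : W) ∈ V := ⟨x.2, fun u hu => by
        have h := hx ⟨u, hu⟩
        rw [Subgroup.upperCentralSeries_one] at h
        have h' := mem_subgroupOf.1 (hcen h)
        simpa [commutatorElement_def] using h'⟩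
      refine mem_center_iff.2 fun u => Subtype.ext ?_
      exact mem_center_iff.1 (hzc _ (hle hxV)) u
    have hstab : ∀ n, Subgroup.upperCentralSeries ↥U n ≤ center ↥U := by
      intro n
      induction n with
      | zero => rw [Subgroup.upperCentralSeries_zero]; exact bot_le
      | succ n ih =>
        intro x hx
        refine h2 x ?_
        rw [Subgroup.mem_upperCentralSeries_succ_iff] at hx ⊢
        intro y
        rw [Subgroup.upperCentralSeries_one]
        exact ih (hx y)
    obtain ⟨n, hn⟩ := Group.IsNilpotent.nilpotent (G := ↥U)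
    refine hne fun u hu => ?_
    exact mem_subgroupOf.1 (hcen (hstab n (hn.ge (mem_top (⟨u, hu⟩ : ↥U)))))
  obtain ⟨Q, hQ, hle⟩ := D.exists_q_le hV hzV hVne
  exact ⟨Q, hQ, fun q hq => (hle hq).1, fun q hq u hu => (hle hq).2 u hu⟩

theorem eq_fix {Q : Subgroup W} (h : IsQ (A := A) z Q) {f : A} (hf : f ≠ 1)
    (hfix : ∀ w ∈ Q, f • w = w) : Q = fix f := by
  have hle : Q ≤ fix f := hfix
  have hn : ¬ (fix f : Subgroup W) ≤ zpowers z := fun e => by
    obtain ⟨a, -, rfl, hna⟩ := h
    exact hna (hle.trans e)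
  have h8 := D.isQ_card (Q := fix f) ⟨f, hf, rfl, hn⟩
  exact SetLike.coe_injective (Set.eq_of_subset_of_ncard_le hle
    (by rw [← Nat.card_coe_set_eq, ← Nat.card_coe_set_eq]
        show Nat.card (fix f : Subgroup W) ≤ Nat.card Q
        rw [h8, D.isQ_card h]) (Set.toFinite _))

/-- A `Q` with commutators in `⟨z⟩` is centralized by every other `Q`. -/
theorem commute_of_commutator {Q Q' : Subgroup W} (hQ : IsQ (A := A) z Q)
    (hQ' : IsQ (A := A) z Q') (hne : Q ≠ Q')
    (hc : ∀ q ∈ Q, ∀ u ∈ Q', q * u * q⁻¹ * u⁻¹ ∈ zpowers z) :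
    ∀ q ∈ Q, ∀ u ∈ Q', q * u = u * q := by
  obtain ⟨f, hf, hfQ', -⟩ := id hQ'
  intro q hq u hu
  have hfu : f • u = u := hfQ'.ge hu
  let K : Subgroup W := Q ⊓ centralizer {u}
  by_contra hqu
  -- a point of `Q` outside `⟨z⟩` in the centralizer of `u`
  have hz : ∀ w ∈ zpowers z, ∀ g : W, g * w = w * g := fun w hw g =>
    mem_center_iff.1 (zpowers_le.2 D.zcen hw) g
  have hmoved : f • q ≠ q := by
    intro hfq
    refine hne ((D.eq_fix hQ hf (D.fix_all hQ hq ?_ hfq)).trans hfQ')
    exact fun h1 => hqu ((hz q h1 u).symm)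
  -- `q⁻¹ (f • q)` centralizes `u`
  have hfc : f • (q * u * q⁻¹ * u⁻¹) = q * u * q⁻¹ * u⁻¹ := by
    rcases D.mem_zpowers_iff'.1 (hc q hq u hu) with e | e <;> rw [e]
    exacts [smul_one f, D.zfix f]
  rw [smul_mul', smul_mul', smul_mul', smul_inv', smul_inv', hfu, mul_left_inj] at hfc
  set x := q⁻¹ * (f • q) with hx
  have hxu : x * u = u * x := by
    rw [hx]
    calc q⁻¹ * f • q * u = q⁻¹ * (f • q * u * (f • q)⁻¹) * f • q := by group
      _ = q⁻¹ * (q * u * q⁻¹) * f • q := by rw [hfc]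
      _ = u * (q⁻¹ * f • q) := by group
  have hxQ : x ∈ Q := mul_mem (inv_mem hq) (D.isQ_inv hQ f q hq)
  have hxz : x ∉ zpowers z := by
    intro hxz
    rcases D.mem_zpowers_iff'.1 hxz with e | e
    · exact hmoved (inv_mul_eq_one.1 e).symm
    · have h1 : f • q = q * z := by rw [← e, hx, mul_inv_cancel_left]
      refine hmoved (smul_eq_of_fix (D.odd_orderOf f) ?_)
      rw [h1, smul_mul', h1, D.zfix, mul_assoc]
      have hz2 : z * z = 1 := by rw [← pow_two, ← D.zord, pow_orderOf_eq_one]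
      rw [hz2, mul_one]
  have hfx : f • x ≠ x := fun h =>
    hne ((D.eq_fix hQ hf (D.fix_all hQ hxQ hxz h)).trans hfQ')
  have hK : K = Q := by
    refine D.eq_of_moved (D.isQ_card hQ) inf_le_left
      ⟨D.z_mem hQ, mem_centralizer_singleton_iff.2 (hz z (mem_zpowers z) u).symm⟩ ?_
      (x := x) ⟨hxQ, mem_centralizer_singleton_iff.2 hxu⟩ hfx
    intro w hw
    refine ⟨D.isQ_inv hQ f w hw.1, mem_centralizer_singleton_iff.2 ?_⟩
    have := congrArg (f • ·) (mem_centralizer_singleton_iff.1 hw.2)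
    simpa [smul_mul', hfu] using this
  exact hqu (mem_centralizer_singleton_iff.1 (hK.ge hq).2)

/-- Different `Q`s centralize each other. -/
theorem commute {Q Q' : Subgroup W} (hQ : IsQ (A := A) z Q) (hQ' : IsQ (A := A) z Q')
    (hne : Q ≠ Q') : ∀ q ∈ Q, ∀ u ∈ Q', q * u = u * q := by
  set U := Q ⊔ Q' with hU
  have hUinv : IsInvariant A U := by
    intro b w hw
    have h1 : U ≤ U.comap (MulDistribMulAction.toMonoidHom W b) :=
      sup_le (fun u hu => mem_sup_left (D.isQ_inv hQ b u hu))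
        fun u hu => mem_sup_right (D.isQ_inv hQ' b u hu)
    exact h1 hw
  have hUne : ¬ U ≤ zpowers z := fun h => by
    obtain ⟨a, -, rfl, hn⟩ := hQ
    exact hn (le_sup_left.trans h)
  obtain ⟨R, hR, hRU, hRc⟩ := D.exists_q_commutator hUinv (mem_sup_left (D.z_mem hQ)) hUne
  rcases eq_or_ne R Q with rfl | hRQ
  · exact D.commute_of_commutator hR hQ' hne fun q hq u hu => hRc q hq u (mem_sup_right hu)
  rcases eq_or_ne R Q' with rfl | hRQ'
  · intro q hq u hu
    exact (D.commute_of_commutator hR hQ (Ne.symm hne)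
      (fun r hr v hv => hRc r hr v (mem_sup_left hv)) u hu q hq).symm
  · exfalso
    have hcent : ∀ r ∈ R, U ≤ centralizer {r} := fun r hr =>
      sup_le (fun v hv => mem_centralizer_singleton_iff.2
          (D.commute_of_commutator hR hQ hRQ (fun r hr v hv => hRc r hr v (mem_sup_left hv))
            r hr v hv).symm)
        fun v hv => mem_centralizer_singleton_iff.2
          (D.commute_of_commutator hR hQ' hRQ' (fun r hr v hv => hRc r hr v (mem_sup_right hv))
            r hr v hv).symm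
    obtain ⟨a, -, rfl, hn⟩ := hR
    exact hn fun r hr => D.center_inf hUinv (hRU hr) fun v hv =>
      mem_centralizer_singleton_iff.1 (hcent r hr hv)

theorem zpowers_lt {Q : Subgroup W} (h : IsQ (A := A) z Q) : ∃ x ∈ Q, x ∉ zpowers z := by
  obtain ⟨a, -, rfl, hn⟩ := h
  exact SetLike.not_le_iff_exists.1 hn

/-- The kernel of the action on `Q`. -/
theorem exists_kernel {Q : Subgroup W} (hQ : IsQ (A := A) z Q) {p : ℕ} [Fact p.Prime]
    (hA : IsPGroup p A) :
    p = 3 ∧ ∃ K : Subgroup A, K.index = 3 ∧ ∀ k : A, k ∈ K ↔ ∀ w ∈ Q, k • w = w := by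
  classical
  obtain ⟨x, hx, hxz⟩ := D.zpowers_lt hQ
  have h8 := D.isQ_card hQ
  have horb : ∀ y ∈ Q, y ∉ zpowers z →
      MulAction.orbit A y ⊆ ((Q : Set W) \ (zpowers z : Set W)) := by
    rintro y hy hyz _ ⟨b, rfl⟩
    refine ⟨D.isQ_inv hQ b y hy, fun h => hyz ?_⟩
    have : b⁻¹ • b • y = b • y := by
      rcases D.mem_zpowers_iff'.1 h with e | e <;> simp only at e <;> rw [e]
      exacts [smul_one _, D.zfix _]
    rw [inv_smul_smul] at this
    rw [this]; exact h
  have hsix : ((Q : Set W) \ (zpowers z : Set W)).ncard = 6 := by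
    rw [Set.ncard_sdiff (show (zpowers z : Set W) ⊆ Q from zpowers_le.2 (D.z_mem hQ)), ← Nat.card_coe_set_eq,
      ← Nat.card_coe_set_eq]
    show Nat.card Q - Nat.card (zpowers z) = 6
    rw [h8, D.card_zpowers]
  have hsize : ∀ y ∈ Q, y ∉ zpowers z → (MulAction.orbit A y).ncard =
      (MulAction.stabilizer A y).index := fun y _ _ => by
    rw [← Nat.card_coe_set_eq, MulAction.index_stabilizer, ← Nat.card_coe_set_eq]
  set K := MulAction.stabilizer A x with hK
  have hKiff : ∀ k : A, k ∈ K ↔ ∀ w ∈ Q, k • w = w := fun k =>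
    ⟨fun hk => D.fix_all hQ hx hxz hk, fun h => h x hx⟩
  have hstab : ∀ y ∈ Q, y ∉ zpowers z → MulAction.stabilizer A y = K := by
    intro y hy hyz
    ext k
    exact ⟨fun hk => (hKiff k).2 (D.fix_all hQ hy hyz hk), fun hk => (hKiff k).1 hk y hy⟩
  obtain ⟨m, hm⟩ := hA.index K
  have hm1 : m ≠ 0 := by
    intro h0
    rw [h0, pow_zero, index_eq_one] at hm
    exact hxz (D.mem_zpowers_of_fixed fun b => (hm.ge (mem_top b) : b ∈ K))
  have hle : K.index ≤ 6 := by
    rw [← hsize x hx hxz, ← hsix]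
    exact Set.ncard_le_ncard (horb x hx hxz) (Set.toFinite _)
  have hp3 : 3 ≤ p := by
    rcases (Fact.out : p.Prime).eq_two_or_odd with rfl | h
    · exfalso
      have h2 : 2 ∣ Nat.card A := by
        refine (dvd_pow_self 2 hm1).trans (hm ▸ ?_)
        exact index_dvd_card K
      exact (Nat.not_even_iff_odd.2 D.odd) (even_iff_two_dvd.2 h2)
    · have := (Fact.out : p.Prime).two_le; omega
  have hm2 : m = 1 := by
    by_contra h
    have : p ^ 2 ≤ p ^ m := Nat.pow_le_pow_right (by omega) (by omega)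
    rw [hm] at hle
    nlinarith
  rw [hm2, pow_one] at hm
  have hp : p = 3 := by
    by_contra hne
    have hp5 : 5 ≤ p := by
      rcases Nat.lt_or_ge p 5 with h | h
      · interval_cases p
        · exact absurd rfl hne
        · exact absurd (Fact.out : Nat.Prime 4) (by decide)
      · exact h
    obtain ⟨y, hy, hyo⟩ : ∃ y ∈ (Q : Set W) \ (zpowers z : Set W), y ∉ MulAction.orbit A x := by
      by_contra hno
      push Not at hno
      have := Set.ncard_le_ncard (s := (Q : Set W) \ (zpowers z : Set W)) hno (Set.toFinite _)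
      rw [hsix, hsize x hx hxz, hm] at this
      have hp6 : p ≠ 6 := fun e => absurd (e ▸ (Fact.out : p.Prime)) (by decide)
      omega
    have hdis : Disjoint (MulAction.orbit A x) (MulAction.orbit A y) := by
      rw [Set.disjoint_left]
      intro u hu hu'
      exact hyo ((MulAction.orbit_eq_iff.2 hu).symm.trans (MulAction.orbit_eq_iff.2 hu') ▸
        MulAction.mem_orbit_self y)
    have := Set.ncard_le_ncard (Set.union_subset (horb x hx hxz) (horb y hy.1 hy.2))
      (Set.toFinite _)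
    rw [Set.ncard_union_eq hdis (Set.toFinite _) (Set.toFinite _), hsize x hx hxz,
      hsize y hy.1 hy.2, hstab y hy.1 hy.2, hsix, hm] at this
    omega
  exact ⟨hp, K, hm.trans hp, hKiff⟩

theorem exists_two : ∃ Q Q' : Subgroup W,
    IsQ (A := A) z Q ∧ IsQ (A := A) z Q' ∧ Q ≠ Q' := by
  obtain ⟨a, ha, hmov⟩ := D.exists_moved
  have hQ : IsQ (A := A) z (fix a : Subgroup W) := ⟨a, ha, rfl, fun hle => hmov fun b u hu => by
    rcases D.mem_zpowers_iff'.1 (hle hu) with rfl | rfl
    exacts [smul_one b, D.zfix b]⟩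
  by_contra hno
  push Not at hno
  have htop : (⊤ : Subgroup W) ≤ fix a := D.le_of_fix_le (IsInvariant.top A) fun b hb u hu => by
    by_cases hle : (fix b : Subgroup W) ≤ zpowers z
    · exact D.zpowers_le_fix a (hle hu.1)
    · rw [hno (fix a) (fix b) hQ ⟨b, hb, rfl, hle⟩]
      exact hu.1
  exact ha (D.faith a fun w => htop (mem_top w))

theorem card_acting {p : ℕ} [Fact p.Prime] (hA : IsPGroup p A) : Nat.card A = 9 := by
  obtain ⟨Q, Q', hQ, hQ', hne⟩ := D.exists_two
  obtain ⟨rfl, K, hK, hKiff⟩ := D.exists_kernel hQ hA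
  obtain ⟨-, K', hK', hKiff'⟩ := D.exists_kernel hQ' hA
  have hinf : K ⊓ K' = ⊥ := (Subgroup.eq_bot_iff_forall _).2 fun f hf => by
    by_contra h1
    exact hne ((D.eq_fix hQ h1 ((hKiff f).1 hf.1)).trans (D.eq_fix hQ' h1 ((hKiff' f).1 hf.2)).symm)
  have hle : Nat.card A ≤ 9 := by
    have := index_inf_le (H := K) (K := K')
    rw [hinf, index_bot, hK, hK'] at this
    exact this
  obtain ⟨m, hm⟩ := IsPGroup.iff_card.1 hA
  rcases lt_or_ge m 2 with h | h
  · exfalso
    interval_cases m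
    · rw [pow_zero, Nat.card_eq_one_iff_unique] at hm
      haveI := hm.1
      exact D.nc isCyclic_of_subsingleton
    · rw [pow_one] at hm
      exact D.nc (isCyclic_of_prime_card hm)
  · have h9 : 3 ^ 2 ≤ 3 ^ m := Nat.pow_le_pow_right (by norm_num) h
    omega

/-- The centre of `W`. -/
theorem center_eq : center W = zpowers z := by
  refine le_antisymm (fun x hx => ?_) (zpowers_le.2 D.zcen)
  exact D.center_inf (U := ⊤) (IsInvariant.top A) (mem_top x) fun u _ => mem_center_iff.1 hx u

theorem top_le_of_q_le {H : Subgroup W} (hz : z ∈ H)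
    (h : ∀ Q, IsQ (A := A) z Q → Q ≤ H) : ∀ w : W, w ∈ H := fun w =>
  (D.le_of_fix_le (IsInvariant.top A) fun a ha u hu => by
    by_cases hle : (fix a : Subgroup W) ≤ zpowers z
    · exact zpowers_le.2 hz (hle hu.1)
    · exact h _ ⟨a, ha, rfl, hle⟩ hu.1 : (⊤ : Subgroup W) ≤ H) (mem_top w)

theorem q_mem {Q : Subgroup W} (hQ : IsQ (A := A) z Q) :
    (∀ x ∈ Q, x * x ∈ zpowers z) ∧ ∀ x ∈ Q, ∀ y ∈ Q, x * y * x⁻¹ * y⁻¹ ∈ zpowers z := by
  obtain ⟨R, hR, hRQ, hc⟩ := D.exists_q_commutator (D.isQ_inv hQ) (D.z_mem hQ) (by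
    obtain ⟨a, -, rfl, hn⟩ := hQ
    exact hn)
  have hRQ' : R = Q := SetLike.coe_injective (Set.eq_of_subset_of_ncard_le hRQ
    (by rw [← Nat.card_coe_set_eq, ← Nat.card_coe_set_eq]
        show Nat.card Q ≤ Nat.card R
        rw [D.isQ_card hQ, D.isQ_card hR]) (Set.toFinite _))
  refine ⟨fun x hx => ?_, fun x hx y hy => hc x (hRQ'.ge hx) y hy⟩
  obtain ⟨a, ha, rfl, -⟩ := hQ
  by_contra hxx
  have h8 := D.isQ_card hR
  rw [hRQ'] at h8
  have h1 : (x * x) * (x * x) ≠ 1 := by
    intro e
    rcases eq_or_ne (x * x) 1 with e1 | e1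
    · exact hxx (e1 ▸ one_mem _)
    · exact hxx ((D.zuniq a ha _ (orderOf_eq_prime (by rw [pow_two]; exact e) e1)
        (mul_mem hx hx)) ▸ mem_zpowers z)
  have h2 : orderOf x ∣ 8 := by
    rw [← h8]; exact Subgroup.orderOf_dvd_natCard _ hx
  obtain ⟨j, hj, hxj⟩ := (Nat.dvd_prime_pow Nat.prime_two).1 (by norm_num; exact h2 : orderOf x ∣ 2 ^ 3)
  have h4 : ¬ j ≤ 2 := by
    intro hj2
    refine h1 ?_
    have : x ^ 4 = 1 := by
      refine orderOf_dvd_iff_pow_eq_one.1 ?_
      rw [hxj, show 4 = 2 ^ 2 by norm_num]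
      exact pow_dvd_pow 2 hj2
    rw [← this, show (4 : ℕ) = 2 + 2 by norm_num, pow_add, pow_two]
  have hj3 : j = 3 := by omega
  -- then `Q` is cyclic, so fixed pointwise
  have hcyc : IsCyclic ↥(fix a : Subgroup W) := isCyclic_of_orderOf_eq_card ⟨x, hx⟩
    (by rw [Subgroup.orderOf_mk, hxj, hj3, h8]; norm_num)
  have := D.fixed_of_abelian (isInvariant_fix a)
    ⟨⟨fun u v => by letI := hcyc.commGroup; exact mul_comm u v⟩⟩
  exact hxx (D.mem_zpowers_of_fixed fun b => by rw [smul_mul', this b x hx])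

theorem isExtraspecial : Cfsg.IsExtraspecial 2 W := by
  classical
  have hzc := D.center_eq
  haveI : (zpowers z).Normal := hzc ▸ inferInstance
  have hzmem : ∀ w ∈ zpowers z, ∀ g : W, g * w = w * g := fun w hw g =>
    mem_center_iff.1 (hzc ▸ hw) g
  set π := QuotientGroup.mk' (zpowers z) with hπ
  have h1 : ∀ {u v : W}, u * v * u⁻¹ * v⁻¹ ∈ zpowers z → π u * π v = π v * π u := by
    intro u v h
    have h' : π (u * v * u⁻¹ * v⁻¹) = 1 := (QuotientGroup.eq_one_iff _).2 h
    rw [map_mul, map_mul, map_mul, map_inv, map_inv, mul_inv_eq_one, mul_inv_eq_iff_eq_mul] at h'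
    exact h'
  have hcom : ∀ u v : W, π u * π v = π v * π u := by
    intro u v
    have hgen : ∀ Q, IsQ (A := A) z Q → ∀ q ∈ Q, ∀ w : W, π q * π w = π w * π q := by
      intro Q hQ q hq w
      have hw : w ∈ (centralizer {π q}).comap π := by
        refine D.top_le_of_q_le ?_ (fun Q' hQ' q' hq' => ?_) w
        · rw [mem_comap, mem_centralizer_singleton_iff, ← map_mul, ← map_mul,
            hzmem z (mem_zpowers z) q]
        · rw [mem_comap, mem_centralizer_singleton_iff]
          rcases eq_or_ne Q Q' with rfl | hne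
          · exact h1 ((D.q_mem hQ).2 q' hq' q hq)
          · rw [← map_mul, ← map_mul, D.commute hQ hQ' hne q hq q' hq']
      exact (mem_centralizer_singleton_iff.1 hw).symm
    have hu : u ∈ (centralizer {π v}).comap π := by
      refine D.top_le_of_q_le ?_ (fun Q hQ q hq => ?_) u
      · rw [mem_comap, mem_centralizer_singleton_iff, ← map_mul, ← map_mul,
          hzmem z (mem_zpowers z) v]
      · rw [mem_comap, mem_centralizer_singleton_iff]
        exact hgen Q hQ q hq v
    exact mem_centralizer_singleton_iff.1 hu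
  have hsq : ∀ w : W, w ^ 2 ∈ zpowers z := by
    intro w
    let S : Subgroup W :=
      { carrier := {u | π u * π u = 1}
        mul_mem' := fun {u v} (hu : π u * π u = 1) (hv : π v * π v = 1) => by
          show π (u * v) * π (u * v) = 1
          rw [map_mul, show π u * π v * (π u * π v) = π u * (π v * π u) * π v by group, hcom v u,
            show π u * (π u * π v) * π v = π u * π u * (π v * π v) by group, hu, hv, one_mul]
        one_mem' := by show π 1 * π 1 = 1; rw [map_one, one_mul]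
        inv_mem' := fun {u} (hu : π u * π u = 1) => by
          show π u⁻¹ * π u⁻¹ = 1
          rw [map_inv, ← mul_inv_rev, hu, inv_one] }
    have hw : w ∈ S := by
      refine D.top_le_of_q_le ?_ (fun Q hQ q hq => ?_) w
      · show π z * π z = 1
        rw [← map_mul, ← pow_two, ← D.zord, pow_orderOf_eq_one, map_one]
      · show π q * π q = 1
        rw [← map_mul]
        exact (QuotientGroup.eq_one_iff _).2 ((D.q_mem hQ).1 q hq)
    rw [pow_two, ← QuotientGroup.eq_one_iff (N := zpowers z)]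
    show π (w * w) = 1
    rw [map_mul]
    exact hw
  have hder : commutator W ≤ center W := by
    rw [hzc, _root_.commutator_def, commutator_le]
    intro u _ v _
    rw [← QuotientGroup.eq_one_iff (N := zpowers z)]
    show π ⁅u, v⁆ = 1
    rw [map_commutatorElement, commutatorElement_eq_one_iff_mul_comm]
    exact hcom u v
  have hnab : commutator W ≠ ⊥ := by
    intro hbot
    have htop : center W = ⊤ := eq_top_iff.2 fun u _ => mem_center_iff.2 fun v => by
      have : ⁅v, u⁆ ∈ (⊥ : Subgroup W) := hbot ▸ commutator_mem_commutator (mem_top v) (mem_top u)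
      exact commutatorElement_eq_one_iff_mul_comm.1 (mem_bot.1 this)
    obtain ⟨Q, -, hQ, -, -⟩ := D.exists_two
    obtain ⟨x, -, hx⟩ := D.zpowers_lt hQ
    exact hx (hzc ▸ htop.ge (mem_top x))
  have hcard : Nat.card (center W) = 2 := by rw [hzc]; exact D.card_zpowers
  have hce : commutator W = center W := by
    refine SetLike.coe_injective (Set.eq_of_subset_of_ncard_le hder ?_ (Set.toFinite _))
    rw [← Nat.card_coe_set_eq, ← Nat.card_coe_set_eq]
    show Nat.card (center W) ≤ Nat.card (commutator W)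
    rw [hcard]
    exact (commutator W).one_lt_card_iff_ne_bot.2 hnab
  refine ⟨⟨D.hW, le_antisymm ?_ ?_, hce⟩, hcard⟩
  · exact CfsgLib.PGroupBasic.frattini_le_of_elementary (p := 2) _ hder
      fun w => hzc ▸ hsq w
  · rw [← hce]
    exact (CfsgLib.PGroupBasic.commutator_pow_le_frattini D.hW).1

theorem card_group {p : ℕ} [Fact p.Prime] (hA : IsPGroup p A) :
    Nat.card W = 2 ^ 5 ∨ Nat.card W = 2 ^ 7 ∨ Nat.card W = 2 ^ 9 := by
  classical
  haveI := Fintype.ofFinite (Subgroup W)
  set 𝒬 : Finset (Subgroup W) := Finset.univ.filter (IsQ (A := A) z) with h𝒬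
  have hmem : ∀ {Q : Subgroup W}, Q ∈ 𝒬 ↔ IsQ (A := A) z Q := by simp [h𝒬]
  have key : ∀ s : Finset (Subgroup W), s ⊆ 𝒬 →
      Nat.card ↥(s.sup id ⊔ zpowers z) = 2 ^ (2 * s.card + 1) := by
    intro s
    induction s using Finset.induction_on with
    | empty => intro _; simp [Finset.sup_empty, D.card_zpowers]
    | @insert Q s hQs ih =>
      intro hs
      have hQ : IsQ (A := A) z Q := hmem.1 (hs (Finset.mem_insert_self _ _))
      have hih := ih fun R hR => hs (Finset.mem_insert_of_mem hR)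
      set M := s.sup id ⊔ zpowers z with hM
      have hMc : ∀ m ∈ M, ∀ q ∈ Q, q * m = m * q := by
        have hle : M ≤ centralizer (Q : Set W) := by
          refine sup_le (Finset.sup_le fun R hR r hr => mem_centralizer_iff.2 fun q hq => ?_)
            (zpowers_le.2 (mem_centralizer_iff.2 fun q _ => mem_center_iff.1 D.zcen q))
          exact D.commute hQ (hmem.1 (hs (Finset.mem_insert_of_mem hR)))
            (fun e => hQs (e ▸ hR)) q hq r hr
        exact fun m hm q hq => mem_centralizer_iff.1 (hle hm) q hq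
      have hinter : Q ⊓ M = zpowers z := by
        refine le_antisymm (fun w hw => ?_)
          (le_inf (zpowers_le.2 (D.z_mem hQ)) le_sup_right)
        exact D.center_inf (D.isQ_inv hQ) hw.1 fun q hq => hMc w hw.2 q hq
      have hsup : (insert Q s).sup id ⊔ zpowers z = Q ⊔ M := by
        rw [Finset.sup_insert, id_eq, hM, sup_assoc]
      have hset : ((Q ⊔ M : Subgroup W) : Set W) = (Q : Set W) * (M : Set W) :=
        coe_mul_of_left_le_normalizer_right Q M fun q hq => by
          refine mem_normalizer_iff.2 fun m => ⟨fun hm => ?_, fun hm => ?_⟩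
          · rw [hMc m hm q hq, mul_inv_cancel_right]; exact hm
          · have h' := hMc _ hm q hq
            rw [show q * m * q⁻¹ * q = q * m by group] at h'
            rw [mul_left_cancel h'] at hm
            exact hm
      have h := CfsgLib.Factor.card_mul_set Q M
      rw [← hset, hinter, D.card_zpowers, D.isQ_card hQ, hih] at h
      rw [hsup, Finset.card_insert_of_notMem hQs]
      have h' : Nat.card ↥(Q ⊔ M) * 2 = 8 * 2 ^ (2 * s.card + 1) := h
      have h'' : 8 * 2 ^ (2 * s.card + 1) = 2 ^ (2 * (s.card + 1) + 1) * 2 := by ring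
      omega
  have htop : 𝒬.sup id ⊔ zpowers z = ⊤ := eq_top_iff.2 fun w _ =>
    D.top_le_of_q_le (mem_sup_right (mem_zpowers z))
      (fun Q hQ => le_sup_of_le_left (Finset.le_sup (f := id) (hmem.2 hQ))) w
  have hcardW : Nat.card W = 2 ^ (2 * 𝒬.card + 1) := by
    rw [← key 𝒬 (Finset.Subset.refl _), htop, Subgroup.card_top]
  have h2 : 2 ≤ 𝒬.card := by
    obtain ⟨Q, Q', hQ, hQ', hne⟩ := D.exists_two
    calc 2 = ({Q, Q'} : Finset _).card := (Finset.card_pair hne).symm
      _ ≤ 𝒬.card := Finset.card_le_card (by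
          intro R hR
          simp only [Finset.mem_insert, Finset.mem_singleton] at hR
          rcases hR with rfl | rfl
          exacts [hmem.2 hQ, hmem.2 hQ'])
  have h4 : 𝒬.card ≤ 4 := by
    haveI := Fintype.ofFinite A
    have h9 := D.card_acting hA
    have hk : ∀ Q ∈ 𝒬,
        2 ≤ (Finset.univ.filter fun a : A => a ≠ 1 ∧ ∀ w ∈ Q, a • w = w).card := by
      intro Q hQ
      obtain ⟨-, K, hK, hKiff⟩ := D.exists_kernel (hmem.1 hQ) hA
      have hc3 : Nat.card K = 3 := by
        have := K.card_mul_index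
        rw [hK, h9] at this
        omega
      have he : (Finset.univ.filter fun a : A => a ≠ 1 ∧ ∀ w ∈ Q, a • w = w) =
          (Finset.univ.filter (· ∈ K)).erase 1 := by
        ext a; simp [hKiff]
      rw [he, Finset.card_erase_of_mem (by simp), ← Fintype.card_subtype, ← Nat.card_eq_fintype_card]
      have : Nat.card {a : A // a ∈ K} = 3 := hc3
      omega
    have hdis : ∀ Q ∈ 𝒬, ∀ Q' ∈ 𝒬, Q ≠ Q' →
        Disjoint (Finset.univ.filter fun a : A => a ≠ 1 ∧ ∀ w ∈ Q, a • w = w)
          (Finset.univ.filter fun a : A => a ≠ 1 ∧ ∀ w ∈ Q', a • w = w) := by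
      intro Q hQ Q' hQ' hne
      rw [Finset.disjoint_left]
      intro a ha ha'
      simp only [Finset.mem_filter, Finset.mem_univ, true_and] at ha ha'
      exact hne ((D.eq_fix (hmem.1 hQ) ha.1 ha.2).trans (D.eq_fix (hmem.1 hQ') ha'.1 ha'.2).symm)
    have hsub : (𝒬.biUnion fun Q => Finset.univ.filter fun a : A => a ≠ 1 ∧ ∀ w ∈ Q, a • w = w) ⊆
        Finset.univ.erase 1 := by
      intro a ha
      simp only [Finset.mem_biUnion, Finset.mem_filter, Finset.mem_univ, true_and] at ha
      obtain ⟨Q, -, h1, -⟩ := ha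
      simp [h1]
    have h := Finset.card_le_card hsub
    rw [Finset.card_biUnion hdis, Finset.card_erase_of_mem (Finset.mem_univ _), Finset.card_univ,
      ← Nat.card_eq_fintype_card, h9] at h
    have := Finset.card_nsmul_le_sum 𝒬 _ 2 hk
    simp only [smul_eq_mul] at this
    omega
  interval_cases h : 𝒬.card
  · exact Or.inl hcardW
  · exact Or.inr (Or.inl hcardW)
  · exact Or.inr (Or.inr hcardW)

theorem fixed_eq_center : {x : W | ∀ a : A, a • x = x} = (center W : Set W) := by
  rw [D.center_eq]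
  ext x
  refine ⟨fun hx => D.mem_zpowers_of_fixed hx, fun hx a => ?_⟩
  rcases D.mem_zpowers_iff'.1 hx with rfl | rfl
  exacts [smul_one a, D.zfix a]

end Data

theorem Setup.main (S : Setup W A) {p : ℕ} [Fact p.Prime] (hA : IsPGroup p A) :
    Nat.card A = 9 ∧ Cfsg.IsExtraspecial 2 W ∧
      (Nat.card W = 2 ^ 5 ∨ Nat.card W = 2 ^ 7 ∨ Nat.card W = 2 ^ 9) ∧
      {x : W | ∀ a : A, a • x = x} = (center W : Set W) := by
  obtain ⟨z, h1, h2, h3, h4⟩ := S.exists_z
  have D : Data W A z :=
    { toSetup := S, zord := h1, zcen := h2, zfix := h3, zuniq := h4 }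
  exact ⟨D.card_acting hA, D.isExtraspecial, D.card_group hA, D.fixed_eq_center⟩

end

end CfsgLib.OneInvol
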