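import Cfsg.Agent.Dickson.Classification

/-!
Points of the projective line fixed by elements of large order in a finite `p'`-subgroup of `PGL₂`.
-/

set_option autoImplicit false

namespace CfsgLib.LocalB.PGLPoints

open CfsgLib.Dickson

variable {K : Type*} [Field K] [DecidableEq K] [IsAlgClosed K] (p : ℕ) [Fact p.Prime] [CharP K p]

theorem orders_four : ∀ σ : Equiv.Perm (Fin 4), σ ^ 4 = 1 ∨ σ ^ 3 = 1 := by decide +kernel

theorem orders_altFour : ∀ σ : Equiv.Perm (Fin 4), Equiv.Perm.sign σ = 1 → σ ^ 2 = 1 ∨ σ ^ 3 = 1 := by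
  decide +kernel

theorem orders_altFive : ∀ σ : Equiv.Perm (Fin 5), Equiv.Perm.sign σ = 1 →
    σ ^ 2 = 1 ∨ σ ^ 3 = 1 ∨ σ ^ 5 = 1 := by decide +kernel

theorem count_four : (Finset.univ.filter fun σ : Equiv.Perm (Fin 4) => σ ^ 4 = 1 ∧ σ ^ 2 ≠ 1).card = 6 := by
  decide +kernel

theorem pow_eq_one_of_equiv {G X : Type*} [Group G] [Group X] (e : G ≃* X) {g : G} {n : ℕ}
    (h : e g ^ n = 1) : g ^ n = 1 := e.injective (by rw [map_pow, h, map_one])

/-- An element of order more than two preserving a pair fixes it and nothing else. -/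
theorem mem_pair {x y z : OnePoint K} (hxy : x ≠ y) {g : PGL2 K}
    (hg : (g • x = x ∧ g • y = y) ∨ (g • x = y ∧ g • y = x)) (ho : 3 ≤ orderOf g) (hz : g • z = z) :
    z = x ∨ z = y := by
  rcases hg with ⟨hx, hy⟩ | ⟨hx, hy⟩
  · by_contra h
    push Not at h
    have := eq_one_of_fix_three hxy h.1.symm h.2.symm hx hy hz
    rw [this, orderOf_one] at ho
    omega
  · exfalso
    have h2 := sq_eq_one_of_swap hxy hx hy
    have : orderOf g ≤ 2 := Nat.le_of_dvd (by norm_num) (orderOf_dvd_of_pow_eq_one (by rw [pow_two]; exact h2))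
    omega

/-- The three outcomes: a pair containing all the points fixed by elements of order at least three,
or one of the three small groups. -/
theorem cases_of_tame (H : Subgroup (PGL2 K)) [Finite H] (hp : ¬ p ∣ Nat.card H) :
    (∃ x y : OnePoint K, ∀ g ∈ H, 3 ≤ orderOf g → ∀ z, g • z = z → z = x ∨ z = y) ∨
    Nonempty (H ≃* alternatingGroup (Fin 4)) ∨ Nonempty (H ≃* Equiv.Perm (Fin 4)) ∨
      Nonempty (H ≃* alternatingGroup (Fin 5)) := by
  rcases tame H (unipotents_empty p H hp) with ⟨x, y, hxy, h⟩ | ⟨x, y, hxy, h, -, -⟩ | ⟨hN, x, -, hs⟩ |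
      ⟨hN, x, -, hs⟩ | ⟨hN, x, -, hs⟩
  · exact Or.inl ⟨x, y, fun g hg ho z hz => mem_pair hxy (Or.inl (h g hg)) ho hz⟩
  · exact Or.inl ⟨x, y, fun g hg ho z hz => mem_pair hxy (h g hg) ho hz⟩
  · exact Or.inr (Or.inl (a4_of_stab H hN x hs))
  · exact Or.inr (Or.inr (Or.inl (s4_of_stab H hN x hs)))
  · exact Or.inr (Or.inr (Or.inr (a5_of_stab H hN x hs)))

/-- At most two points are fixed by elements of order at least six. -/
theorem two_points (H : Subgroup (PGL2 K)) [Finite H] (hp : ¬ p ∣ Nat.card H) (pt : Fin 3 → OnePoint K)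
    (hinj : Function.Injective pt) (h : ∀ i, ∃ g ∈ H, 6 ≤ orderOf g ∧ g • pt i = pt i) : False := by
  have hord : ∀ (g : PGL2 K) (hg : g ∈ H), (∃ n, 0 < n ∧ n ≤ 5 ∧ (⟨g, hg⟩ : H) ^ n = 1) → orderOf g ≤ 5 := by
    rintro g hg ⟨n, hn0, hn, he⟩
    have h1 : g ^ n = 1 := congrArg Subtype.val he
    exact (Nat.le_of_dvd hn0 (orderOf_dvd_of_pow_eq_one h1)).trans hn
  obtain ⟨g, hg, hgo, -⟩ := h 0
  rcases cases_of_tame p H hp with ⟨x, y, hxy⟩ | ⟨⟨e⟩⟩ | ⟨⟨e⟩⟩ | ⟨⟨e⟩⟩
  · have hmem : ∀ i, pt i = x ∨ pt i = y := fun i => by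
      obtain ⟨g, hg, ho, hz⟩ := h i
      exact hxy g hg (by omega) _ hz
    have h01 : pt 0 ≠ pt 1 := fun e => absurd (hinj e) (by decide)
    have h02 : pt 0 ≠ pt 2 := fun e => absurd (hinj e) (by decide)
    have h12 : pt 1 ≠ pt 2 := fun e => absurd (hinj e) (by decide)
    rcases hmem 0 with a | a <;> rcases hmem 1 with b | b <;> rcases hmem 2 with c | c <;>
      simp_all
  · have := hord g hg (by
      rcases orders_altFour (e ⟨g, hg⟩).1 (e ⟨g, hg⟩).2 with h | h
      · exact ⟨2, by norm_num, by norm_num, pow_eq_one_of_equiv e (Subtype.ext h)⟩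
      · exact ⟨3, by norm_num, by norm_num, pow_eq_one_of_equiv e (Subtype.ext h)⟩)
    omega
  · have := hord g hg (by
      rcases orders_four (e ⟨g, hg⟩) with h | h
      · exact ⟨4, by norm_num, by norm_num, pow_eq_one_of_equiv e h⟩
      · exact ⟨3, by norm_num, by norm_num, pow_eq_one_of_equiv e h⟩)
    omega
  · have := hord g hg (by
      rcases orders_altFive (e ⟨g, hg⟩).1 (e ⟨g, hg⟩).2 with h | h | h
      · exact ⟨2, by norm_num, by norm_num, pow_eq_one_of_equiv e (Subtype.ext h)⟩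
      · exact ⟨3, by norm_num, by norm_num, pow_eq_one_of_equiv e (Subtype.ext h)⟩
      · exact ⟨5, by norm_num, le_rfl, pow_eq_one_of_equiv e (Subtype.ext h)⟩)
    omega

/-- At most twelve points are fixed by elements of order four. -/
theorem twelve_points (H : Subgroup (PGL2 K)) [Finite H] (hp : ¬ p ∣ Nat.card H)
    (S : Finset (OnePoint K)) (h : ∀ z ∈ S, ∃ g ∈ H, orderOf g = 4 ∧ g • z = z) : S.card ≤ 12 := by
  classical
  rcases S.eq_empty_or_nonempty with rfl | ⟨z, hz⟩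
  · simp
  obtain ⟨g, hg, hgo, -⟩ := h z hz
  have hg4 : (⟨g, hg⟩ : H) ^ 2 ≠ 1 ∧ (⟨g, hg⟩ : H) ^ 3 ≠ 1 ∧ (⟨g, hg⟩ : H) ^ 5 ≠ 1 := by
    refine ⟨?_, ?_, ?_⟩ <;>
    · intro he
      have := orderOf_dvd_of_pow_eq_one (congrArg Subtype.val he : g ^ _ = 1)
      rw [hgo] at this
      norm_num at this
  rcases cases_of_tame p H hp with ⟨x, y, hxy⟩ | ⟨⟨e⟩⟩ | ⟨⟨e⟩⟩ | ⟨⟨e⟩⟩
  · have : S ⊆ {x, y} := fun w hw => by
      obtain ⟨g, hg, ho, hz⟩ := h w hw
      simpa using hxy g hg (by omega) _ hz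
    exact (Finset.card_le_card this).trans (Finset.card_le_two.trans (by norm_num))
  · rcases orders_altFour (e ⟨g, hg⟩).1 (e ⟨g, hg⟩).2 with h | h
    · exact absurd (pow_eq_one_of_equiv e (Subtype.ext h)) hg4.1
    · exact absurd (pow_eq_one_of_equiv e (Subtype.ext h)) hg4.2.1
  · obtain ⟨F, hF⟩ : ∃ F : Finset (Equiv.Perm (Fin 4)),
        F = Finset.univ.filter fun σ => σ ^ 4 = 1 ∧ σ ^ 2 ≠ 1 := ⟨_, rfl⟩
    let f : Equiv.Perm (Fin 4) → Finset (OnePoint K) := fun σ =>
      if hσ : ((e.symm σ : H) : PGL2 K) = 1 then ∅ else (fix_finite hσ).toFinset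
    have hsub : S ⊆ F.biUnion f := fun w hw => by
      obtain ⟨g, hg, ho, hz⟩ := h w hw
      refine Finset.mem_biUnion.2 ⟨e ⟨g, hg⟩, ?_, ?_⟩
      · rw [hF]
        refine Finset.mem_filter.2 ⟨Finset.mem_univ _, ?_, ?_⟩
        · rw [← map_pow, ← map_one e]
          exact congrArg e (Subtype.ext (by rw [SubmonoidClass.coe_pow, OneMemClass.coe_one, ← ho, pow_orderOf_eq_one]))
        · rw [← map_pow, ← map_one e]
          intro he
          have := orderOf_dvd_of_pow_eq_one (congrArg Subtype.val (e.injective he) : g ^ 2 = 1)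
          rw [ho] at this
          norm_num at this
      · have hne : g ≠ 1 := fun e => by rw [e, orderOf_one] at ho; omega
        simp only [f, MulEquiv.symm_apply_apply, dif_neg hne, Set.Finite.mem_toFinset]
        exact hz
    refine (Finset.card_le_card hsub).trans ((Finset.card_biUnion_le_card_mul F f 2 fun σ _ => ?_).trans ?_)
    · simp only [f]
      split
      · simp
      · rename_i hσ
        have h2 := encard_fix_le_two hσ
        rw [(fix_finite hσ).encard_eq_coe_toFinset_card] at h2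
        exact_mod_cast h2
    · rw [hF, count_four]
  · rcases orders_altFive (e ⟨g, hg⟩).1 (e ⟨g, hg⟩).2 with h | h | h
    · exact absurd (pow_eq_one_of_equiv e (Subtype.ext h)) hg4.1
    · exact absurd (pow_eq_one_of_equiv e (Subtype.ext h)) hg4.2.1
    · exact absurd (pow_eq_one_of_equiv e (Subtype.ext h)) hg4.2.2

end CfsgLib.LocalB.PGLPoints
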