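import Cfsg.Agent.Solvable.Huppert
import Cfsg.Agent.Solvable.Fitting
import Cfsg.Agent.Solvable.PGroupBasic
import Cfsg.Agent.Transfer.Frobenius

/-!
A finite group is supersolvable when the subgroup generated by a `p`-element and a conjugate of it
by a `q`-element never has order divisible by `q²`.
-/

set_option autoImplicit false
set_option linter.style.haveILetI false

namespace CfsgLib.PairSupersolvable

open Subgroup
open scoped commutatorElement

universe u

/-- The hypothesis of the criterion. -/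
def Hyp (G : Type u) [Group G] : Prop :=
  ∀ (p q : ℕ), p.Prime → q.Prime → p ≠ q → ∀ (x g : G), (∃ a : ℕ, orderOf x = p ^ a) →
    (∃ b : ℕ, orderOf g = q ^ b) →
      ¬ q ^ 2 ∣ Nat.card ↥(Subgroup.zpowers x ⊔ Subgroup.zpowers (g * x * g⁻¹))

theorem hyp_of_injective {G H : Type u} [Group G] [Group H] (f : H →* G) (hf : Function.Injective f)
    (h : Hyp G) : Hyp H := by
  intro p q hp hq hpq x g hx hg
  have := h p q hp hq hpq (f x) (f g) (by rwa [orderOf_injective f hf])
    (by rwa [orderOf_injective f hf])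
  rwa [← map_inv, ← map_mul, ← map_mul, ← MonoidHom.map_zpowers, ← MonoidHom.map_zpowers, ← Subgroup.map_sup,
    card_map_of_injective hf] at this

/-- A prime power element of a quotient lifts to one. -/
theorem exists_lift {G : Type u} [Group G] [Finite G] (N : Subgroup G) [N.Normal] {p : ℕ} (hp : p.Prime)
    (y : G ⧸ N) (hy : ∃ a, orderOf y = p ^ a) :
    ∃ x : G, (x : G ⧸ N) = y ∧ ∃ b, orderOf x = p ^ b := by
  haveI := Fact.mk hp
  obtain ⟨g, rfl⟩ := QuotientGroup.mk_surjective y
  obtain ⟨a, ha⟩ := hy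
  set m := orderOf g / p ^ (orderOf g).factorization p with hm
  have hmp : m.Coprime p := (Nat.coprime_ordCompl hp (orderOf_pos g).ne').symm
  obtain ⟨j, hj⟩ := exists_pow_eq_self_of_coprime (show m.Coprime (orderOf (g : G ⧸ N)) by
    rw [ha]; exact hmp.pow_right a)
  refine ⟨(g ^ m) ^ j, by rw [QuotientGroup.mk_pow, QuotientGroup.mk_pow, hj], ?_⟩
  have h1 : orderOf ((g ^ m) ^ j) ∣ p ^ (orderOf g).factorization p := by
    refine (orderOf_pow_dvd j).trans ?_
    refine orderOf_dvd_of_pow_eq_one ?_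
    rw [← pow_mul, hm, Nat.div_mul_cancel (Nat.ordProj_dvd _ p), pow_orderOf_eq_one]
  obtain ⟨b, -, hb⟩ := (Nat.dvd_prime_pow hp).1 h1
  exact ⟨b, hb⟩

theorem hyp_quotient {G : Type u} [Group G] [Finite G] (N : Subgroup G) [N.Normal] (h : Hyp G) :
    Hyp (G ⧸ N) := by
  intro p q hp hq hpq x g hx hg hd
  obtain ⟨x, rfl, hx'⟩ := exists_lift N hp x hx
  obtain ⟨g, rfl, hg'⟩ := exists_lift N hq g hg
  refine h p q hp hq hpq x g hx' hg' (hd.trans ?_)
  rw [← QuotientGroup.mk_inv, ← QuotientGroup.mk_mul, ← QuotientGroup.mk_mul,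
    ← QuotientGroup.mk'_apply N x, ← QuotientGroup.mk'_apply N (g * x * g⁻¹),
    ← MonoidHom.map_zpowers, ← MonoidHom.map_zpowers, ← Subgroup.map_sup]
  exact card_map_dvd _ _

/-- In a supersolvable group, elements of order prime to `p` centralize `p`-subgroups that they
normalize when `p` is the smallest prime. -/
theorem centralize_of_min {p : ℕ} [Fact p.Prime] {H : Type u} [Group H] [Finite H]
    (h : Cfsg.IsSupersolvable H) :
    (∀ r : ℕ, r.Prime → r ∣ Nat.card H → p ≤ r) → ∀ Q : Subgroup H, Q.Normal → IsPGroup p Q →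
      ∀ g : H, (orderOf g).Coprime p → ∀ x ∈ Q, g * x = x * g := by
  refine CfsgLib.Supersolvable.induction_prime (fun H _ _ =>
    (∀ r : ℕ, r.Prime → r ∣ Nat.card H → p ≤ r) → ∀ Q : Subgroup H, Q.Normal → IsPGroup p Q →
      ∀ g : H, (orderOf g).Coprime p → ∀ x ∈ Q, g * x = x * g) ?_ ?_ H h
  · intro G _ _ hs _ Q _ _ g _ x _
    exact Subsingleton.elim _ _
  intro G _ _ N hN hr _ ih hmin Q hQ hQp g hg x hx
  set π := QuotientGroup.mk' N
  have hπs : Function.Surjective π := QuotientGroup.mk'_surjective N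
  have him : π g * π x = π x * π g := by
    refine ih (fun r hr hd => hmin r hr (hd.trans ?_)) (Q.map π) (hQ.map π hπs) (hQp.map π) (π g)
      (hg.coprime_dvd_left (orderOf_map_dvd π g)) (π x) (mem_map_of_mem π hx)
    exact Subgroup.card_quotient_dvd_card N
  have hn : ⁅x, g⁆ ∈ N := by
    rw [← QuotientGroup.ker_mk' N, MonoidHom.mem_ker, map_commutatorElement,
      commutatorElement_eq_one_iff_mul_comm]
    exact him.symm
  have hnQ : ⁅x, g⁆ ∈ Q := by
    rw [commutatorElement_def, mul_assoc, mul_assoc, ← mul_assoc g]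
    exact Q.mul_mem hx (hQ.conj_mem _ (Q.inv_mem hx) g)
  have key : ⁅x, g⁆ = 1 := by
    by_cases hNp : Nat.card N = p
    swap
    · have hd : N ⊓ Q = ⊥ := by
        refine Subgroup.inf_eq_bot_of_coprime ?_
        obtain ⟨k, hk⟩ := hQp.exists_card_eq
        rw [hk]
        exact ((Nat.coprime_primes hr Fact.out).2 hNp).pow_right k
      exact mem_bot.1 (hd ▸ ⟨hn, hnQ⟩)
    -- `g` centralizes `N`
    haveI : IsCyclic N := isCyclic_of_prime_card (p := p) (hNp)
    have hgN : ∀ n ∈ N, g * n = n * g := by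
      have h1 : orderOf (MulAut.conjNormal (H := N) g) ∣ orderOf g := orderOf_map_dvd _ g
      have h2 : orderOf (MulAut.conjNormal (H := N) g) ∣ p - 1 := by
        refine (_root_.orderOf_dvd_natCard _).trans ?_
        rw [IsCyclic.card_mulAut, hNp, Nat.totient_prime Fact.out]
      have h3 : orderOf (MulAut.conjNormal (H := N) g) = 1 := by
        by_contra hne
        obtain ⟨r, hr', hrd⟩ := Nat.exists_prime_and_dvd hne
        have hrp : r ≤ p - 1 := Nat.le_of_dvd (Nat.sub_pos_of_lt (Fact.out : p.Prime).one_lt) (hrd.trans h2)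
        have := hmin r hr' ((hrd.trans h1).trans (orderOf_dvd_natCard g))
        have := (Fact.out : p.Prime).one_lt
        omega
      intro n hn
      have h4 := congrArg Subtype.val (MulEquiv.congr_fun (orderOf_eq_one_iff.1 h3) ⟨n, hn⟩)
      rw [MulAut.conjNormal_apply] at h4
      exact mul_inv_eq_iff_eq_mul.1 h4
    set n := ⁅x, g⁆
    have hxg : x * g * x⁻¹ = n * g := by simp [n, commutatorElement_def, mul_assoc]
    have hc : Commute n g := (hgN n hn).symm
    have h5 : (n * g) ^ orderOf g = 1 := by rw [← hxg, conj_pow, pow_orderOf_eq_one, mul_one, mul_inv_cancel]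
    rw [hc.mul_pow, pow_orderOf_eq_one, mul_one] at h5
    have h6 : orderOf n ∣ p := hNp ▸ Subgroup.orderOf_dvd_natCard N hn
    exact orderOf_eq_one_iff.1 (Nat.eq_one_of_dvd_coprimes hg (orderOf_dvd_of_pow_eq_one h5) h6)
  exact (commutatorElement_eq_one_iff_mul_comm.1 key).symm

/-- A finite group all whose proper subgroups are supersolvable is solvable. -/
theorem solvable_of_proper (n : ℕ) : ∀ (G : Type u) [Group G] [Finite G], Nat.card G = n →
    (∀ H : Subgroup G, H ≠ ⊤ → Cfsg.IsSupersolvable H) → Group.IsSolvable G := by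
  induction n using Nat.strongRecOn with | ind n ih => ?_
  rintro G _ _ rfl hsub
  rcases subsingleton_or_nontrivial G with h1 | h1
  · infer_instance
  by_cases hsimp : ∃ N : Subgroup G, N.Normal ∧ N ≠ ⊥ ∧ N ≠ ⊤
  · obtain ⟨N, hN, hN1, hN2⟩ := hsimp
    haveI := CfsgLib.Supersolvable.isSolvable (hsub N hN2)
    haveI : Group.IsSolvable (G ⧸ N) := by
      refine ih _ (CfsgLib.Solvable.card_quotient_lt hN1) _ rfl fun X hX => ?_
      have hne : X.comap (QuotientGroup.mk' N) ≠ ⊤ := fun e => hX (by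
        rw [← map_comap_eq_self_of_surjective (QuotientGroup.mk'_surjective N) X, e,
          map_top_of_surjective _ (QuotientGroup.mk'_surjective N)])
      exact CfsgLib.Supersolvable.of_surjective ((QuotientGroup.mk' N).subgroupComap X)
        (MonoidHom.subgroupComap_surjective_of_surjective _ X (QuotientGroup.mk'_surjective N)) (hsub _ hne)
    exact Group.isSolvable_of_ker_le_range N.subtype (QuotientGroup.mk' N)
      (by rw [QuotientGroup.ker_mk', range_subtype])
  push Not at hsimp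
  have hpr : (Nat.minFac (Nat.card G)).Prime := Nat.minFac_prime (Finite.one_lt_card).ne'
  set p := Nat.minFac (Nat.card G)
  haveI := Fact.mk hpr
  by_cases hab : ∀ Q : Subgroup G, IsPGroup p Q → ∀ g ∈ normalizer (Q : Set G),
      (orderOf g).Coprime p → g ∈ centralizer (Q : Set G)
  · obtain ⟨P, N, hN, hc⟩ := CfsgLib.Fusion.hasNormalPComplement_of_localCondition hab
    have hNtop : N ≠ ⊤ := by
      intro e
      have h := hc.card_mul
      rw [e, card_top] at h
      have h2 : Nat.card (P : Subgroup G) = 1 :=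
        Nat.eq_of_mul_eq_mul_left Nat.card_pos (h.trans (mul_one _).symm)
      exact P.ne_bot_of_dvd_card (Nat.minFac_dvd _) (Subgroup.card_eq_one.1 h2)
    by_cases hN1 : N = ⊥
    · haveI : Group.IsNilpotent (P : Subgroup G) := P.2.isNilpotent
      haveI : Group.IsSolvable (P : Subgroup G) := IsNilpotent.to_isSolvable
      have hP : (P : Subgroup G) = ⊤ := by
        refine Subgroup.eq_top_of_card_eq _ ?_
        have h := hc.card_mul
        rwa [hN1, card_bot, one_mul] at h
      exact solvable_of_surjective (f := (P : Subgroup G).subtype) fun g => ⟨⟨g, hP ▸ mem_top g⟩, rfl⟩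
    · exact absurd (hsimp N hN hN1) hNtop
  exfalso
  push Not at hab
  obtain ⟨Q, hQ, g, hg, hco, hgc⟩ := hab
  have hQ1 : Q ≠ ⊥ := fun e => hgc (mem_centralizer_iff.2 fun x hx => by
    rw [e] at hx
    rw [mem_bot.1 (show x ∈ (⊥ : Subgroup G) from hx)]; simp)
  have hQn : normalizer (Q : Set G) ≠ ⊤ := by
    intro e
    have h2 := hsimp Q (normalizer_eq_top_iff.1 e) hQ1
    exact hgc (by
      have : g = 1 := by
        refine orderOf_eq_one_iff.1 ?_
        obtain ⟨k, hk⟩ := hQ.exists_card_eq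
        rw [h2, card_top] at hk
        exact Nat.eq_one_of_dvd_coprimes (hco.pow_right k) dvd_rfl (hk ▸ orderOf_dvd_natCard g)
      rw [this]; exact one_mem _)
  refine hgc (mem_centralizer_iff.2 fun x hx => ?_)
  set X := normalizer (Q : Set G)
  have := centralize_of_min (p := p) (hsub X hQn)
    (fun r hr hd => Nat.minFac_le_of_dvd hr.two_le (hd.trans (card_subgroup_dvd_card X)))
    (Q.subgroupOf X) ((normal_subgroupOf_iff_le_normalizer Subgroup.le_normalizer).2 le_rfl)
    (hQ.comap_of_injective X.subtype X.subtype_injective) ⟨g, hg⟩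
    (by rwa [Subgroup.orderOf_mk]) ⟨x, Subgroup.le_normalizer hx⟩ hx
  exact (congrArg Subtype.val this).symm

variable {G : Type u} [Group G] [Finite G]

/-- The elements acting on `N` by conjugation as a power map. -/
def scalarSub (N : Subgroup G) : Subgroup G where
  carrier := {x | ∃ k : ℕ, ∀ n ∈ N, x * n * x⁻¹ = n ^ k}
  one_mem' := ⟨1, fun n _ => by simp⟩
  mul_mem' := by
    rintro a b ⟨i, hi⟩ ⟨j, hj⟩
    refine ⟨i * j, fun n hn => ?_⟩
    rw [show a * b * n * (a * b)⁻¹ = a * (b * n * b⁻¹) * a⁻¹ by group, hj n hn, ← conj_pow, hi n hn, pow_mul]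
  inv_mem' := by
    rintro a ⟨i, hi⟩
    have h : ∀ m : ℕ, ∀ n ∈ N, a ^ m * n * (a ^ m)⁻¹ = n ^ (i ^ m) := by
      intro m
      induction m with
      | zero => intro n _; simp
      | succ m ih =>
        intro n hn
        rw [pow_succ, show a ^ m * a * n * (a ^ m * a)⁻¹ = a ^ m * (a * n * a⁻¹) * (a ^ m)⁻¹ by group,
          hi n hn, ← conj_pow, ih n hn, ← pow_mul, pow_succ]
    refine ⟨i ^ (orderOf a - 1), fun n hn => ?_⟩
    have e : a⁻¹ = a ^ (orderOf a - 1) := by
      refine inv_eq_of_mul_eq_one_right ?_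
      rw [← pow_succ', Nat.sub_add_cancel (orderOf_pos a), pow_orderOf_eq_one]
    rw [e]
    exact h _ n hn

/-- The primitive solvable configuration: `G = N M`. -/
theorem card_prime_of_complement {p : ℕ} [hp : Fact p.Prime] (h : Hyp G) {N M : Subgroup G} [hN : N.Normal]
    (hN1 : N ≠ ⊥) (hab : IsMulCommutative ↥N) (hexp : ∀ n ∈ N, n ^ p = 1) (htop : N ⊔ M = ⊤)
    (hmin : ∀ K : Subgroup G, K.Normal → K ≤ N → K = ⊥ ∨ K = N)
    (hfaith : M ⊓ centralizer (N : Set G) = ⊥) (hMs : Cfsg.IsSupersolvable M) : (Nat.card N).Prime := by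
  classical
  haveI hMsolv := CfsgLib.Supersolvable.isSolvable hMs
  have hcomm : ∀ a ∈ N, ∀ b ∈ N, Commute a b := fun a ha b hb =>
    congrArg Subtype.val (hab.is_comm.comm ⟨a, ha⟩ ⟨b, hb⟩)
  have hNp : IsPGroup p ↥N := fun a => ⟨1, Subtype.ext (by simpa using hexp a a.2)⟩
  -- a subgroup of `N` normalized by `M` is trivial or everything
  have hirr : ∀ K : Subgroup G, K ≤ N → M ≤ normalizer (K : Set G) → K = ⊥ ∨ K = N := by
    intro K hK hM
    refine hmin K (normalizer_eq_top_iff.1 (top_le_iff.1 (htop.ge.trans (sup_le ?_ hM)))) hK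
    exact fun n hn => centralizer_le_normalizer _ (mem_centralizer_iff.2 fun k hk => (hcomm k (hK hk) n hn).eq)
  -- the displacement of `x`
  have hline : ∀ (r : ℕ), r.Prime → r ≠ p → ∀ (x : G), (∃ a, orderOf x = r ^ a) → ∀ n ∈ N,
      x * (n * x * n⁻¹ * x⁻¹) * x⁻¹ ∈ zpowers (n * x * n⁻¹ * x⁻¹) := by
    intro r hr hrp x hx n hn
    set c := n * x * n⁻¹ * x⁻¹ with hc
    set H := zpowers x ⊔ zpowers (n * x * n⁻¹)
    have hxH : x ∈ H := mem_sup_left (mem_zpowers x)
    have hcH : c ∈ H := H.mul_mem (mem_sup_right (mem_zpowers _)) (H.inv_mem hxH)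
    have hcN : c ∈ N := by
      rw [hc, mul_assoc, mul_assoc, ← mul_assoc x]
      exact N.mul_mem hn (hN.conj_mem _ (N.inv_mem hn) x)
    by_cases hc1 : c = 1
    · rw [hc1]; simp
    have hdiv := h r p hr hp.out hrp x n hx (by
      obtain ⟨b, -, hb⟩ := (Nat.dvd_prime_pow hp.out).1
        (show orderOf n ∣ p ^ 1 by rw [pow_one]; exact orderOf_dvd_of_pow_eq_one (hexp n hn))
      exact ⟨b, hb⟩)
    have hord : orderOf c = p := orderOf_eq_prime (hexp c hcN) hc1
    have heq : zpowers c = H ⊓ N := by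
      refine Subgroup.eq_of_le_of_card_ge (zpowers_le.2 ⟨hcH, hcN⟩) ?_
      rw [Nat.card_zpowers, hord]
      obtain ⟨i, hi⟩ := (hNp.to_le (inf_le_right : H ⊓ N ≤ N)).exists_card_eq
      rw [hi]
      rcases Nat.lt_or_ge i 2 with h2 | h2
      · calc p ^ i ≤ p ^ 1 := Nat.pow_le_pow_right hp.out.pos (by omega)
          _ = p := pow_one p
      · exact absurd ((pow_dvd_pow p h2).trans (hi ▸ card_dvd_of_le inf_le_left)) hdiv
    rw [heq]
    exact ⟨H.mul_mem (H.mul_mem hxH hcH) (H.inv_mem hxH), hN.conj_mem c hcN x⟩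
  -- a fixed-point subgroup
  have hfixed : ∀ x : G, (∀ y ∈ M, y * x = x * y) → N ⊓ centralizer ({x} : Set G) = ⊥ ∨
      x ∈ centralizer (N : Set G) := by
    intro x hx
    have hnorm : M ≤ normalizer (((N ⊓ centralizer ({x} : Set G)) : Subgroup G) : Set G) := by
      intro y hy
      refine mem_normalizer_fintype fun n hn => ⟨hN.conj_mem n hn.1 y, mem_centralizer_singleton_iff.2 ?_⟩
      have h1 : Commute x n := (mem_centralizer_singleton_iff.1 hn.2).symm
      exact ((show Commute x y from (hx y hy).symm).mul_right h1 |>.mul_right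
        (show Commute x y from (hx y hy).symm).inv_right).eq.symm
    rcases hirr (N ⊓ centralizer ({x} : Set G)) inf_le_left hnorm with h' | h'
    · exact Or.inl h'
    · refine Or.inr (mem_centralizer_iff.2 fun n hn => ?_)
      exact mem_centralizer_singleton_iff.1 ((h'.ge hn).2)
  -- all displacements are eigenvectors for a single exponent
  have heig : ∀ (r : ℕ), r.Prime → r ≠ p → ∀ (x : G), (∃ a, orderOf x = r ^ a) →
      ∃ k : ℕ, ∀ n ∈ N, x * (n * x * n⁻¹ * x⁻¹) * x⁻¹ = (n * x * n⁻¹ * x⁻¹) ^ k := by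
    intro r hr hrp x hx
    set φ : G → G := fun n => n * x * n⁻¹ * x⁻¹ with hφ
    have hmem : ∀ n ∈ N, φ n ∈ N := fun n hn => by
      simp only [hφ]
      rw [mul_assoc, mul_assoc, ← mul_assoc x]
      exact N.mul_mem hn (hN.conj_mem _ (N.inv_mem hn) x)
    have hmul : ∀ a ∈ N, ∀ b ∈ N, φ (a * b) = φ a * φ b := fun a ha b hb => by
      calc φ (a * b) = a * φ b * (x * a⁻¹ * x⁻¹) := by simp only [hφ]; group
        _ = φ b * (a * (x * a⁻¹ * x⁻¹)) := by rw [(hcomm a ha _ (hmem b hb)).eq, mul_assoc]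
        _ = φ b * φ a := by simp only [hφ]; group
        _ = φ a * φ b := (hcomm _ (hmem a ha) _ (hmem b hb)).eq.symm
    have hl : ∀ n ∈ N, ∃ k : ℕ, x * φ n * x⁻¹ = φ n ^ k := fun n hn => by
      obtain ⟨k, hk⟩ := (isOfFinOrder_of_finite _).mem_zpowers_iff_mem_range_orderOf.1 (hline r hr hrp x hx n hn) |> Finset.mem_image.1
      exact ⟨k, hk.2.symm⟩
    by_cases hall : ∀ n ∈ N, φ n = 1
    · exact ⟨1, fun n hn => by rw [show n * x * n⁻¹ * x⁻¹ = 1 from hall n hn]; simp⟩
    push Not at hall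
    obtain ⟨a, ha, ha1⟩ := hall
    obtain ⟨k, hk⟩ := hl a ha
    refine ⟨k, fun n hn => ?_⟩
    show x * φ n * x⁻¹ = φ n ^ k
    by_cases hin : φ n ∈ zpowers (φ a)
    · obtain ⟨i, hi⟩ := mem_zpowers_iff.1 hin
      rw [← hi, ← conj_zpow, hk, ← zpow_natCast, ← zpow_natCast, ← zpow_mul, ← zpow_mul, mul_comm]
    obtain ⟨j, hj⟩ := hl n hn
    obtain ⟨l, hl'⟩ := hl (a * n) (N.mul_mem ha hn)
    rw [hmul a ha n hn, (hcomm _ (hmem a ha) _ (hmem n hn)).mul_pow,
      show x * (φ a * φ n) * x⁻¹ = (x * φ a * x⁻¹) * (x * φ n * x⁻¹) by group, hk, hj] at hl'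
    have e : (φ n) ^ ((j : ℤ) - l) = (φ a) ^ ((l : ℤ) - k) := by
      rw [zpow_sub, zpow_sub, zpow_natCast, zpow_natCast, zpow_natCast, zpow_natCast, mul_inv_eq_iff_eq_mul]
      calc φ n ^ j = (φ a ^ k)⁻¹ * (φ a ^ k * φ n ^ j) := by group
        _ = (φ a ^ k)⁻¹ * (φ a ^ l * φ n ^ l) := by rw [hl']
        _ = φ a ^ l * (φ a ^ k)⁻¹ * φ n ^ l := by
          rw [← mul_assoc, ((Commute.pow_pow (Commute.refl (φ a)) k l).inv_left).eq]
    have hpn : orderOf (φ n) = p := orderOf_eq_prime (hexp _ (hmem n hn)) fun e1 => hin (e1 ▸ one_mem _)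
    have hpa : orderOf (φ a) = p := orderOf_eq_prime (hexp _ (hmem a ha)) ha1
    have hd : (p : ℤ) ∣ (j : ℤ) - l := by
      by_contra hnd
      refine hin ?_
      obtain ⟨u, v, huv⟩ := (Prime.coprime_iff_not_dvd (Nat.prime_iff_prime_int.1 hp.out)).2 hnd
      have e2 : φ n = ((φ n) ^ ((j : ℤ) - l)) ^ v := by
        rw [← zpow_mul]
        conv_lhs => rw [← zpow_one (φ n), ← huv, zpow_add, mul_comm u, zpow_mul, zpow_natCast, hexp _ (hmem n hn), one_zpow, one_mul, mul_comm v]
      rw [e2, e]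
      exact zpow_mem (zpow_mem (mem_zpowers _) _) _
    have hd2 : (p : ℤ) ∣ (l : ℤ) - k := by
      rw [← hpa]
      refine orderOf_dvd_iff_zpow_eq_one.2 ?_
      rw [← e]
      exact orderOf_dvd_iff_zpow_eq_one.1 (hpn.symm ▸ hd)
    rw [hj, ← zpow_natCast, ← zpow_natCast]
    refine (zpow_eq_zpow_iff_modEq.2 ?_)
    rw [hpn, Int.modEq_iff_dvd]
    have := hd.add hd2
    rw [dvd_sub_comm]
    simpa using this
  set Sc := scalarSub N
  have hScC : ∀ x ∈ M, x ∈ Sc → ∀ y ∈ M, y * x = x * y := by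
    rintro x hxM ⟨k, hk⟩ y hy
    have hc : x * y * x⁻¹ * y⁻¹ ∈ M ⊓ centralizer (N : Set G) := by
      refine ⟨M.mul_mem (M.mul_mem (M.mul_mem hxM hy) (M.inv_mem hxM)) (M.inv_mem hy),
        mem_centralizer_iff.2 fun n hn => ?_⟩
      set m := y⁻¹ * n * y with hm
      have hmN : m ∈ N := by simpa [hm] using hN.conj_mem n hn y⁻¹
      have hn' : n = y * m * y⁻¹ := by rw [hm]; group
      have h1 : (x * y * x⁻¹ * y⁻¹) * n * (x * y * x⁻¹ * y⁻¹)⁻¹ = x * y * (x⁻¹ * m * x) * (x * y)⁻¹ := by
        rw [hn']; group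
      set m' := x⁻¹ * m * x with hm'
      have hm'N : m' ∈ N := by simpa [hm'] using hN.conj_mem m hmN x⁻¹
      have h2 : m = m' ^ k := by rw [← hk m' hm'N, hm']; group
      have h3 : x * y * m' * (x * y)⁻¹ = y * m * y⁻¹ := by
        rw [show x * y * m' * (x * y)⁻¹ = x * (y * m' * y⁻¹) * x⁻¹ by group,
          hk _ (hN.conj_mem m' hm'N y), conj_pow, ← h2]
      rw [h3, ← hn'] at h1
      exact (mul_inv_eq_iff_eq_mul.1 h1).symm
    rw [hfaith, mem_bot, mul_inv_eq_one, mul_inv_eq_iff_eq_mul] at hc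
    exact hc.symm
  -- every minimal normal subgroup of `M` acts by scalars
  have hA : ∀ A : Subgroup ↥M, A.Normal → ∀ r : ℕ, r.Prime → Nat.card A = r →
      r ≠ p ∧ ∀ a : ↥M, a ∈ A → (a : G) ∈ Sc := by
    intro A hAn r hr hAr
    haveI := Fact.mk hr
    have hcyc : ∀ a : ↥M, a ∈ A → a ≠ 1 → zpowers a = A := fun a ha ha1 => by
      refine Subgroup.eq_of_le_of_card_ge (zpowers_le.2 ha) ?_
      rw [Nat.card_zpowers, hAr]
      exact ((Nat.dvd_prime hr).1 (hAr ▸ Subgroup.orderOf_dvd_natCard A ha)).resolve_left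
        (fun e => ha1 (orderOf_eq_one_iff.1 e)) |>.ge
    have hfix : ∀ a : ↥M, a ∈ A → a ≠ 1 → N ⊓ centralizer ({(a : G)} : Set G) = ⊥ := by
      intro a ha ha1
      have hnorm : M ≤ normalizer (((N ⊓ centralizer ({(a : G)} : Set G)) : Subgroup G) : Set G) := by
        intro y hy
        refine mem_normalizer_fintype fun n hn => ⟨hN.conj_mem n hn.1 y, mem_centralizer_singleton_iff.2 ?_⟩
        obtain ⟨i, hi⟩ := mem_zpowers_iff.1 ((hcyc a ha ha1).ge (hAn.conj_mem a ha ⟨y, hy⟩⁻¹))
        have h1 : Commute ((y⁻¹ * a * y : G)) n := by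
          have h2 : Commute (a : G) n := (mem_centralizer_singleton_iff.1 hn.2).symm
          have h3 := congrArg Subtype.val hi
          simp only [Subgroup.coe_zpow, Subgroup.coe_mul, Subgroup.coe_inv, inv_inv] at h3
          rw [← h3]
          exact h2.zpow_left i
        have h4 := h1.map (MulAut.conj y).toMonoidHom
        simp only [MulEquiv.coe_toMonoidHom, MulAut.conj_apply] at h4
        rw [show y * (y⁻¹ * (a : G) * y) * y⁻¹ = a by group] at h4
        exact h4.symm.eq
      rcases hirr (N ⊓ centralizer ({(a : G)} : Set G)) inf_le_left hnorm with h' | h'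
      · exact h'
      · exfalso
        refine ha1 (Subtype.ext (mem_bot.1 (hfaith ▸ (⟨a.2, mem_centralizer_iff.2 fun n hn =>
          mem_centralizer_singleton_iff.1 ((h'.ge hn).2)⟩ : (a : G) ∈ M ⊓ centralizer (N : Set G)))))
    obtain ⟨⟨a, ha⟩, ha1⟩ := ne_bot_iff_exists_ne_one.1 (fun e : A = ⊥ => hr.one_lt.ne' (hAr.symm.trans (by rw [e, card_bot])))
    have ha1' : a ≠ 1 := fun e => ha1 (Subtype.ext e)
    have hrp : r ≠ p := by
      intro hrp
      subst hrp
      -- a `p`-group fixes a point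
      set X := N ⊔ zpowers (a : G)
      have hX : IsPGroup r X := by
        refine hNp.to_sup_of_normal_left ?_
        refine IsPGroup.of_card (n := 1) ?_
        rw [Nat.card_zpowers, Subgroup.orderOf_coe, pow_one, ← hAr, ← hcyc a ha ha1', Nat.card_zpowers]
      haveI := hX.isNilpotent
      haveI : (N.subgroupOf X).Normal := Normal.subgroupOf hN X
      have h1 := PGroupBasic.inf_center_ne_bot (N.subgroupOf X) (by
        rw [Ne, subgroupOf_eq_bot, disjoint_iff, inf_eq_left.2 le_sup_left]; exact hN1)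
      obtain ⟨⟨z, hz1, hz2⟩, hz⟩ := ne_bot_iff_exists_ne_one.1 h1
      have hzC : (z : G) ∈ N ⊓ centralizer ({(a : G)} : Set G) :=
        ⟨hz1, mem_centralizer_singleton_iff.2 (congrArg Subtype.val
          (mem_center_iff.1 hz2 ⟨a, mem_sup_right (mem_zpowers _)⟩)).symm⟩
      rw [hfix a ha ha1', mem_bot] at hzC
      exact hz (Subtype.ext (Subtype.ext hzC))
    refine ⟨hrp, fun b hb => ?_⟩
    by_cases hb1 : b = 1
    · rw [hb1]; exact one_mem _
    obtain ⟨k, hk⟩ := heig r hr hrp (b : G) (by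
      rw [Subgroup.orderOf_coe]
      obtain ⟨i, -, hi⟩ := (Nat.dvd_prime_pow hr).1 (show orderOf b ∣ r ^ 1 by
        rw [pow_one, ← hAr]; exact Subgroup.orderOf_dvd_natCard A hb)
      exact ⟨i, hi⟩)
    -- the displacement map is onto
    set φ : N → N := fun n => ⟨(n : G) * b * (n : G)⁻¹ * (b : G)⁻¹, by
      rw [mul_assoc, mul_assoc, ← mul_assoc (b : G)]
      exact N.mul_mem n.2 (hN.conj_mem _ (N.inv_mem n.2) b)⟩
    have hinj : Function.Injective φ := by
      intro n m hnm
      have h0 : (n : G) * b * (n : G)⁻¹ = (m : G) * b * (m : G)⁻¹ := mul_right_cancel (congrArg Subtype.val hnm)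
      have h1 : ((m : G)⁻¹ * n) * b = b * ((m : G)⁻¹ * n) := by
        calc ((m : G)⁻¹ * n) * b = (m : G)⁻¹ * ((n : G) * b * (n : G)⁻¹) * n := by group
          _ = _ := by rw [h0]; group
      have h2 : (m : G)⁻¹ * n ∈ N ⊓ centralizer ({(b : G)} : Set G) :=
        ⟨N.mul_mem (N.inv_mem m.2) n.2, mem_centralizer_singleton_iff.2 h1⟩
      rw [hfix b hb hb1, mem_bot, inv_mul_eq_one] at h2
      exact Subtype.ext h2.symm
    refine ⟨k, fun n hn => ?_⟩
    obtain ⟨m, hm⟩ := (Finite.injective_iff_surjective.1 hinj) ⟨n, hn⟩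
    rw [show n = (φ m : G) from (congrArg Subtype.val hm).symm]
    exact hk m m.2
  -- the prime parts of the Fitting subgroup of `M` act by scalars
  have hsc : ∀ r : ℕ, r.Prime → ∀ x : ↥M, x ∈ Cfsg.pCore r ↥M → (x : G) ∈ Sc := by
    intro r hr
    haveI := Fact.mk hr
    set S := Cfsg.pCore r ↥M
    haveI hSn : S.Normal := Solvable.pCore_normal r
    by_cases hS1 : S = ⊥
    · intro x hx
      rw [hS1, mem_bot] at hx
      rw [hx]; exact one_mem _
    obtain ⟨A, hAn, hAS, hAr⟩ := CfsgLib.Supersolvable.exists_prime_normal_le hMs S hSn hS1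
    have hcard : Nat.card A = r := by
      obtain ⟨i, hi⟩ := ((Solvable.isPGroup_pCore r).to_le hAS).exists_card_eq
      rcases i with _ | i
      · exact absurd (hi.trans (pow_zero r)) hAr.ne_one
      · exact (Nat.prime_dvd_prime_iff_eq hr hAr).1 (hi ▸ dvd_pow_self r i.succ_ne_zero) |>.symm
    obtain ⟨hrp, hAsc⟩ := hA A hAn r hr hcard
    obtain ⟨⟨a, ha⟩, ha1⟩ := ne_bot_iff_exists_ne_one.1 (fun e : A = ⊥ => hr.one_lt.ne' (hcard.symm.trans (by rw [e, card_bot])))
    have haSc : (a : G) ∈ Sc := hAsc a ha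
    have hac : ∀ y : ↥M, Commute y a := fun y => Subtype.ext (hScC a a.2 haSc y y.2)
    have hfa : N ⊓ centralizer ({(a : G)} : Set G) = ⊥ := (hfixed a (hScC a a.2 haSc)).resolve_right fun hc =>
      ha1 (Subtype.ext (Subtype.ext (mem_bot.1 (hfaith ▸ ⟨a.2, hc⟩))))
    -- non-scalar `r`-elements are involutions
    have hinv : ∀ x : ↥M, (∃ i, orderOf x = r ^ i) → (x : G) ∉ Sc → r = 2 ∧ x * x = 1 := by
      intro x hx hns
      obtain ⟨k, hk⟩ := heig r hr hrp (x : G) (by rw [Subgroup.orderOf_coe]; exact hx)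
      set D : G → G := fun n => n * (x : G) * n⁻¹ * (x : G)⁻¹ with hD
      have hDN : ∀ n ∈ N, D n ∈ N := fun n hn => by
        simp only [hD]
        rw [mul_assoc, mul_assoc, ← mul_assoc (x : G)]
        exact N.mul_mem hn (hN.conj_mem _ (N.inv_mem hn) _)
      -- a fixed point
      obtain ⟨n₀, hn₀, hn₀1, hn₀x⟩ : ∃ n ∈ N, n ≠ 1 ∧ Commute n (x : G) := by
        by_contra hno
        push Not at hno
        refine hns ⟨k, fun n hn => ?_⟩
        have hinj : Function.Injective (fun n : N => (⟨D n, hDN n n.2⟩ : N)) := by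
          intro n m hnm
          have h0 : (n : G) * x * (n : G)⁻¹ = (m : G) * x * (m : G)⁻¹ := mul_right_cancel (congrArg Subtype.val hnm)
          have h1 : ((m : G)⁻¹ * n) * x = x * ((m : G)⁻¹ * n) := by
            calc ((m : G)⁻¹ * n) * x = (m : G)⁻¹ * ((n : G) * x * (n : G)⁻¹) * n := by group
              _ = _ := by rw [h0]; group
          by_contra hne
          exact hno _ (N.mul_mem (N.inv_mem m.2) n.2) (fun e => hne (Subtype.ext (inv_mul_eq_one.1 e).symm)) h1
        obtain ⟨m, hm⟩ := (Finite.injective_iff_surjective.1 hinj) ⟨n, hn⟩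
        rw [show n = D m from (congrArg Subtype.val hm).symm]
        exact hk m m.2
      obtain ⟨w, hw, hw1⟩ : ∃ w ∈ N, D w ≠ 1 := by
        by_contra hno
        push Not at hno
        refine hns ?_
        have : x = 1 := Subtype.ext (mem_bot.1 (hfaith ▸ (⟨x.2, mem_centralizer_iff.2 fun n hn => ?_⟩ :
          (x : G) ∈ M ⊓ centralizer (N : Set G))))
        · rw [this]; exact one_mem _
        · exact mul_inv_eq_iff_eq_mul.1 (mul_inv_eq_one.1 (hno n hn))
      set v := D w
      have hv : v ∈ N := hDN w hw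
      have hxv : ((x : G) * v * (x : G)⁻¹) = v ^ k := hk w hw
      have hxne : (x : G) * v * (x : G)⁻¹ ≠ v := by
        intro e
        have e0 : w * x * w⁻¹ = v * x := by simp [v, hD, mul_assoc]
        have hc : Commute v (x : G) := (mul_inv_eq_iff_eq_mul.1 e).symm
        have h5 : (v * (x : G)) ^ orderOf (x : G) = 1 := by
          rw [← e0, conj_pow, pow_orderOf_eq_one, mul_one, mul_inv_cancel]
        rw [hc.mul_pow, pow_orderOf_eq_one, mul_one] at h5
        obtain ⟨i, hi⟩ := hx
        refine hw1 (orderOf_eq_one_iff.1 (Nat.eq_one_of_dvd_coprimes ?_ (orderOf_dvd_of_pow_eq_one h5)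
          (orderOf_dvd_of_pow_eq_one (hexp v hv))))
        rw [Subgroup.orderOf_coe, hi]
        exact ((Nat.coprime_primes hr hp.out).2 hrp).pow_left i
      -- multiply by a power of `a`
      have hstep : ∀ b : ↥M, (∀ y : ↥M, Commute y b) → (∃ i, orderOf b = r ^ i) → (b : G) ∈ Sc →
          b ≠ 1 → ((x * b : ↥M) : G) * v * ((x * b : ↥M) : G)⁻¹ = v := by
        rintro b hbc ⟨i, hbi⟩ ⟨m, hm⟩ hb1
        obtain ⟨j, hj⟩ := hx
        obtain ⟨k', hk'⟩ := heig r hr hrp ((x * b : ↥M) : G) (by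
          rw [Subgroup.orderOf_coe]
          obtain ⟨t, -, ht⟩ := (Nat.dvd_prime_pow hr).1 (((hbc x).orderOf_mul_dvd_mul_orderOf).trans
            (by rw [hj, hbi, ← pow_add]))
          exact ⟨t, ht⟩)
        have hfb : N ⊓ centralizer ({(b : G)} : Set G) = ⊥ :=
          (hfixed b (fun y hy => congrArg Subtype.val (hbc ⟨y, hy⟩).eq)).resolve_right fun hc =>
            hb1 (Subtype.ext (mem_bot.1 (hfaith ▸ ⟨b.2, hc⟩)))
        set y : G := ((x * b : ↥M) : G) with hy
        have hy' : y = (x : G) * b := rfl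
        have hbx : (b : G) * x = x * b := congrArg Subtype.val (hbc x).eq.symm
        have hyn : ∀ n ∈ N, y * n * y⁻¹ = ((x : G) * n * (x : G)⁻¹) ^ m := fun n hn => by
          rw [hy', show (x : G) * b * n * ((x : G) * b)⁻¹ = (x : G) * ((b : G) * n * (b : G)⁻¹) * (x : G)⁻¹ by group,
            hm n hn, conj_pow]
        have hn0' : (x : G) * n₀ * (x : G)⁻¹ = n₀ := by rw [← hn₀x.eq, mul_inv_cancel_right]
        have hy0 : y * n₀ * y⁻¹ = n₀ ^ m := by rw [hyn n₀ hn₀, hn0']
        -- displacements of `y`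
        set E : G → G := fun n => n * y * n⁻¹ * y⁻¹ with hE
        have hEv : ∀ n ∈ N, E n = n * (y * n * y⁻¹)⁻¹ := fun n _ => by simp only [hE]; group
        have hm1 : n₀ * (n₀ ^ m)⁻¹ ≠ 1 := by
          intro e
          have h1 : n₀ ∈ N ⊓ centralizer ({(b : G)} : Set G) := by
            refine ⟨hn₀, mem_centralizer_singleton_iff.2 ?_⟩
            exact (mul_inv_eq_iff_eq_mul.1 ((hm n₀ hn₀).trans (mul_inv_eq_one.1 e).symm)).symm
          rw [hfb, mem_bot] at h1
          exact hn₀1 h1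
        by_contra hne
        have hu : v * (y * v * y⁻¹)⁻¹ ≠ 1 := fun e => hne (mul_inv_eq_one.1 e).symm
        have h0 := hk' n₀ hn₀
        rw [show n₀ * y * n₀⁻¹ * y⁻¹ = n₀ * (n₀ ^ m)⁻¹ by rw [← hy0]; group] at h0
        have h1 := hk' v hv
        rw [show v * y * v⁻¹ * y⁻¹ = v * (y * v * y⁻¹)⁻¹ by group] at h1
        -- on the fixed point `y` is the `m`-th power
        have h0' : (n₀ * (n₀ ^ m)⁻¹) ^ m = (n₀ * (n₀ ^ m)⁻¹) ^ k' := by
          rw [← h0, hyn _ (N.mul_mem hn₀ (N.inv_mem (N.pow_mem hn₀ m)))]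
          rw [show (x : G) * (n₀ * (n₀ ^ m)⁻¹) * (x : G)⁻¹ = ((x : G) * n₀ * (x : G)⁻¹) * (((x : G) * n₀ * (x : G)⁻¹) ^ m)⁻¹ by
            rw [conj_pow]; group, hn0']
        have hmk : (k' : ℤ) ≡ m [ZMOD p] := by
          have hord : orderOf (n₀ * (n₀ ^ m)⁻¹) = p :=
            orderOf_eq_prime (hexp _ (N.mul_mem hn₀ (N.inv_mem (N.pow_mem hn₀ m)))) hm1
          rw [pow_eq_pow_iff_modEq, hord] at h0'
          exact (Int.natCast_modEq_iff.2 h0').symm
        set u := v * (y * v * y⁻¹)⁻¹
        have huN : u ∈ N := N.mul_mem hv (N.inv_mem (hN.conj_mem v hv y))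
        have hum : y * u * y⁻¹ = u ^ m := by
          rw [h1, ← zpow_natCast, ← zpow_natCast, zpow_eq_zpow_iff_modEq]
          rw [orderOf_eq_prime (hexp u huN) hu]
          exact hmk
        rw [hyn u huN] at hum
        have hxu : (x : G) * u * (x : G)⁻¹ = u := by
          -- cancel the exponent `m`
          have hcop : m.Coprime p := by
            refine ((Nat.Prime.coprime_iff_not_dvd hp.out).2 fun hd => ?_).symm
            obtain ⟨t, rfl⟩ := hd
            have := hm n₀ hn₀
            rw [pow_mul, hexp n₀ hn₀, one_pow] at this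
            exact hn₀1 (by simpa using this)
          obtain ⟨i, hi⟩ := exists_pow_eq_self_of_coprime
            (show m.Coprime (orderOf u) by rw [orderOf_eq_prime (hexp u huN) hu]; exact hcop)
          have h2 := congrArg (· ^ i) hum
          change (((x : G) * u * (x : G)⁻¹) ^ m) ^ i = (u ^ m) ^ i at h2
          rw [conj_pow, conj_pow, hi] at h2
          exact h2
        -- but `x` has no fixed point in its eigenspace
        have hxu' : (x : G) * u * (x : G)⁻¹ = u ^ k := by
          have e2 : u = v * ((v ^ k) ^ m)⁻¹ := by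
            show v * (y * v * y⁻¹)⁻¹ = _
            rw [hyn v hv, hxv]
          rw [e2]
          rw [show (x : G) * (v * ((v ^ k) ^ m)⁻¹) * (x : G)⁻¹ = ((x : G) * v * (x : G)⁻¹) * ((((x : G) * v * (x : G)⁻¹) ^ k) ^ m)⁻¹ by
            rw [conj_pow, conj_pow]; group, hxv, (hcomm v hv _ (N.inv_mem (N.pow_mem (N.pow_mem hv k) m))).mul_pow,
            inv_pow, ← pow_mul, ← pow_mul, ← pow_mul, ← pow_mul]
          congr 3
          ring
        rw [hxu] at hxu'
        refine hxne ?_
        rw [hxv]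
        conv_rhs => rw [← pow_one v]
        rw [← zpow_natCast, ← zpow_natCast, zpow_eq_zpow_iff_modEq, orderOf_eq_prime (hexp v hv) hw1]
        conv at hxu' => lhs; rw [← pow_one u]
        rw [← zpow_natCast, ← zpow_natCast, zpow_eq_zpow_iff_modEq, orderOf_eq_prime (hexp u huN) hu] at hxu'
        exact hxu'.symm
      have hao : ∃ i, orderOf a = r ^ i := by
        obtain ⟨i, -, hi⟩ := (Nat.dvd_prime_pow hr).1 (show orderOf a ∣ r ^ 1 by
          rw [pow_one, ← hcard]; exact Subgroup.orderOf_dvd_natCard A ha)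
        exact ⟨i, hi⟩
      have ha1' : a ≠ 1 := fun e => ha1 (Subtype.ext e)
      have h1 := hstep a hac hao haSc ha1'
      have haa : a * a = 1 := by
        by_contra haa
        have h2 := hstep (a * a) (fun y => (hac y).mul_right (hac y))
          (by
            obtain ⟨i, hi⟩ := hao
            obtain ⟨j, -, hj⟩ := (Nat.dvd_prime_pow hr).1 (show orderOf (a * a) ∣ r ^ i by
              rw [← sq, ← hi]; exact orderOf_pow_dvd 2)
            exact ⟨j, hj⟩) (Sc.mul_mem haSc haSc) haa
        -- so `a` fixes `v`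
        have h3 : Commute (v : G) (a : G) := by
          simp only [Subgroup.coe_mul] at h1 h2
          have e : (a : G) * v * (a : G)⁻¹ = v := by
            calc (a : G) * v * (a : G)⁻¹ = ((x : G) * a)⁻¹ * ((x : G) * ((a : G) * a) * v * ((x : G) * ((a : G) * a))⁻¹) * ((x : G) * a) := by group
              _ = ((x : G) * a)⁻¹ * v * ((x : G) * a) := by rw [h2]
              _ = ((x : G) * a)⁻¹ * ((x : G) * a * v * ((x : G) * a)⁻¹) * ((x : G) * a) := by rw [h1]
              _ = v := by group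
          exact (mul_inv_eq_iff_eq_mul.1 e).symm
        have h4 : v ∈ N ⊓ centralizer ({(a : G)} : Set G) := ⟨hv, mem_centralizer_singleton_iff.2 h3.eq⟩
        rw [hfa, mem_bot] at h4
        exact hw1 h4
      have hr2 : r = 2 := by
        obtain ⟨i, hi⟩ := hao
        have h2 : orderOf a = 2 := orderOf_eq_prime (by rw [sq]; exact haa) ha1'
        rw [h2] at hi
        exact ((Nat.prime_dvd_prime_iff_eq hr Nat.prime_two).1 (by
          rcases i with _ | i
          · simp at hi
          · exact hi ▸ dvd_pow_self r i.succ_ne_zero))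
      refine ⟨hr2, ?_⟩
      -- `a` inverts `N`
      have hainv : ∀ n ∈ N, (a : G) * n * (a : G)⁻¹ = n⁻¹ := by
        intro n hn
        have haa' : (a : G) * a = 1 := congrArg Subtype.val haa
        have hmem : n * ((a : G) * n * (a : G)⁻¹) ∈ N ⊓ centralizer ({(a : G)} : Set G) := by
          refine ⟨N.mul_mem hn (hN.conj_mem n hn _), mem_centralizer_singleton_iff.2 ?_⟩
          refine (mul_inv_eq_iff_eq_mul.1 ?_).symm
          have hai : (a : G)⁻¹ = a := inv_eq_of_mul_eq_one_right haa'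
          calc (a : G) * (n * ((a : G) * n * (a : G)⁻¹)) * (a : G)⁻¹
              = ((a : G) * n * a) * (n * ((a : G)⁻¹ * (a : G)⁻¹)) := by group
            _ = ((a : G) * n * (a : G)⁻¹) * n := by rw [hai, haa', mul_one]
            _ = _ := (hcomm _ (hN.conj_mem n hn _) n hn).eq
        rw [hfa, mem_bot] at hmem
        exact (inv_eq_of_mul_eq_one_right hmem).symm
      simp only [Subgroup.coe_mul] at h1
      have hxinv : (x : G) * v * (x : G)⁻¹ = v⁻¹ := by
        rw [show (x : G) * a * v * ((x : G) * a)⁻¹ = (x : G) * ((a : G) * v * (a : G)⁻¹) * (x : G)⁻¹ by group,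
          hainv v hv, ← conj_inv, inv_eq_iff_eq_inv] at h1
        exact h1
      apply Subtype.ext
      show (x : G) * x = 1
      refine mem_bot.1 (hfaith ▸ (⟨M.mul_mem x.2 x.2, mem_centralizer_iff.2 fun n hn => ?_⟩ :
        (x : G) * x ∈ M ⊓ centralizer (N : Set G)))
      have hDinv : (x : G) * D n * (x : G)⁻¹ = (D n)⁻¹ := by
        rw [hk n hn]
        have hkm : v ^ k = v⁻¹ := hxv.symm.trans hxinv
        have : v ^ (k + 1) = 1 := by rw [pow_succ, hkm, inv_mul_cancel]
        have hd : p ∣ k + 1 := by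
          rw [← orderOf_eq_prime (hexp v hv) hw1]
          exact orderOf_dvd_of_pow_eq_one this
        obtain ⟨t, ht⟩ := hd
        refine eq_inv_of_mul_eq_one_left ?_
        rw [← pow_succ, ht, pow_mul, hexp _ (hDN n hn), one_pow]
      have e : (x : G) * n * (x : G)⁻¹ = (D n)⁻¹ * n := by
        rw [show (D n)⁻¹ = (x : G) * n * (x : G)⁻¹ * n⁻¹ by simp only [hD]; group]
        group
      refine (mul_inv_eq_iff_eq_mul.1 ?_).symm
      calc (x : G) * x * n * ((x : G) * x)⁻¹ = ((x : G) * (D n)⁻¹ * (x : G)⁻¹) * ((x : G) * n * (x : G)⁻¹) := by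
            rw [show (x : G) * x * n * ((x : G) * x)⁻¹ = (x : G) * ((x : G) * n * (x : G)⁻¹) * (x : G)⁻¹ by group]
            nth_rewrite 1 [e]
            group
        _ = D n * ((D n)⁻¹ * n) := by rw [← conj_inv, hDinv, inv_inv, e]
        _ = n := mul_inv_cancel_left _ _
    by_contra hno
    push Not at hno
    obtain ⟨x, hx, hxns⟩ := hno
    have hSr : ∀ y : ↥M, y ∈ S → ∃ i, orderOf y = r ^ i := fun y hy => by
      obtain ⟨i, hi⟩ := Solvable.isPGroup_pCore r (⟨y, hy⟩ : S)
      obtain ⟨j, -, hj⟩ := (Nat.dvd_prime_pow hr).1 (orderOf_dvd_of_pow_eq_one (congrArg Subtype.val hi : y ^ r ^ i = 1))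
      exact ⟨j, hj⟩
    obtain ⟨hr2, hxx⟩ := hinv x (hSr x hx) hxns
    subst hr2
    -- scalar `2`-elements square to one as well
    have hsq : ∀ y : ↥M, (∃ i, orderOf y = 2 ^ i) → y * y = 1 := by
      intro y hy
      by_cases hys : (y : G) ∈ Sc
      swap
      · exact (hinv y hy hys).2
      have hyc : Commute x y := Subtype.ext (hScC y y.2 hys x x.2)
      have hprod : (x * y : ↥M).1 ∉ Sc := fun hxy => hxns (by
        have := Sc.mul_mem hxy (Sc.inv_mem hys)
        simpa using this)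
      have h2 := (hinv (x * y) (by
        obtain ⟨i, hi⟩ := hy
        obtain ⟨j, hj⟩ := hSr x hx
        obtain ⟨t, -, ht⟩ := (Nat.dvd_prime_pow Nat.prime_two).1 (hyc.orderOf_mul_dvd_mul_orderOf.trans
          (by rw [hj, hi, ← pow_add]))
        exact ⟨t, ht⟩) hprod).2
      calc y * y = (x * x) * (y * y) := by rw [hxx, one_mul]
        _ = (x * y) * (x * y) := (hyc.symm.mul_mul_mul_comm x y).symm
        _ = 1 := h2
    -- prime power elements centralize `S`
    have hcent : ∀ y : ↥M, ∀ s : ℕ, s.Prime → (∃ i, orderOf y = s ^ i) → ∀ g ∈ S, Commute y g := by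
      intro y s hs hy g hg
      by_cases hs2 : s = 2
      · subst hs2
        have hT : IsPGroup 2 (S ⊔ zpowers y : Subgroup ↥M) := by
          refine (Solvable.isPGroup_pCore 2).to_sup_of_normal_left ?_
          obtain ⟨i, hi⟩ := hy
          exact IsPGroup.of_card (n := i) (by rw [Nat.card_zpowers, hi])
        have hsqT : ∀ z ∈ (S ⊔ zpowers y : Subgroup ↥M), z * z = 1 := fun z hz => by
          obtain ⟨i, hi⟩ := hT ⟨z, hz⟩
          obtain ⟨j, -, hj⟩ := (Nat.dvd_prime_pow Nat.prime_two).1 (orderOf_dvd_of_pow_eq_one (congrArg Subtype.val hi : z ^ 2 ^ i = 1))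
          exact hsq z ⟨j, hj⟩
        have hy' := hsqT y (mem_sup_right (mem_zpowers y))
        have hg' := hsqT g (mem_sup_left hg)
        have hyg := hsqT (y * g) (mul_mem (mem_sup_right (mem_zpowers y)) (mem_sup_left hg))
        show y * g = g * y
        have e := eq_inv_of_mul_eq_one_left hyg
        rw [mul_inv_rev, inv_eq_of_mul_eq_one_right hy', inv_eq_of_mul_eq_one_right hg'] at e
        exact e
      set H := zpowers y ⊔ zpowers (g * y * g⁻¹)
      have hhyp := hyp_of_injective M.subtype M.subtype_injective h s 2 hs Nat.prime_two hs2 y g hy (hSr g hg)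
      set c := g * y * g⁻¹ * y⁻¹ with hc
      have hyH : y ∈ H := mem_sup_left (mem_zpowers y)
      have hcH : c ∈ H ⊓ S := ⟨H.mul_mem (mem_sup_right (mem_zpowers _)) (H.inv_mem hyH), by
        rw [hc, mul_assoc, mul_assoc, ← mul_assoc y]
        exact S.mul_mem hg (hSn.conj_mem _ (S.inv_mem hg) y)⟩
      have hcard2 : Nat.card (H ⊓ S : Subgroup ↥M) ≤ 2 := by
        obtain ⟨i, hi⟩ := ((Solvable.isPGroup_pCore 2).to_le (inf_le_right : H ⊓ S ≤ S)).exists_card_eq
        rw [hi]
        rcases Nat.lt_or_ge i 2 with h2 | h2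
        · calc 2 ^ i ≤ 2 ^ 1 := Nat.pow_le_pow_right (by norm_num) (by omega)
            _ = 2 := pow_one 2
        · exact absurd ((pow_dvd_pow 2 h2).trans (hi ▸ card_dvd_of_le inf_le_left)) hhyp
      have hyc : Commute y c := by
        by_cases hc1 : c = 1
        · rw [hc1]; exact Commute.one_right y
        have h2 : y * c * y⁻¹ ∈ H ⊓ S := ⟨H.mul_mem (H.mul_mem hyH hcH.1) (H.inv_mem hyH), hSn.conj_mem c hcH.2 y⟩
        have heq : zpowers c = H ⊓ S := by
          refine Subgroup.eq_of_le_of_card_ge (zpowers_le.2 hcH) (hcard2.trans ?_)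
          rw [Nat.card_zpowers]
          have h0 : orderOf c ≠ 1 := fun e => hc1 (orderOf_eq_one_iff.1 e)
          have := orderOf_pos c
          omega
        rw [← heq] at h2
        obtain ⟨i, hi⟩ := mem_zpowers_iff.1 h2
        rcases Int.even_or_odd' i with ⟨j, rfl | rfl⟩
        · exfalso
          rw [zpow_mul, zpow_two, hsq c (hSr c hcH.2), one_zpow] at hi
          exact hc1 (by simpa using hi.symm)
        · rw [zpow_add, zpow_mul, zpow_two, hsq c (hSr c hcH.2), one_zpow, one_mul, zpow_one] at hi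
          exact mul_inv_eq_iff_eq_mul.1 hi.symm
      have e0 : g * y * g⁻¹ = c * y := by simp [hc, mul_assoc]
      have h5 : (c * y) ^ orderOf y = 1 := by rw [← e0, conj_pow, pow_orderOf_eq_one, mul_one, mul_inv_cancel]
      rw [hyc.symm.mul_pow, pow_orderOf_eq_one, mul_one] at h5
      have hc1 : c = 1 := by
        obtain ⟨i, hi⟩ := hy
        refine orderOf_eq_one_iff.1 (Nat.eq_one_of_dvd_coprimes ?_ (orderOf_dvd_of_pow_eq_one h5)
          (orderOf_dvd_of_pow_eq_one (by rw [sq]; exact hsq c (hSr c hcH.2))))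
        rw [hi]
        exact ((Nat.coprime_primes hs Nat.prime_two).2 hs2).pow_left i
      rw [hc1, one_mul] at e0
      exact (mul_inv_eq_iff_eq_mul.1 e0).symm
    -- `x` is central
    have hxcen : ∀ y ∈ M, y * (x : G) = x * y := by
      intro y hy
      have h1 : (⊤ : Subgroup ↥M) ≤ centralizer ({x} : Set ↥M) := by
        rw [← Solvable.iSup_sylow_eq_top (G := ↥M) fun q => (default : Sylow (q : ℕ) ↥M)]
        refine iSup_le fun q z hz => mem_centralizer_singleton_iff.2 ?_
        obtain ⟨i, hi⟩ := (default : Sylow (q : ℕ) ↥M).2 ⟨z, hz⟩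
        obtain ⟨j, -, hj⟩ := (Nat.dvd_prime_pow q.2).1 (orderOf_dvd_of_pow_eq_one (congrArg Subtype.val hi : z ^ (q : ℕ) ^ i = 1))
        exact (hcent z q q.2 ⟨j, hj⟩ x hx).eq
      exact congrArg Subtype.val (mem_centralizer_singleton_iff.1 (h1 (mem_top ⟨y, hy⟩)))
    -- hence scalar
    rcases hfixed x hxcen with hf | hf
    · obtain ⟨k, hk⟩ := heig 2 Nat.prime_two hrp (x : G) (by rw [Subgroup.orderOf_coe]; exact hSr x hx)
      refine hxns ⟨k, fun n hn => ?_⟩
      set φ : N → N := fun n => ⟨(n : G) * x * (n : G)⁻¹ * (x : G)⁻¹, by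
        rw [mul_assoc, mul_assoc, ← mul_assoc (x : G)]
        exact N.mul_mem n.2 (hN.conj_mem _ (N.inv_mem n.2) x)⟩
      have hinj : Function.Injective φ := by
        intro n m hnm
        have h0 : (n : G) * x * (n : G)⁻¹ = (m : G) * x * (m : G)⁻¹ := mul_right_cancel (congrArg Subtype.val hnm)
        have h1 : ((m : G)⁻¹ * n) * x = x * ((m : G)⁻¹ * n) := by
          calc ((m : G)⁻¹ * n) * x = (m : G)⁻¹ * ((n : G) * x * (n : G)⁻¹) * n := by group
            _ = _ := by rw [h0]; group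
        have h2 : (m : G)⁻¹ * n ∈ N ⊓ centralizer ({(x : G)} : Set G) :=
          ⟨N.mul_mem (N.inv_mem m.2) n.2, mem_centralizer_singleton_iff.2 h1⟩
        rw [hf, mem_bot, inv_mul_eq_one] at h2
        exact Subtype.ext h2.symm
      obtain ⟨m, hm⟩ := (Finite.injective_iff_surjective.1 hinj) ⟨n, hn⟩
      rw [show n = (φ m : G) from (congrArg Subtype.val hm).symm]
      exact hk m m.2
    · exact hxns (by rw [mem_bot.1 (hfaith ▸ ⟨x.2, hf⟩ : (x : G) ∈ (⊥ : Subgroup G))]; exact one_mem _)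
  -- so `M` consists of scalars
  have hM : M ≤ Sc := by
    have hF : Cfsg.fittingSubgroup ↥M ≤ center ↥M ⊓ Sc.subgroupOf M := by
      rw [Solvable.fittingSubgroup_eq_iSup_pCore]
      refine iSup_le fun q => fun x hx => ?_
      have hs := hsc q q.2 x hx
      exact ⟨mem_center_iff.2 fun y => Subtype.ext (hScC x x.2 hs y y.2), hs⟩
    have hC : centralizer (Cfsg.fittingSubgroup ↥M : Set ↥M) = ⊤ :=
      centralizer_eq_top_iff_subset.2 fun x hx => (hF hx).1
    have htopF := Fitting.centralizer_fittingSubgroup_le_of_solvable (G := ↥M)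
    rw [hC] at htopF
    exact fun x hx => (hF (htopF (mem_top ⟨x, hx⟩))).2
  -- hence `N` has prime order
  obtain ⟨⟨n, hn⟩, hn1⟩ := ne_bot_iff_exists_ne_one.1 hN1
  have hn1' : n ≠ 1 := fun e => hn1 (Subtype.ext e)
  have hnorm : M ≤ normalizer (((zpowers n) : Subgroup G) : Set G) := by
    intro x hx
    obtain ⟨k, hk⟩ := hM hx
    refine mem_normalizer_fintype fun z hz => ?_
    obtain ⟨i, rfl⟩ := mem_zpowers_iff.1 hz
    show x * n ^ i * x⁻¹ ∈ zpowers n
    rw [← conj_zpow, hk n hn]
    exact zpow_mem (pow_mem (mem_zpowers n) k) i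
  rcases hirr (zpowers n) (zpowers_le.2 hn) hnorm with h' | h'
  · exact absurd (zpowers_eq_bot.1 h') hn1'
  · rw [← h', Nat.card_zpowers, orderOf_eq_prime (hexp n hn) hn1']
    exact hp.out

/-- The criterion. -/
theorem supersolvable_of_hyp (n : ℕ) : ∀ (G : Type u) [Group G] [Finite G], Nat.card G = n → Hyp G →
    Cfsg.IsSupersolvable G := by
  induction n using Nat.strongRecOn with | ind n ih => ?_
  rintro G _ _ rfl h
  rcases subsingleton_or_nontrivial G with h1 | h1
  · exact CfsgLib.Supersolvable.of_subsingleton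
  have hsub : ∀ H : Subgroup G, H ≠ ⊤ → Cfsg.IsSupersolvable H := fun H hH =>
    ih _ (CfsgLib.Solvable.card_lt_of_ne_top hH) _ rfl (hyp_of_injective H.subtype H.subtype_injective h)
  haveI := solvable_of_proper _ G rfl hsub
  refine CfsgLib.Huppert.supersolvable_aux _ G rfl fun M hM => ?_
  by_cases hcore : M.normalCore = ⊥
  swap
  · haveI := Subgroup.normalCore_normal M
    set π := QuotientGroup.mk' M.normalCore
    have hq : Cfsg.IsSupersolvable (G ⧸ M.normalCore) :=
      ih _ (CfsgLib.Solvable.card_quotient_lt hcore) _ rfl (hyp_quotient _ h)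
    have hcm : (M.map π).comap π = M := by
      rw [comap_map_eq, QuotientGroup.ker_mk']; exact sup_eq_left.2 M.normalCore_le
    have hMq : IsCoatom (M.map π) := by
      refine ⟨fun e => hM.1 (by rw [← hcm, e, comap_top]), fun X hX => ?_⟩
      have h2 : M < X.comap π := by
        refine lt_of_le_of_ne (hcm.ge.trans (comap_mono hX.le)) fun e => hX.ne ?_
        exact (congrArg (Subgroup.map π) e).trans (map_comap_eq_self_of_surjective (QuotientGroup.mk'_surjective _) X)
      rw [← map_comap_eq_self_of_surjective (QuotientGroup.mk'_surjective _) X, hM.2 _ h2,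
        map_top_of_surjective _ (QuotientGroup.mk'_surjective _)]
    have := CfsgLib.Supersolvable.maximal_index_prime hq _ hMq
    rwa [← index_comap_of_surjective _ (QuotientGroup.mk'_surjective _), hcm] at this
  obtain ⟨N, hN, hN1, -, hNc, hmin, p, hp, hexp, -⟩ := CfsgLib.Solvable.exists_normal_elementary_le
    (G := G) (N := ⊤) top_ne_bot inferInstance
  haveI := hN
  haveI := Fact.mk hp
  have hNM : ¬ N ≤ M := fun e => hN1 (le_bot_iff.1 (hcore ▸ normal_le_normalCore.2 e))
  have htop : N ⊔ M = ⊤ := hM.2 _ (lt_of_le_of_ne le_sup_right fun e => hNM (le_sup_left.trans e.ge))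
  have hnormal : ∀ X : Subgroup G, X ≤ M → N ≤ normalizer (X : Set G) → M ≤ normalizer (X : Set G) → X = ⊥ := by
    intro X hXM h1 h2
    haveI : X.Normal := normalizer_eq_top_iff.1 (top_le_iff.1 (htop.ge.trans (sup_le h1 h2)))
    exact le_bot_iff.1 (hcore ▸ normal_le_normalCore.2 hXM)
  have hfaith : M ⊓ centralizer (N : Set G) = ⊥ := hnormal _ inf_le_left
    (fun n hn => centralizer_le_normalizer _ (mem_centralizer_iff.2 fun c hc => (mem_centralizer_iff.1 hc.2 n hn).symm))
    ((le_inf Subgroup.le_normalizer le_normalizer_of_normal).trans inf_normalizer_le_normalizer_inf)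
  have hdisj : N ⊓ M = ⊥ := hnormal _ inf_le_right
    (((le_centralizer_iff_isMulCommutative.2 hNc).trans
      (centralizer_le fun x hx => hx.1)).trans (centralizer_le_normalizer _))
    ((le_inf le_normalizer_of_normal Subgroup.le_normalizer).trans inf_normalizer_le_normalizer_inf)
  have hc : IsComplement' N M := by
    refine isComplement'_of_disjoint_and_mul_eq_univ (disjoint_iff.2 hdisj) (Set.eq_univ_of_forall fun g => ?_)
    obtain ⟨a, ha, b, hb, e⟩ := mem_sup_of_normal_left.1 (htop.ge (mem_top g))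
    exact ⟨a, ha, b, hb, e⟩
  rw [hc.index_eq_card]
  exact card_prime_of_complement h hN1 hNc hexp htop hmin hfaith (hsub M hM.1)

end CfsgLib.PairSupersolvable
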