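import Cfsg.Agent.RootSubgroups.SL2Pair
import Mathlib.GroupTheory.PGroup
import Mathlib.Algebra.BigOperators.GroupWithZero.Action
import Mathlib.FieldTheory.Finite.Basic

/-!
An irreducible module for `SL₂(F)` in characteristic `p` on which the unitriangular group acts quadratically, or
whose order is at most the square of that of its fixed space, is the natural module.
-/

set_option autoImplicit false
set_option linter.unusedSectionVars false

namespace CfsgLib.SL2Nat

open CfsgLib.SL2Pair Matrix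

variable {F : Type*} [Field F]

local notation "SL2" => Matrix.SpecialLinearGroup (Fin 2) F

/-- The diagonal element `(t 0; 0 1/t)`. -/
def dg (t : F) (ht : t ≠ 0) : SL2 := ⟨!![t, 0; 0, t⁻¹], by simp [Matrix.det_fin_two, ht]⟩

/-- The element `(0 1; -1 0)`. -/
def ww : SL2 := ⟨!![0, 1; -1, 0], by simp [Matrix.det_fin_two]⟩

theorem dg_coe (t : F) (ht : t ≠ 0) :
    (dg t ht : Matrix (Fin 2) (Fin 2) F) = !![t, 0; 0, t⁻¹] := rfl

theorem ww_coe : ((ww : SL2) : Matrix (Fin 2) (Fin 2) F) = !![0, 1; -1, 0] := rfl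

theorem ww_mul_low (a : F) : (ww : SL2) * low a = up (-a) * ww := by
  refine Subtype.ext ?_
  ext i j; fin_cases i <;> fin_cases j <;>
    simp [Matrix.SpecialLinearGroup.coe_mul, Matrix.mul_apply, Fin.sum_univ_two, ww_coe, up_coe,
      low_coe]

theorem ww_mul_up (a : F) : (ww : SL2) * up a = low (-a) * ww := by
  refine Subtype.ext ?_
  ext i j; fin_cases i <;> fin_cases j <;>
    simp [Matrix.SpecialLinearGroup.coe_mul, Matrix.mul_apply, Fin.sum_univ_two, ww_coe, up_coe,
      low_coe]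

theorem dg_mul_up (t : F) (ht : t ≠ 0) (a : F) : up a * dg t ht = dg t ht * up (a / (t * t)) := by
  refine Subtype.ext ?_
  ext i j; fin_cases i <;> fin_cases j <;>
    simp [Matrix.SpecialLinearGroup.coe_mul, Matrix.mul_apply, Fin.sum_univ_two, dg_coe,
      up_coe] <;> field_simp

theorem dg_one_mul (t s : F) (ht : t ≠ 0) (hs : s ≠ 0) :
    dg t ht * dg s hs = dg (t * s) (mul_ne_zero ht hs) := by
  refine Subtype.ext ?_
  ext i j; fin_cases i <;> fin_cases j <;>
    simp [Matrix.SpecialLinearGroup.coe_mul, Matrix.mul_apply, Fin.sum_univ_two, dg_coe] <;> ring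

theorem dg_one : dg (1 : F) one_ne_zero = 1 := by
  refine Subtype.ext ?_
  ext i j; fin_cases i <;> fin_cases j <;> simp [dg_coe]

theorem ww_mul_ww : (ww : SL2) * ww = dg (-1) (neg_ne_zero.2 one_ne_zero) := by
  refine Subtype.ext ?_
  ext i j; fin_cases i <;> fin_cases j <;>
    simp [Matrix.SpecialLinearGroup.coe_mul, Matrix.mul_apply, Fin.sum_univ_two, dg_coe, ww_coe]

theorem dg_mul_ww (t : F) (ht : t ≠ 0) : dg t ht * ww = ww * dg t⁻¹ (inv_ne_zero ht) := by
  refine Subtype.ext ?_
  ext i j; fin_cases i <;> fin_cases j <;>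
    simp [Matrix.SpecialLinearGroup.coe_mul, Matrix.mul_apply, Fin.sum_univ_two, dg_coe, ww_coe]

theorem dg_ww_eq (t : F) (ht : t ≠ 0) : dg t ht * ww = up t * low (-t⁻¹) * up t := by
  refine Subtype.ext ?_
  ext i j; fin_cases i <;> fin_cases j <;>
    simp [Matrix.SpecialLinearGroup.coe_mul, Matrix.mul_apply, Fin.sum_univ_two, dg_coe, ww_coe,
      up_coe, low_coe, ht]

theorem ww_eq : (ww : SL2) = up 1 * low (-1) * up 1 := by
  refine Subtype.ext ?_
  ext i j; fin_cases i <;> fin_cases j <;>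
    simp [Matrix.SpecialLinearGroup.coe_mul, Matrix.mul_apply, Fin.sum_univ_two, ww_coe, up_coe,
      low_coe]

theorem eq_low_dg_up (g : SL2) (h : (g : Matrix (Fin 2) (Fin 2) F) 0 0 ≠ 0) :
    g = low ((g : Matrix (Fin 2) (Fin 2) F) 1 0 / (g : Matrix (Fin 2) (Fin 2) F) 0 0) *
      dg _ h * up ((g : Matrix (Fin 2) (Fin 2) F) 0 1 / (g : Matrix (Fin 2) (Fin 2) F) 0 0) := by
  have hdet : (g : Matrix (Fin 2) (Fin 2) F) 0 0 * (g : Matrix (Fin 2) (Fin 2) F) 1 1 -
      (g : Matrix (Fin 2) (Fin 2) F) 0 1 * (g : Matrix (Fin 2) (Fin 2) F) 1 0 = 1 := by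
    rw [← Matrix.det_fin_two]; exact g.2
  refine Subtype.ext ?_
  ext i j; fin_cases i <;> fin_cases j <;>
    simp [Matrix.SpecialLinearGroup.coe_mul, Matrix.mul_apply, Fin.sum_univ_two, dg_coe, up_coe,
      low_coe] <;> field_simp
  linear_combination hdet

theorem eq_ww_dg_up (g : SL2) (h : (g : Matrix (Fin 2) (Fin 2) F) 0 0 = 0) :
    ∃ (t : F) (ht : t ≠ 0) (b : F), g = ww * dg t ht * up b := by
  have hdet : (g : Matrix (Fin 2) (Fin 2) F) 0 0 * (g : Matrix (Fin 2) (Fin 2) F) 1 1 -
      (g : Matrix (Fin 2) (Fin 2) F) 0 1 * (g : Matrix (Fin 2) (Fin 2) F) 1 0 = 1 := by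
    rw [← Matrix.det_fin_two]; exact g.2
  rw [h, zero_mul, zero_sub] at hdet
  have h10 : (g : Matrix (Fin 2) (Fin 2) F) 1 0 ≠ 0 := fun e => by
    rw [e, mul_zero, neg_zero] at hdet; exact zero_ne_one hdet
  refine ⟨-(g : Matrix (Fin 2) (Fin 2) F) 1 0, neg_ne_zero.2 h10,
    (g : Matrix (Fin 2) (Fin 2) F) 1 1 / (g : Matrix (Fin 2) (Fin 2) F) 1 0, ?_⟩
  refine Subtype.ext ?_
  ext i j; fin_cases i <;> fin_cases j <;>
    simp [Matrix.SpecialLinearGroup.coe_mul, Matrix.mul_apply, Fin.sum_univ_two, dg_coe, up_coe,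
      ww_coe, h] <;> field_simp
  linear_combination -hdet

variable [Fintype F] {V : Type*} [AddCommGroup V] [Finite V]
  [DistribMulAction (Matrix.SpecialLinearGroup (Fin 2) F) V]

variable (F V) in
/-- The fixed points of the unitriangular group. -/
def fixUp : AddSubgroup V where
  carrier := {v | ∀ a : F, up a • v = v}
  add_mem' := fun {x y} hx hy a => by rw [smul_add, hx a, hy a]
  zero_mem' := fun a => smul_zero _
  neg_mem' := fun {x} hx a => by rw [smul_neg, hx a]

theorem dg_fix {v : V} (hv : v ∈ fixUp F V) (t : F) (ht : t ≠ 0) : dg t ht • v ∈ fixUp F V :=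
  fun a => by rw [smul_smul, dg_mul_up, mul_smul, hv]

theorem ww_fix {v : V} (hv : v ∈ fixUp F V) (a : F) :
    (low a : SL2) • (ww : SL2) • v = (ww : SL2) • v := by
  have h : (low a : SL2) * ww = ww * up (-a) := by rw [ww_mul_up, neg_neg]
  rw [smul_smul, h, mul_smul, hv]

variable (F V) in
/-- `[V, U]` for the unitriangular group `U`. -/
def comUp : AddSubgroup V :=
  AddSubgroup.closure {x | ∃ (a : F) (v : V), x = up a • v - v}

variable (F V) in
/-- `[V, U⁻]` for the lower unitriangular group `U⁻`. -/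
def comLow : AddSubgroup V :=
  AddSubgroup.closure {x | ∃ (a : F) (v : V), x = (low a : SL2) • v - v}

variable (F V) in
/-- The standing hypotheses. -/
structure Hyp (p : ℕ) : Prop where
  prime : p.Prime
  charp : (p : F) = 0
  exp : ∀ v : V, p • v = 0
  irr : ∀ U : AddSubgroup V, (∀ (g : SL2), ∀ v ∈ U, g • v ∈ U) → U = ⊥ ∨ U = ⊤
  nontriv : ∃ (g : SL2) (v : V), g • v ≠ v

theorem invariant_of_gens (U : AddSubgroup V) (hu : ∀ (a : F), ∀ v ∈ U, (up a : SL2) • v ∈ U)
    (hl : ∀ (a : F), ∀ v ∈ U, (low a : SL2) • v ∈ U) : ∀ (g : SL2), ∀ v ∈ U, g • v ∈ U := by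
  intro g
  have hg : g ∈ Cfsg.lowerUnipotentSL2 F ⊔ Cfsg.upperUnipotentSL2 F :=
    (sup_eq_top (k := F)).symm ▸ Subgroup.mem_top g
  rw [Subgroup.sup_eq_closure] at hg
  induction hg using Subgroup.closure_induction with
  | mem x hx =>
    rcases hx with hx | hx
    · obtain ⟨c, rfl⟩ := mem_lower.1 hx; exact hl c
    · obtain ⟨c, rfl⟩ := mem_upper.1 hx; exact hu c
  | one => intro v hv; rwa [one_smul]
  | mul x y _ _ hx hy => intro v hv; rw [mul_smul]; exact hx _ (hy v hv)
  | inv x _ hx =>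
    intro v hv
    have hmaps : Set.MapsTo (fun w : V => x • w) (U : Set V) (U : Set V) := hx
    have hsurj : Set.SurjOn (fun w : V => x • w) (U : Set V) (U : Set V) :=
      ((Set.toFinite (U : Set V)).injOn_iff_bijOn_of_mapsTo hmaps).1
        (MulAction.injective x).injOn |>.surjOn
    obtain ⟨w, hw, hwv⟩ := hsurj hv
    rw [← hwv, inv_smul_smul]
    exact hw

namespace Hyp

variable {p : ℕ} (H : Hyp F V p)

include H

theorem card_nsmul (v : V) : Fintype.card F • v = 0 := by
  haveI : Fact p.Prime := ⟨H.prime⟩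
  haveI : CharP F p := (CharP.charP_iff_prime_eq_zero H.prime).2 H.charp
  obtain ⟨n, -, hn⟩ := FiniteField.card F p
  obtain ⟨m, hm⟩ := dvd_pow_self p n.ne_zero
  rw [hn, hm, mul_comm, mul_nsmul', H.exp, nsmul_zero]

/-- A nonzero `U`-invariant subgroup meets the fixed points. -/
theorem exists_fixed (W : AddSubgroup V) (hW : ∀ (a : F), ∀ v ∈ W, (up a : SL2) • v ∈ W)
    (hne : W ≠ ⊥) : ∃ v ∈ W, v ≠ 0 ∧ v ∈ fixUp F V := by
  classical
  haveI : Fact p.Prime := ⟨H.prime⟩
  let A := Multiplicative F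
  letI : MulAction A W :=
    { smul := fun a v => ⟨(up a.toAdd : SL2) • (v : V), hW _ _ v.2⟩
      one_smul := fun v => Subtype.ext (by
        show (up (0 : F) : SL2) • (v : V) = v
        rw [up_zero, one_smul])
      mul_smul := fun a b v => Subtype.ext (by
        show (up (a.toAdd + b.toAdd) : SL2) • (v : V) = up a.toAdd • up b.toAdd • (v : V)
        rw [← mul_smul, up_mul]) }
  have hA : IsPGroup p A := fun a => ⟨1, by
    apply Multiplicative.toAdd.injective
    rw [pow_one, toAdd_pow, toAdd_one, nsmul_eq_mul, H.charp, zero_mul]⟩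
  have hdvd : p ∣ Nat.card W := by
    haveI : Nontrivial W := (AddSubgroup.nontrivial_iff_ne_bot W).2 hne
    obtain ⟨x, hx⟩ := exists_ne (0 : W)
    have h := addOrderOf_dvd_natCard x
    rwa [addOrderOf_eq_prime (Subtype.ext (H.exp _)) hx] at h
  have h0 : (0 : W) ∈ MulAction.fixedPoints A W := fun a => Subtype.ext (smul_zero _)
  obtain ⟨x, hx, hx0⟩ := hA.exists_fixed_point_of_prime_dvd_card_of_fixed_point W hdvd h0
  exact ⟨x, x.2, fun e => hx0 (Subtype.ext e).symm,
    fun a => congrArg Subtype.val (hx (Multiplicative.ofAdd a))⟩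

theorem fixUp_ne_bot : fixUp F V ≠ ⊥ := by
  intro h
  obtain ⟨g, v, hgv⟩ := H.nontriv
  have htop : (⊤ : AddSubgroup V) ≠ ⊥ := fun e => hgv (by
    have h1 : ∀ x : V, x = 0 := fun x => by
      have := e.le (AddSubgroup.mem_top x)
      simpa using this
    rw [h1 (g • v), h1 v])
  obtain ⟨x, -, hx, hxf⟩ := H.exists_fixed ⊤ (fun a v _ => AddSubgroup.mem_top _) htop
  exact hx (by simpa using h.le hxf)

theorem eq_zero_of_fixed {v : V} (hv : v ∈ fixUp F V) (hw : ∀ a : F, (low a : SL2) • v = v) :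
    v = 0 := by
  let U : AddSubgroup V :=
    { carrier := {x | ∀ g : SL2, g • x = x}
      add_mem' := fun {x y} hx hy g => by rw [smul_add, hx g, hy g]
      zero_mem' := fun g => smul_zero _
      neg_mem' := fun {x} hx g => by rw [smul_neg, hx g] }
  have hz : v ∈ U := by
    intro g
    have hinv := invariant_of_gens (AddSubgroup.zmultiples v)
      (fun a x hx => by
        obtain ⟨k, rfl⟩ := AddSubgroup.mem_zmultiples_iff.1 hx
        rw [smul_comm, hv a]; exact AddSubgroup.zsmul_mem _ (AddSubgroup.mem_zmultiples _) _)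
      (fun a x hx => by
        obtain ⟨k, rfl⟩ := AddSubgroup.mem_zmultiples_iff.1 hx
        rw [smul_comm, hw a]; exact AddSubgroup.zsmul_mem _ (AddSubgroup.mem_zmultiples _) _)
    have hg : g ∈ Cfsg.lowerUnipotentSL2 F ⊔ Cfsg.upperUnipotentSL2 F :=
      (sup_eq_top (k := F)).symm ▸ Subgroup.mem_top g
    have hle : Cfsg.lowerUnipotentSL2 F ⊔ Cfsg.upperUnipotentSL2 F ≤ MulAction.stabilizer SL2 v :=
      sup_le (fun x hx => by obtain ⟨c, rfl⟩ := mem_lower.1 hx; exact hw c)
        (fun x hx => by obtain ⟨c, rfl⟩ := mem_upper.1 hx; exact hv c)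
    exact hle hg
  rcases H.irr U (fun g x hx h => by rw [hx g, hx h]) with h | h
  · simpa using h.le hz
  · obtain ⟨g, x, hgx⟩ := H.nontriv
    exact absurd ((h.ge (AddSubgroup.mem_top x)) g) hgx

/-- `L + wL` is everything when `U` acts quadratically. -/
theorem span_top (hquad : comUp F V ≤ fixUp F V) (v : V) :
    ∃ a ∈ fixUp F V, ∃ b ∈ fixUp F V, v = a + (ww : SL2) • b := by
  let W : AddSubgroup V :=
    { carrier := {x | ∃ a ∈ fixUp F V, ∃ b ∈ fixUp F V, x = a + (ww : SL2) • b}
      add_mem' := by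
        rintro _ _ ⟨a, ha, b, hb, rfl⟩ ⟨c, hc, d, hd, rfl⟩
        exact ⟨a + c, add_mem ha hc, b + d, add_mem hb hd, by rw [smul_add]; abel⟩
      zero_mem' := ⟨0, zero_mem _, 0, zero_mem _, by simp⟩
      neg_mem' := by
        rintro _ ⟨a, ha, b, hb, rfl⟩
        exact ⟨-a, neg_mem ha, -b, neg_mem hb, by rw [smul_neg]; abel⟩ }
  have hcom : ∀ (a : F) (x : V), (up a : SL2) • x - x ∈ fixUp F V := fun a x =>
    hquad (AddSubgroup.subset_closure ⟨a, x, rfl⟩)
  have hinv : ∀ (g : SL2), ∀ x ∈ W, g • x ∈ W := by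
    refine invariant_of_gens W ?_ ?_
    · rintro c _ ⟨a, ha, b, hb, rfl⟩
      refine ⟨a + ((up c : SL2) • (ww : SL2) • b - (ww : SL2) • b), add_mem ha (hcom _ _), b, hb, ?_⟩
      rw [smul_add, ha c]; abel
    · rintro c _ ⟨a, ha, b, hb, rfl⟩
      -- `low c` is `up (-c)` conjugated by `ww`
      have hw' : ∀ y : V, (low c : SL2) • (ww : SL2) • y = (ww : SL2) • (up (-c) : SL2) • y :=
        fun y => by rw [smul_smul, smul_smul, ww_mul_up, neg_neg]
      obtain ⟨a', ha', hwa⟩ : ∃ a' ∈ fixUp F V, (ww : SL2) • (ww : SL2) • a' = a := by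
        refine ⟨dg (-1) (neg_ne_zero.2 one_ne_zero) • a, dg_fix ha _ _, ?_⟩
        rw [smul_smul (ww : SL2), ww_mul_ww, smul_smul, dg_one_mul]
        simp only [neg_mul_neg, one_mul, dg_one, one_smul]
      refine ⟨a, ha, b + ((up (-c) : SL2) • (ww : SL2) • a' - (ww : SL2) • a'),
        add_mem hb (hcom _ _), ?_⟩
      rw [smul_add, smul_add, smul_sub, ww_fix hb, ← hw', hwa]
      abel
  rcases H.irr W hinv with h | h
  · exfalso
    refine H.fixUp_ne_bot (le_bot_iff.1 fun x hx => ?_)
    exact h.le ⟨x, hx, 0, zero_mem _, by simp⟩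
  · exact h.ge (AddSubgroup.mem_top v)

/-- The orbit of a torus-invariant subgroup of fixed points. -/
theorem orbit_le (Λ : AddSubgroup V) (hΛ : Λ ≤ fixUp F V) (hne : Λ ≠ ⊥)
    (hD : ∀ (t : F) (ht : t ≠ 0), ∀ v ∈ Λ, dg t ht • v ∈ Λ) (Y : AddSubgroup V)
    (hY1 : Λ ≤ Y) (hY2 : comLow F V ≤ Y)
    (hY3 : ∀ v ∈ Λ, ∑ a : F, (up a : SL2) • (ww : SL2) • v ∈ Y) : Y = ⊤ := by
  classical
  have hbig : ∀ (g : SL2), (g : Matrix (Fin 2) (Fin 2) F) 0 0 ≠ 0 → ∀ v ∈ Λ, g • v ∈ Y := by
    intro g hg v hv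
    rw [eq_low_dg_up g hg, mul_smul, mul_smul, hΛ hv]
    have h1 := hY1 (hD _ hg v hv)
    have h2 : (low ((g : Matrix (Fin 2) (Fin 2) F) 1 0 / (g : Matrix (Fin 2) (Fin 2) F) 0 0) : SL2) •
        dg _ hg • v - dg _ hg • v ∈ Y := hY2 (AddSubgroup.subset_closure ⟨_, _, rfl⟩)
    have := add_mem h2 h1
    rwa [sub_add_cancel] at this
  have hw : ∀ v ∈ Λ, (ww : SL2) • v ∈ Y := by
    intro v hv
    have h := hY3 v hv
    rw [← Finset.add_sum_erase _ _ (Finset.mem_univ (0 : F)), up_zero, one_smul] at h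
    refine (AddSubgroup.add_mem_cancel_right Y (Y.sum_mem fun a ha => ?_)).1 h
    rw [Finset.mem_erase] at ha
    rw [smul_smul]
    refine hbig _ ?_ v hv
    simp [Matrix.SpecialLinearGroup.coe_mul, Matrix.mul_apply, Fin.sum_univ_two, up_coe, ww_coe,
      ha.1]
  have hall : ∀ (g : SL2), ∀ v ∈ Λ, g • v ∈ Y := by
    intro g v hv
    by_cases hg : (g : Matrix (Fin 2) (Fin 2) F) 0 0 = 0
    · obtain ⟨t, ht, b, rfl⟩ := eq_ww_dg_up g hg
      rw [mul_smul, mul_smul, hΛ hv]
      exact hw _ (hD t ht v hv)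
    · exact hbig g hg v hv
  let U : AddSubgroup V := AddSubgroup.closure {x | ∃ (g : SL2), ∃ v ∈ Λ, x = g • v}
  have hUY : U ≤ Y := (AddSubgroup.closure_le Y).2 (by
    rintro _ ⟨g, v, hv, rfl⟩; exact hall g v hv)
  have hUinv : ∀ (g : SL2), ∀ x ∈ U, g • x ∈ U := by
    intro g x hx
    induction hx using AddSubgroup.closure_induction with
    | mem y hy =>
      obtain ⟨h, v, hv, rfl⟩ := hy
      exact AddSubgroup.subset_closure ⟨g * h, v, hv, by rw [mul_smul]⟩
    | zero => rw [smul_zero]; exact zero_mem _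
    | add y z _ _ hy hz => rw [smul_add]; exact add_mem hy hz
    | neg y _ hy => rw [smul_neg]; exact neg_mem hy
  rcases H.irr U hUinv with h | h
  · exfalso
    refine hne (le_bot_iff.1 fun v hv => h.le (AddSubgroup.subset_closure ⟨1, v, hv, ?_⟩))
    rw [one_smul]
  · exact top_le_iff.1 (h.ge.trans hUY)

/-- `U` acts quadratically when `|V| ≤ |C_V(U)|²`. -/
theorem comUp_le (hcard : Nat.card V ≤ Nat.card (fixUp F V) ^ 2) (hW : comLow F V ≠ ⊤) :
    comUp F V ≤ fixUp F V := by
  classical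
  set L := fixUp F V with hL
  have hTlow : ∀ x ∈ comLow F V, ∑ a : F, (low a : SL2) • x = 0 := by
    intro x hx
    induction hx using AddSubgroup.closure_induction with
    | mem y hy =>
      obtain ⟨b, v, rfl⟩ := hy
      have h1 : ∑ a : F, (low a : SL2) • (low b : SL2) • v = ∑ a : F, (low a : SL2) • v := by
        refine Fintype.sum_equiv (Equiv.addRight b) _ _ fun a => ?_
        rw [smul_smul, low_mul]; rfl
      simp only [smul_sub, Finset.sum_sub_distrib, h1, sub_self]
    | zero => simp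
    | add y z _ _ hy hz => simp only [smul_add, Finset.sum_add_distrib, hy, hz, add_zero]
    | neg y _ hy => simp only [smul_neg, Finset.sum_neg_distrib, hy, neg_zero]
  have hTup : ∀ x : V, ∑ a : F, (up a : SL2) • x ∈ comUp F V := by
    intro x
    have h : ∑ a : F, ((up a : SL2) • x - x) ∈ comUp F V :=
      AddSubgroup.sum_mem _ fun a _ => AddSubgroup.subset_closure ⟨a, x, rfl⟩
    rwa [Finset.sum_sub_distrib, Finset.sum_const, Finset.card_univ, H.card_nsmul, sub_zero] at h
  have hTfix : ∀ x : V, ∑ a : F, (up a : SL2) • x ∈ L := by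
    intro x b
    rw [Finset.smul_sum]
    refine Fintype.sum_equiv (Equiv.addLeft b) _ _ fun a => ?_
    rw [smul_smul, up_mul]; rfl
  have hcup : ∀ (t : F) (ht : t ≠ 0), ∀ x ∈ comUp F V, dg t ht • x ∈ comUp F V := by
    intro t ht x hx
    induction hx using AddSubgroup.closure_induction with
    | mem y hy =>
      obtain ⟨b, v, rfl⟩ := hy
      refine AddSubgroup.subset_closure ⟨b * (t * t), dg t ht • v, ?_⟩
      rw [smul_sub, smul_smul, smul_smul (up _ : SL2), dg_mul_up,
        mul_div_cancel_right₀ b (mul_ne_zero ht ht)]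
    | zero => rw [smul_zero]; exact zero_mem _
    | add y z _ _ hy hz => rw [smul_add]; exact add_mem hy hz
    | neg y _ hy => rw [smul_neg]; exact neg_mem hy
  -- `L ∩ [V, U⁻] = 0`
  have hLlow : ∀ v ∈ L, v ∈ comLow F V → v = 0 := by
    intro v hv hvl
    by_contra hne
    let Λ : AddSubgroup V := AddSubgroup.closure {x | ∃ (t : F) (ht : t ≠ 0), x = dg t ht • v}
    have hΛ : Λ ≤ L := (AddSubgroup.closure_le L).2 (by
      rintro _ ⟨t, ht, rfl⟩; exact dg_fix hv t ht)
    have hΛlow : Λ ≤ comLow F V := (AddSubgroup.closure_le (comLow F V)).2 (by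
      rintro _ ⟨t, ht, rfl⟩
      clear * - hvl
      induction hvl using AddSubgroup.closure_induction with
      | mem y hy =>
        obtain ⟨b, u, rfl⟩ := hy
        refine AddSubgroup.subset_closure ⟨b * (t⁻¹ * t⁻¹), dg t ht • u, ?_⟩
        rw [smul_sub, smul_smul, smul_smul (low _ : SL2)]
        congr 2
        refine Subtype.ext ?_
        ext i j; fin_cases i <;> fin_cases j <;>
          simp [Matrix.SpecialLinearGroup.coe_mul, Matrix.mul_apply, Fin.sum_univ_two, dg_coe,
            low_coe] <;> field_simp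
      | zero => rw [SetLike.mem_coe, smul_zero]; exact zero_mem _
      | add y z _ _ hy hz => rw [SetLike.mem_coe, smul_add]; exact add_mem hy hz
      | neg y _ hy => rw [SetLike.mem_coe, smul_neg]; exact neg_mem hy)
    have hΛne : Λ ≠ ⊥ := fun e => hne (by
      have h1 : v ∈ Λ := AddSubgroup.subset_closure ⟨1, one_ne_zero, by rw [dg_one, one_smul]⟩
      simpa using e.le h1)
    refine hW (H.orbit_le Λ hΛ hΛne ?_ _ hΛlow le_rfl ?_)
    · intro t ht x hx
      induction hx using AddSubgroup.closure_induction with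
      | mem y hy =>
        obtain ⟨s, hs, rfl⟩ := hy
        exact AddSubgroup.subset_closure ⟨t * s, mul_ne_zero ht hs, by rw [smul_smul, dg_one_mul]⟩
      | zero => rw [smul_zero]; exact zero_mem _
      | add y z _ _ hy hz => rw [smul_add]; exact add_mem hy hz
      | neg y _ hy => rw [smul_neg]; exact neg_mem hy
    · intro x hx
      have h1 : ∑ a : F, (up a : SL2) • (ww : SL2) • x =
          (ww : SL2) • ∑ a : F, (low a : SL2) • x := by
        rw [Finset.smul_sum]
        refine Fintype.sum_equiv (Equiv.neg F) _ _ fun a => ?_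
        rw [smul_smul, smul_smul, Equiv.neg_apply, ww_mul_low, neg_neg]
      rw [h1, hTlow x (hΛlow hx), smul_zero]
      exact zero_mem _
  -- cardinalities
  have hlow_card : Nat.card (comLow F V) ≤ Nat.card L := by
    have hinj : Function.Injective fun z : L × comLow F V => (z.1 : V) + (z.2 : V) := by
      rintro ⟨a, b⟩ ⟨c, d⟩ he
      have h1 : (a : V) - c = (d : V) - b := by
        simp only at he
        rw [sub_eq_sub_iff_add_eq_add, he, add_comm]
      have h2 := hLlow ((a : V) - c) (sub_mem a.2 c.2) (h1 ▸ sub_mem d.2 b.2)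
      rw [sub_eq_zero] at h2
      simp only [h2, add_right_inj] at he
      exact Prod.ext (Subtype.ext h2) (Subtype.ext he)
    have h1 := Nat.card_le_card_of_injective _ hinj
    rw [Nat.card_prod] at h1
    have hpos : 0 < Nat.card L := Nat.card_pos
    nlinarith
  have hup_card : Nat.card (comUp F V) ≤ Nat.card L := by
    refine le_trans ?_ hlow_card
    have hmap : ∀ x ∈ comUp F V, (ww : SL2) • x ∈ comLow F V := by
      intro x hx
      induction hx using AddSubgroup.closure_induction with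
      | mem y hy =>
        obtain ⟨b, v, rfl⟩ := hy
        refine AddSubgroup.subset_closure ⟨-b, (ww : SL2) • v, ?_⟩
        rw [smul_sub, smul_smul, smul_smul (low (-b) : SL2), ww_mul_up]
      | zero => rw [smul_zero]; exact zero_mem _
      | add y z _ _ hy hz => rw [smul_add]; exact add_mem hy hz
      | neg y _ hy => rw [smul_neg]; exact neg_mem hy
    refine Nat.card_le_card_of_injective
      (fun x : comUp F V => (⟨(ww : SL2) • (x : V), hmap x x.2⟩ : comLow F V)) fun x y he => ?_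
    exact Subtype.ext (MulAction.injective (ww : SL2) (congrArg Subtype.val he))
  -- `L ≤ [V, U]`
  have hLup : L ≤ comUp F V := by
    by_cases hbot : comUp F V = ⊥
    · exfalso
      -- then `U` fixes everything, and so does `U⁻`
      have hfix : ∀ x : V, x ∈ L := fun x a => sub_eq_zero.1 (by
        have : (up a : SL2) • x - x ∈ comUp F V := AddSubgroup.subset_closure ⟨a, x, rfl⟩
        simpa [hbot] using this)
      obtain ⟨g, x, hgx⟩ := H.nontriv
      refine hgx ?_
      have hx : x = 0 := H.eq_zero_of_fixed (hfix x) fun a => by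
        obtain ⟨y, rfl⟩ := MulAction.surjective (ww : SL2) x
        exact ww_fix (hfix y) a
      rw [hx, smul_zero]
    let Λ : AddSubgroup V := L ⊓ comUp F V
    have hup_inv : ∀ (a : F), ∀ x ∈ comUp F V, (up a : SL2) • x ∈ comUp F V := fun a x hx => by
      have h : (up a : SL2) • x - x ∈ comUp F V := AddSubgroup.subset_closure ⟨a, x, rfl⟩
      simpa using add_mem h hx
    obtain ⟨x, hx, hx0, hxL⟩ := H.exists_fixed _ hup_inv hbot
    have htop := H.orbit_le Λ inf_le_left
      (fun e => hx0 (by simpa using e.le (⟨hxL, hx⟩ : x ∈ Λ)))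
      (fun t ht y hy => ⟨dg_fix hy.1 t ht, hcup t ht y hy.2⟩) (Λ ⊔ comLow F V) le_sup_left
      le_sup_right (fun y _ => AddSubgroup.mem_sup_left ⟨hTfix _, hTup _⟩)
    intro v hv
    obtain ⟨y, hy, z, hz, hyz⟩ := AddSubgroup.mem_sup.1 (htop.ge (AddSubgroup.mem_top v))
    have hz0 : z = 0 := hLlow z (by
      rw [show z = v - y by rw [← hyz]; abel]; exact sub_mem hv hy.1) hz
    rw [← hyz, hz0, add_zero]
    exact hy.2
  intro x hx
  have heq : (L : Set V) = (comUp F V : Set V) :=
    Set.eq_of_subset_of_ncard_le hLup (by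
      rw [← Nat.card_coe_set_eq, ← Nat.card_coe_set_eq]; exact hup_card) (Set.toFinite _)
  exact heq.ge hx

/-- The main theorem: `V` is the natural module. -/
theorem exists_natural (hquad : comUp F V ≤ fixUp F V) :
    ∃ Φ : (Fin 2 → F) ≃+ V, ∀ (g : SL2) (x : Fin 2 → F),
      Φ ((g : Matrix (Fin 2) (Fin 2) F).mulVec x) = g • Φ x := by
  classical
  set L := fixUp F V
  let f : F → V → V := fun a b => (up a : SL2) • (ww : SL2) • b - (ww : SL2) • b
  have hf : ∀ a b, f a b ∈ L := fun a b => hquad (AddSubgroup.subset_closure ⟨a, _, rfl⟩)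
  have hf_add : ∀ a a' b, f (a + a') b = f a b + f a' b := by
    intro a a' b
    have h1 : (up a : SL2) • f a' b = f a' b := hf a' b a
    simp only [f, smul_sub] at h1 ⊢
    rw [← up_mul, mul_smul, eq_add_of_sub_eq h1]
    abel
  -- uniqueness of the decomposition
  have huniq : ∀ a ∈ L, ∀ b ∈ L, a + (ww : SL2) • b = 0 → a = 0 ∧ b = 0 := by
    intro a ha b hb h
    have h1 : a = (ww : SL2) • (-b) := by rw [smul_neg]; exact eq_neg_of_add_eq_zero_left h
    have ha0 : a = 0 := H.eq_zero_of_fixed ha fun c => by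
      rw [h1]; exact ww_fix (neg_mem hb) c
    refine ⟨ha0, ?_⟩
    rw [ha0, zero_add] at h
    exact MulAction.injective (ww : SL2) (by simpa using h)
  let D : V → V := fun v => (dg (-1 : F) (neg_ne_zero.2 one_ne_zero) : SL2) • v
  -- the action of the lower unitriangular group on `L`
  have hlow : ∀ (a : F), ∀ v ∈ L, (low a : SL2) • v = v + (ww : SL2) • f (-a) (D v) := by
    intro a v hv
    have h0 : (ww : SL2) • (ww : SL2) • D v = v := by
      simp only [D]
      rw [smul_smul (ww : SL2), ww_mul_ww, smul_smul, dg_one_mul]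
      simp only [neg_mul_neg, one_mul, dg_one, one_smul]
    simp only [f, smul_sub, h0]
    rw [smul_smul, ww_mul_up, neg_neg, mul_smul, h0]
    abel
  -- compare with `w = u l u`
  have hW1 : ∀ (t : F) (ht : t ≠ 0), ∀ v ∈ L, f t⁻¹ (D v) = dg t⁻¹ (inv_ne_zero ht) • v ∧
      v + f t (f t⁻¹ (D v)) = 0 := by
    intro t ht v hv
    have h1 : (dg t ht * ww) • v = (ww : SL2) • dg t⁻¹ (inv_ne_zero ht) • v := by
      rw [dg_mul_ww, mul_smul]
    rw [dg_ww_eq, mul_smul, mul_smul, hv t, hlow _ v hv, neg_neg, smul_add, hv t] at h1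
    have h2 : (v + f t (f t⁻¹ (D v))) +
        (ww : SL2) • (f t⁻¹ (D v) - dg t⁻¹ (inv_ne_zero ht) • v) = 0 := by
      rw [smul_sub, ← h1]
      simp only [f]
      abel
    obtain ⟨ha, hb⟩ := huniq _ (add_mem hv (hf _ _)) _
      (sub_mem (hf _ _) (dg_fix hv _ _)) h2
    exact ⟨sub_eq_zero.1 hb, ha⟩
  have hD : ∀ v ∈ L, D v = -v := by
    intro v hv
    have h1 := hW1 1 one_ne_zero v hv
    have h2 := (hW1 1 one_ne_zero (D v) (dg_fix hv _ _)).1
    have hDD : D (D v) = v := by
      simp only [D]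
      rw [smul_smul, dg_one_mul]
      simp only [neg_mul_neg, one_mul, dg_one, one_smul]
    simp only [inv_one, dg_one, one_smul] at h1 h2
    rw [hDD] at h2
    rw [h1.1, h2] at h1
    exact eq_neg_of_add_eq_zero_right h1.2
  have hf_neg : ∀ a b, f a (-b) = -f a b := fun a b => by simp only [f, smul_neg]; abel
  -- the scalar multiplication on `L`
  let M : F → V → V := fun s v => -f s v
  have hM : ∀ (s : F) (hs : s ≠ 0), ∀ v ∈ L, M s v = dg s hs • v := by
    intro s hs v hv
    have h := (hW1 s⁻¹ (inv_ne_zero hs) v hv).1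
    simp only [inv_inv] at h
    rw [hD v hv, hf_neg] at h
    exact h
  have hf0 : ∀ v, f 0 v = 0 := fun v => by simp only [f, up_zero, one_smul, sub_self]
  have hMmul : ∀ s s' v, v ∈ L → M (s * s') v = M s (M s' v) := by
    intro s s' v hv
    rcases eq_or_ne s 0 with rfl | hs
    · simp only [M, zero_mul, hf0]
    rcases eq_or_ne s' 0 with rfl | hs'
    · simp only [M, mul_zero, hf0]
      simp only [f, neg_zero, smul_zero, sub_zero]
    rw [hM _ (mul_ne_zero hs hs') v hv, hM s' hs' v hv, hM s hs _ (dg_fix hv _ _), smul_smul,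
      dg_one_mul]
  have hMadd : ∀ s s' v, M (s + s') v = M s v + M s' v := fun s s' v => by
    simp only [M, hf_add, neg_add]
  obtain ⟨v0, hv0, hv0ne⟩ : ∃ v ∈ L, v ≠ 0 := by
    by_contra hno
    push Not at hno
    exact H.fixUp_ne_bot ((AddSubgroup.eq_bot_iff_forall _).2 hno)
  have hML : ∀ s v, M s v ∈ L := fun s v => neg_mem (hf s v)
  let Φ : (Fin 2 → F) →+ V := AddMonoidHom.mk' (fun x => M (x 0) v0 + (ww : SL2) • M (-x 1) v0)
    fun x y => by
      simp only [Pi.add_apply, neg_add, hMadd, smul_add]; abel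
  have hgen : ∀ (g : SL2) (x : Fin 2 → F),
      Φ ((g : Matrix (Fin 2) (Fin 2) F).mulVec x) = g • Φ x := by
    have hu : ∀ (a : F) (x : Fin 2 → F),
        Φ ((up a : SL2).1.mulVec x) = (up a : SL2) • Φ x := by
      intro a x
      show M _ v0 + (ww : SL2) • M _ v0 = (up a : SL2) • (M (x 0) v0 + (ww : SL2) • M (-x 1) v0)
      simp only [up_coe, Matrix.mulVec, dotProduct, Fin.sum_univ_two, Matrix.of_apply,
        Matrix.cons_val', Matrix.cons_val_zero, Matrix.cons_val_one, Matrix.empty_val',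
        Matrix.cons_val_fin_one, one_mul, zero_mul, zero_add]
      rw [smul_add, hML (x 0) v0 a]
      have h : (up a : SL2) • (ww : SL2) • M (-x 1) v0 =
          f a (M (-x 1) v0) + (ww : SL2) • M (-x 1) v0 := by simp only [f]; abel
      have h' : f a (M (-x 1) v0) = M (a * x 1) v0 := by
        have h3 := hMadd (a * x 1) (a * -x 1) v0
        rw [mul_neg, add_neg_cancel] at h3
        have h4 : M (a * -x 1) v0 = -f a (M (-x 1) v0) := hMmul a (-x 1) v0 hv0
        rw [mul_neg] at h4
        rw [show M 0 v0 = 0 by simp only [M, hf0, neg_zero], h4, ← sub_eq_add_neg, eq_comm,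
          sub_eq_zero] at h3
        exact h3.symm
      rw [h, h', hMadd]
      abel
    have hl : ∀ (a : F) (x : Fin 2 → F),
        Φ ((low a : SL2).1.mulVec x) = (low a : SL2) • Φ x := by
      intro a x
      show M _ v0 + (ww : SL2) • M _ v0 = (low a : SL2) • (M (x 0) v0 + (ww : SL2) • M (-x 1) v0)
      simp only [low_coe, Matrix.mulVec, dotProduct, Fin.sum_univ_two, Matrix.of_apply,
        Matrix.cons_val', Matrix.cons_val_zero, Matrix.cons_val_one, Matrix.empty_val',
        Matrix.cons_val_fin_one, one_mul, zero_mul, add_zero]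
      rw [smul_add, ww_fix (hML _ _) a, hlow a _ (hML _ _), hD _ (hML _ _), hf_neg,
        show -f (-a) (M (x 0) v0) = M (-a) (M (x 0) v0) from rfl, ← hMmul _ _ _ hv0,
        show -(a * x 0 + x 1) = -a * x 0 + -x 1 by ring, hMadd, smul_add]
      abel
    intro g
    have hg : g ∈ Cfsg.lowerUnipotentSL2 F ⊔ Cfsg.upperUnipotentSL2 F :=
      (sup_eq_top (k := F)).symm ▸ Subgroup.mem_top g
    rw [Subgroup.sup_eq_closure] at hg
    induction hg using Subgroup.closure_induction with
    | mem z hz =>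
      rcases hz with hz | hz
      · obtain ⟨c, rfl⟩ := mem_lower.1 hz; exact hl c
      · obtain ⟨c, rfl⟩ := mem_upper.1 hz; exact hu c
    | one =>
      intro x
      rw [Matrix.SpecialLinearGroup.coe_one, Matrix.one_mulVec, one_smul]
    | mul y z _ _ hy hz =>
      intro x
      rw [Matrix.SpecialLinearGroup.coe_mul, ← Matrix.mulVec_mulVec, hy, hz, mul_smul]
    | inv y _ hy =>
      intro x
      rw [eq_inv_smul_iff, ← hy, Matrix.mulVec_mulVec, ← Matrix.SpecialLinearGroup.coe_mul,
        mul_inv_cancel, Matrix.SpecialLinearGroup.coe_one, Matrix.one_mulVec]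
  have hinj : Function.Injective Φ := by
    rw [injective_iff_map_eq_zero]
    intro x hx
    obtain ⟨h0, h1⟩ := huniq _ (hML _ _) _ (hML _ _) hx
    have hz : ∀ s : F, M s v0 = 0 → s = 0 := by
      intro s hs
      by_contra hne
      rw [hM s hne v0 hv0] at hs
      exact hv0ne (MulAction.injective (dg s hne) (by simpa using hs))
    funext i
    fin_cases i
    · exact hz _ h0
    · have := hz _ h1
      simpa using this
  have hsurj : Function.Surjective Φ := by
    rw [← AddMonoidHom.range_eq_top]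
    refine (H.irr Φ.range ?_).resolve_left fun h => ?_
    · rintro g _ ⟨x, rfl⟩
      exact ⟨_, hgen g x⟩
    · have hx : Φ ![1, 0] ∈ Φ.range := ⟨_, rfl⟩
      rw [h, AddSubgroup.mem_bot] at hx
      have := congrFun ((injective_iff_map_eq_zero Φ).1 hinj _ hx) 0
      simp at this
  exact ⟨AddEquiv.ofBijective Φ ⟨hinj, hsurj⟩, hgen⟩

end Hyp

end CfsgLib.SL2Nat
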