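import Cfsg.Agent.CharP.Subnormal
import Cfsg.Agent.CharP.PIrreducible
import Cfsg.Agent.Invol.BaerSuzuki
import Cfsg.Agent.Comp.Basic
import Cfsg.Agent.Comp.Fitting
import Cfsg.Agent.Solvable.PGroupBasic
import Cfsg.Agent.S3012

/-!
Sidki pairs: the four-group case, and the structure of a minimal counterexample.
-/

set_option autoImplicit false
set_option linter.style.haveILetI false

namespace CfsgLib.Sidki

open Subgroup
open scoped commutatorElement

universe u

variable {G : Type u} [Group G]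

theorem mul_self_of_mem {V : Subgroup G} (hV : Cfsg.IsElementaryAbelian 2 V) {v : G} (hv : v ∈ V) :
    v * v = 1 := by rw [← sq]; exact hV.2 v hv

theorem inv_of_mem {V : Subgroup G} (hV : Cfsg.IsElementaryAbelian 2 V) {v : G} (hv : v ∈ V) :
    v⁻¹ = v := inv_eq_of_mul_eq_one_right (mul_self_of_mem hV hv)

theorem comm_of_mem {V : Subgroup G} (hV : Cfsg.IsElementaryAbelian 2 V) {v w : G} (hv : v ∈ V)
    (hw : w ∈ V) : Commute v w :=
  congrArg Subtype.val (hV.1.is_comm.comm ⟨v, hv⟩ ⟨w, hw⟩)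

theorem eq_one_of_odd_of_eq_inv {h : G} (ho : Odd (orderOf h)) (e : h = h⁻¹) : h = 1 := by
  obtain ⟨k, hk⟩ := ho
  have h2 : h * h = 1 := mul_eq_one_iff_eq_inv.2 e
  have : h ^ (2 * k + 1) = 1 := hk ▸ pow_orderOf_eq_one h
  rwa [pow_succ, pow_mul, sq, h2, one_pow, one_mul] at this

theorem commute_of_sq {h k : G} (ho : Odd (orderOf h)) (e : h * k * h⁻¹ = h⁻¹ * k * h) : Commute h k := by
  have h2 : Commute (h * h) k := by
    show h * h * k = k * (h * h)
    calc h * h * k = h * (h * k * h⁻¹) * h := by group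
      _ = h * (h⁻¹ * k * h) * h := by rw [e]
      _ = _ := by group
  obtain ⟨m, hm⟩ := exists_pow_eq_self_of_coprime
    (Nat.coprime_two_left.2 ho : (2 : ℕ).Coprime (orderOf h))
  rw [← hm, sq]
  exact h2.pow_left m

theorem eq_one_of_sq_inverts {h k : G} (ho : Odd (orderOf h)) (hk : Odd (orderOf k))
    (e : h * k⁻¹ * h⁻¹ = h⁻¹ * k * h) : k = 1 := by
  set g := h * h
  have hg : g * k⁻¹ * g⁻¹ = k := by
    calc g * k⁻¹ * g⁻¹ = h * (h * k⁻¹ * h⁻¹) * h⁻¹ := by simp [g, mul_assoc]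
      _ = k := by rw [e]; group
  have hg' : g * k * g⁻¹ = k⁻¹ := by
    conv_rhs => rw [← hg]
    group
  have h2 : Commute (g * g) k := by
    show g * g * k = k * (g * g)
    calc g * g * k = g * (g * k * g⁻¹) * g := by group
      _ = (g * k⁻¹ * g⁻¹) * (g * g) := by rw [hg']; group
      _ = _ := by rw [hg]
  obtain ⟨m, hm⟩ := exists_pow_eq_self_of_coprime
    (Nat.coprime_two_left.2 ho : (2 : ℕ).Coprime (orderOf h))
  obtain ⟨n, hn⟩ := exists_pow_eq_self_of_coprime
    (Nat.coprime_two_left.2 ho : (2 : ℕ).Coprime (orderOf h))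
  have h3 : Commute h k := by
    rw [← hm, sq]
    change Commute (g ^ m) k
    have hg2 : Commute g k := by
      have h4 : g = ((g * g)) ^ n := by
        conv_lhs => rw [show g = h * h from rfl, ← hn, sq]
        rw [← (Commute.refl (h * h)).mul_pow]
      rw [h4]
      exact h2.pow_left n
    exact hg2.pow_left m
  refine eq_one_of_odd_of_eq_inv hk ?_
  have h5 : Commute g k := h3.mul_left h3
  rw [← hg', h5.eq, mul_inv_cancel_right]

theorem isNilpotent_of_comm {H : Subgroup G} (h : IsMulCommutative ↥H) : Group.IsNilpotent ↥H := by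
  refine (Subgroup.isNilpotent_iff_lowerCentralSeries H).2 ⟨1, ?_⟩
  show ⁅H, H⁆ = ⊥
  exact commutator_eq_bot_iff_le_centralizer.2 (le_centralizer_iff_isMulCommutative.2 h)

theorem elementary_subgroupOf {V H : Subgroup G} (hV : Cfsg.IsElementaryAbelian 2 V) :
    Cfsg.IsElementaryAbelian 2 (V.subgroupOf H) :=
  ⟨⟨⟨fun a b => Subtype.ext (Subtype.ext (comm_of_mem hV a.2 b.2).eq)⟩⟩,
    fun a ha => Subtype.ext (hV.2 _ ha)⟩

theorem sidki_subgroupOf {V H : Subgroup G} (hS : Cfsg.IsSidkiPair V) (hVH : V ≤ H) :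
    Cfsg.IsSidkiPair (V.subgroupOf H) := by
  intro h v hv ho hinv
  obtain ⟨w, hw, hw1, hwh⟩ := hS h v hv (by rwa [Subgroup.orderOf_coe]) (congrArg Subtype.val hinv)
  exact ⟨⟨w, hVH hw⟩, hw, fun e => hw1 (congrArg Subtype.val e), Subtype.ext hwh⟩

variable [Finite G]

/-- An involution outside `O₂` inverts a nontrivial element of odd order. -/
theorem exists_inverted {V : Subgroup G} (hV : Cfsg.IsElementaryAbelian 2 V) {a : G} (ha : a ∈ V)
    (ha1 : a ≠ 1) (haO : a ∉ Cfsg.pCore 2 G) : ∃ h : G, h ≠ 1 ∧ Odd (orderOf h) ∧ a * h * a⁻¹ = h⁻¹ := by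
  have ho : orderOf a = 2 := orderOf_eq_prime (hV.2 a ha) ha1
  obtain ⟨h, h1, h2, h3⟩ := Invol.exists_inverted_odd a ho haO
  exact ⟨h, h1, h2, h3⟩

/-- The Sidki statement for subgroups of order at most four. -/
theorem four (V : Subgroup G) (hV : Cfsg.IsElementaryAbelian 2 V) (hV1 : V ≠ ⊥)
    (hS : Cfsg.IsSidkiPair V) (h4 : Nat.card V ≤ 4) : V ⊓ Cfsg.pCore 2 G ≠ ⊥ := by
  classical
  intro hbot
  have hout : ∀ v ∈ V, v ≠ 1 → v ∉ Cfsg.pCore 2 G := fun v hv h1 hO =>
    h1 (mem_bot.1 (hbot ▸ ⟨hv, hO⟩))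
  -- every inverting element has a partner
  have hpart : ∀ v ∈ V, v ≠ 1 → ∃ h : G, ∃ w ∈ V, w ≠ 1 ∧ w ≠ v ∧ h ≠ 1 ∧ Odd (orderOf h) ∧
      v * h * v⁻¹ = h⁻¹ ∧ Commute w h := by
    intro v hv hv1
    obtain ⟨h, h1, ho, hinv⟩ := exists_inverted hV hv hv1 (hout v hv hv1)
    obtain ⟨w, hw, hw1, hwh⟩ := hS h v hv ho hinv
    refine ⟨h, w, hw, hw1, fun e => h1 (eq_one_of_odd_of_eq_inv ho ?_), h1, ho, hinv, hwh⟩
    rw [← hinv, ← e, hwh, mul_inv_cancel_right]
  -- a group of order at most four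
  have hprod : ∀ v ∈ V, ∀ w ∈ V, v ≠ 1 → w ≠ 1 → v ≠ w → ∀ u ∈ V, u = 1 ∨ u = v ∨ u = w ∨ u = v * w := by
    intro v hv w hw hv1 hw1 hvw u hu
    by_contra h
    push Not at h
    obtain ⟨h0, hv', hw', hvw'⟩ := h
    have hne : v * w ≠ 1 := fun e => hvw ((mul_eq_one_iff_eq_inv.1 e).trans (inv_of_mem hV hw))
    have hsub : ({1, v, w, v * w, u} : Finset G) ⊆ (V : Set G).toFinite.toFinset := by
      intro x hx
      simp only [Finset.mem_insert, Finset.mem_singleton] at hx
      simp only [Set.Finite.mem_toFinset, SetLike.mem_coe]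
      rcases hx with rfl | rfl | rfl | rfl | rfl
      exacts [V.one_mem, hv, hw, V.mul_mem hv hw, hu]
    have h5 : ({1, v, w, v * w, u} : Finset G).card = 5 := by
      rw [Finset.card_insert_of_notMem, Finset.card_insert_of_notMem, Finset.card_insert_of_notMem,
        Finset.card_insert_of_notMem, Finset.card_singleton]
      · simpa using Ne.symm hvw'
      · simp [hv1, Ne.symm hw']
      · simp [hvw, Ne.symm hv', hw1]
      · simp [Ne.symm hv1, Ne.symm hw1, Ne.symm hne, Ne.symm h0]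
    have := Finset.card_le_card hsub
    rw [h5, ← Set.ncard_eq_toFinset_card _ (Set.toFinite _), ← Nat.card_coe_set_eq] at this
    exact absurd (this.trans h4) (by omega)
  -- elements centralized by each of two distinct involutions of `V`
  have key : ∀ a ∈ V, ∀ b ∈ V, a ≠ 1 → b ≠ 1 → a ≠ b → ∀ h k : G, Odd (orderOf h) → Odd (orderOf k) →
      a * h * a⁻¹ = h⁻¹ → Commute b h → b * k * b⁻¹ = k⁻¹ → Commute a k → h = 1 ∨ k = 1 := by
    intro a ha b hb ha1 hb1 hab h k hh hk hah hbh hbk hak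
    by_cases hk1 : k = 1
    · exact Or.inr hk1
    left
    have hbah : (b * a) * h * (b * a)⁻¹ = h⁻¹ := by
      rw [show (b * a) * h * (b * a)⁻¹ = b * (a * h * a⁻¹) * b⁻¹ by group, hah, hbh.inv_right.eq,
        mul_inv_cancel_right]
    have habk : (b * a) * k * (b * a)⁻¹ = k⁻¹ := by
      rw [show (b * a) * k * (b * a)⁻¹ = b * (a * k * a⁻¹) * b⁻¹ by group, hak.eq, mul_inv_cancel_right, hbk]
    have hhk : Commute h k := by
      have hinv : b * (h⁻¹ * k * h) * b⁻¹ = (h⁻¹ * k * h)⁻¹ := by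
        calc b * (h⁻¹ * k * h) * b⁻¹ = (b * h⁻¹ * b⁻¹) * (b * k * b⁻¹) * (b * h * b⁻¹) := by group
          _ = h⁻¹ * k⁻¹ * h := by rw [hbk, hbh.inv_right.eq, hbh.eq, mul_inv_cancel_right, mul_inv_cancel_right]
          _ = _ := by group
      have hoc : Odd (orderOf (h⁻¹ * k * h)) := by
        rw [show h⁻¹ * k * h = MulAut.conj h⁻¹ k by simp [MulAut.conj_apply], MulEquiv.orderOf_eq]
        exact hk
      obtain ⟨w, hw, hw1, hwc⟩ := hS _ b hb hoc hinv
      rcases hprod a ha b hb ha1 hb1 hab w hw with h0 | h0 | h0 | h0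
      · exact absurd h0 hw1
      · have h1 : a * (h⁻¹ * k * h) * a⁻¹ = h⁻¹ * k * h := by rw [← h0, hwc, mul_inv_cancel_right]
        have h2 : h * k * h⁻¹ = h⁻¹ * k * h := by
          calc h * k * h⁻¹ = (a * h⁻¹ * a⁻¹) * (a * k * a⁻¹) * (a * h * a⁻¹) := by
                rw [hak.eq, mul_inv_cancel_right, hah, show a * h⁻¹ * a⁻¹ = h by rw [← conj_inv, hah, inv_inv]]
            _ = a * (h⁻¹ * k * h) * a⁻¹ := by group
            _ = _ := h1
        exact commute_of_sq hh h2
      · exfalso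
        apply hk1
        have h1 := eq_one_of_odd_of_eq_inv hoc (by rw [← hinv, ← h0, hwc, mul_inv_cancel_right])
        calc k = h * (h⁻¹ * k * h) * h⁻¹ := by group
          _ = 1 := by rw [h1]; group
      · exfalso
        have hab' : a * b = b * a := (comm_of_mem hV ha hb).eq
        have h1 : (b * a) * (h⁻¹ * k * h) * (b * a)⁻¹ = h⁻¹ * k * h := by rw [← hab', ← h0, hwc, mul_inv_cancel_right]
        have h2 : h * k⁻¹ * h⁻¹ = h⁻¹ * k * h := by
          calc h * k⁻¹ * h⁻¹ = ((b * a) * h⁻¹ * (b * a)⁻¹) * ((b * a) * k * (b * a)⁻¹) * ((b * a) * h * (b * a)⁻¹) := by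
                rw [habk, hbah, show (b * a) * h⁻¹ * (b * a)⁻¹ = h by rw [← conj_inv, hbah, inv_inv]]
            _ = (b * a) * (h⁻¹ * k * h) * (b * a)⁻¹ := by group
            _ = _ := h1
        exact hk1 (eq_one_of_sq_inverts hh hk h2)
    have hinv : (b * a) * (h * k) * (b * a)⁻¹ = (h * k)⁻¹ := by
      rw [show (b * a) * (h * k) * (b * a)⁻¹ = ((b * a) * h * (b * a)⁻¹) * ((b * a) * k * (b * a)⁻¹) by group,
        hbah, habk, mul_inv_rev, hhk.inv_inv.eq]
    have hoo : Odd (orderOf (h * k)) := (hh.mul hk).of_dvd_nat hhk.orderOf_mul_dvd_mul_orderOf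
    obtain ⟨w, hw, hw1, hwc⟩ := hS _ _ (V.mul_mem hb ha) hoo hinv
    rcases hprod a ha b hb ha1 hb1 hab w hw with h0 | h0 | h0 | h0
    · exact absurd h0 hw1
    · have h1 : a * (h * k) * a⁻¹ = h * k := by rw [← h0, hwc, mul_inv_cancel_right]
      rw [show a * (h * k) * a⁻¹ = (a * h * a⁻¹) * (a * k * a⁻¹) by group, hah, hak.eq, mul_inv_cancel_right] at h1
      exact eq_one_of_odd_of_eq_inv hh (mul_right_cancel h1).symm
    · exfalso
      have h1 : b * (h * k) * b⁻¹ = h * k := by rw [← h0, hwc, mul_inv_cancel_right]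
      rw [show b * (h * k) * b⁻¹ = (b * h * b⁻¹) * (b * k * b⁻¹) by group, hbk, hbh.eq, mul_inv_cancel_right] at h1
      exact hk1 (eq_one_of_odd_of_eq_inv hk (mul_left_cancel h1).symm)
    · exfalso
      have h1 : (b * a) * (h * k) * (b * a)⁻¹ = h * k := by
        rw [← (comm_of_mem hV ha hb).eq, ← h0, hwc, mul_inv_cancel_right]
      have h3 : h * k = 1 := eq_one_of_odd_of_eq_inv hoo (h1.symm.trans hinv)
      have h4 : Commute b k := by rw [eq_inv_of_mul_eq_one_right h3]; exact hbh.inv_right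
      exact hk1 (eq_one_of_odd_of_eq_inv hk (by rw [← hbk, h4.eq, mul_inv_cancel_right]))
  obtain ⟨a, ha1⟩ := ne_bot_iff_exists_ne_one.1 hV1
  obtain ⟨h, b, hb, hb1, hba, hh1, hho, hhinv, hbh⟩ := hpart _ a.2 (fun e => ha1 (Subtype.ext e))
  obtain ⟨k, w, hw, hw1, hwb, hk1, hko, hkinv, hwk⟩ := hpart b hb hb1
  have haV : (a : G) ∈ V := a.2
  have ha1' : (a : G) ≠ 1 := fun e => ha1 (Subtype.ext e)
  rcases hprod a haV b hb ha1' hb1 (Ne.symm hba) w hw with h0 | h0 | h0 | h0
  · exact hw1 h0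
  · exact (key a haV b hb ha1' hb1 (Ne.symm hba) h k hho hko hhinv hbh hkinv (h0 ▸ hwk)).elim hh1 hk1
  · exact hwb h0
  · have hc1 : (a : G) * b ≠ 1 := fun e => hba ((mul_eq_one_iff_eq_inv.1 e).trans (inv_of_mem hV hb)).symm
    have hcinv : (a * b : G) * h * (a * b : G)⁻¹ = h⁻¹ := by
      rw [show (a * b : G) * h * (a * b : G)⁻¹ = a * (b * h * b⁻¹) * (a : G)⁻¹ by group, hbh.eq,
        mul_inv_cancel_right, hhinv]
    have hcb : (a : G) * b ≠ b := fun e => ha1' (by simpa using e)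
    exact (key _ (V.mul_mem haV hb) b hb hc1 hb1 hcb h k hho hko hcinv hbh hkinv (h0 ▸ hwk)).elim hh1 hk1

/-! ### Minimal counterexamples -/

theorem pCore_eq_bot_of_subnormal (hO : Cfsg.pCore 2 G = ⊥) {M : Subgroup G} (hM : M.IsSubnormal) :
    Cfsg.pCore 2 ↥M = ⊥ := by
  have h := CharP.subnormal_pGroup_le_pCore ((Solvable.pCore_normal 2).isSubnormal.trans' hM)
    ((Solvable.isPGroup_pCore 2 (G := ↥M)).map M.subtype)
  rwa [hO, le_bot_iff, map_eq_bot_iff_of_injective _ M.subtype_injective] at h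

/-- The `2`-core of an overgroup centralizes a normalized subgroup with trivial `2`-core. -/
theorem core_centralizes {M H : Subgroup G} (hMH : M ≤ H) (hn : H ≤ normalizer (M : Set G))
    (hO : Cfsg.pCore 2 ↥M = ⊥) {x : G} (hx : x ∈ H) (hxO : (⟨x, hx⟩ : H) ∈ Cfsg.pCore 2 ↥H) :
    x ∈ centralizer (M : Set G) := by
  haveI : (M.subgroupOf H).Normal := (normal_subgroupOf_iff_le_normalizer hMH).2 hn
  haveI := Solvable.pCore_normal 2 (G := ↥H)
  set I := M.subgroupOf H ⊓ Cfsg.pCore 2 ↥H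
  have hI : I.map H.subtype ≤ M := by
    rintro _ ⟨y, hy, rfl⟩
    exact hy.1
  have h1 : (I.map H.subtype).subgroupOf M ≤ Cfsg.pCore 2 ↥M := by
    refine Solvable.le_pCore 2 ((normal_subgroupOf_iff_le_normalizer hI).2 ?_) ?_
    · refine hMH.trans (le_trans ?_ (le_normalizer_map H.subtype))
      rw [normalizer_eq_top, ← MonoidHom.range_eq_map, range_subtype]
    · exact (((Solvable.isPGroup_pCore 2).to_le inf_le_right).map _).comap_of_injective _ M.subtype_injective
  rw [hO, le_bot_iff, subgroupOf_eq_bot, disjoint_iff, inf_eq_left.2 hI, map_eq_bot_iff_of_injective _ H.subtype_injective] at h1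
  rw [mem_centralizer_iff]
  intro m hm
  have h2 : ⁅(⟨m, hMH hm⟩ : H), (⟨x, hx⟩ : H)⁆ ∈ I :=
    ⟨commutator_le_left _ _ (commutator_mem_commutator (show (⟨m, hMH hm⟩ : H) ∈ M.subgroupOf H from hm) hxO),
      commutator_le_right _ _ (commutator_mem_commutator (show (⟨m, hMH hm⟩ : H) ∈ M.subgroupOf H from hm) hxO)⟩
  rw [h1, mem_bot, commutatorElement_eq_one_iff_mul_comm] at h2
  exact congrArg Subtype.val h2

/-- The hypothesis on smaller groups. -/
def MinGroup (G : Type u) : Prop :=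
  ∀ (H : Type u) [Group H] [Finite H] (W : Subgroup H), Nat.card H < Nat.card G →
    Cfsg.IsElementaryAbelian 2 W → W ≠ ⊥ → Cfsg.IsSidkiPair W → W ⊓ Cfsg.pCore 2 H ≠ ⊥

theorem card_lt_of_ne_top {H : Subgroup G} (h : H ≠ ⊤) : Nat.card H < Nat.card G :=
  lt_of_le_of_ne H.card_le_card_group fun e => h (Subgroup.eq_top_of_card_eq H e)

/-- A faithfully acting subgroup of `V` has a failing element in a proper invariant subgroup. -/
theorem witness (hmin : MinGroup G) {M U : Subgroup G} (hU : Cfsg.IsElementaryAbelian 2 U) (hU1 : U ≠ ⊥)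
    (hUM : U ≤ normalizer (M : Set G)) (hO : Cfsg.pCore 2 ↥M = ⊥) (hc : U ⊓ centralizer (M : Set G) = ⊥)
    (hne : M ⊔ U ≠ ⊤) : ∃ u ∈ U, ∃ h ∈ M, Odd (orderOf h) ∧ u * h * u⁻¹ = h⁻¹ ∧
      ∀ w ∈ U, w * h = h * w → w = 1 := by
  set H := M ⊔ U
  have hMH : M ≤ H := le_sup_left
  have hUH : U ≤ H := le_sup_right
  have hn : H ≤ normalizer (M : Set G) := sup_le Subgroup.le_normalizer hUM
  have hns : ¬ Cfsg.IsSidkiPair (U.subgroupOf H) := by
    intro h
    refine hmin H _ (card_lt_of_ne_top hne) (elementary_subgroupOf hU) ?_ h ?_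
    · rw [Ne, subgroupOf_eq_bot, disjoint_iff, inf_eq_left.2 hUH]; exact hU1
    · rw [eq_bot_iff]
      rintro ⟨x, hx⟩ ⟨hxU, hxO⟩
      have h1 : x ∈ U ⊓ centralizer (M : Set G) := ⟨hxU, core_centralizes hMH hn hO hx hxO⟩
      rw [hc, mem_bot] at h1
      exact mem_bot.2 (Subtype.ext h1)
  simp only [Cfsg.IsSidkiPair, not_forall] at hns
  obtain ⟨⟨h, hh⟩, ⟨u, huH⟩, hu, hodd, hinv, hno⟩ := hns
  have hodd' : Odd (orderOf h) := by rwa [← Subgroup.orderOf_mk h hh]
  refine ⟨u, hu, h, ?_, hodd', congrArg Subtype.val hinv, fun w hw hwh => by_contra fun hw1 => hno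
    ⟨⟨w, hUH hw⟩, hw, fun e => hw1 (congrArg Subtype.val e), Subtype.ext hwh⟩⟩
  haveI : (M.subgroupOf H).Normal := (normal_subgroupOf_iff_le_normalizer hMH).2 hn
  have hpU : IsPGroup 2 ↥(U.subgroupOf H) := fun a => ⟨1, Subtype.ext (Subtype.ext (hU.2 _ a.2))⟩
  exact CharP.mem_of_mem_sup_pGroup (N := M.subgroupOf H) (x := ⟨h, hh⟩) hpU
    (by rw [← subgroupOf_sup hMH hUH, subgroupOf_self]; exact mem_top _)
    ((Nat.coprime_two_right).2 hodd)

/-- Two commuting disjoint invariant subgroups give a contradiction. -/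
theorem blocks (hmin : MinGroup G) {V M₁ M₂ : Subgroup G} (hV : Cfsg.IsElementaryAbelian 2 V)
    (hV1 : V ≠ ⊥) (hS : Cfsg.IsSidkiPair V) (h₁ : V ≤ normalizer (M₁ : Set G))
    (h₂ : V ≤ normalizer (M₂ : Set G)) (hcomm : M₂ ≤ centralizer (M₁ : Set G)) (hdisj : M₁ ⊓ M₂ = ⊥)
    (hO₁ : Cfsg.pCore 2 ↥M₁ = ⊥) (hO₂ : Cfsg.pCore 2 ↥M₂ = ⊥) (hne₁ : M₁ ⊔ V ≠ ⊤) (hne₂ : M₂ ⊔ V ≠ ⊤)
    (hfaith : V ⊓ centralizer (M₁ : Set G) ⊓ centralizer (M₂ : Set G) = ⊥) : False := by
  have hsub : ∀ {U : Subgroup G}, U ≤ V → Cfsg.IsElementaryAbelian 2 U := fun {U} hU =>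
    ⟨⟨⟨fun a b => Subtype.ext (comm_of_mem hV (hU a.2) (hU b.2)).eq⟩⟩, fun a ha => hV.2 a (hU ha)⟩
  set W := V ⊓ centralizer (M₁ : Set G)
  by_cases hW : W = ⊥
  · obtain ⟨u, hu, h, hh, ho, hinv, hno⟩ := witness hmin hV hV1 h₁ hO₁ hW hne₁
    obtain ⟨w, hw, hw1, hwh⟩ := hS h u hu ho hinv
    exact hw1 (hno w hw hwh)
  obtain ⟨u, hu, k, hk, hko, hkinv, hkno⟩ := witness hmin (hsub inf_le_left) hW
    ((inf_le_left : W ≤ V).trans h₂) hO₂ hfaith
    (fun e => hne₂ (top_le_iff.1 (e.ge.trans (sup_le_sup_left inf_le_left _))))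
  set C := V ⊓ centralizer ({k} : Set G)
  by_cases hC : C = ⊥
  · obtain ⟨w, hw, hw1, hwk⟩ := hS k u hu.1 hko hkinv
    refine hw1 (mem_bot.1 (hC ▸ ⟨hw, mem_centralizer_singleton_iff.2 hwk⟩ : w ∈ (⊥ : Subgroup G)))
  obtain ⟨v, hv, h, hh, hho, hhinv, hhno⟩ := witness hmin (hsub (inf_le_left : C ≤ V)) hC
    ((inf_le_left : C ≤ V).trans h₁) hO₁ (by
      rw [eq_bot_iff]
      rintro x ⟨⟨hxV, hxk⟩, hx1⟩
      exact mem_bot.2 (hkno x ⟨hxV, hx1⟩ (mem_centralizer_singleton_iff.1 hxk)))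
    (fun e => hne₁ (top_le_iff.1 (e.ge.trans (sup_le_sup_left inf_le_left _))))
  have hhk : Commute h k := mem_centralizer_iff.1 (hcomm hk) h hh
  have hvk : v * k = k * v := mem_centralizer_singleton_iff.1 hv.2
  have huh : h * u = u * h := mem_centralizer_iff.1 hu.2 h hh
  have hinv : (u * v) * (h * k) * (u * v)⁻¹ = (h * k)⁻¹ := by
    calc (u * v) * (h * k) * (u * v)⁻¹ = u * ((v * h * v⁻¹) * (v * k * v⁻¹)) * u⁻¹ := by group
      _ = u * (h⁻¹ * k) * u⁻¹ := by rw [hhinv, hvk, mul_inv_cancel_right]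
      _ = (u * h * u⁻¹)⁻¹ * (u * k * u⁻¹) := by group
      _ = h⁻¹ * k⁻¹ := by rw [hkinv, ← huh, mul_inv_cancel_right]
      _ = _ := by rw [mul_inv_rev, hhk.inv_inv.eq]
  obtain ⟨z, hz, hz1, hzc⟩ := hS (h * k) (u * v) (V.mul_mem hu.1 hv.1)
    ((hho.mul hko).of_dvd_nat hhk.orderOf_mul_dvd_mul_orderOf) hinv
  have hfix : (z * h * z⁻¹) * (z * k * z⁻¹) = h * k := by
    rw [show (z * h * z⁻¹) * (z * k * z⁻¹) = z * (h * k) * z⁻¹ by group, hzc, mul_inv_cancel_right]
  have hmem : (z * h * z⁻¹)⁻¹ * h ∈ M₁ ⊓ M₂ := by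
    refine ⟨M₁.mul_mem (M₁.inv_mem ((mem_normalizer_iff.1 (h₁ hz) h).1 hh)) hh, ?_⟩
    have e : (z * h * z⁻¹)⁻¹ * h = (z * k * z⁻¹) * k⁻¹ := by
      rw [eq_mul_inv_iff_mul_eq, mul_assoc, inv_mul_eq_iff_eq_mul, hfix]
    show (z * h * z⁻¹)⁻¹ * h ∈ M₂
    rw [e]
    exact M₂.mul_mem ((mem_normalizer_iff.1 (h₂ hz) k).1 hk) (M₂.inv_mem hk)
  rw [hdisj, mem_bot, inv_mul_eq_one] at hmem
  have hzh : z * h = h * z := mul_inv_eq_iff_eq_mul.1 hmem
  have hzk : z * k = k * z := by
    rw [hmem] at hfix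
    exact mul_inv_eq_iff_eq_mul.1 (mul_left_cancel hfix)
  exact hz1 (hhno z ⟨hz, mem_centralizer_singleton_iff.2 hzk⟩ hzh)

/-- An involution inverts the defect `f⁻¹ (c f c⁻¹)`, and an element of odd order splits. -/
theorem fixed_decomp {c f : G} (hc : c * c = 1) (ho : Odd (orderOf (f⁻¹ * (c * f * c⁻¹)))) :
    ∃ m ∈ zpowers (f⁻¹ * (c * f * c⁻¹)), c * m * c⁻¹ = m⁻¹ ∧ c * (f * m) * c⁻¹ = f * m := by
  have hci : c⁻¹ = c := inv_eq_of_mul_eq_one_right hc
  set n := f⁻¹ * (c * f * c⁻¹) with hn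
  have hn' : c * n * c⁻¹ = n⁻¹ := by
    simp only [hn, hci, mul_inv_rev, inv_inv, mul_assoc]
    rw [hc, mul_one]
  obtain ⟨k, hk⟩ := exists_pow_eq_self_of_coprime (Nat.coprime_two_left.2 ho : (2 : ℕ).Coprime (orderOf n))
  rw [← pow_mul] at hk
  refine ⟨n ^ k, pow_mem (mem_zpowers n) k, by rw [← conj_pow, hn', inv_pow], ?_⟩
  have h2 : c * f * c⁻¹ = f * n := by rw [hn]; group
  rw [show c * (f * n ^ k) * c⁻¹ = (c * f * c⁻¹) * (c * n ^ k * c⁻¹) by group, h2, ← conj_pow, hn', inv_pow,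
    mul_assoc]
  congr 1
  rw [mul_inv_eq_iff_eq_mul, ← pow_add, ← two_mul, hk]

/-- An automorphism trivial modulo a central subgroup centralizes the derived subgroup. -/
theorem commutator_le_centralizer {F X : Subgroup G} (h : ⁅F, X⁆ ≤ centralizer (F : Set G)) :
    ⁅F, F⁆ ≤ centralizer (X : Set G) := by
  refine commutator_eq_bot_iff_le_centralizer.1 (commutator_commutator_eq_bot_of_rotate ?_ ?_)
  · exact commutator_eq_bot_iff_le_centralizer.2 h
  · rw [commutator_comm X F]; exact commutator_eq_bot_iff_le_centralizer.2 h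

theorem commutator_zpowers_le {F N : Subgroup G} {x : G} (hx : x * x = 1)
    (h : ∀ f ∈ F, ⁅f, x⁆ ∈ N) : ⁅F, zpowers x⁆ ≤ N := by
  rw [commutator_le]
  intro f hf y hy
  obtain ⟨i, rfl⟩ := mem_zpowers_iff.1 hy
  obtain ⟨j, rfl | rfl⟩ := Int.even_or_odd' i
  · rw [zpow_mul, zpow_two, hx, one_zpow, commutatorElement_one_right]; exact N.one_mem
  · rw [zpow_add, zpow_mul, zpow_two, hx, one_zpow, one_mul, zpow_one]; exact h f hf

theorem perfect_le {M V K : Subgroup G} [M.Normal] (hV : Cfsg.IsElementaryAbelian 2 V) (htop : M ⊔ V = ⊤)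
    (hK : ⁅K, K⁆ = K) : K ≤ M := by
  rw [← hK, commutator_le]
  intro a _ b _
  obtain ⟨m, hm, v, hv, rfl⟩ := mem_sup_of_normal_left.1 (htop.ge (mem_top a))
  obtain ⟨m', hm', v', hv', rfl⟩ := mem_sup_of_normal_left.1 (htop.ge (mem_top b))
  rw [← QuotientGroup.eq_one_iff, commutatorElement_def]
  simp only [QuotientGroup.mk_mul, QuotientGroup.mk_inv, (QuotientGroup.eq_one_iff m).2 hm,
    (QuotientGroup.eq_one_iff m').2 hm', one_mul]
  have e : (v : G ⧸ M) * v' = v' * v := congrArg QuotientGroup.mk (comm_of_mem hV hv hv').eq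
  rw [e]
  group

/-- A minimal counterexample is almost simple. -/
theorem almost_simple (hmin : MinGroup G) {V : Subgroup G} (hV : Cfsg.IsElementaryAbelian 2 V) (hV1 : V ≠ ⊥)
    (hS : Cfsg.IsSidkiPair V) (hVO : V ⊓ Cfsg.pCore 2 G = ⊥) :
    IsSimpleGroup ↥(Cfsg.generalizedFittingSubgroup G) ∧
      ¬ IsMulCommutative ↥(Cfsg.generalizedFittingSubgroup G) ∧
      V ⊔ Cfsg.generalizedFittingSubgroup G = ⊤ := by
  classical
  have hpV : IsPGroup 2 ↥V := fun a => ⟨1, Subtype.ext (hV.2 _ a.2)⟩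
  -- quotients
  have hquot : ∀ N : Subgroup G, ∀ _ : N.Normal, N ≠ ⊥ → V ⊓ N = ⊥ →
      ∃ x ∈ V, x ≠ 1 ∧ ∃ R : Subgroup G, R.Normal ∧ N ≤ R ∧ x ∈ R ∧ ∀ r ∈ R, ∃ k : ℕ, r ^ (2 ^ k) ∈ N := by
    intro N hN hN1 hVN
    haveI := hN
    set π := QuotientGroup.mk' N with hπ
    have hlt : Nat.card (G ⧸ N) < Nat.card G := by
      rw [card_eq_card_quotient_mul_card_subgroup N]
      exact lt_mul_of_one_lt_right Nat.card_pos (one_lt_card_iff_ne_bot N |>.2 hN1)
    have hel : Cfsg.IsElementaryAbelian 2 (V.map π) := by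
      refine ⟨⟨⟨?_⟩⟩, ?_⟩
      · rintro ⟨_, a, ha, rfl⟩ ⟨_, b, hb, rfl⟩
        exact Subtype.ext ((comm_of_mem hV ha hb).map π).eq
      · rintro _ ⟨a, ha, rfl⟩
        rw [← map_pow, hV.2 a ha, map_one]
    have hne : V.map π ≠ ⊥ := by
      rw [Ne, Subgroup.map_eq_bot_iff, QuotientGroup.ker_mk']
      exact fun h => hV1 (le_bot_iff.1 (hVN ▸ le_inf le_rfl h))
    have hmeet := hmin _ (V.map π) hlt hel hne (Cfsg.Agent.S3012.result V N hV hV1 hS hVN)
    obtain ⟨⟨_, hy1, hy2⟩, hne1⟩ := ne_bot_iff_exists_ne_one.1 hmeet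
    obtain ⟨x, hx, rfl⟩ := hy1
    haveI := Solvable.pCore_normal 2 (G := G ⧸ N)
    refine ⟨x, hx, fun e => hne1 (Subtype.ext (by simp [e])), (Cfsg.pCore 2 (G ⧸ N)).comap π, inferInstance,
      fun n hn => ?_, hy2, fun r hr => ?_⟩
    · rw [Subgroup.mem_comap, show π n = 1 from (QuotientGroup.eq_one_iff n).2 hn]
      exact one_mem _
    · obtain ⟨k, hk⟩ := Solvable.isPGroup_pCore 2 (⟨π r, hr⟩ : Cfsg.pCore 2 (G ⧸ N))
      refine ⟨k, (QuotientGroup.eq_one_iff _).1 ?_⟩
      have := congrArg Subtype.val hk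
      simpa [hπ] using this
  -- trivial `2`-core
  have hO : Cfsg.pCore 2 G = ⊥ := by
    by_contra hO
    haveI := Solvable.pCore_normal 2 (G := G)
    obtain ⟨x, hx, hx1, R, hR, hNR, hxR, hpow⟩ := hquot _ inferInstance hO hVO
    have hR2 : IsPGroup 2 ↥R := by
      rintro ⟨r, hr⟩
      obtain ⟨k, hk⟩ := hpow r hr
      obtain ⟨j, hj⟩ := Solvable.isPGroup_pCore 2 (⟨_, hk⟩ : Cfsg.pCore 2 G)
      exact ⟨k + j, Subtype.ext (by
        show r ^ 2 ^ (k + j) = 1
        rw [pow_add, pow_mul]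
        exact congrArg Subtype.val hj)⟩
    exact hx1 (mem_bot.1 (hVO ▸ ⟨hx, Solvable.le_pCore 2 hR hR2 hxR⟩ : x ∈ (⊥ : Subgroup G)))
  set S := Cfsg.generalizedFittingSubgroup G
  set F := Cfsg.fittingSubgroup G
  set E := Cfsg.layer G
  haveI hSn : S.Normal := Comp.Fstar_normal
  haveI hFn : F.Normal := Comp.fitting_normal
  haveI hEn : E.Normal := inferInstance
  have hFE : E ≤ centralizer (F : Set G) := Comp.layer_le_centralizer_fitting
  -- nothing in `V` centralizes `F*`
  have hfaith : ∀ x ∈ V, x ∈ centralizer (S : Set G) → x = 1 := by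
    intro x hx hxc
    have hxS : x ∈ S := Comp.centralizer_Fstar_le hxc
    set X := centralizer (S : Set G) ⊓ S
    have hsub : (zpowers x).IsSubnormal := by
      refine IsSubnormal.step _ _ (zpowers_le.2 (show x ∈ X from ⟨hxc, hxS⟩)) (inferInstance : X.Normal).isSubnormal ?_
      refine (normal_subgroupOf_iff_le_normalizer (zpowers_le.2 (show x ∈ X from ⟨hxc, hxS⟩))).2 ?_
      refine le_trans ?_ (centralizer_le_normalizer _)
      intro y hy
      refine mem_centralizer_iff.2 fun z hz => ?_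
      obtain ⟨i, rfl⟩ := mem_zpowers_iff.1 hz
      exact ((show Commute y x from (mem_centralizer_iff.1 hxc y hy.2)).zpow_right i).eq.symm
    have h2 : IsPGroup 2 ↥(zpowers x) := hpV.to_le (zpowers_le.2 hx)
    have h3 := CharP.subnormal_pGroup_le_pCore hsub h2 (mem_zpowers x)
    exact mem_bot.1 (hO ▸ h3)
  -- `G = F* V`
  have htop : V ⊔ S = ⊤ := by
    by_contra hne
    rw [sup_comm] at hne
    obtain ⟨u, hu, h, -, ho, hinv, hno⟩ := witness hmin hV hV1 le_normalizer_of_normal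
      (pCore_eq_bot_of_subnormal hO hSn.isSubnormal)
      (eq_bot_iff.2 fun x hx => mem_bot.2 (hfaith x hx.1 hx.2)) hne
    obtain ⟨w, hw, hw1, hwh⟩ := hS h u hu ho hinv
    exact hw1 (hno w hw hwh)
  -- `F` has odd order
  have hFodd : ∀ f ∈ F, Odd (orderOf f) := by
    intro f hf
    by_contra he
    rw [Nat.not_odd_iff_even, even_iff_two_dvd, ← Subgroup.orderOf_mk f hf] at he
    haveI := Comp.fitting_isNilpotent (G := G)
    obtain ⟨P⟩ := (inferInstance : Nonempty (Sylow 2 ↥F))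
    haveI hPn : (P : Subgroup F).Normal := Sylow.normal_of_normalizerCondition (normalizerCondition_of_isNilpotent) P
    have h1 := Solvable.le_pCore 2 hPn P.2
    rw [pCore_eq_bot_of_subnormal hO hFn.isSubnormal, le_bot_iff] at h1
    exact P.ne_bot_of_dvd_card (he.trans (orderOf_dvd_natCard _)) h1
  have hVF : ∀ x ∈ V, x ∈ F → x = 1 := fun x hx hxF =>
    eq_one_of_odd_of_eq_inv (hFodd x hxF) (inv_of_mem hV hx).symm
  have hFsol : Group.IsSolvable ↥F := Comp.fitting_isSolvable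
  -- elements trivial modulo a central subgroup of `F`
  have hkill : ∀ N : Subgroup G, N.Normal → N ≤ F → N ≤ centralizer (S : Set G) → N ≠ ⊥ →
      ∀ (x : G), x ∈ V → ∀ R : Subgroup G, R.Normal → x ∈ R → (∀ r ∈ R, ∃ k : ℕ, r ^ (2 ^ k) ∈ N) →
      (N ≤ centralizer ({x} : Set G)) → x ∈ centralizer (F : Set G) := by
    intro N hN hNF hNc hN1 x hx R hR hxR hpow hNx
    have hxx := mul_self_of_mem hV hx
    refine mem_centralizer_iff.2 fun f hf => ?_
    set n := f⁻¹ * (x * f * x⁻¹) with hn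
    have hnF : n ∈ F := mul_mem (inv_mem hf) (hFn.conj_mem f hf x)
    have hnR : n ∈ R := by
      rw [hn, show f⁻¹ * (x * f * x⁻¹) = (f⁻¹ * x * (f⁻¹)⁻¹) * x⁻¹ by group]
      exact mul_mem (hR.conj_mem x hxR _) (inv_mem hxR)
    obtain ⟨k, hk⟩ := hpow n hnR
    obtain ⟨j, hj⟩ := exists_pow_eq_self_of_coprime
      (((Nat.coprime_two_left.2 (hFodd n hnF)).pow_left k) : (2 ^ k).Coprime (orderOf n))
    have hnN : n ∈ N := hj ▸ pow_mem hk j
    obtain ⟨m, hm, hminv, hfix⟩ := fixed_decomp hxx (hFodd n hnF)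
    have hmN : m ∈ N := (zpowers_le.2 hnN) hm
    have hm1 : m = 1 := eq_one_of_odd_of_eq_inv (hFodd m (hNF hmN))
      (by rw [← hminv, ← mem_centralizer_singleton_iff.1 (hNx hmN), mul_inv_cancel_right])
    rw [hm1, mul_one] at hfix
    exact (mul_inv_eq_iff_eq_mul.1 hfix).symm
  have hEsolv : ∀ K, Cfsg.IsComponent K → ¬ K ≤ F := fun K hK => Comp.component_not_le_solvable hK hFsol
  -- the layer has trivial centre
  have hZ : E ⊓ centralizer (E : Set G) = ⊥ := by
    by_contra hZ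
    set Z := E ⊓ centralizer (E : Set G)
    haveI : Z.Normal := inferInstance
    have hZab : IsMulCommutative ↥Z := ⟨⟨fun a b => Subtype.ext (mem_centralizer_iff.1 b.2.2 a a.2.1)⟩⟩
    have hZF : Z ≤ F := Comp.le_fitting inferInstance (isNilpotent_of_comm hZab)
    obtain ⟨x, hx, hx1, R, hR, hZR, hxR, hpow⟩ := hquot Z inferInstance hZ
      (eq_bot_iff.2 fun y hy => mem_bot.2 (hVF y hy.1 (hZF hy.2)))
    haveI := hR
    have hRE : Group.IsSolvable ↥(R ⊓ E : Subgroup G) := by
      set f := (QuotientGroup.mk' Z).comp (R ⊓ E).subtype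
      haveI hk : Group.IsSolvable f.ker := by
        have hab : IsMulCommutative ↥f.ker := ⟨⟨fun a b => Subtype.ext (Subtype.ext (mem_centralizer_iff.1
          (((QuotientGroup.eq_one_iff _).1 b.2 : (b : G) ∈ Z)).2 _ ((QuotientGroup.eq_one_iff _).1 a.2 : ((a : ↥(R ⊓ E)) : G) ∈ Z).1))⟩⟩
        exact Group.isSolvable_of_comm fun a b => hab.is_comm.comm a b
      haveI hr : Group.IsSolvable f.range := by
        have h2 : IsPGroup 2 f.range := by
          rintro ⟨_, r, rfl⟩
          obtain ⟨k, hk⟩ := hpow r r.2.1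
          exact ⟨k, Subtype.ext (by
            show (f r) ^ 2 ^ k = 1
            rw [← map_pow]
            exact (QuotientGroup.eq_one_iff _).2 hk)⟩
        haveI := h2.isNilpotent
        exact IsNilpotent.to_isSolvable
      exact Group.isSolvable_of_ker_le_range f.ker.subtype f.rangeRestrict
        (by rw [MonoidHom.ker_rangeRestrict, range_subtype])
    have hRZ : R ⊓ E ≤ Z := le_inf inf_le_right (by
      rw [← commutator_eq_bot_iff_le_centralizer, commutator_comm]
      exact Comp.layer_commutator_normal_solvable hRE)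
    have hxx := mul_self_of_mem hV hx
    have hEx : E ≤ centralizer ({x} : Set G) := by
      have h1 : ⁅E, zpowers x⁆ ≤ centralizer (E : Set G) := by
        refine (commutator_zpowers_le hxx fun e he => hRZ ⟨?_, ?_⟩).trans inf_le_right
        · rw [commutatorElement_def]; exact R.mul_mem (hR.conj_mem x hxR e) (R.inv_mem hxR)
        · rw [commutatorElement_def, mul_assoc, mul_assoc, ← mul_assoc x]
          exact E.mul_mem he (hEn.conj_mem _ (E.inv_mem he) x)
      have h2 := commutator_le_centralizer h1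
      rw [Comp.layer_perfect] at h2
      exact h2.trans (centralizer_le (Set.singleton_subset_iff.2 (mem_zpowers x)))
    have hZS : Z ≤ centralizer (S : Set G) := by
      rw [le_centralizer_iff]
      exact sup_le (le_centralizer_iff.1 inf_le_right)
        (le_centralizer_iff.1 ((inf_le_left : Z ≤ E).trans hFE))
    have hxF := hkill Z inferInstance hZF hZS hZ x hx R hR hxR hpow ((inf_le_left : Z ≤ E).trans hEx)
    refine hx1 (hfaith x hx ?_)
    have h3 : S ≤ centralizer (zpowers x : Set G) := sup_le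
      (le_centralizer_iff.1 (zpowers_le.2 (mem_centralizer_iff.2 fun e he => mem_centralizer_singleton_iff.1 (hEx he))))
      (le_centralizer_iff.1 (zpowers_le.2 hxF))
    exact le_centralizer_iff.1 h3 (mem_zpowers x)
  -- the layer is nontrivial and the Fitting subgroup trivial
  have hF : F = ⊥ := by
    by_contra hF
    by_cases hE : E = ⊥
    swap
    · refine blocks hmin hV hV1 hS le_normalizer_of_normal le_normalizer_of_normal hFE ?_
        (pCore_eq_bot_of_subnormal hO hFn.isSubnormal) (pCore_eq_bot_of_subnormal hO hEn.isSubnormal) ?_ ?_ ?_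
      · rw [eq_bot_iff, ← hZ]
        exact le_inf inf_le_right (inf_le_left.trans (le_centralizer_iff.1 hFE))
      · intro h
        exact hE (le_bot_iff.1 (Comp.layer_le fun K hK =>
          absurd (perfect_le hV h (Comp.component_perfect hK)) (hEsolv K hK)))
      · intro h
        apply hF
        rw [eq_bot_iff]
        intro f hf
        have hfE : f ∈ E := CharP.mem_of_mem_sup_pGroup hpV (h ▸ mem_top f) (Nat.coprime_two_right.2 (hFodd f hf))
        rw [← hZ]
        exact ⟨hfE, le_centralizer_iff.1 hFE hf⟩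
      · rw [eq_bot_iff]
        rintro x ⟨⟨hxV, hx1⟩, hx2⟩
        refine mem_bot.2 (hfaith x hxV ?_)
        have h3 : S ≤ centralizer (zpowers x : Set G) :=
          sup_le (le_centralizer_iff.1 (zpowers_le.2 hx2)) (le_centralizer_iff.1 (zpowers_le.2 hx1))
        exact le_centralizer_iff.1 h3 (mem_zpowers x)
    have hSF : S = F := by show E ⊔ F = F; rw [hE, bot_sup_eq]
    by_cases hab : ⁅F, F⁆ = ⊥
    swap
    · -- the nonabelian case
      set N := ⁅F, F⁆ ⊓ centralizer (F : Set G)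
      have hN1 : N ≠ ⊥ := by
        haveI := Comp.fitting_isNilpotent (G := G)
        have h1 := PGroupBasic.inf_center_ne_bot (commutator ↥F) (fun h => hab (by
          rw [← Subgroup.map_subtype_commutator, h, Subgroup.map_bot]))
        obtain ⟨⟨z, hz1, hz2⟩, hz⟩ := ne_bot_iff_exists_ne_one.1 h1
        refine ne_bot_iff_exists_ne_one.2 ⟨⟨(z : G), ?_, ?_⟩, fun e => hz (Subtype.ext (Subtype.ext (by simpa using congrArg Subtype.val e)))⟩
        · rw [← Subgroup.map_subtype_commutator]; exact mem_map_of_mem _ hz1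
        · exact mem_centralizer_iff.2 fun f hf => congrArg Subtype.val (mem_center_iff.1 hz2 ⟨f, hf⟩)
      have hNF : N ≤ F := inf_le_left.trans (commutator_le_self F)
      obtain ⟨x, hx, hx1, R, hR, hNR, hxR, hpow⟩ := hquot N inferInstance hN1
        (eq_bot_iff.2 fun y hy => mem_bot.2 (hVF y hy.1 (hNF hy.2)))
      have hxx := mul_self_of_mem hV hx
      have h1 : ⁅F, zpowers x⁆ ≤ centralizer (F : Set G) := by
        refine (commutator_zpowers_le hxx fun f hf => ?_).trans (inf_le_right : N ≤ _)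
        have hnF : ⁅f, x⁆ ∈ F := by
          rw [commutatorElement_def, mul_assoc, mul_assoc, ← mul_assoc x]
          exact mul_mem hf (hFn.conj_mem _ (inv_mem hf) x)
        have hnR : ⁅f, x⁆ ∈ R := by
          rw [commutatorElement_def]; exact mul_mem (hR.conj_mem x hxR f) (inv_mem hxR)
        obtain ⟨k, hk⟩ := hpow _ hnR
        obtain ⟨j, hj⟩ := exists_pow_eq_self_of_coprime
          (((Nat.coprime_two_left.2 (hFodd _ hnF)).pow_left k) : (2 ^ k).Coprime (orderOf ⁅f, x⁆))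
        exact hj ▸ pow_mem hk j
      have hNx : N ≤ centralizer ({x} : Set G) := (inf_le_left.trans (commutator_le_centralizer h1)).trans
        (centralizer_le (Set.singleton_subset_iff.2 (mem_zpowers x)))
      have hxF := hkill N inferInstance hNF (by rw [hSF]; exact inf_le_right) hN1 x hx R hR hxR hpow hNx
      exact hx1 (hfaith x hx (by rw [hSF]; exact hxF))
    have hFcomm : ∀ a ∈ F, ∀ b ∈ F, Commute a b := fun a ha b hb =>
      commutatorElement_eq_one_iff_mul_comm.1 (mem_bot.1 (hab ▸ commutator_mem_commutator ha hb))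
    have hcF : ∀ x ∈ V, x ∈ centralizer (F : Set G) → x = 1 := fun x hx hxc => hfaith x hx (hSF ▸ hxc)
    by_cases hex : ∃ c ∈ V, c ≠ 1 ∧ F ⊓ centralizer ({c} : Set G) ≠ ⊥
    swap
    · -- every involution inverts `F`
      push Not at hex
      obtain ⟨⟨v, hv⟩, hv1⟩ := ne_bot_iff_exists_ne_one.1 hV1
      obtain ⟨⟨f, hf⟩, hf1⟩ := ne_bot_iff_exists_ne_one.1 hF
      have hinv : ∀ c ∈ V, c ≠ 1 → ∀ g ∈ F, c * g * c⁻¹ = g⁻¹ := by
        intro c hc hc1 g hg
        obtain ⟨m, hm, hmi, hfix⟩ := fixed_decomp (mul_self_of_mem hV hc)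
          (hFodd (g⁻¹ * (c * g * c⁻¹)) (mul_mem (inv_mem hg) (hFn.conj_mem g hg c)))
        have hmF : m ∈ F := (zpowers_le.2 (mul_mem (inv_mem hg) (hFn.conj_mem g hg c))) hm
        have : g * m ∈ F ⊓ centralizer ({c} : Set G) :=
          ⟨mul_mem hg hmF, mem_centralizer_singleton_iff.2 (mul_inv_eq_iff_eq_mul.1 hfix).symm⟩
        rw [hex c hc hc1, mem_bot] at this
        have e : g = m⁻¹ := mul_eq_one_iff_eq_inv.1 this
        rw [e, ← conj_inv, hmi]
      have huniq : ∀ w ∈ V, w ≠ 1 → w = v := by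
        intro w hw hw1
        have h := hcF (w * v) (V.mul_mem hw hv) (mem_centralizer_iff.2 fun g hg => by
          have h1 := hinv v hv (fun e => hv1 (Subtype.ext e)) g hg
          exact (mul_inv_eq_iff_eq_mul.1 (show (w * v) * g * (w * v)⁻¹ = g by
            rw [show (w * v) * g * (w * v)⁻¹ = w * (v * g * v⁻¹) * w⁻¹ by group, h1, ← conj_inv, hinv w hw hw1 g hg, inv_inv])).symm)
        exact (mul_eq_one_iff_eq_inv.1 h).trans (inv_of_mem hV hv)
      have hfi := hinv v hv (fun e => hv1 (Subtype.ext e)) f hf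
      obtain ⟨w, hw, hw1, hwf⟩ := hS f v hv (hFodd f hf) hfi
      rw [huniq w hw hw1] at hwf
      exact hf1 (Subtype.ext (eq_one_of_odd_of_eq_inv (hFodd f hf) (by rw [← hfi, hwf, mul_inv_cancel_right])))
    obtain ⟨c, hc, hc1, hM1⟩ := hex
    set M₁ := F ⊓ centralizer ({c} : Set G)
    let M₂ : Subgroup G :=
      { carrier := {f | f ∈ F ∧ c * f * c⁻¹ = f⁻¹}
        one_mem' := ⟨F.one_mem, by simp⟩
        mul_mem' := fun {a b} ha hb => ⟨F.mul_mem ha.1 hb.1, by
          rw [show c * (a * b) * c⁻¹ = (c * a * c⁻¹) * (c * b * c⁻¹) by group, ha.2, hb.2,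
            (hFcomm a ha.1 b hb.1).eq, mul_inv_rev]⟩
        inv_mem' := fun {a} ha => ⟨F.inv_mem ha.1, by rw [← conj_inv, ha.2]⟩ }
    have hsplit : ∀ f ∈ F, ∃ m ∈ M₂, f * m ∈ M₁ := by
      intro f hf
      obtain ⟨m, hm, hmi, hfix⟩ := fixed_decomp (mul_self_of_mem hV hc)
        (hFodd (f⁻¹ * (c * f * c⁻¹)) (mul_mem (inv_mem hf) (hFn.conj_mem f hf c)))
      have hmF : m ∈ F := (zpowers_le.2 (mul_mem (inv_mem hf) (hFn.conj_mem f hf c))) hm
      exact ⟨m, ⟨hmF, hmi⟩, mul_mem hf hmF, mem_centralizer_singleton_iff.2 (mul_inv_eq_iff_eq_mul.1 hfix).symm⟩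
    have hVM1 : V ≤ normalizer (M₁ : Set G) := by
      intro v hv
      refine mem_normalizer_fintype fun f hf => ⟨hFn.conj_mem f hf.1 v, mem_centralizer_singleton_iff.2 ?_⟩
      have h1 : c * f * c⁻¹ = f := by rw [← mem_centralizer_singleton_iff.1 hf.2, mul_inv_cancel_right]
      exact (mul_inv_eq_iff_eq_mul.1 (show c * (v * f * v⁻¹) * c⁻¹ = v * f * v⁻¹ by
        rw [show c * (v * f * v⁻¹) * c⁻¹ = (c * v) * f * (c * v)⁻¹ by group, (comm_of_mem hV hc hv).eq,
          show (v * c) * f * (v * c)⁻¹ = v * (c * f * c⁻¹) * v⁻¹ by group, h1])).symm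
    have hVM2 : V ≤ normalizer (M₂ : Set G) := by
      intro v hv
      refine mem_normalizer_fintype fun f hf => ⟨hFn.conj_mem f hf.1 v, ?_⟩
      rw [show c * (v * f * v⁻¹) * c⁻¹ = (c * v) * f * (c * v)⁻¹ by group, (comm_of_mem hV hc hv).eq,
        show (v * c) * f * (v * c)⁻¹ = v * (c * f * c⁻¹) * v⁻¹ by group, hf.2]
      group
    have hsn : ∀ {M : Subgroup G}, M ≤ F → Cfsg.pCore 2 ↥M = ⊥ := fun {M} hMF =>
      pCore_eq_bot_of_subnormal hO (IsSubnormal.step _ _ hMF hFn.isSubnormal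
        ((normal_subgroupOf_iff_le_normalizer hMF).2 ((le_centralizer_iff.1 fun a ha =>
          mem_centralizer_iff.2 fun b hb => (hFcomm b hb a (hMF ha)).eq).trans (centralizer_le_normalizer _))))
    refine blocks hmin hV hV1 hS hVM1 hVM2 ?_ ?_ (hsn inf_le_left) (hsn fun f hf => hf.1) ?_ ?_ ?_
    · exact fun a ha => mem_centralizer_iff.2 fun b hb => (hFcomm b hb.1 a ha.1).eq
    · rw [eq_bot_iff]
      rintro f ⟨hf1, hf2⟩
      refine mem_bot.2 (eq_one_of_odd_of_eq_inv (hFodd f hf1.1) ?_)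
      rw [← hf2.2, ← mem_centralizer_singleton_iff.1 hf1.2, mul_inv_cancel_right]
    · intro h
      refine hc1 (hcF c hc (mem_centralizer_iff.2 fun f _ => ?_))
      have h2 : M₁ ⊔ V ≤ centralizer ({c} : Set G) :=
        sup_le inf_le_right fun v hv => mem_centralizer_singleton_iff.2 (comm_of_mem hV hv hc).eq
      exact mem_centralizer_singleton_iff.1 (h2 (h ▸ mem_top f))
    · intro h
      apply hM1
      have hn : M₂.Normal := by
        refine normalizer_eq_top_iff.1 (top_le_iff.1 (h.ge.trans (sup_le Subgroup.le_normalizer hVM2)))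
      rw [eq_bot_iff]
      intro f hf
      have hf2 : f ∈ M₂ := CharP.mem_of_mem_sup_pGroup hpV (h ▸ mem_top f) (Nat.coprime_two_right.2 (hFodd f hf.1))
      refine mem_bot.2 (eq_one_of_odd_of_eq_inv (hFodd f hf.1) ?_)
      rw [← hf2.2, ← mem_centralizer_singleton_iff.1 hf.2, mul_inv_cancel_right]
    · rw [eq_bot_iff]
      rintro x ⟨⟨hx, hx1⟩, hx2⟩
      refine mem_bot.2 (hcF x hx (mem_centralizer_iff.2 fun f hf => ?_))
      obtain ⟨m, hm, hfm⟩ := hsplit f hf
      have h1 : Commute (f * m) x := mem_centralizer_iff.1 hx1 _ hfm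
      have h2 : Commute m x := mem_centralizer_iff.1 hx2 m hm
      simpa using (h1.mul_left h2.inv_left).eq
  -- components
  have hSE : S = E := by show E ⊔ F = E; rw [hF, sup_bot_eq]
  have hfE : ∀ x ∈ V, x ∈ centralizer (E : Set G) → x = 1 := fun x hx h => hfaith x hx (hSE ▸ h)
  obtain ⟨K, hK⟩ : ∃ K : Subgroup G, Cfsg.IsComponent K := by
    by_contra h
    push Not at h
    obtain ⟨⟨v, hv⟩, hv1⟩ := ne_bot_iff_exists_ne_one.1 hV1
    have hE : E = ⊥ := le_bot_iff.1 (Comp.layer_le fun L hL => absurd hL (h L))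
    exact hv1 (Subtype.ext (hfE v hv (hE ▸ mem_centralizer_iff.2 fun y hy => by
      rw [mem_bot.1 (show y ∈ (⊥ : Subgroup G) from hy)]; simp)))
  have hKE : K ≤ E := Comp.component_le_layer hK
  set W : Subgroup G := ⨆ v : V, K.map (MulAut.conj (v : G)).toMonoidHom
  have hKW : K ≤ W := le_trans (fun x hx => ⟨x, hx, by simp⟩ : K ≤ K.map (MulAut.conj ((1 : V) : G)).toMonoidHom)
    (le_iSup (fun v : V => K.map (MulAut.conj (v : G)).toMonoidHom) 1)
  have hWn : W.Normal := by
    refine normalizer_eq_top_iff.1 (top_le_iff.1 (htop.ge.trans (sup_le ?_ ?_)))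
    · intro g hg
      refine mem_normalizer_fintype fun x hx => ?_
      have h : W.map (MulAut.conj g).toMonoidHom ≤ W := by
        rw [Subgroup.map_iSup]
        refine iSup_le fun s => le_trans ?_ (le_iSup _ (⟨g, hg⟩ * s))
        rw [Subgroup.map_map]
        refine le_of_eq (congrArg (fun f => K.map f) (MonoidHom.ext fun y => ?_))
        simp [mul_assoc]
      exact h ⟨x, hx, rfl⟩
    · rw [hSE]
      intro g hg
      rw [mem_normalizer_iff_map_conj_eq, Subgroup.map_iSup]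
      exact iSup_congr fun s =>
        mem_normalizer_iff_map_conj_eq.1 (Comp.layer_le_normalizer_component (Comp.component_conj _ hK) hg)
  haveI := hWn
  have horb : ∀ L, Cfsg.IsComponent L → ∃ v ∈ V, L = K.map (MulAut.conj v).toMonoidHom := by
    intro L hL
    by_contra hno
    push Not at hno
    have hLW : L ≤ centralizer (W : Set G) := le_centralizer_iff.1 (iSup_le fun v => le_centralizer_iff.1
      (commutator_eq_bot_iff_le_centralizer.1
        ((Comp.component_eq_or_commute hL (Comp.component_conj _ hK)).resolve_left (hno v v.2))))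
    haveI : (E ⊓ centralizer (W : Set G)).Normal := inferInstance
    have hdisj : W ⊓ centralizer (W : Set G) = ⊥ := by
      have hab : IsMulCommutative ↥(W ⊓ centralizer (W : Set G) : Subgroup G) :=
        ⟨⟨fun a b => Subtype.ext (mem_centralizer_iff.1 b.2.2 a a.2.1)⟩⟩
      exact le_bot_iff.1 ((Comp.le_fitting inferInstance (isNilpotent_of_comm hab)).trans hF.le)
    refine blocks hmin (M₁ := W) (M₂ := E ⊓ centralizer (W : Set G)) hV hV1 hS le_normalizer_of_normal
      le_normalizer_of_normal inf_le_right ?_ (pCore_eq_bot_of_subnormal hO hWn.isSubnormal)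
      (pCore_eq_bot_of_subnormal hO (inferInstance : (E ⊓ centralizer (W : Set G)).Normal).isSubnormal) ?_ ?_ ?_
    · exact le_bot_iff.1 (hdisj ▸ inf_le_inf_left _ inf_le_right)
    · intro h
      exact Comp.component_ne_bot hL (le_bot_iff.1 (hdisj ▸ le_inf (perfect_le hV h (Comp.component_perfect hL)) hLW))
    · intro h
      exact Comp.component_ne_bot hK (le_bot_iff.1 (hdisj ▸ le_inf hKW
        ((perfect_le hV h (Comp.component_perfect hK)).trans inf_le_right)))
    · rw [eq_bot_iff]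
      rintro x ⟨⟨hx, hx1⟩, hx2⟩
      refine mem_bot.2 (hfE x hx ?_)
      have h : E ≤ centralizer (zpowers x : Set G) := Comp.layer_le fun M hM => by
        by_cases hin : ∃ v : V, M = K.map (MulAut.conj (v : G)).toMonoidHom
        · obtain ⟨v, rfl⟩ := hin
          exact (le_iSup (fun v : V => K.map (MulAut.conj (v : G)).toMonoidHom) v).trans
            (le_centralizer_iff.1 (zpowers_le.2 hx1))
        · have hM' : M ≤ centralizer (W : Set G) := le_centralizer_iff.1 (iSup_le fun v => le_centralizer_iff.1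
            (commutator_eq_bot_iff_le_centralizer.1
              ((Comp.component_eq_or_commute hM (Comp.component_conj _ hK)).resolve_left fun e => hin ⟨v, e⟩)))
          exact (le_inf (Comp.component_le_layer hM) hM').trans (le_centralizer_iff.1 (zpowers_le.2 hx2))
      exact le_centralizer_iff.1 h (mem_zpowers x)
  -- each component is simple
  have hcentre : ∀ z ∈ K, z ∈ centralizer (K : Set G) → z = 1 := by
    intro z hz hzK
    refine mem_bot.1 (hZ ▸ (⟨hKE hz, ?_⟩ : z ∈ E ⊓ centralizer (E : Set G)))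
    have h : E ≤ centralizer (zpowers z : Set G) := Comp.layer_le fun L hL => by
      rcases Comp.component_eq_or_commute hL hK with rfl | h
      · exact le_centralizer_iff.1 (zpowers_le.2 hzK)
      · exact (commutator_eq_bot_iff_le_centralizer.1 h).trans (centralizer_le (zpowers_le.2 hz))
    exact le_centralizer_iff.1 h (mem_zpowers z)
  have hKdisj : ∀ L, Cfsg.IsComponent L → L ≠ K → ∀ z ∈ K, z ∈ L → z = 1 := fun L hL hne z hz hzL =>
    hcentre z hz (commutator_eq_bot_iff_le_centralizer.1 ((Comp.component_eq_or_commute hL hK).resolve_left hne) hzL)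
  -- `V` normalizes `K`
  have hVK : V ≤ normalizer (K : Set G) := by
    by_contra hVK
    set V₀ := V ⊓ normalizer (K : Set G)
    by_cases hV₀ : V₀ = ⊥
    · obtain ⟨⟨v, hv⟩, hv1⟩ := ne_bot_iff_exists_ne_one.1 hV1
      have hv1' : v ≠ 1 := fun e => hv1 (Subtype.ext e)
      have hmove : ∀ w ∈ V, K.map (MulAut.conj w).toMonoidHom = K → w = 1 := fun w hw h =>
        mem_bot.1 (hV₀ ▸ (⟨hw, mem_normalizer_iff_map_conj_eq.2 h⟩ : w ∈ V₀))
      obtain ⟨q, hq, hq2, hqd⟩ : ∃ q, q.Prime ∧ q ≠ 2 ∧ q ∣ Nat.card K := by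
        by_contra h
        push Not at h
        have h2 : IsPGroup 2 K := IsPGroup.of_card
          (Nat.eq_prime_pow_of_unique_prime_dvd Nat.card_pos.ne' fun {d} hd hdd => by_contra fun hd2 => h d hd hd2 hdd)
        haveI := h2.isNilpotent
        exact Comp.component_not_solvable hK IsNilpotent.to_isSolvable
      haveI := Fact.mk hq
      obtain ⟨⟨k, hk⟩, hko⟩ := exists_prime_orderOf_dvd_card' q hqd
      rw [Subgroup.orderOf_mk] at hko
      have hk1 : k ≠ 1 := fun e => hq.one_lt.ne' (hko.symm.trans (by rw [e, orderOf_one]))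
      set K' := K.map (MulAut.conj v).toMonoidHom
      have hK' : Cfsg.IsComponent K' := Comp.component_conj _ hK
      have hne : K' ≠ K := fun e => hv1' (hmove v hv e)
      set k' := v * k⁻¹ * v⁻¹
      have hk' : k' ∈ K' := ⟨k⁻¹, K.inv_mem hk, rfl⟩
      have hcomm : Commute k k' := mem_centralizer_iff.1
        (commutator_eq_bot_iff_le_centralizer.1 ((Comp.component_eq_or_commute hK' hK).resolve_left hne) hk') k hk
      have hvv := inv_of_mem hV hv
      have hinv : v * (k * k') * v⁻¹ = (k * k')⁻¹ := by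
        rw [mul_inv_rev, show v * (k * k') * v⁻¹ = (v * k * v⁻¹) * (v * v) * k⁻¹ * (v⁻¹ * v⁻¹) by simp [k', mul_assoc],
          mul_self_of_mem hV hv, ← mul_inv_rev, mul_self_of_mem hV hv, inv_one, mul_one, mul_one,
          show k'⁻¹ = v * k * v⁻¹ by simp [k', mul_assoc]]
      have hoo : Odd (orderOf (k * k')) := by
        have h1 : Odd (orderOf k) := hko ▸ hq.odd_of_ne_two hq2
        have h2 : orderOf k' = orderOf k := by
          rw [show k' = MulAut.conj v k⁻¹ from rfl, MulEquiv.orderOf_eq, orderOf_inv]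
        exact (h1.mul (h2 ▸ h1)).of_dvd_nat hcomm.orderOf_mul_dvd_mul_orderOf
      obtain ⟨w, hw, hw1, hwc⟩ := hS _ v hv hoo hinv
      by_cases hwv : w = v
      · subst hwv
        have h1 : k * k' = 1 := eq_one_of_odd_of_eq_inv hoo (by rw [← hinv, hwc, mul_inv_cancel_right])
        refine hk1 (hKdisj K' hK' hne k hk ?_)
        rw [eq_inv_of_mul_eq_one_left h1]
        exact K'.inv_mem hk'
      -- `k k'` centralizes every component other than `K` and `K'`
      set Kw := K.map (MulAut.conj w).toMonoidHom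
      have hKw : Cfsg.IsComponent Kw := Comp.component_conj _ hK
      have hn1 : Kw ≠ K := fun e => hw1 (hmove w hw e)
      have hn2 : Kw ≠ K' := by
        intro e
        refine hwv ?_
        have h : K.map (MulAut.conj (v⁻¹ * w)).toMonoidHom = K := by
          have := congrArg (Subgroup.map (MulAut.conj v⁻¹).toMonoidHom) e
          rw [Subgroup.map_map, Subgroup.map_map] at this
          convert this using 1
          · exact congrArg (fun f => K.map f) (MonoidHom.ext fun y => by simp [mul_assoc])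
          · conv_lhs => rw [← Subgroup.map_id K]
            exact congrArg (fun f => K.map f) (MonoidHom.ext fun y => by simp [mul_assoc])
        exact (inv_mul_eq_one.1 (hmove _ (V.mul_mem (V.inv_mem hv) hw) h)).symm
      refine hk1 (hcentre k hk (mem_centralizer_iff.2 fun y hy => ?_))
      have hy' : w * y * w⁻¹ ∈ Kw := ⟨y, hy, rfl⟩
      have c1 : Commute (w * y * w⁻¹) k := (mem_centralizer_iff.1
        (commutator_eq_bot_iff_le_centralizer.1 ((Comp.component_eq_or_commute hKw hK).resolve_left hn1) hy') k hk).symm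
      have c2 : Commute (w * y * w⁻¹) k' := (mem_centralizer_iff.1
        (commutator_eq_bot_iff_le_centralizer.1 ((Comp.component_eq_or_commute hKw hK').resolve_left hn2) hy') k' hk').symm
      have c3 : Commute y (k * k') := by
        have := ((c1.mul_right c2).map (MulAut.conj w⁻¹).toMonoidHom)
        have e1 : w⁻¹ * (w * y * w⁻¹) * w = y := by group
        have e2 : w⁻¹ * (k * k') * w = k * k' := by rw [mul_assoc, ← hwc, inv_mul_cancel_left]
        simpa [e1, e2] using this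
      have c4 : Commute y k' := mem_centralizer_iff.1
        (commutator_eq_bot_iff_le_centralizer.1 ((Comp.component_eq_or_commute hK' hK).resolve_left hne) hk') y hy
      simpa using (c3.mul_right c4.inv_right).eq
    · have hne : K ⊔ V₀ ≠ ⊤ := fun h => hVK fun v _ => (sup_le Subgroup.le_normalizer inf_le_right) (h ▸ mem_top v)
      obtain ⟨u, hu, k, hk, hko, hinv, hno⟩ := witness hmin (U := V₀) (M := K)
        ⟨⟨⟨fun a b => Subtype.ext (comm_of_mem hV a.2.1 b.2.1).eq⟩⟩, fun a ha => hV.2 a ha.1⟩ hV₀ inf_le_right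
        (pCore_eq_bot_of_subnormal hO hK.1) (by
          rw [eq_bot_iff]
          rintro x ⟨⟨hx, -⟩, hxK⟩
          refine mem_bot.2 (hfE x hx ?_)
          have h : E ≤ centralizer (zpowers x : Set G) := Comp.layer_le fun L hL => by
            obtain ⟨v, hv, rfl⟩ := horb L hL
            rw [le_centralizer_iff, zpowers_le, mem_centralizer_iff]
            rintro _ ⟨y, hy, rfl⟩
            have h1 : y * x = x * y := mem_centralizer_iff.1 hxK y hy
            have h2 : Commute (v * y * v⁻¹) (v * x * v⁻¹) := (show Commute y x from h1).map (MulAut.conj v).toMonoidHom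
            rwa [(comm_of_mem hV hv hx).eq, mul_inv_cancel_right] at h2
          exact le_centralizer_iff.1 h (mem_zpowers x)) hne
      obtain ⟨w, hw, hw1, hwk⟩ := hS k u hu.1 hko hinv
      have hk1 : k ≠ 1 := fun e =>
        hV₀ (eq_bot_iff.2 fun z hz => mem_bot.2 (hno z hz (by rw [e]; simp)))
      have hwN : w ∈ normalizer (K : Set G) := by
        rw [mem_normalizer_iff_map_conj_eq]
        by_contra hne'
        exact hk1 (hKdisj _ (Comp.component_conj w hK) hne' k hk ⟨k, hk, by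
          show w * k * w⁻¹ = k
          rw [hwk, mul_inv_cancel_right]⟩)
      exact hw1 (hno w ⟨hw, hwN⟩ hwk)
  have hEK : E = K := le_antisymm (Comp.layer_le fun L hL => by
    obtain ⟨v, hv, rfl⟩ := horb L hL
    exact (mem_normalizer_iff_map_conj_eq.1 (hVK hv)).le) hKE
  have hsimple : IsSimpleGroup ↥K := by
    have hc : center ↥K = ⊥ := by
      rw [eq_bot_iff]
      intro z hz
      exact mem_bot.2 (Subtype.ext (hcentre z z.2 (mem_centralizer_iff.2 fun y hy =>
        congrArg Subtype.val (mem_center_iff.1 hz ⟨y, hy⟩))))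
    haveI := hK.2.2
    haveI := Comp.quasisimple_nontrivial hK.2
    exact IsSimpleGroup.isSimpleGroup_of_surjective
      ((QuotientGroup.quotientMulEquivOfEq hc).trans QuotientGroup.quotientBot).toMonoidHom (MulEquiv.surjective _)
  refine ⟨?_, ?_, htop⟩
  · rw [hSE, hEK]; exact hsimple
  · rw [hSE, hEK]
    intro h
    exact Comp.component_not_comm hK (commutator_eq_bot_iff_le_centralizer.2
      (le_centralizer_iff_isMulCommutative.2 h))

end CfsgLib.Sidki
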