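import Mathlib.FieldTheory.ChevalleyWarning
import Mathlib.FieldTheory.Minpoly.Field
import Mathlib.LinearAlgebra.Matrix.Charpoly.Coeff
import Mathlib.LinearAlgebra.Matrix.Charpoly.Minpoly
import Mathlib.RingTheory.Polynomial.RationalRoot
import Mathlib.RingTheory.IntegralClosure.IntegrallyClosed
import Mathlib.RingTheory.Polynomial.UniqueFactorization
import Mathlib.RingTheory.Polynomial.GaussLemma
import Mathlib.RingTheory.MvPolynomial.Homogeneous
import Mathlib.Algebra.MvPolynomial.NoZeroDivisors
import Mathlib.LinearAlgebra.Dual.Lemmas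
import Mathlib.Algebra.Module.ZMod
import Mathlib.Tactic.NoncommRing

/-!
An additive group of `n × n` matrices over `ZMod p` of order `p ^ n`, containing the identity and closed under
`(a, b) ↦ a * b * a`, all of whose nonzero elements are invertible, is commutative and multiplicatively closed.
-/

set_option autoImplicit false

namespace CfsgLib.SpreadField

open Matrix Polynomial

variable {p n : ℕ} [hp : Fact p.Prime]

local notation "R" => MvPolynomial (Fin n) (ZMod p)
local notation "Q" => FractionRing (MvPolynomial (Fin n) (ZMod p))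

/-- The generic element of the span of `B`. -/
noncomputable def generic (B : Fin n → Matrix (Fin n) (Fin n) (ZMod p)) : Matrix (Fin n) (Fin n) R :=
  ∑ i, (MvPolynomial.X i : R) • (B i).map (MvPolynomial.C : (ZMod p) →+* R)

theorem generic_eval (B : Fin n → Matrix (Fin n) (Fin n) (ZMod p)) (v : Fin n → (ZMod p)) :
    (generic B).map (MvPolynomial.eval v) = ∑ i, v i • B i := by
  ext a b
  simp [generic, Matrix.sum_apply]

theorem totalDegree_generic_apply (B : Fin n → Matrix (Fin n) (Fin n) (ZMod p)) (a b : Fin n) :
    (generic B a b).totalDegree ≤ 1 := by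
  simp only [generic, Matrix.sum_apply, Matrix.smul_apply, Matrix.map_apply, smul_eq_mul]
  refine (MvPolynomial.totalDegree_finset_sum _ _).trans (Finset.sup_le fun i _ => ?_)
  refine (MvPolynomial.totalDegree_mul _ _).trans ?_
  simp [MvPolynomial.totalDegree_X, MvPolynomial.totalDegree_C]

theorem totalDegree_charpoly_le (B : Fin n → Matrix (Fin n) (Fin n) (ZMod p)) :
    ((MvPolynomial.optionEquivLeft (ZMod p) (Fin n)).symm (generic B).charpoly).totalDegree ≤ n := by
  classical
  rw [Matrix.charpoly, Matrix.det_apply, map_sum]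
  refine (MvPolynomial.totalDegree_finset_sum _ _).trans (Finset.sup_le fun σ _ => ?_)
  have hentry : ∀ a b : Fin n, ((MvPolynomial.optionEquivLeft (ZMod p) (Fin n)).symm
      ((generic B).charmatrix a b)).totalDegree ≤ 1 := by
    intro a b
    have hC : ∀ f : R, (MvPolynomial.optionEquivLeft (ZMod p) (Fin n)).symm (Polynomial.C f)
        = MvPolynomial.rename some f := by
      intro f
      rw [MvPolynomial.optionEquivLeft_symm_apply, Polynomial.aevalTower_C]
    by_cases hab : a = b
    · subst hab
      rw [Matrix.charmatrix_apply_eq, map_sub, hC, MvPolynomial.optionEquivLeft_symm_X]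
      refine (MvPolynomial.totalDegree_sub _ _).trans (max_le ?_ ?_)
      · rw [MvPolynomial.totalDegree_X]
      · exact (MvPolynomial.totalDegree_rename_le _ _).trans (totalDegree_generic_apply B a a)
    · rw [Matrix.charmatrix_apply_ne _ _ _ hab, map_neg, hC, MvPolynomial.totalDegree_neg]
      exact (MvPolynomial.totalDegree_rename_le _ _).trans (totalDegree_generic_apply B a b)
  have hprod : ((MvPolynomial.optionEquivLeft (ZMod p) (Fin n)).symm
      (∏ i, (generic B).charmatrix (σ i) i)).totalDegree ≤ n := by
    rw [map_prod]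
    refine (MvPolynomial.totalDegree_finsetProd _ _).trans ?_
    refine (Finset.sum_le_sum fun i _ => hentry (σ i) i).trans ?_
    simp
  rcases Int.units_eq_one_or (Equiv.Perm.sign σ) with h | h <;>
    simp [h, MvPolynomial.totalDegree_neg] <;> simpa [map_prod] using hprod

section

variable (K : AddSubgroup (Matrix (Fin n) (Fin n) (ZMod p)))

/-- The standing hypotheses. -/
structure Hyp : Prop where
  card : Nat.card K = p ^ n
  one : (1 : Matrix (Fin n) (Fin n) (ZMod p)) ∈ K
  det : ∀ a ∈ K, a ≠ 0 → a.det ≠ 0
  aba : ∀ a ∈ K, ∀ b ∈ K, a * b * a ∈ K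

variable {K}

theorem Hyp.lin (H : Hyp (p := p) (n := n) K) {a b c : Matrix (Fin n) (Fin n) (ZMod p)} (ha : a ∈ K) (hb : b ∈ K)
    (hc : c ∈ K) : a * c * b + b * c * a ∈ K := by
  have e : a * c * b + b * c * a = (a + b) * c * (a + b) - a * c * a - b * c * b := by noncomm_ring
  rw [e]
  exact K.sub_mem (K.sub_mem (H.aba _ (K.add_mem ha hb) _ hc) (H.aba _ ha _ hc)) (H.aba _ hb _ hc)

set_option maxHeartbeats 1600000 in
theorem Hyp.mul_mem_and_comm (H : Hyp (p := p) (n := n) K) :
    ∀ a ∈ K, ∀ b ∈ K, a * b ∈ K ∧ a * b = b * a := by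
  classical
  rcases Nat.eq_zero_or_pos n with hn | hn
  · subst hn
    intro a _ b _
    exact ⟨by rw [Subsingleton.elim (a * b) 0]; exact K.zero_mem, Subsingleton.elim _ _⟩
  haveI : NeZero n := ⟨hn.ne'⟩
  let K' : Submodule (ZMod p) (Matrix (Fin n) (Fin n) (ZMod p)) := AddSubgroup.toZModSubmodule p K
  have hfr : Module.finrank (ZMod p) K' = n := by
    have h1 := Module.natCard_eq_pow_finrank (K := ZMod p) (V := K')
    rw [Nat.card_zmod] at h1
    exact Nat.pow_right_injective hp.out.two_le (h1.symm.trans H.card)
  let bas : Module.Basis (Fin n) (ZMod p) K' := Module.finBasisOfFinrankEq (ZMod p) K' hfr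
  let B : Fin n → Matrix (Fin n) (Fin n) (ZMod p) := fun i => (bas i : Matrix (Fin n) (Fin n) (ZMod p))
  have hB : ∀ i, B i ∈ K := fun i => (bas i).2
  have hspan : ∀ a ∈ K, ∃ c : Fin n → (ZMod p), a = ∑ i, c i • B i := by
    intro a ha
    refine ⟨bas.repr ⟨a, ha⟩, ?_⟩
    have h := congrArg (Subtype.val : K' → _) (bas.sum_repr ⟨a, ha⟩)
    rw [Submodule.coe_sum] at h
    exact h.symm
  -- over the fraction field
  let φ : (ZMod p) →+* Q := algebraMap (ZMod p) Q
  let ι : Matrix (Fin n) (Fin n) (ZMod p) →+* Matrix (Fin n) (Fin n) Q := φ.mapMatrix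
  let X : Matrix (Fin n) (Fin n) Q := (algebraMap R Q).mapMatrix (generic B)
  let x : Fin n → Q := fun i => algebraMap R Q (MvPolynomial.X i)
  have hX : X = ∑ i, x i • ι (B i) := by
    ext a b
    simp [X, x, ι, φ, generic, Matrix.sum_apply, IsScalarTower.algebraMap_apply (ZMod p) R Q,
      MvPolynomial.algebraMap_eq, smul_eq_mul]
    refine Finset.sum_congr rfl fun i _ => ?_
    exact (Algebra.smul_def _ _).symm
  let S : Submodule Q (Matrix (Fin n) (Fin n) Q) := Submodule.span Q (Set.range fun i => ι (B i))
  have hιS : ∀ a ∈ K, ι a ∈ S := by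
    intro a ha
    obtain ⟨c, rfl⟩ := hspan a ha
    rw [map_sum]
    refine Submodule.sum_mem _ fun i _ => ?_
    have : ι (c i • B i) = φ (c i) • ι (B i) := by
      ext a b; simp [ι]
    rw [this]
    exact Submodule.smul_mem _ _ (Submodule.subset_span ⟨i, rfl⟩)
  have hsand : ∀ c ∈ K, ∀ s : Finset (Fin n),
      (∑ i ∈ s, x i • ι (B i)) * ι c * (∑ i ∈ s, x i • ι (B i)) ∈ S := by
    intro c hc s
    induction s using Finset.induction with
    | empty => simp
    | @insert a s ha ih =>
      rw [Finset.sum_insert ha]
      set u := ∑ i ∈ s, x i • ι (B i) with hu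
      have e : (x a • ι (B a) + u) * ι c * (x a • ι (B a) + u) =
          u * ι c * u + (x a * x a) • ι (B a * c * B a) +
            x a • ∑ i ∈ s, x i • ι (B a * c * B i + B i * c * B a) := by
        simp only [map_add, map_mul, smul_add, Finset.sum_add_distrib, hu, Matrix.add_mul,
          Matrix.mul_add, Finset.sum_mul, Finset.mul_sum, Matrix.smul_mul, Matrix.mul_smul,
          Finset.smul_sum, smul_smul]
        simp only [mul_comm (x a)]
        abel
      rw [e]
      exact S.add_mem (S.add_mem ih (S.smul_mem _ (hιS _ (H.aba _ (hB a) _ hc))))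
        (S.smul_mem _ (Submodule.sum_mem _ fun i _ => S.smul_mem _
          (hιS _ (H.lin (hB a) (hB i) hc))))
  have hXS : ∀ y ∈ S, X * y * X ∈ S := by
    intro y hy
    induction hy using Submodule.span_induction with
    | mem y hy =>
      obtain ⟨i, rfl⟩ := hy
      rw [hX]
      exact hsand _ (hB i) Finset.univ
    | zero => simp
    | add y z _ _ hy hz => rw [Matrix.mul_add, Matrix.add_mul]; exact S.add_mem hy hz
    | smul c y _ hy => rw [Matrix.mul_smul, Matrix.smul_mul]; exact S.smul_mem c hy
  have hpow : ∀ m : ℕ, X ^ m ∈ S := by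
    intro m
    induction m using Nat.strong_induction_on with
    | _ m ih =>
      match m, ih with
      | 0, _ =>
        rw [pow_zero, ← map_one ι]
        exact hιS _ H.one
      | 1, _ =>
        rw [pow_one, hX]
        exact Submodule.sum_mem _ fun i _ => S.smul_mem _ (Submodule.subset_span ⟨i, rfl⟩)
      | m + 2, ih =>
        rw [show m + 2 = (1 + m) + 1 by omega, pow_succ, pow_add, pow_one]
        exact hXS _ (ih m (by omega))
  have hint : IsIntegral Q X := Algebra.IsIntegral.isIntegral X
  set μ := minpoly Q X with hμ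
  have hμm : μ.Monic := minpoly.monic hint
  -- the degree of the minimal polynomial
  have hdeg : μ.natDegree = n := by
    have hdvd : μ ∣ (generic B).charpoly.map (algebraMap R Q) := by
      rw [hμ, ← Matrix.charpoly_map]
      exact Matrix.minpoly_dvd_charpoly X
    obtain ⟨P, hP⟩ := IsIntegrallyClosed.eq_map_mul_C_of_dvd Q (Matrix.charpoly_monic (generic B)) hdvd
    rw [hμm.leadingCoeff, map_one, mul_one] at hP
    have hinj : Function.Injective (algebraMap R Q) := IsFractionRing.injective _ _
    have hPm : P.Monic := Polynomial.monic_of_injective hinj (hP ▸ hμm)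
    have hPd : P.natDegree = μ.natDegree := by
      rw [← hP, Polynomial.natDegree_map_eq_of_injective hinj]
    obtain ⟨h, hh⟩ := (Polynomial.map_dvd_map _ hinj hPm).1 (hP ▸ hdvd)
    have hhm : h.Monic := hPm.of_mul_monic_left (hh ▸ Matrix.charpoly_monic _)
    have hsum : P.natDegree + h.natDegree = n := by
      rw [← hPm.natDegree_mul hhm, ← hh, Matrix.charpoly_natDegree_eq_dim, Fintype.card_fin]
    have hpos : 0 < P.natDegree := hPd ▸ minpoly.natDegree_pos hint
    by_contra hne
    have hlt : P.natDegree < n := by omega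
    let E := (MvPolynomial.optionEquivLeft (ZMod p) (Fin n)).symm
    have hH : h.natDegree ≤ (E h).totalDegree := by
      have h1 := MvPolynomial.natDegree_optionEquivLeft (ZMod p) (σ := Fin n) (E h)
      rw [AlgEquiv.apply_symm_apply] at h1
      exact h1.le.trans (MvPolynomial.degreeOf_le_totalDegree _ _)
    have hne0 : E P ≠ 0 := by simp [E, hPm.ne_zero]
    have hne0' : E h ≠ 0 := by simp [E, hhm.ne_zero]
    have hEP : (E P).totalDegree ≤ P.natDegree := by
      have h1 := totalDegree_charpoly_le B
      rw [hh, map_mul, MvPolynomial.totalDegree_mul_of_isDomain hne0 hne0'] at h1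
      change (E P).totalDegree + (E h).totalDegree ≤ n at h1
      omega
    have hN : (P.coeff 0).totalDegree ≤ P.natDegree := by
      have := MvPolynomial.totalDegree_coeff_optionEquivLeft_le (ZMod p) (Fin n) (E P) 0
      rw [AlgEquiv.apply_symm_apply] at this
      exact this.trans hEP
    have hfac : ∀ v : Fin n → (ZMod p), (∑ i, v i • B i).charpoly =
        P.map (MvPolynomial.eval v) * h.map (MvPolynomial.eval v) := by
      intro v
      rw [← generic_eval, Matrix.charpoly_map, hh, Polynomial.map_mul]
    have hzero : ∀ v : Fin n → (ZMod p), MvPolynomial.eval v (P.coeff 0) = 0 ↔ v = 0 := by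
      intro v
      constructor
      · intro hv
        have hdet : (∑ i, v i • B i).det = 0 := by
          rw [Matrix.det_eq_sign_charpoly_coeff, hfac v, Polynomial.mul_coeff_zero,
            Polynomial.coeff_map, hv, zero_mul, mul_zero]
        have hm : (∑ i, v i • B i) ∈ K :=
          (K'.sum_mem fun i _ => K'.smul_mem (v i) (bas i).2 : (∑ i, v i • B i) ∈ K')
        have hz : ∑ i, v i • B i = 0 := by
          by_contra hz
          exact H.det _ hm hz hdet
        have hli := Fintype.linearIndependent_iff.1 bas.linearIndependent v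
          (Subtype.ext (by simpa [B] using hz))
        exact funext hli
      · rintro rfl
        have h0 := hfac 0
        simp only [Pi.zero_apply, zero_smul, Finset.sum_const_zero, Matrix.charpoly_zero,
          Fintype.card_fin] at h0
        have hPm' := hPm.map (MvPolynomial.eval (0 : Fin n → (ZMod p)))
        obtain ⟨i, hi, hassoc⟩ := (dvd_prime_pow Polynomial.prime_X n).1 (Dvd.intro _ h0.symm)
        have heq := Polynomial.eq_of_monic_of_associated hPm' (monic_X_pow i) hassoc
        have hie : i = P.natDegree := by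
          have := congrArg Polynomial.natDegree heq
          rwa [hPm.natDegree_map, natDegree_X_pow, eq_comm] at this
        rw [← Polynomial.coeff_map, heq, Polynomial.coeff_X_pow, if_neg (by omega)]
    have hcw := char_dvd_card_solutions (K := ZMod p) p (f := P.coeff 0)
      (show (P.coeff 0).totalDegree < Fintype.card (Fin n) by rw [Fintype.card_fin]; omega)
    have hone : Fintype.card {v : Fin n → (ZMod p) // MvPolynomial.eval v (P.coeff 0) = 0} = 1 :=
      Fintype.card_eq_one_iff.2 ⟨⟨0, (hzero 0).2 rfl⟩, fun y => Subtype.ext ((hzero y).1 y.2)⟩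
    rw [hone] at hcw
    exact hp.out.one_lt.ne' (Nat.dvd_one.1 hcw)
  -- the span consists of polynomials in `X`
  have hli : LinearIndependent Q (fun i : Fin n => (⟨X ^ (i : ℕ), hpow i⟩ : S)) := by
    refine LinearIndependent.of_comp S.subtype ?_
    have := linearIndependent_pow (K := Q) X
    rw [← hμ, hdeg] at this
    exact this
  have hdimS : Module.finrank Q S ≤ n := (finrank_range_le_card _).trans (by simp)
  have htop := hli.span_eq_top_of_card_eq_finrank' (le_antisymm
    (by simpa using hli.fintype_card_le_finrank) (by simpa using hdimS))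
  have hadj : S ≤ Subalgebra.toSubmodule (Algebra.adjoin Q {X}) := by
    intro y hy
    have : (⟨y, hy⟩ : S) ∈ Submodule.span Q (Set.range fun i : Fin n => (⟨X ^ (i : ℕ), hpow i⟩ : S)) := by
      rw [htop]; exact Submodule.mem_top
    have := Submodule.mem_map_of_mem (f := S.subtype) this
    rw [Submodule.map_span] at this
    refine Submodule.span_le.2 ?_ this
    rintro z ⟨w, ⟨i, rfl⟩, rfl⟩
    exact pow_mem (Algebra.subset_adjoin (Set.mem_singleton X)) (i : ℕ)
  have hadj' : ∀ y ∈ Algebra.adjoin Q {X}, y ∈ S := by
    intro y hy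
    rw [Algebra.adjoin_singleton_eq_range_aeval] at hy
    obtain ⟨f, rfl⟩ := hy
    change Polynomial.aeval X f ∈ S
    rw [Polynomial.aeval_eq_sum_range]
    exact Submodule.sum_mem _ fun i _ => S.smul_mem _ (hpow i)
  intro a ha b hb
  have haX := hadj (hιS a ha)
  have hbX := hadj (hιS b hb)
  have hinjι : Function.Injective ι := fun u v huv =>
    Matrix.map_injective φ.injective huv
  refine ⟨?_, hinjι ?_⟩
  · by_contra hab
    obtain ⟨f, hf, hfK⟩ := Submodule.exists_dual_map_eq_bot_of_notMem
      (p := K') (x := a * b) hab inferInstance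
    have hf0 : ∀ c ∈ K, f c = 0 := fun c hc => by
      have : f c ∈ K'.map f := Submodule.mem_map_of_mem (show c ∈ K' from hc)
      rwa [hfK, Submodule.mem_bot] at this
    let fQ : Matrix (Fin n) (Fin n) Q →ₗ[Q] Q :=
      ∑ i, ∑ j, φ (f (Matrix.single i j 1)) • Matrix.entryLinearMap Q Q i j
    have hfQ : ∀ c, fQ (ι c) = φ (f c) := by
      intro c
      conv_rhs => rw [Matrix.matrix_eq_sum_single c]
      have hs : ∀ i j, Matrix.single i j (c i j) = c i j • Matrix.single i j (1 : (ZMod p)) := by
        intro i j; rw [Matrix.smul_single, smul_eq_mul, mul_one]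
      simp only [hs, map_sum, map_smul, smul_eq_mul, map_mul]
      simp [fQ, ι, mul_comm]
    have hker : ∀ y ∈ S, fQ y = 0 := by
      intro y hy
      induction hy using Submodule.span_induction with
      | mem y hy =>
        obtain ⟨i, rfl⟩ := hy
        rw [hfQ, hf0 _ (hB i), map_zero]
      | zero => exact map_zero _
      | add y z _ _ hy hz => rw [map_add, hy, hz, add_zero]
      | smul c y _ hy => rw [map_smul, hy, smul_zero]
    have h1 := hker _ (hadj' _ (mul_mem haX hbX))
    rw [← map_mul, hfQ] at h1
    exact hf (φ.injective (h1.trans (map_zero _).symm))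
  · rw [map_mul, map_mul]
    exact Algebra.commute_of_mem_adjoin_singleton_of_commute hbX
      (Algebra.commute_of_mem_adjoin_singleton_of_commute haX (Commute.refl X)).symm

end

end CfsgLib.SpreadField
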