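import Cfsg.Agent.Functor.Fusion
import Cfsg.Agent.Kinf.CentricSylow
import Cfsg.Agent.Coprime.Generation
import Cfsg.Prelude.Def_SylowChains
import Cfsg.Prelude.Def_Local
import Cfsg.Prelude.Def_Transfer

/-!
The strong form of the Alperin–Goldschmidt fusion theorem: fusion in a Sylow subgroup `P` factors
through a centralizer, elements of `O^p(X_i)` for essential subgroups `H_i`, and `N_G(P)`.
-/

set_option autoImplicit false
set_option linter.style.haveILetI false
set_option linter.unusedSectionVars false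

namespace CfsgLib.StrongAlperin

open Subgroup CfsgLib.Functor
open scoped CfsgLib.Functor

variable {G : Type*} [Group G] [Finite G] {p : ℕ} [Fact p.Prime] {P : Sylow p G}

/-- The elements of `N(H)` that conjugate a subgroup of `T` bigger than `H` into `T`. -/
def movers (T H : Subgroup G) : Set G :=
  {n | n ∈ normalizer (H : Set G) ∧ ∃ W : Subgroup G, H < W ∧ W ≤ T ∧ n⁻¹ ⋆ W ≤ T}

/-- The subgroup of `N(H)` generated by `C(H)` and the fusion of subgroups bigger than `H`. -/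
def gen (P : Sylow p G) (H : Subgroup G) : Subgroup G :=
  centralizer (H : Set G) ⊔
    closure (movers ((P : Subgroup G) ⊓ normalizer (H : Set G)) H)

/-- Essential subgroups of `P`. -/
structure Ess (P : Sylow p G) (H : Subgroup G) : Prop where
  lt : H < (P : Subgroup G) ⊓ normalizer (H : Set G)
  syl : IsSylowIn p ((P : Subgroup G) ⊓ normalizer (H : Set G)) (normalizer (H : Set G))
  cen : (P : Subgroup G) ⊓ centralizer (H : Set G) ≤ H
  not_le : ¬ normalizer (H : Set G) ≤ gen P H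

theorem Ess.le {H : Subgroup G} (h : Ess P H) : H ≤ (P : Subgroup G) := h.lt.le.trans inf_le_left

/-- The normal subgroups of `N(H)` over `H` of order divisible by `p` modulo `H`. -/
def Big (p : ℕ) (H Y : Subgroup G) : Prop :=
  H ≤ Y ∧ Y ≤ normalizer (H : Set G) ∧ normalizer (H : Set G) ≤ normalizer (Y : Set G) ∧
    p ∣ H.relIndex Y

/-- `x` lies in `O^p` of every such subgroup. -/
def Core (p : ℕ) (H : Subgroup G) (x : G) : Prop :=
  ∀ Y : Subgroup G, Big p H Y → x ∈ closure {g | g ∈ Y ∧ (orderOf g).Coprime p}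

theorem dvd_relIndex_of_lt {H T : Subgroup G} (h : H < T) (hT : IsPGroup p ↥T) :
    p ∣ H.relIndex T := by
  obtain ⟨k, hk⟩ := IsPGroup.index hT (H.subgroupOf T)
  have hk' : H.relIndex T = p ^ k := hk
  rcases k with _ | k
  · exact absurd (relIndex_eq_one.1 (by rw [hk', pow_zero])) h.not_ge
  · rw [hk', pow_succ]; exact dvd_mul_left _ _

theorem Ess.big_normalizer {H : Subgroup G} (h : Ess P H) : Big p H (normalizer (H : Set G)) :=
  ⟨le_normalizer, le_rfl, le_normalizer,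
    (dvd_relIndex_of_lt h.lt h.syl.isPGroup).trans
      (Dvd.intro _ (relIndex_mul_relIndex _ _ _ h.lt.le inf_le_right))⟩

theorem Core.mem_normalizer {H : Subgroup G} {x : G} (h : Ess P H) (hx : Core p H x) :
    x ∈ normalizer (H : Set G) :=
  (closure_le _).2 (fun _ hg => hg.1) (hx _ h.big_normalizer)

/-! ### Conjugation by elements of `N(P)` -/

theorem gen_cj {H : Subgroup G} {y : G} (hy : y ∈ normalizer ((P : Subgroup G) : Set G)) :
    y ⋆ gen P H ≤ gen P (y ⋆ H) := by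
  have hP := mem_normalizer_iff_cj.1 hy
  have hT : y ⋆ ((P : Subgroup G) ⊓ normalizer (H : Set G)) =
      (P : Subgroup G) ⊓ normalizer ((y ⋆ H : Subgroup G) : Set G) := by
    rw [cj_inf, hP, cj_normalizer]
  rw [gen, Subgroup.map_sup]
  refine sup_le ((cj_centralizer y H).le.trans le_sup_left) ?_
  rw [cj_le_iff', closure_le]
  rintro n ⟨hn, W, hHW, hWT, hnW⟩
  rw [SetLike.mem_coe, mem_cj, inv_inv]
  refine le_sup_right (a := centralizer ((y ⋆ H : Subgroup G) : Set G)) (subset_closure ?_)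
  refine ⟨?_, y ⋆ W, ?_, ?_, ?_⟩
  · rw [← cj_normalizer]; exact conj_mem_cj hn
  · exact lt_of_le_of_ne (cj_mono y hHW.le) fun e => hHW.ne (cj_inj e)
  · rw [← hT]; exact cj_mono y hWT
  · rw [← hT, cj_cj, show (y * n * y⁻¹)⁻¹ * y = y * n⁻¹ by group, ← cj_cj]
    exact cj_mono y hnW

theorem Ess.cj {H : Subgroup G} (h : Ess P H) {y : G}
    (hy : y ∈ normalizer ((P : Subgroup G) : Set G)) : Ess P (y ⋆ H) := by
  have hP := mem_normalizer_iff_cj.1 hy
  have hT : y ⋆ ((P : Subgroup G) ⊓ normalizer (H : Set G)) =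
      (P : Subgroup G) ⊓ normalizer ((y ⋆ H : Subgroup G) : Set G) := by
    rw [cj_inf, hP, cj_normalizer]
  refine ⟨?_, ?_, ?_, fun hle => h.not_le ?_⟩
  · rw [← hT]
    exact lt_of_le_of_ne (cj_mono y h.lt.le) fun e => h.lt.ne (cj_inj e)
  · rw [← hT, ← cj_normalizer]; exact h.syl.cj y
  · have := cj_mono y h.cen
    rwa [cj_inf, hP, cj_centralizer] at this
  · have h1 : normalizer (H : Set G) ≤ y⁻¹ ⋆ gen P (y ⋆ H) := by
      rw [← cj_le_iff', cj_normalizer]; exact hle
    refine h1.trans ((gen_cj (inv_mem hy)).trans ?_)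
    rw [cj_inv_cj]

theorem Core.cj {H : Subgroup G} {x : G} (hx : Core p H x) (y : G) :
    Core p (y ⋆ H) (y * x * y⁻¹) := by
  intro Y hY
  have hbig : Big p H (y⁻¹ ⋆ Y) := by
    obtain ⟨h1, h2, h3, h4⟩ := hY
    refine ⟨cj_le_iff'.1 h1, ?_, ?_, ?_⟩
    · rw [cj_le_iff', inv_inv, cj_normalizer]; exact h2
    · rw [← cj_normalizer, ← cj_le_iff', cj_normalizer]; exact h3
    · rw [← cj_inv_cj y H, cj_relIndex]; exact h4
  have h := mem_map_of_mem (MulAut.conj y).toMonoidHom (hx _ hbig)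
  rw [MonoidHom.map_closure] at h
  refine closure_mono ?_ h
  rintro _ ⟨g, ⟨hg, hgc⟩, rfl⟩
  refine ⟨?_, ?_⟩
  · have := mem_cj.1 hg; simpa using this
  · rwa [show (MulAut.conj y).toMonoidHom g = MulAut.conj y g from rfl,
      MulEquiv.orderOf_eq]

/-! ### Chains and normal forms -/

/-- A product of core elements of essential subgroups, applied to `A` step by step. -/
inductive Ch (P : Sylow p G) : Subgroup G → G → Prop
  | one (A : Subgroup G) : Ch P A 1
  | step (A H : Subgroup G) (x g : G) (hH : Ess P H) (hA : A ≤ H) (hx : Core p H x)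
      (h : Ch P (x⁻¹ ⋆ A) g) : Ch P A (x * g)

theorem Ch.mono {A : Subgroup G} {g : G} (h : Ch P A g) :
    ∀ {A' : Subgroup G}, A' ≤ A → Ch P A' g := by
  induction h with
  | one A => exact fun _ => .one _
  | step A H x g hH hA hx _ ih =>
    exact fun hle => .step _ H x g hH (hle.trans hA) hx (ih (cj_mono _ hle))

theorem Ch.trans {A : Subgroup G} {g : G} (h : Ch P A g) :
    ∀ {k : G}, Ch P (g⁻¹ ⋆ A) k → Ch P A (g * k) := by
  induction h with
  | one A => intro k hk; rw [inv_one, cj_one] at hk; simpa using hk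
  | step A H x g hH hA hx _ ih =>
    intro k hk
    rw [mul_assoc]
    refine .step _ H x _ hH hA hx (ih ?_)
    rwa [mul_inv_rev, ← cj_cj] at hk

theorem Ch.single {A H : Subgroup G} {x : G} (hH : Ess P H) (hA : A ≤ H) (hx : Core p H x) :
    Ch P A x := by
  simpa using Ch.step A H x 1 hH hA hx (.one _)

theorem Ch.symm {A : Subgroup G} {g : G} (h : Ch P A g) : Ch P (g⁻¹ ⋆ A) g⁻¹ := by
  induction h with
  | one A => simpa using Ch.one (P := P) _
  | step A H x g hH hA hx _ ih =>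
    rw [mul_inv_rev, ← cj_cj]
    refine ih.trans ?_
    rw [inv_inv, cj_cj_inv]
    refine Ch.single hH ?_ (fun Y hY => inv_mem (hx Y hY))
    rw [← mem_normalizer_iff_cj.1 (inv_mem (hx.mem_normalizer hH))]
    exact cj_mono _ hA

theorem Ch.cj {A : Subgroup G} {g : G} (h : Ch P A g) {y : G}
    (hy : y ∈ normalizer ((P : Subgroup G) : Set G)) : Ch P (y ⋆ A) (y * g * y⁻¹) := by
  induction h with
  | one A => simpa using Ch.one (P := P) _
  | step A H x g hH hA hx _ ih =>
    rw [show y * (x * g) * y⁻¹ = (y * x * y⁻¹) * (y * g * y⁻¹) by group]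
    refine .step _ (y ⋆ H) _ _ (hH.cj hy) (cj_mono y hA) (hx.cj y) ?_
    rwa [cj_cj, show (y * x * y⁻¹)⁻¹ * y = y * x⁻¹ by group, ← cj_cj]

/-- The conjugation `a ↦ g⁻¹ a g` of `A` has the normal form `c · x₁ ⋯ xₙ · y`. -/
def Good (P : Sylow p G) (A : Subgroup G) (g : G) : Prop :=
  ∃ c w y, c ∈ centralizer (A : Set G) ∧ Ch P A w ∧
    y ∈ normalizer ((P : Subgroup G) : Set G) ∧ g = c * w * y

theorem Good.of_cent {A : Subgroup G} {c : G} (hc : c ∈ centralizer (A : Set G)) : Good P A c :=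
  ⟨c, 1, 1, hc, .one _, one_mem _, by simp⟩

theorem Good.of_norm {A : Subgroup G} {y : G} (hy : y ∈ normalizer ((P : Subgroup G) : Set G)) :
    Good P A y :=
  ⟨1, 1, y, one_mem _, .one _, hy, by simp⟩

theorem Good.of_core {A H : Subgroup G} {x : G} (hH : Ess P H) (hA : A ≤ H) (hx : Core p H x) :
    Good P A x :=
  ⟨1, x, 1, one_mem _, .single hH hA hx, one_mem _, by simp⟩

theorem Good.mono {A A' : Subgroup G} {g : G} (hle : A' ≤ A) (h : Good P A g) : Good P A' g := by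
  obtain ⟨c, w, y, hc, hw, hy, rfl⟩ := h
  exact ⟨c, w, y, centralizer_le hle hc, hw.mono hle, hy, rfl⟩

theorem cj_cent {A : Subgroup G} {c : G} (hc : c ∈ centralizer (A : Set G)) : c ⋆ A = A :=
  mem_normalizer_iff_cj.1 (centralizer_le_normalizer _ hc)

theorem Good.mul {A : Subgroup G} {g k : G} (hg : Good P A g) (hk : Good P (g⁻¹ ⋆ A) k) :
    Good P A (g * k) := by
  obtain ⟨c, w, y, hc, hw, hy, rfl⟩ := hg
  obtain ⟨c', w', y', hc', hw', hy', rfl⟩ := hk
  set B := (c * w * y)⁻¹ ⋆ A with hB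
  have hyB : y ⋆ B = w⁻¹ ⋆ A := by
    rw [hB, cj_cj, show y * (c * w * y)⁻¹ = w⁻¹ * c⁻¹ by group, ← cj_cj, cj_cent (inv_mem hc)]
  refine ⟨c * (w * (y * c' * y⁻¹) * w⁻¹), w * (y * w' * y⁻¹), y * y', mul_mem hc ?_,
    hw.trans ?_, mul_mem hy hy', by group⟩
  · have h1 : y * c' * y⁻¹ ∈ centralizer ((w⁻¹ ⋆ A : Subgroup G) : Set G) := by
      rw [← hyB, ← cj_centralizer]; exact conj_mem_cj hc'
    rw [← cj_centralizer, mem_cj, inv_inv] at h1
    exact h1
  · rw [← hyB]; exact hw'.cj hy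

theorem Good.symm {A : Subgroup G} {g : G} (hg : Good P A g) : Good P (g⁻¹ ⋆ A) g⁻¹ := by
  obtain ⟨c, w, y, hc, hw, hy, rfl⟩ := hg
  rw [show (c * w * y)⁻¹ = y⁻¹ * (w⁻¹ * c⁻¹) by group]
  refine (Good.of_norm (inv_mem hy)).mul ?_
  rw [inv_inv, cj_cj, show y * (y⁻¹ * (w⁻¹ * c⁻¹)) = w⁻¹ * c⁻¹ by group, ← cj_cj,
    cj_cent (inv_mem hc)]
  refine Good.mul ⟨1, w⁻¹, 1, one_mem _, hw.symm, one_mem _, by simp⟩ ?_
  rw [inv_inv, cj_cj_inv]
  exact Good.of_cent (inv_mem hc)

/-! ### Frattini arguments inside `N(H)` -/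

theorem gen_le_normalizer {H : Subgroup G} : gen P H ≤ normalizer (H : Set G) :=
  sup_le (centralizer_le_normalizer _) ((closure_le _).2 fun _ hn => hn.1)

theorem mem_gen {H W : Subgroup G} {n : G} (hn : n ∈ normalizer (H : Set G)) (hW : H < W)
    (hWT : W ≤ (P : Subgroup G) ⊓ normalizer (H : Set G))
    (hnW : n⁻¹ ⋆ W ≤ (P : Subgroup G) ⊓ normalizer (H : Set G)) : n ∈ gen P H :=
  le_sup_right (a := centralizer (H : Set G)) (subset_closure ⟨hn, W, hW, hWT, hnW⟩)

theorem sylow_le_gen {H : Subgroup G} (hlt : H < (P : Subgroup G) ⊓ normalizer (H : Set G)) :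
    (P : Subgroup G) ⊓ normalizer (H : Set G) ≤ gen P H := fun t ht =>
  mem_gen ht.2 hlt le_rfl (cj_eq_self_of_mem (inv_mem ht)).le

theorem le_sup_gen_of_conj {H W Y : Subgroup G} {n : G} (hY : Y ≤ normalizer (H : Set G))
    (hW : H < W) (hWT : W ≤ (P : Subgroup G) ⊓ normalizer (H : Set G))
    (hn : n ∈ normalizer (H : Set G)) {y : G} (hy : y ∈ Y) (he : y ⋆ (n⁻¹ ⋆ W) = W) :
    n ∈ Y ⊔ gen P H := by
  have hm : n * y⁻¹ ∈ gen P H := by
    refine mem_gen (mul_mem hn (inv_mem (hY hy))) hW hWT ?_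
    rw [mul_inv_rev, inv_inv, ← cj_cj, he]
    exact hWT
  have := mul_mem (mem_sup_right (S := Y) hm) (mem_sup_left (T := gen P H) hy)
  simpa using this

/-- Frattini: `N(H) = Y M` when `Y` meets the Sylow subgroup in more than `H`. -/
theorem le_sup_gen {H Y : Subgroup G}
    (hsyl : IsSylowIn p ((P : Subgroup G) ⊓ normalizer (H : Set G)) (normalizer (H : Set G)))
    (hY : Y ≤ normalizer (H : Set G)) (hYn : normalizer (H : Set G) ≤ normalizer (Y : Set G))
    (hlt : H < (P : Subgroup G) ⊓ normalizer (H : Set G) ⊓ Y) :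
    normalizer (H : Set G) ≤ Y ⊔ gen P H := by
  intro n hn
  have hW := hsyl.inf_normal hY hYn
  obtain ⟨y, hy, he⟩ := hW.exists_cj_eq (hW.cj_of_mem (inv_mem (hYn hn)))
  exact le_sup_gen_of_conj hY hlt inf_le_left hn hy he

theorem Ess.lt_inf {H Y : Subgroup G} (h : Ess P H) (hY : Big p H Y) :
    H < (P : Subgroup G) ⊓ normalizer (H : Set G) ⊓ Y := by
  refine lt_of_le_of_ne (le_inf h.lt.le hY.1) fun e => ?_
  have hW := h.syl.inf_normal hY.2.1 hY.2.2.1
  rw [← e] at hW
  exact hW.2.2 hY.2.2.2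

theorem pow_mem_zpowers_pow {Q : Type*} [Group Q] {e : Q} {n k : ℕ}
    (h : n.gcd (orderOf e) ∣ k) : e ^ k ∈ zpowers (e ^ n) := by
  obtain ⟨t, rfl⟩ := h
  refine mem_zpowers_iff.2 ⟨Nat.gcdA n (orderOf e) * t, ?_⟩
  rw [← zpow_natCast e (n.gcd (orderOf e) * t), ← zpow_natCast e n, ← zpow_mul, Nat.cast_mul,
    Nat.gcd_eq_gcd_ab, add_mul, zpow_add, mul_assoc (orderOf e : ℤ),
    zpow_mul e (orderOf e : ℤ), zpow_natCast, pow_orderOf_eq_one, one_zpow, mul_one, mul_assoc]

theorem mem_zpowers_or_mem {Q : Type*} [Group Q] [Finite Q] {e a b : Q} {m : ℕ}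
    (hm : orderOf e = p ^ m) (ha : a ∈ zpowers e) (hb : b ∈ zpowers e) :
    a ∈ zpowers b ∨ b ∈ zpowers a := by
  rw [← mem_powers_iff_mem_zpowers, Submonoid.mem_powers_iff] at ha hb
  obtain ⟨i, rfl⟩ := ha
  obtain ⟨j, rfl⟩ := hb
  obtain ⟨u, -, hu⟩ := (Nat.dvd_prime_pow (Fact.out : p.Prime)).1 (Nat.gcd_dvd_right i (p ^ m))
  obtain ⟨v, -, hv⟩ := (Nat.dvd_prime_pow (Fact.out : p.Prime)).1 (Nat.gcd_dvd_right j (p ^ m))
  rcases le_total u v with huv | huv
  · refine Or.inr (pow_mem_zpowers_pow ?_)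
    rw [hm, hu]
    exact (pow_dvd_pow p huv).trans (hv ▸ Nat.gcd_dvd_left j (p ^ m))
  · refine Or.inl (pow_mem_zpowers_pow ?_)
    rw [hm, hv]
    exact (pow_dvd_pow p huv).trans (hu ▸ Nat.gcd_dvd_left i (p ^ m))

set_option maxHeartbeats 1000000 in
-- the action of a subgroup of the quotient on a normal subgroup is slow to elaborate
/-- Coprime generation in `N(H)/H`. -/
theorem inf_le_gen {H X Y : Subgroup G} (h : Ess P H) (hX : Big p H X) (hY : Big p H Y)
    (hI : ¬ p ∣ H.relIndex (X ⊓ Y)) : X ⊓ Y ≤ gen P H := by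
  classical
  set N := normalizer (H : Set G) with hN
  set T := (P : Subgroup G) ⊓ N with hT
  have hIN : X ⊓ Y ≤ N := inf_le_left.trans hX.2.1
  have hInorm : N ≤ normalizer ((X ⊓ Y : Subgroup G) : Set G) := fun n hn => by
    rw [mem_normalizer_iff_cj, cj_inf, mem_normalizer_iff_cj.1 (hX.2.2.1 hn),
      mem_normalizer_iff_cj.1 (hY.2.2.1 hn)]
  have hTI : T ⊓ (X ⊓ Y) = H := by
    have h1 := h.syl.inf_normal hIN hInorm
    have h2 : IsSylowIn p H (X ⊓ Y) :=
      ⟨le_inf hX.1 hY.1, h.syl.isPGroup.to_le h.lt.le, hI⟩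
    exact (h2.eq_of_le h1.isPGroup h1.le (le_inf h.lt.le (le_inf hX.1 hY.1))).symm
  set π := QuotientGroup.mk' (H.subgroupOf N) with hπ
  have hker : ∀ z : ↥N, π z = 1 ↔ (z : G) ∈ H := fun z =>
    (QuotientGroup.eq_one_iff (N := H.subgroupOf N) z).trans mem_subgroupOf
  obtain ⟨z₁, hz₁, hz₁H⟩ := SetLike.exists_of_lt (h.lt_inf hX)
  obtain ⟨z₂, hz₂, hz₂H⟩ := SetLike.exists_of_lt (h.lt_inf hY)
  set a : ↥N ⧸ H.subgroupOf N := π ⟨z₁, hz₁.1.2⟩ with ha
  set b : ↥N ⧸ H.subgroupOf N := π ⟨z₂, hz₂.1.2⟩ with hb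
  have hab : Commute a b := by
    rw [Commute, SemiconjBy, ← mul_inv_eq_iff_eq_mul, ← mul_inv_eq_one, ha, hb, ← map_mul,
      ← map_inv, ← map_mul, ← map_inv, ← map_mul]
    refine (hker _).2 (hTI.le ?_)
    simp only [Subgroup.coe_mul, InvMemClass.coe_inv]
    refine Subgroup.mem_inf.2
      ⟨T.mul_mem (T.mul_mem (T.mul_mem hz₁.1 hz₂.1) (T.inv_mem hz₁.1)) (T.inv_mem hz₂.1),
        Subgroup.mem_inf.2 ⟨?_, ?_⟩⟩
    · have := (mem_normalizer_iff.1 (hX.2.2.1 hz₂.1.2) z₁⁻¹).1 (inv_mem hz₁.2)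
      simpa [mul_assoc] using mul_mem hz₁.2 this
    · have := (mem_normalizer_iff.1 (hY.2.2.1 hz₁.1.2) z₂).1 hz₂.2
      exact mul_mem this (inv_mem hz₂.2)
  set E := closure ({a, b} : Set (↥N ⧸ H.subgroupOf N)) with hE
  have hEc : IsMulCommutative ↥E := by
    refine Subgroup.isMulCommutative_closure ?_
    rintro x (rfl | rfl) y (rfl | rfl)
    exacts [rfl, hab.eq, hab.symm.eq, rfl]
  letI : CommGroup ↥E := { (inferInstance : Group ↥E) with mul_comm := mul_comm' }
  have hET : E ≤ (T.subgroupOf N).map π :=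
    (closure_le _).2 (by
      rintro x (rfl | rfl)
      · exact ⟨⟨z₁, hz₁.1.2⟩, hz₁.1, rfl⟩
      · exact ⟨⟨z₂, hz₂.1.2⟩, hz₂.1, rfl⟩)
  have hTp : IsPGroup p ↥((T.subgroupOf N).map π) := by
    refine IsPGroup.map ?_ π
    exact h.syl.isPGroup.of_equiv (subgroupOfEquivOfLe inf_le_right).symm
  have hEp : IsPGroup p ↥E := hTp.to_le hET
  have hnc : ¬ IsCyclic ↥E := by
    intro hcyc
    -- in a cyclic `p`-group one of two subgroups contains the other
    obtain ⟨e, he⟩ := hcyc.exists_generator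
    have hmem : ∀ x : ↥E, (x : ↥N ⧸ H.subgroupOf N) ∈ zpowers (e : ↥N ⧸ H.subgroupOf N) := by
      intro x
      obtain ⟨k, hk⟩ := mem_zpowers_iff.1 (he x)
      exact mem_zpowers_iff.2 ⟨k, by rw [← SubgroupClass.coe_zpow, hk]⟩
    obtain ⟨m, hm⟩ := IsPGroup.iff_orderOf.1 hEp e
    have hae : a ∈ zpowers (e : ↥N ⧸ H.subgroupOf N) :=
      hmem ⟨a, subset_closure (Or.inl rfl)⟩
    have hbe : b ∈ zpowers (e : ↥N ⧸ H.subgroupOf N) :=
      hmem ⟨b, subset_closure (Or.inr rfl)⟩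
    have hcase : a ∈ zpowers b ∨ b ∈ zpowers a := by
      rw [← Subgroup.orderOf_coe] at hm
      exact mem_zpowers_or_mem hm hae hbe
    have hXa : ∀ (U : Subgroup G), H ≤ U → ∀ z : ↥N, (z : G) ∈ U → ∀ w : ↥N,
        π w ∈ zpowers (π z) → (w : G) ∈ U := by
      intro U hHU z hz w hw
      obtain ⟨k, hk⟩ := mem_zpowers_iff.1 hw
      have h1 : π ((z ^ k)⁻¹ * w) = 1 := by rw [map_mul, map_inv, map_zpow, hk, inv_mul_cancel]
      rw [hker] at h1
      have h2 := mul_mem (U.zpow_mem hz k) (hHU h1)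
      simpa using h2
    rcases hcase with hc | hc
    · exact hz₁H (hTI.le ⟨hz₁.1, hz₁.2, hXa Y hY.1 _ hz₂.2 _ hc⟩)
    · exact hz₂H (hTI.le ⟨hz₂.1, hXa X hX.1 _ hz₁.2 _ hc, hz₂.2⟩)
  have hJc0 : ¬ p ∣ Nat.card ↥(((X ⊓ Y).subgroupOf N).map π) := by
    rw [← relIndex_ker (K := (X ⊓ Y).subgroupOf N) π, hπ, QuotientGroup.ker_mk',
      relIndex_subgroupOf hIN]
    exact hI
  set J := ((X ⊓ Y).subgroupOf N).map π with hJ
  haveI : ((X ⊓ Y).subgroupOf N).Normal := normal_subgroupOf_of_le_normalizer hInorm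
  haveI hJn : J.Normal := Normal.map inferInstance _ (QuotientGroup.mk'_surjective _)
  letI : MulDistribMulAction ↥E ↥J :=
    MulDistribMulAction.compHom ↥J ((MulAut.conjNormal (H := J)).comp E.subtype)
  have hJc : (Nat.card ↥E).Coprime (Nat.card ↥J) := by
    obtain ⟨m, hm⟩ := IsPGroup.iff_card.1 hEp
    rw [hm]
    exact Nat.Coprime.pow_left _ (((Fact.out : p.Prime).coprime_iff_not_dvd).2 hJc0)
  have htop := CfsgLib.Coprime.closure_fixed_eq_top (A := ↥E) (G := ↥J) hnc hJc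
  intro i hi
  have hiJ : π ⟨i, hIN hi⟩ ∈ J := mem_map_of_mem _ (mem_subgroupOf.2 hi)
  have key : ∀ u : ↥J, ∀ v : ↥N, π v = u → (v : G) ∈ gen P H := by
    have hle : closure {g : ↥J | ∃ e : ↥E, e ≠ 1 ∧ e • g = g} ≤
        (((gen P H).subgroupOf N).map π).comap J.subtype := by
      rw [closure_le]
      rintro ⟨u, hu⟩ ⟨⟨e, he⟩, hne, hfix⟩
      rw [SetLike.mem_coe, mem_comap]
      obtain ⟨v, hv⟩ := QuotientGroup.mk'_surjective (H.subgroupOf N) u
      obtain ⟨z, hzT, hze⟩ := hET he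
      refine ⟨v, ?_, hv⟩
      have hzT' : (z : G) ∈ T := hzT
      have hzH : (z : G) ∉ H := by
        rw [← hker z, hze]
        exact fun e1 => hne (Subtype.ext e1)
      have hfix' : e * u * e⁻¹ = u := congrArg Subtype.val hfix
      rw [← hv, ← hze, ← map_mul, ← map_inv, ← map_mul] at hfix'
      have hk : (v⁻¹ * z * v) * z⁻¹ ∈ H.subgroupOf N := by
        rw [← QuotientGroup.eq_one_iff]
        show π ((v⁻¹ * z * v) * z⁻¹) = 1
        rw [show (v⁻¹ * z * v) * z⁻¹ = v⁻¹ * (z * v * z⁻¹) by group, map_mul, hfix',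
          ← map_mul, inv_mul_cancel, map_one]
      rw [mem_subgroupOf] at hk
      simp only [Subgroup.coe_mul, InvMemClass.coe_inv] at hk
      refine mem_subgroupOf.2 (mem_gen (W := H ⊔ zpowers (z : G)) v.2 ?_ ?_ ?_)
      · exact lt_of_le_of_ne le_sup_left fun e1 =>
          hzH (e1.ge (mem_sup_right (mem_zpowers _)))
      · exact sup_le h.lt.le (zpowers_le.2 hzT')
      · rw [Subgroup.map_sup, MonoidHom.map_zpowers]
        refine sup_le ((mem_normalizer_iff_cj.1 (inv_mem v.2)).le.trans h.lt.le) (zpowers_le.2 ?_)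
        show (v : G)⁻¹ * z * ((v : G)⁻¹)⁻¹ ∈ T
        rw [inv_inv]
        have := T.mul_mem (h.lt.le hk) hzT'
        rwa [inv_mul_cancel_right] at this
    intro u v hv
    obtain ⟨v', hv', hvv⟩ := hle (htop.ge (mem_top u))
    have h1 : π (v'⁻¹ * v) = 1 := by
      rw [map_mul, map_inv, hv, hvv]; exact inv_mul_cancel _
    rw [hker] at h1
    have h2 := mul_mem (mem_subgroupOf.1 hv') (sylow_le_gen h.lt (h.lt.le h1))
    simpa using h2
  exact key ⟨_, hiJ⟩ ⟨i, hIN hi⟩ rfl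

theorem Ess.big_inf {H X Y : Subgroup G} (h : Ess P H) (hX : Big p H X) (hY : Big p H Y) :
    Big p H (X ⊓ Y) := by
  set N := normalizer (H : Set G) with hN
  refine ⟨le_inf hX.1 hY.1, inf_le_left.trans hX.2.1, fun n hn => ?_, ?_⟩
  · rw [mem_normalizer_iff_cj, cj_inf, mem_normalizer_iff_cj.1 (hX.2.2.1 hn),
      mem_normalizer_iff_cj.1 (hY.2.2.1 hn)]
  by_contra hI
  have hIg : X ⊓ Y ≤ gen P H := inf_le_gen h hX hY hI
  set B := (P : Subgroup G) ⊓ N ⊓ Y with hB
  set L := B ⊔ (X ⊓ Y) with hL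
  have hLY : L ≤ Y := sup_le inf_le_right inf_le_right
  have hBL : IsSylowIn p B L := (h.syl.inf_normal hY.2.1 hY.2.2.1).of_le le_sup_left hLY
  have hLg : L ≤ gen P H :=
    sup_le ((inf_le_left).trans (sylow_le_gen h.lt)) hIg
  have hXg : X ≤ gen P H := by
    intro x hx
    have hxN : x ∈ N := hX.2.1 hx
    have hle : x⁻¹ ⋆ B ≤ L := by
      rw [cj_le_iff]
      intro b hb
      rw [inv_inv]
      have h1 : x⁻¹ * b * x * b⁻¹ ∈ X ⊓ Y := by
        refine ⟨?_, ?_⟩
        · have := (mem_normalizer_iff.1 (hX.2.2.1 hb.1.2) x).1 hx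
          simpa [mul_assoc] using mul_mem (inv_mem hx) this
        · have := (mem_normalizer_iff.1 (hY.2.2.1 (inv_mem hxN)) b).1 hb.2
          simpa [mul_assoc] using mul_mem this (inv_mem hb.2)
      have := mul_mem (mem_sup_right (S := B) h1) (mem_sup_left (T := X ⊓ Y) hb)
      simpa [mul_assoc] using this
    obtain ⟨l, hl, he⟩ := hBL.exists_cj_le (isPGroup_cj _ hBL.isPGroup) hle
    have he' : l ⋆ (x⁻¹ ⋆ B) = B :=
      eq_of_le_of_card_le' he (by rw [card_cj, card_cj])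
    have := le_sup_gen_of_conj (Y := L) (hLg.trans gen_le_normalizer) (h.lt_inf hY) inf_le_left
      hxN hl he'
    rwa [sup_eq_right.2 hLg] at this
  exact h.not_le ((le_sup_gen h.syl hX.2.1 hX.2.2.1 (h.lt_inf hX)).trans (sup_le hXg le_rfl))

/-- The smallest normal subgroup of `N(H)` over `H` of order divisible by `p` modulo `H`. -/
theorem Ess.exists_least {H : Subgroup G} (h : Ess P H) :
    ∃ X : Subgroup G, Big p H X ∧ ∀ Y, Big p H Y → X ≤ Y := by
  obtain ⟨X, hX⟩ := exists_minimal_of_wellFoundedLT (fun Y : Subgroup G => Big p H Y)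
    ⟨_, h.big_normalizer⟩
  refine ⟨X, hX.prop, fun Y hY => ?_⟩
  exact (hX.le_of_le (h.big_inf hX.prop hY) inf_le_left).trans inf_le_right

theorem normalizer_le_core_sup_gen {H X : Subgroup G} (h : Ess P H) (hX : Big p H X) :
    normalizer (H : Set G) ≤ closure {g | g ∈ X ∧ (orderOf g).Coprime p} ⊔ gen P H := by
  refine (le_sup_gen h.syl hX.2.1 hX.2.2.1 (h.lt_inf hX)).trans (sup_le ?_ le_sup_right)
  set W := (P : Subgroup G) ⊓ normalizer (H : Set G) ⊓ X with hW
  have hWs := h.syl.inf_normal hX.2.1 hX.2.2.1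
  obtain ⟨S, hS⟩ := hWs.exists_sylow
  haveI : (Cfsg.pResidual p ↥X).Normal := inferInstance
  obtain ⟨k, hk⟩ := CfsgLib.PResidual.exists_index_pResidual (p := p) (G := ↥X)
  have htop : Cfsg.pResidual p ↥X ⊔ (S : Subgroup ↥X) = ⊤ := by
    rw [← index_eq_one]
    refine Nat.eq_one_of_dvd_coprimes (Nat.Coprime.pow_left k
      ((Fact.out : p.Prime).coprime_iff_not_dvd.2 S.not_dvd_index)) ?_
      (index_dvd_of_le le_sup_right)
    rw [← hk]; exact index_dvd_of_le le_sup_left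
  have h1 : ∀ u : ↥X, u ∈ Cfsg.pResidual p ↥X →
      (u : G) ∈ closure {g | g ∈ X ∧ (orderOf g).Coprime p} := by
    intro u hu
    have := mem_map_of_mem X.subtype hu
    rw [Cfsg.pResidual, MonoidHom.map_closure] at this
    refine closure_mono ?_ this
    rintro _ ⟨v, hv, rfl⟩
    exact ⟨v.2, by rwa [X.coe_subtype, Subgroup.orderOf_coe]⟩
  intro x hx
  have hmem := htop.ge (mem_top (⟨x, hx⟩ : ↥X))
  rw [mem_sup_of_normal_left] at hmem
  obtain ⟨u, hu, s, hs, hus⟩ := hmem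
  have hsW : (s : G) ∈ W := hS.le (mem_map_of_mem _ hs)
  have := mul_mem (mem_sup_left (T := gen P H) (h1 u hu))
    (mem_sup_right (S := closure {g | g ∈ X ∧ (orderOf g).Coprime p})
      (sylow_le_gen h.lt hsW.1))
  rwa [show (u : G) * s = x from congrArg Subtype.val hus] at this

/-! ### The main induction -/

theorem local_step (U : Subgroup G) (hlt : U < (P : Subgroup G))
    (hsyl : IsSylowIn p ((P : Subgroup G) ⊓ normalizer (U : Set G)) (normalizer (U : Set G)))
    (hrec : ∀ (A : Subgroup G) (g : G), Nat.card U < Nat.card A → A ≤ (P : Subgroup G) →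
      g⁻¹ ⋆ A ≤ (P : Subgroup G) → Good P A g)
    {n : G} (hn : n ∈ normalizer (U : Set G)) : Good P U n := by
  set N := normalizer (U : Set G) with hN
  set T := (P : Subgroup G) ⊓ N with hT
  have hUT : U < T := Functor.lt_inf_normalizer P.2 hlt
  have hcard : ∀ {W : Subgroup G}, U < W → Nat.card U < Nat.card W := fun {W} hW =>
    lt_of_le_of_ne (card_le_of_le hW.le) fun e => hW.ne (eq_of_le_of_card_le' hW.le e.ge)
  have hfix : ∀ {x : G}, x ∈ N → x⁻¹ ⋆ U = U := fun hx => mem_normalizer_iff_cj.1 (inv_mem hx)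
  by_cases hcen : (P : Subgroup G) ⊓ centralizer (U : Set G) ≤ U
  swap
  · set C := centralizer (U : Set G) with hC
    have hCN : C ≤ N := centralizer_le_normalizer _
    have hNC : N ≤ normalizer (C : Set G) := fun x hx => by
      rw [mem_normalizer_iff_cj, hC, cj_centralizer, mem_normalizer_iff_cj.1 hx]
    have hW : IsSylowIn p ((P : Subgroup G) ⊓ C) C := by
      have := hsyl.inf_normal hCN hNC
      rwa [inf_assoc, inf_eq_right.2 hCN] at this
    obtain ⟨c, hc, he⟩ := hW.exists_cj_eq (hW.cj_of_mem (inv_mem (hNC hn)))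
    have hm : n * c⁻¹ ∈ N := mul_mem hn (inv_mem (hCN hc))
    have hU' : U < U ⊔ ((P : Subgroup G) ⊓ C) :=
      lt_of_le_of_ne le_sup_left fun e => hcen (le_sup_right.trans e.ge)
    have h1 : (n * c⁻¹)⁻¹ ⋆ (U ⊔ ((P : Subgroup G) ⊓ C)) ≤ (P : Subgroup G) := by
      rw [Subgroup.map_sup, hfix hm, mul_inv_rev, inv_inv, ← cj_cj, he]
      exact sup_le hlt.le inf_le_left
    have hg := ((hrec _ _ (hcard hU') (sup_le hlt.le inf_le_left) h1).mono le_sup_left).mul
      (k := c) (Good.of_cent (by rwa [hfix hm]))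
    rwa [inv_mul_cancel_right] at hg
  -- the subgroup of good elements
  let S : Subgroup G :=
    { carrier := {x | x ∈ N ∧ Good P U x}
      mul_mem' := fun {a b} ha hb =>
        ⟨mul_mem ha.1 hb.1, ha.2.mul (by rw [hfix ha.1]; exact hb.2)⟩
      one_mem' := ⟨one_mem _, Good.of_cent (one_mem _)⟩
      inv_mem' := fun {a} ha => ⟨inv_mem ha.1, by
        have := ha.2.symm
        rwa [hfix ha.1] at this⟩ }
  have hgS : gen P U ≤ S := by
    refine sup_le (fun c hc => ⟨centralizer_le_normalizer _ hc, Good.of_cent hc⟩) ?_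
    rw [closure_le]
    rintro x ⟨hx, W, hW, hWT, hxW⟩
    exact ⟨hx, (hrec W x (hcard hW) (hWT.trans inf_le_left) (hxW.trans inf_le_left)).mono hW.le⟩
  by_cases hle : N ≤ gen P U
  · exact (hgS (hle hn)).2
  · have hE : Ess P U := ⟨hUT, hsyl, hcen, hle⟩
    obtain ⟨X, hX, hXmin⟩ := hE.exists_least
    refine (((normalizer_le_core_sup_gen hE hX).trans (sup_le ?_ hgS)) hn).2
    intro x hx
    have hcore : Core p U x := fun Y hY =>
      closure_mono (fun g hg => show g ∈ Y ∧ _ from ⟨hXmin Y hY hg.1, hg.2⟩) hx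
    exact ⟨hcore.mem_normalizer hE, Good.of_core hE le_rfl hcore⟩

theorem good_aux (n : ℕ) : ∀ (A : Subgroup G) (g : G), Nat.card (P : Subgroup G) - Nat.card A = n →
    A ≤ (P : Subgroup G) → g⁻¹ ⋆ A ≤ (P : Subgroup G) → Good P A g := by
  induction n using Nat.strongRecOn with | ind n ih => ?_
  rintro A g rfl hA hgA
  rcases eq_or_lt_of_le hA with rfl | hlt
  · refine Good.of_norm ?_
    have := mem_normalizer_iff_cj.2 (eq_of_le_of_card_le' hgA (card_cj _ _).ge)
    simpa using inv_mem this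
  have hcard : ∀ {V W : Subgroup G}, V < W → Nat.card V < Nat.card W := fun {V W} hW =>
    lt_of_le_of_ne (card_le_of_le hW.le) fun e => hW.ne (eq_of_le_of_card_le' hW.le e.ge)
  have hrec : ∀ (A' : Subgroup G) (g' : G), Nat.card A < Nat.card A' → A' ≤ (P : Subgroup G) →
      g'⁻¹ ⋆ A' ≤ (P : Subgroup G) → Good P A' g' := fun A' g' h h1 h2 => by
    refine ih _ ?_ A' g' rfl h1 h2
    have := card_le_of_le h1
    omega
  obtain ⟨h, hhA, hhN, hext⟩ := exists_extremal P hA
  set U := h ⋆ A with hU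
  have hUlt : U < (P : Subgroup G) := lt_of_le_of_ne hhA fun e => (hcard hlt).ne
    (by rw [← e, hU, card_cj])
  have hAN : Good P A h⁻¹ :=
    (hrec _ h⁻¹ (hcard (Functor.lt_inf_normalizer P.2 hlt)) inf_le_left
      (by rw [inv_inv]; exact hhN)).mono (le_inf hA le_normalizer)
  set B := g⁻¹ ⋆ A with hB
  have hBlt : B < (P : Subgroup G) := lt_of_le_of_ne hgA fun e => (hcard hlt).ne
    (by rw [← e, hB, card_cj])
  have hkB : (h * g) ⋆ B = U := by rw [hB, cj_cj, mul_inv_cancel_right]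
  obtain ⟨m, hm, hmB, hmN⟩ := exists_cj_normalizer_le P hext hkB
  have hBcard : Nat.card B = Nat.card A := card_cj _ _
  have hBN : Good P B (m * (h * g))⁻¹ :=
    (hrec _ _ (hBcard ▸ hcard (Functor.lt_inf_normalizer P.2 hBlt)) inf_le_left
      (by rw [inv_inv]; exact hmN)).mono (le_inf hgA le_normalizer)
  have hUB : Good P U (m * (h * g)) := by
    have := hBN.symm
    rwa [inv_inv, hmB] at this
  have hUcard : Nat.card U = Nat.card A := card_cj _ _
  have hloc : Good P U m⁻¹ := local_step U hUlt (hext.sylowIn P.2)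
    (fun A' g' h' => hrec A' g' (hUcard ▸ h')) (inv_mem hm)
  rw [show g = h⁻¹ * (m⁻¹ * (m * (h * g))) by group]
  refine hAN.mul ?_
  rw [inv_inv]
  refine hloc.mul ?_
  rw [inv_inv, mem_normalizer_iff_cj.1 hm]
  exact hUB

/-! ### Properties of essential subgroups -/

theorem map_pPrimePCore_eq {H : Subgroup G} (h : Ess P H) :
    (Cfsg.pPrimePCore p ↥(normalizer (H : Set G))).map (normalizer (H : Set G)).subtype =
      H ⊔ centralizer (H : Set G) := by
  set N := normalizer (H : Set G) with hN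
  set C := centralizer (H : Set G) with hC
  set T := (P : Subgroup G) ⊓ N with hT
  set O := Cfsg.pPrimeCore p ↥N with hO
  set R := Cfsg.pPrimePCore p ↥N with hR
  haveI hOn : O.Normal := Solvable.pPrimeCore_normal p
  haveI hRn : R.Normal := by
    rw [hR]
    exact Normal.comap ((Solvable.pCore_spec (G := ↥N ⧸ O) p).1) _
  have hOR : O ≤ R := fun x hx => by
    rw [hR, Cfsg.pPrimePCore, mem_comap, show QuotientGroup.mk' (Cfsg.pPrimeCore p ↥N) x = 1 from
      (QuotientGroup.eq_one_iff x).2 hx]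
    exact one_mem _
  have hHp : IsPGroup p ↥H := h.syl.isPGroup.to_le h.lt.le
  haveI hHn : (H.subgroupOf N).Normal := normal_subgroupOf_of_le_normalizer le_rfl
  have hOC : O.map N.subtype ≤ C := by
    rintro _ ⟨o, ho, rfl⟩
    refine mem_centralizer_iff.2 fun z hz => ?_
    set zz : ↥N := ⟨z, le_normalizer hz⟩
    have h1 : o * zz * o⁻¹ * zz⁻¹ ∈ O := by
      have := hOn.conj_mem o⁻¹ (inv_mem ho) zz
      simpa [mul_assoc] using mul_mem ho this
    have h2 : o * zz * o⁻¹ * zz⁻¹ ∈ H.subgroupOf N :=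
      mul_mem (hHn.conj_mem zz (mem_subgroupOf.2 hz) o) (inv_mem (mem_subgroupOf.2 hz))
    have h3 := Kinf.eq_one_of_pGroup_coprime
      (hHp.of_equiv (subgroupOfEquivOfLe (le_normalizer : H ≤ N)).symm)
      (Solvable.coprime_card_pPrimeCore p) h2 h1
    have h4 := congrArg Subtype.val h3
    simp only [Subgroup.coe_mul, InvMemClass.coe_inv, OneMemClass.coe_one] at h4
    rw [mul_inv_eq_one, mul_inv_eq_iff_eq_mul] at h4
    exact h4.symm
  set W := T ⊓ R.map N.subtype with hW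
  have hRN : N ≤ normalizer ((R.map N.subtype : Subgroup G) : Set G) := by
    intro n hn
    rw [mem_normalizer_iff_cj]
    refine eq_of_le_of_card_le' (cj_le_iff.2 ?_) (card_cj _ _).ge
    rintro _ ⟨r, hr, rfl⟩
    exact ⟨_, hRn.conj_mem r hr ⟨n, hn⟩, rfl⟩
  have hWs : IsSylowIn p W (R.map N.subtype) := h.syl.inf_normal (map_subtype_le _) hRN
  have hRdec : R.map N.subtype = O.map N.subtype ⊔ W := by
    refine le_antisymm ?_ (sup_le (map_mono hOR) inf_le_right)
    set K := O.map N.subtype ⊔ W with hK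
    have h1 : (O.map N.subtype).relIndex (R.map N.subtype) = O.relIndex R :=
      relIndex_map_map_of_injective _ _ N.subtype_injective
    have h2 : ∃ k, O.relIndex R = p ^ k := by
      have h3 : O.relIndex R = Nat.card ↥(R.map (QuotientGroup.mk' O)) := by
        have := relIndex_ker (K := R) (QuotientGroup.mk' O)
        rwa [QuotientGroup.ker_mk'] at this
      rw [h3, hR, Cfsg.pPrimePCore, map_comap_eq_self_of_surjective (QuotientGroup.mk'_surjective _)]
      exact IsPGroup.iff_card.1 (Solvable.isPGroup_pCore p)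
    obtain ⟨k, hk⟩ := h2
    refine relIndex_eq_one.1 (Nat.eq_one_of_dvd_coprimes (Nat.Coprime.pow_left k
      ((Fact.out : p.Prime).coprime_iff_not_dvd.2 hWs.2.2)) ?_ ?_)
    · rw [← hk, ← h1]; exact relIndex_dvd_of_le_left _ le_sup_left
    · exact relIndex_dvd_of_le_left _ le_sup_right
  have hWH : W = H := by
    have hHW : H ≤ W := by
      refine le_inf h.lt.le fun z hz => ⟨⟨z, le_normalizer hz⟩, ?_, rfl⟩
      rw [SetLike.mem_coe, hR, Cfsg.pPrimePCore, mem_comap]
      exact Solvable.le_pCore p (Normal.map hHn _ (QuotientGroup.mk'_surjective _))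
        ((hHp.of_equiv (subgroupOfEquivOfLe (le_normalizer : H ≤ N)).symm).map _)
        (mem_map_of_mem _ (show (⟨z, le_normalizer hz⟩ : ↥N) ∈ H.subgroupOf N from hz))
    by_contra hne
    refine h.not_le ((le_sup_gen h.syl (map_subtype_le _) hRN
      (lt_of_le_of_ne hHW (Ne.symm hne))).trans (sup_le ?_ le_rfl))
    rw [hRdec]
    exact sup_le (hOC.trans le_sup_left) (inf_le_left.trans (sylow_le_gen h.lt))
  refine le_antisymm ?_ ?_
  · rw [hRdec, hWH]
    exact sup_le (hOC.trans le_sup_right) le_sup_left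
  · refine sup_le (hWH.ge.trans inf_le_right) ?_
    have hCN : C ≤ N := centralizer_le_normalizer _
    have hNC : N ≤ normalizer (C : Set G) := fun x hx => by
      rw [mem_normalizer_iff_cj, hC, cj_centralizer, mem_normalizer_iff_cj.1 hx]
    have hS : IsSylowIn p ((P : Subgroup G) ⊓ C) C := by
      have := h.syl.inf_normal hCN hNC
      rwa [inf_assoc, inf_eq_right.2 hCN] at this
    haveI hCn : (C.subgroupOf N).Normal := normal_subgroupOf_of_le_normalizer hNC
    set C' := C.subgroupOf N with hC'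
    obtain ⟨S, hSmap⟩ := hS.exists_sylow
    let e : ↥C' ≃* ↥C := subgroupOfEquivOfLe hCN
    let S' : Sylow p ↥C' := S.mapSurjective (f := e.symm.toMonoidHom) e.symm.surjective
    have hS'H : ∀ u : ↥C', u ∈ (S' : Subgroup ↥C') → ((u : ↥N) : G) ∈ H := by
      rintro _ ⟨v, hv, rfl⟩
      exact h.cen (hSmap.le ⟨v, hv, rfl⟩)
    have hcent : (S' : Subgroup ↥C') ≤ center ↥C' := fun u hu => mem_center_iff.2 fun c =>
      Subtype.ext (Subtype.ext
        (mem_centralizer_iff.1 (mem_subgroupOf.1 c.2) _ (hS'H u hu)).symm)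
    have htop := Kinf.sup_pPrimeCore_of_central S' hcent
    haveI : (Cfsg.pPrimeCore p ↥C').Characteristic := by
      rw [characteristic_iff_map_le]
      intro φ
      exact Solvable.le_pPrimeCore p ((Solvable.pPrimeCore_normal p).map _ φ.surjective)
        ((Solvable.coprime_card_pPrimeCore p).coprime_dvd_left (card_map_dvd _ _))
    have hKO : (Cfsg.pPrimeCore p ↥C').map C'.subtype ≤ O :=
      Solvable.le_pPrimeCore p inferInstance (by
        rw [card_map_of_injective C'.subtype_injective]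
        exact Solvable.coprime_card_pPrimeCore p)
    intro c hc
    have hmem := htop.ge (mem_top (⟨⟨c, hCN hc⟩, hc⟩ : ↥C'))
    haveI : (Cfsg.pPrimeCore p ↥C').Normal := Solvable.pPrimeCore_normal p
    rw [mem_sup_of_normal_right] at hmem
    obtain ⟨u, hu, v, hv, huv⟩ := hmem
    have := mul_mem ((hWH.ge.trans inf_le_right) (hS'H u hu))
      (map_mono hOR (mem_map_of_mem N.subtype (hKO (mem_map_of_mem _ hv))))
    rwa [show ((u : ↥N) : G) * N.subtype (C'.subtype v) = c from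
      congrArg (fun w : ↥C' => ((w : ↥N) : G)) huv] at this

theorem not_chainConnected {H : Subgroup G} (h : Ess P H) :
    ¬ Cfsg.IsSylowChainConnected p
      (↥(normalizer (H : Set G)) ⧸ H.subgroupOf (normalizer (H : Set G))) := by
  classical
  intro hconn
  set N := normalizer (H : Set G) with hN
  set T := (P : Subgroup G) ⊓ N with hT
  set π := QuotientGroup.mk' (H.subgroupOf N) with hπ
  have hπs : Function.Surjective π := QuotientGroup.mk'_surjective _
  obtain ⟨S₁, hS₁⟩ := h.syl.exists_sylow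
  set S₀ := S₁.mapSurjective hπs with hS₀
  have hmemT : ∀ z : ↥N, π z ∈ (S₀ : Subgroup (↥N ⧸ H.subgroupOf N)) ↔ (z : G) ∈ T := by
    intro z
    constructor
    · rintro ⟨s, hs, hsz⟩
      have h1 : π (s⁻¹ * z) = 1 := by rw [map_mul, map_inv, hsz, inv_mul_cancel]
      rw [hπ, QuotientGroup.mk'_apply, QuotientGroup.eq_one_iff, mem_subgroupOf] at h1
      have h2 : (s : G) * ((s⁻¹ * z : ↥N) : G) ∈ T :=
        mul_mem (hS₁.le (mem_map_of_mem _ hs)) (h.lt.le h1)
      rwa [Subgroup.coe_mul, InvMemClass.coe_inv, mul_inv_cancel_left] at h2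
    · intro hz
      obtain ⟨s, hs, hsz⟩ := hS₁.ge hz
      exact ⟨s, hs, by rw [show s = z from Subtype.ext hsz]⟩
  refine h.not_le fun n hn => ?_
  obtain ⟨k, c, hc0, hck, -, hstep⟩ := hconn S₀ (π ⟨n, hn⟩ • S₀)
  have key : ∀ i : Fin (k + 1), ∀ m : ↥N, π m • S₀ = c i → (m : G) ∈ gen P H := by
    intro i
    induction i using Fin.induction with
    | zero =>
      intro m hm
      rw [hc0, Sylow.smul_eq_iff_mem_normalizer] at hm
      refine mem_gen m.2 h.lt le_rfl (cj_le_iff.2 fun t ht => ?_)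
      rw [inv_inv]
      have h1 : π ((m⁻¹ : ↥N) * ⟨t, ht.2⟩ * m) ∈ (S₀ : Subgroup (↥N ⧸ H.subgroupOf N)) := by
        have := (mem_normalizer_iff.1 (inv_mem hm) (π ⟨t, ht.2⟩)).1 ((hmemT _).2 ht)
        rwa [inv_inv, ← map_inv, ← map_mul, ← map_mul] at this
      exact (hmemT _).1 h1
    | succ i ih =>
      intro m hm
      obtain ⟨-, hne⟩ := hstep i
      obtain ⟨q, hq⟩ := MulAction.exists_smul_eq (↥N ⧸ H.subgroupOf N) S₀ (c i.castSucc)
      obtain ⟨mi, rfl⟩ := hπs q
      obtain ⟨u, hu, hu1⟩ := SetLike.exists_of_lt (bot_lt_iff_ne_bot.2 hne)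
      rw [← hq, ← hm] at hu
      obtain ⟨w, rfl⟩ := hπs u
      have hconj : ∀ (l : ↥N), π w ∈ ((π l • S₀ : Sylow p (↥N ⧸ H.subgroupOf N)) :
          Subgroup (↥N ⧸ H.subgroupOf N)) → (l : G)⁻¹ * w * l ∈ T := by
        intro l hl
        rw [Sylow.coe_subgroup_smul, Subgroup.mem_pointwise_smul_iff_inv_smul_mem] at hl
        have h1 : π (l⁻¹ * w * l) ∈ (S₀ : Subgroup (↥N ⧸ H.subgroupOf N)) := by
          rw [map_mul, map_mul, map_inv]
          simpa [MulAut.smul_def] using hl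
        exact (hmemT _).1 h1
      have h1 := hconj mi hu.1
      have h2 := hconj m hu.2
      set w' := (mi : G)⁻¹ * w * mi with hw'
      have hwH : w' ∉ H := by
        intro hw
        refine hu1 (mem_bot.2 ?_)
        rw [hπ, QuotientGroup.mk'_apply, QuotientGroup.eq_one_iff, mem_subgroupOf]
        have := (mem_normalizer_iff.1 mi.2 w').1 hw
        rwa [show (mi : G) * w' * (mi : G)⁻¹ = w by rw [hw']; group] at this
      have hd : ((mi⁻¹ * m : ↥N) : G) ∈ gen P H := by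
        refine mem_gen (W := H ⊔ zpowers w') (mi⁻¹ * m : ↥N).2 ?_ (sup_le h.lt.le (zpowers_le.2 h1)) ?_
        · exact lt_of_le_of_ne le_sup_left fun e1 => hwH (e1.ge (mem_sup_right (mem_zpowers _)))
        · rw [Subgroup.map_sup, MonoidHom.map_zpowers]
          refine sup_le ((mem_normalizer_iff_cj.1 (inv_mem (mi⁻¹ * m : ↥N).2)).le.trans h.lt.le)
            (zpowers_le.2 ?_)
          show ((mi⁻¹ * m : ↥N) : G)⁻¹ * w' * (((mi⁻¹ * m : ↥N) : G)⁻¹)⁻¹ ∈ T
          simp only [hw', Subgroup.coe_mul, InvMemClass.coe_inv]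
          rw [show ((mi : G)⁻¹ * (m : G))⁻¹ * ((mi : G)⁻¹ * (w : G) * (mi : G)) *
            (((mi : G)⁻¹ * (m : G))⁻¹)⁻¹ = (m : G)⁻¹ * w * m by group]
          exact h2
      have := mul_mem (ih mi hq) hd
      simpa using this
  exact key (Fin.last k) ⟨n, hn⟩ hck.symm

/-- Chains as finite lists, with the least normal subgroups attached. -/
theorem Ch.exists_fin {A : Subgroup G} {g : G} (h : Ch P A g) :
    ∃ (n : ℕ) (H X : Fin n → Subgroup G) (x : Fin n → G), (List.ofFn x).prod = g ∧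
      ∀ i : Fin n, Ess P (H i) ∧ (Big p (H i) (X i) ∧ ∀ Y, Big p (H i) Y → X i ≤ Y) ∧
        x i ∈ (Cfsg.pResidual p ↥(X i)).map (X i).subtype ∧
        ((List.ofFn x).take i.val).prod⁻¹ ⋆ A ≤ H i := by
  induction h with
  | one A => exact ⟨0, Fin.elim0, Fin.elim0, Fin.elim0, by simp, fun i => i.elim0⟩
  | step A H x g hH hA hx _ ih =>
    obtain ⟨n, Hs, Xs, xs, hprod, hall⟩ := ih
    obtain ⟨X, hX, hXmin⟩ := hH.exists_least
    refine ⟨n + 1, Fin.cons H Hs, Fin.cons X Xs, Fin.cons x xs, ?_, Fin.cases ?_ fun i => ?_⟩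
    · rw [List.ofFn_cons, List.prod_cons, hprod]
    · simp only [Fin.cons_zero, Fin.val_zero, List.take_zero, List.prod_nil, inv_one, cj_one]
      refine ⟨hH, ⟨hX, hXmin⟩, ?_, hA⟩
      refine (closure_le _).2 (fun u hu => ?_) (hx X hX)
      refine ⟨⟨u, hu.1⟩, CfsgLib.PResidual.mem_pResidual p ?_, rfl⟩
      rw [← Subgroup.orderOf_coe]; exact hu.2
    · obtain ⟨h1, h2, h3, h4⟩ := hall i
      simp only [Fin.cons_succ, Fin.val_succ, List.ofFn_cons, List.take_succ_cons, List.prod_cons,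
        mul_inv_rev]
      refine ⟨h1, h2, h3, ?_⟩
      rw [← cj_cj]
      exact h4

/-- **Alperin–Goldschmidt**, strong form. -/
theorem strong_alperin (P : Sylow p G) {A : Subgroup G} {g : G} (hA : A ≤ (P : Subgroup G))
    (hgA : g⁻¹ ⋆ A ≤ (P : Subgroup G)) : Good P A g :=
  good_aux _ A g rfl hA hgA

end CfsgLib.StrongAlperin
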