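import Cfsg.Agent.LocalB.SylowEightData

/-!
Checks for the two tables of order 128.
-/

set_option autoImplicit false
set_option maxRecDepth 100000

namespace CfsgLib.SylowEight

/-- Equality with the identity permutation. -/
def isId (A : List ℕ) : Bool := (List.range 8).all fun i => A.getD i 0 % 8 == i

/-- Entrywise equality with a scalar matrix. -/
def isScalar (n p c : ℕ) (A : List (List ℕ)) : Bool :=
  (List.range n).all fun i => (List.range n).all fun j =>
    (A.getD i []).getD j 0 % p == if i = j then c else 0

/-- A pair in canonical form. -/
def key (n p : ℕ) (e : Elem) : List ℕ × List (List ℕ) :=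
  ((List.range 8).map fun i => e.1.getD i 0 % 8,
    (List.range n).map fun i => (List.range n).map fun j => (e.2.getD i []).getD j 0 % p)

theorem sym_parent : ∀ i < 128, 0 < i → (symData.par.getD i (0, 0)).1 < i ∧
    (symData.par.getD i (0, 0)).2 < symData.gens.length := by
  decide +kernel

theorem sym_parent_mul : ∀ i < 128, 0 < i →
    emul 6 2 (symData.elt (symData.par.getD i (0, 0)).1) (symData.gen (symData.par.getD i (0, 0)).2)
      = symData.elt i := by
  decide +kernel

theorem sym_step : ∀ i < 128, ∀ j < symData.gens.length, (symData.step.getD i []).getD j 0 < 128 := by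
  decide +kernel

theorem sym_step_mul : ∀ i < 128, ∀ j < symData.gens.length,
    emul 6 2 (symData.elt i) (symData.gen j) = symData.elt ((symData.step.getD i []).getD j 0) := by
  decide +kernel

theorem sym_inv : ∀ i < 128, symData.inv.getD i 0 < 128 := by
  decide +kernel

theorem sym_inv_mul : ∀ i < 128,
    emul 6 2 (symData.elt i) (symData.elt (symData.inv.getD i 0)) = symData.elt 0 := by
  decide +kernel

theorem sym_one : isId (symData.elt 0).1 = true ∧ isScalar 6 2 1 (symData.elt 0).2 = true := by
  decide +kernel

theorem sym_ker : ∀ i < 128, (isId (symData.elt i).1 = true → i = 0) ∧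
    (isScalar 6 2 1 (symData.elt i).2 = true → i = 0) := by
  decide +kernel

theorem sym_keys : ((List.range 128).map fun i => key 6 2 (symData.elt i)).Nodup := by
  decide +kernel

theorem alt_parent : ∀ i < 128, 0 < i → (altData.par.getD i (0, 0)).1 < i ∧
    (altData.par.getD i (0, 0)).2 < altData.gens.length := by
  decide +kernel

theorem alt_parent_mul : ∀ i < 128, 0 < i →
    emul 4 3 (altData.elt (altData.par.getD i (0, 0)).1) (altData.gen (altData.par.getD i (0, 0)).2)
      = altData.elt i := by
  decide +kernel

theorem alt_step : ∀ i < 128, ∀ j < altData.gens.length, (altData.step.getD i []).getD j 0 < 128 := by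
  decide +kernel

theorem alt_step_mul : ∀ i < 128, ∀ j < altData.gens.length,
    emul 4 3 (altData.elt i) (altData.gen j) = altData.elt ((altData.step.getD i []).getD j 0) := by
  decide +kernel

theorem alt_inv : ∀ i < 128, altData.inv.getD i 0 < 128 := by
  decide +kernel

theorem alt_inv_mul : ∀ i < 128,
    emul 4 3 (altData.elt i) (altData.elt (altData.inv.getD i 0)) = altData.elt 0 := by
  decide +kernel

theorem alt_one : isId (altData.elt 0).1 = true ∧ isScalar 4 3 1 (altData.elt 0).2 = true := by
  decide +kernel

theorem alt_ker : ∀ i < 128, isId (altData.elt i).1 =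
    (isScalar 4 3 1 (altData.elt i).2 || isScalar 4 3 2 (altData.elt i).2) := by
  decide +kernel

theorem alt_keys : ((List.range 128).map fun i => key 4 3 (altData.elt i)).Nodup := by
  decide +kernel

theorem alt_kernel_count : ((List.range 128).filter fun i => isId (altData.elt i).1).length = 2 := by
  decide +kernel

end CfsgLib.SylowEight
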