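import Cfsg.Agent.LocalB.SylowTables

/-! Generated data: common Sylow 2-subgroups. -/

namespace CfsgLib.SylowEight

/-- The table. -/
def symData : Table where
  gens := [([7, 5, 4, 0, 1, 2, 3, 6], [[0, 1, 0, 0, 0, 0], [1, 1, 1, 0, 1, 0], [1, 0, 1, 1, 0, 1], [1, 1, 0, 0, 0, 0], [1, 0, 0, 0, 1, 1], [1, 1, 0, 0, 0, 1]]),
    ([7, 0, 6, 5, 3, 2, 1, 4], [[0, 1, 0, 1, 1, 0], [1, 0, 1, 1, 1, 1], [1, 0, 1, 0, 1, 1], [0, 1, 1, 1, 1, 0], [0, 0, 1, 1, 0, 1], [0, 0, 1, 0, 1, 0]]),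
    ([3, 5, 6, 0, 7, 1, 2, 4], [[1, 0, 1, 0, 0, 1], [0, 1, 0, 0, 0, 0], [1, 1, 1, 0, 1, 0], [1, 1, 0, 1, 1, 0], [0, 0, 1, 0, 1, 1], [1, 1, 0, 0, 1, 1]])]
  elts := [([0, 1, 2, 3, 4, 5, 6, 7], [[1, 0, 0, 0, 0, 0], [0, 1, 0, 0, 0, 0], [0, 0, 1, 0, 0, 0], [0, 0, 0, 1, 0, 0], [0, 0, 0, 0, 1, 0], [0, 0, 0, 0, 0, 1]]),
    ([7, 5, 4, 0, 1, 2, 3, 6], [[0, 1, 0, 0, 0, 0], [1, 1, 1, 0, 1, 0], [1, 0, 1, 1, 0, 1], [1, 1, 0, 0, 0, 0], [1, 0, 0, 0, 1, 1], [1, 1, 0, 0, 0, 1]]),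
    ([7, 0, 6, 5, 3, 2, 1, 4], [[0, 1, 0, 1, 1, 0], [1, 0, 1, 1, 1, 1], [1, 0, 1, 0, 1, 1], [0, 1, 1, 1, 1, 0], [0, 0, 1, 1, 0, 1], [0, 0, 1, 0, 1, 0]]),
    ([3, 5, 6, 0, 7, 1, 2, 4], [[1, 0, 1, 0, 0, 1], [0, 1, 0, 0, 0, 0], [1, 1, 1, 0, 1, 0], [1, 1, 0, 1, 1, 0], [0, 0, 1, 0, 1, 1], [1, 1, 0, 0, 1, 1]]),
    ([6, 2, 1, 7, 5, 4, 0, 3], [[1, 1, 1, 0, 1, 0], [1, 0, 0, 1, 0, 0], [1, 1, 1, 1, 0, 0], [1, 0, 1, 0, 1, 0], [0, 0, 0, 0, 1, 0], [0, 1, 1, 0, 1, 1]]),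
    ([6, 7, 3, 2, 0, 4, 5, 1], [[1, 0, 1, 1, 1, 1], [0, 1, 1, 1, 1, 1], [1, 0, 1, 0, 0, 1], [1, 1, 1, 0, 0, 1], [0, 1, 0, 0, 0, 1], [1, 1, 0, 0, 1, 1]]),
    ([0, 2, 3, 7, 6, 5, 4, 1], [[0, 1, 0, 0, 0, 0], [0, 0, 1, 0, 0, 0], [0, 1, 0, 1, 1, 0], [1, 1, 1, 0, 0, 1], [0, 1, 0, 0, 0, 1], [0, 0, 1, 0, 1, 0]]),
    ([4, 2, 3, 7, 0, 6, 5, 1], [[1, 0, 1, 0, 0, 1], [0, 1, 1, 1, 1, 1], [1, 0, 1, 1, 1, 1], [0, 0, 0, 1, 0, 0], [1, 0, 1, 1, 0, 0], [0, 0, 1, 1, 1, 0]]),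
    ([4, 7, 1, 2, 5, 6, 0, 3], [[1, 1, 1, 1, 0, 0], [1, 0, 0, 1, 0, 0], [1, 1, 1, 0, 1, 0], [0, 1, 0, 1, 1, 1], [1, 1, 1, 1, 1, 1], [1, 0, 0, 1, 1, 0]]),
    ([5, 2, 1, 7, 4, 0, 6, 3], [[1, 0, 1, 1, 0, 1], [0, 1, 1, 1, 0, 1], [1, 0, 1, 0, 1, 1], [0, 1, 0, 1, 1, 1], [1, 1, 1, 1, 1, 1], [1, 1, 0, 0, 0, 1]]),
    ([4, 1, 7, 3, 5, 6, 0, 2], [[0, 0, 1, 1, 0, 0], [1, 1, 1, 0, 1, 0], [1, 0, 0, 1, 0, 0], [1, 1, 1, 0, 0, 1], [1, 1, 1, 1, 1, 1], [1, 1, 1, 0, 0, 0]]),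
    ([4, 3, 2, 1, 0, 6, 5, 7], [[1, 1, 0, 1, 1, 1], [1, 0, 1, 1, 1, 1], [0, 1, 1, 1, 1, 1], [1, 0, 1, 0, 1, 0], [1, 0, 1, 1, 0, 0], [1, 1, 1, 1, 1, 0]]),
    ([3, 4, 5, 6, 2, 1, 7, 0], [[1, 0, 0, 1, 0, 0], [1, 0, 0, 0, 0, 0], [1, 1, 0, 1, 1, 1], [0, 1, 1, 1, 1, 0], [1, 0, 0, 0, 1, 1], [0, 0, 0, 1, 0, 1]]),
    ([3, 6, 0, 4, 7, 1, 2, 5], [[0, 1, 1, 1, 1, 1], [0, 0, 1, 0, 0, 0], [0, 0, 1, 1, 0, 0], [1, 1, 0, 0, 0, 0], [0, 0, 1, 1, 0, 1], [0, 0, 0, 0, 1, 1]]),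
    ([7, 4, 0, 6, 3, 2, 1, 5], [[0, 0, 1, 0, 0, 0], [0, 1, 1, 1, 1, 1], [1, 1, 0, 1, 0, 1], [0, 1, 1, 0, 0, 0], [0, 0, 1, 0, 1, 1], [0, 1, 0, 0, 1, 0]]),
    ([1, 4, 0, 6, 7, 3, 2, 5], [[0, 1, 1, 1, 1, 1], [1, 1, 0, 1, 0, 1], [0, 0, 1, 1, 0, 0], [1, 1, 0, 1, 1, 0], [0, 0, 1, 0, 1, 1], [1, 1, 1, 0, 0, 0]]),
    ([1, 6, 5, 4, 2, 3, 7, 0], [[1, 0, 0, 1, 0, 0], [0, 1, 1, 1, 0, 1], [1, 1, 0, 1, 1, 1], [0, 1, 1, 0, 0, 0], [1, 0, 0, 1, 0, 1], [1, 1, 1, 1, 1, 0]]),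
    ([2, 4, 5, 6, 1, 7, 3, 0], [[0, 1, 1, 1, 0, 1], [1, 0, 0, 1, 0, 0], [1, 0, 0, 0, 0, 0], [1, 1, 0, 0, 0, 0], [1, 0, 0, 0, 1, 1], [0, 0, 0, 0, 0, 1]]),
    ([1, 5, 6, 0, 2, 3, 7, 4], [[1, 1, 1, 0, 1, 0], [1, 0, 1, 1, 0, 1], [1, 0, 1, 0, 0, 1], [1, 1, 0, 1, 1, 0], [0, 0, 1, 0, 1, 1], [0, 0, 1, 1, 1, 0]]),
    ([1, 0, 4, 5, 7, 3, 2, 6], [[1, 0, 1, 1, 1, 1], [1, 0, 1, 0, 1, 1], [1, 1, 1, 1, 0, 0], [0, 1, 1, 0, 0, 0], [1, 0, 0, 1, 0, 1], [1, 0, 0, 1, 1, 0]]),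
    ([1, 6, 0, 4, 2, 3, 7, 5], [[0, 0, 1, 1, 0, 0], [1, 1, 0, 1, 0, 1], [0, 1, 1, 1, 1, 1], [1, 1, 0, 0, 0, 0], [0, 0, 1, 1, 0, 1], [1, 1, 1, 1, 1, 0]]),
    ([1, 4, 5, 6, 7, 3, 2, 0], [[1, 1, 0, 1, 1, 1], [0, 1, 1, 1, 0, 1], [1, 0, 0, 1, 0, 0], [0, 1, 1, 1, 1, 0], [1, 0, 0, 0, 1, 1], [1, 1, 1, 0, 0, 0]]),
    ([7, 6, 5, 4, 1, 2, 3, 0], [[1, 0, 0, 0, 0, 0], [1, 0, 0, 1, 0, 0], [0, 1, 1, 1, 0, 1], [1, 1, 0, 1, 1, 0], [1, 0, 0, 1, 0, 1], [0, 0, 0, 1, 1, 1]]),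
    ([3, 6, 5, 4, 7, 1, 2, 0], [[1, 1, 0, 1, 1, 1], [1, 0, 0, 0, 0, 0], [1, 0, 0, 1, 0, 0], [0, 1, 1, 0, 0, 0], [1, 0, 0, 1, 0, 1], [0, 0, 0, 0, 1, 1]]),
    ([3, 4, 0, 6, 2, 1, 7, 5], [[0, 0, 1, 1, 0, 0], [0, 0, 1, 0, 0, 0], [0, 1, 1, 1, 1, 1], [1, 1, 0, 1, 1, 0], [0, 0, 1, 0, 1, 1], [0, 0, 0, 1, 0, 1]]),
    ([2, 6, 0, 4, 3, 7, 1, 5], [[1, 1, 0, 1, 0, 1], [0, 1, 1, 1, 1, 1], [0, 0, 1, 0, 0, 0], [0, 1, 1, 1, 1, 0], [0, 0, 1, 1, 0, 1], [0, 1, 0, 1, 0, 0]]),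
    ([3, 0, 4, 5, 2, 1, 7, 6], [[1, 1, 1, 1, 0, 0], [0, 1, 0, 1, 1, 0], [1, 0, 1, 1, 1, 1], [0, 1, 1, 0, 0, 0], [1, 0, 0, 1, 0, 1], [0, 1, 1, 0, 1, 1]]),
    ([2, 6, 5, 4, 1, 7, 3, 0], [[0, 1, 1, 1, 0, 1], [1, 0, 0, 1, 0, 0], [1, 0, 0, 0, 0, 0], [1, 1, 0, 1, 1, 0], [1, 0, 0, 1, 0, 1], [0, 0, 0, 1, 1, 1]]),
    ([2, 4, 0, 6, 3, 7, 1, 5], [[1, 1, 0, 1, 0, 1], [0, 1, 1, 1, 1, 1], [0, 0, 1, 0, 0, 0], [0, 1, 1, 0, 0, 0], [0, 0, 1, 0, 1, 1], [0, 1, 0, 0, 1, 0]]),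
    ([3, 6, 0, 4, 2, 1, 7, 5], [[0, 0, 1, 1, 0, 0], [0, 0, 1, 0, 0, 0], [0, 1, 1, 1, 1, 1], [1, 1, 0, 0, 0, 0], [0, 0, 1, 1, 0, 1], [0, 0, 0, 0, 1, 1]]),
    ([7, 6, 0, 4, 3, 2, 1, 5], [[0, 0, 1, 0, 0, 0], [0, 1, 1, 1, 1, 1], [1, 1, 0, 1, 0, 1], [0, 1, 1, 1, 1, 0], [0, 0, 1, 1, 0, 1], [0, 1, 0, 1, 0, 0]]),
    ([7, 4, 5, 6, 1, 2, 3, 0], [[1, 0, 0, 0, 0, 0], [1, 0, 0, 1, 0, 0], [0, 1, 1, 1, 0, 1], [1, 1, 0, 0, 0, 0], [1, 0, 0, 0, 1, 1], [0, 0, 0, 0, 0, 1]]),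
    ([1, 6, 5, 4, 7, 3, 2, 0], [[1, 1, 0, 1, 1, 1], [0, 1, 1, 1, 0, 1], [1, 0, 0, 1, 0, 0], [0, 1, 1, 0, 0, 0], [1, 0, 0, 1, 0, 1], [1, 1, 1, 1, 1, 0]]),
    ([0, 3, 7, 1, 6, 5, 4, 2], [[0, 0, 1, 0, 0, 0], [0, 1, 0, 1, 1, 0], [1, 0, 0, 0, 0, 0], [0, 1, 0, 1, 1, 1], [0, 1, 0, 0, 0, 1], [0, 1, 0, 1, 0, 0]]),
    ([6, 1, 7, 3, 0, 4, 5, 2], [[0, 1, 1, 1, 1, 1], [1, 0, 1, 0, 0, 1], [1, 1, 0, 1, 1, 1], [0, 1, 0, 1, 1, 1], [0, 1, 0, 0, 0, 1], [0, 0, 0, 1, 0, 1]]),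
    ([5, 1, 7, 3, 6, 0, 4, 2], [[1, 1, 0, 1, 0, 1], [1, 0, 1, 1, 0, 1], [0, 1, 1, 1, 0, 1], [1, 0, 1, 0, 1, 0], [1, 0, 1, 1, 0, 0], [0, 1, 0, 0, 1, 0]]),
    ([5, 3, 2, 1, 4, 0, 6, 7], [[0, 1, 1, 1, 0, 1], [1, 0, 1, 0, 1, 1], [1, 1, 0, 1, 0, 1], [1, 1, 1, 0, 0, 1], [1, 1, 1, 1, 1, 1], [0, 0, 0, 1, 1, 1]]),
    ([4, 1, 2, 3, 5, 6, 0, 7], [[1, 0, 0, 1, 0, 0], [1, 1, 1, 0, 1, 0], [0, 0, 1, 1, 0, 0], [1, 1, 1, 0, 0, 1], [1, 1, 1, 1, 1, 1], [1, 1, 1, 0, 0, 0]]),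
    ([5, 2, 3, 7, 4, 0, 6, 1], [[1, 0, 1, 1, 0, 1], [1, 1, 0, 1, 0, 1], [1, 0, 1, 0, 1, 1], [0, 1, 0, 1, 1, 1], [1, 1, 1, 1, 1, 1], [0, 1, 1, 0, 0, 1]]),
    ([5, 7, 1, 2, 6, 0, 4, 3], [[1, 0, 1, 0, 1, 1], [0, 1, 1, 1, 0, 1], [1, 0, 1, 1, 0, 1], [0, 0, 0, 1, 0, 0], [1, 0, 1, 1, 0, 0], [1, 0, 0, 0, 1, 0]]),
    ([5, 3, 7, 1, 4, 0, 6, 2], [[1, 1, 0, 1, 0, 1], [1, 0, 1, 0, 1, 1], [0, 1, 1, 1, 0, 1], [1, 1, 1, 0, 0, 1], [1, 1, 1, 1, 1, 1], [0, 0, 0, 1, 1, 1]]),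
    ([5, 1, 2, 3, 6, 0, 4, 7], [[0, 1, 1, 1, 0, 1], [1, 0, 1, 1, 0, 1], [1, 1, 0, 1, 0, 1], [1, 0, 1, 0, 1, 0], [1, 0, 1, 1, 0, 0], [0, 1, 0, 0, 1, 0]]),
    ([6, 3, 2, 1, 5, 4, 0, 7], [[1, 0, 0, 1, 0, 0], [1, 1, 1, 1, 0, 0], [0, 0, 1, 1, 0, 0], [0, 0, 0, 1, 0, 0], [0, 0, 0, 0, 1, 0], [0, 0, 0, 0, 1, 1]]),
    ([0, 3, 2, 1, 6, 5, 4, 7], [[1, 0, 0, 0, 0, 0], [0, 1, 0, 1, 1, 0], [0, 0, 1, 0, 0, 0], [0, 1, 0, 1, 1, 1], [0, 1, 0, 0, 0, 1], [0, 1, 0, 1, 0, 0]]),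
    ([0, 1, 7, 3, 4, 5, 6, 2], [[0, 0, 1, 0, 0, 0], [0, 1, 0, 0, 0, 0], [1, 0, 0, 0, 0, 0], [0, 0, 0, 1, 0, 0], [0, 0, 0, 0, 1, 0], [0, 0, 0, 0, 0, 1]]),
    ([4, 3, 7, 1, 0, 6, 5, 2], [[0, 1, 1, 1, 1, 1], [1, 0, 1, 1, 1, 1], [1, 1, 0, 1, 1, 1], [1, 0, 1, 0, 1, 0], [1, 0, 1, 1, 0, 0], [1, 1, 1, 1, 1, 0]]),
    ([0, 7, 1, 2, 4, 5, 6, 3], [[0, 1, 0, 1, 1, 0], [1, 0, 0, 0, 0, 0], [0, 1, 0, 0, 0, 0], [1, 0, 1, 0, 1, 0], [0, 0, 0, 0, 1, 0], [1, 1, 0, 0, 0, 1]]),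
    ([4, 3, 2, 1, 5, 6, 0, 7], [[1, 0, 0, 1, 0, 0], [1, 1, 1, 1, 0, 0], [0, 0, 1, 1, 0, 0], [1, 1, 1, 0, 0, 1], [1, 1, 1, 1, 1, 1], [1, 1, 1, 1, 1, 0]]),
    ([4, 1, 7, 3, 0, 6, 5, 2], [[0, 1, 1, 1, 1, 1], [1, 0, 1, 0, 0, 1], [1, 1, 0, 1, 1, 1], [1, 0, 1, 0, 1, 0], [1, 0, 1, 1, 0, 0], [1, 1, 1, 0, 0, 0]]),
    ([0, 3, 7, 1, 4, 5, 6, 2], [[0, 0, 1, 0, 0, 0], [0, 1, 0, 1, 1, 0], [1, 0, 0, 0, 0, 0], [0, 0, 0, 1, 0, 0], [0, 0, 0, 0, 1, 0], [0, 0, 0, 1, 1, 1]]),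
    ([6, 3, 7, 1, 0, 4, 5, 2], [[0, 1, 1, 1, 1, 1], [1, 0, 1, 1, 1, 1], [1, 1, 0, 1, 1, 1], [0, 1, 0, 1, 1, 1], [0, 1, 0, 0, 0, 1], [0, 0, 0, 0, 1, 1]]),
    ([6, 1, 2, 3, 5, 4, 0, 7], [[1, 0, 0, 1, 0, 0], [1, 1, 1, 0, 1, 0], [0, 0, 1, 1, 0, 0], [0, 0, 0, 1, 0, 0], [0, 0, 0, 0, 1, 0], [0, 0, 0, 1, 0, 1]]),
    ([5, 3, 2, 1, 6, 0, 4, 7], [[0, 1, 1, 1, 0, 1], [1, 0, 1, 0, 1, 1], [1, 1, 0, 1, 0, 1], [1, 0, 1, 0, 1, 0], [1, 0, 1, 1, 0, 0], [0, 1, 0, 1, 0, 0]]),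
    ([5, 1, 7, 3, 4, 0, 6, 2], [[1, 1, 0, 1, 0, 1], [1, 0, 1, 1, 0, 1], [0, 1, 1, 1, 0, 1], [1, 1, 1, 0, 0, 1], [1, 1, 1, 1, 1, 1], [0, 0, 0, 0, 0, 1]]),
    ([4, 3, 7, 1, 5, 6, 0, 2], [[0, 0, 1, 1, 0, 0], [1, 1, 1, 1, 0, 0], [1, 0, 0, 1, 0, 0], [1, 1, 1, 0, 0, 1], [1, 1, 1, 1, 1, 1], [1, 1, 1, 1, 1, 0]]),
    ([0, 1, 2, 3, 6, 5, 4, 7], [[1, 0, 0, 0, 0, 0], [0, 1, 0, 0, 0, 0], [0, 0, 1, 0, 0, 0], [0, 1, 0, 1, 1, 1], [0, 1, 0, 0, 0, 1], [0, 1, 0, 0, 1, 0]]),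
    ([6, 3, 2, 1, 0, 4, 5, 7], [[1, 1, 0, 1, 1, 1], [1, 0, 1, 1, 1, 1], [0, 1, 1, 1, 1, 1], [0, 1, 0, 1, 1, 1], [0, 1, 0, 0, 0, 1], [0, 0, 0, 0, 1, 1]]),
    ([0, 2, 1, 7, 6, 5, 4, 3], [[0, 1, 0, 0, 0, 0], [1, 0, 0, 0, 0, 0], [0, 1, 0, 1, 1, 0], [1, 1, 1, 0, 0, 1], [0, 1, 0, 0, 0, 1], [1, 0, 0, 0, 1, 0]]),
    ([0, 7, 3, 2, 4, 5, 6, 1], [[0, 1, 0, 1, 1, 0], [0, 0, 1, 0, 0, 0], [0, 1, 0, 0, 0, 0], [1, 0, 1, 0, 1, 0], [0, 0, 0, 0, 1, 0], [0, 1, 1, 0, 0, 1]]),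
    ([0, 1, 7, 3, 6, 5, 4, 2], [[0, 0, 1, 0, 0, 0], [0, 1, 0, 0, 0, 0], [1, 0, 0, 0, 0, 0], [0, 1, 0, 1, 1, 1], [0, 1, 0, 0, 0, 1], [0, 1, 0, 0, 1, 0]]),
    ([0, 3, 2, 1, 4, 5, 6, 7], [[1, 0, 0, 0, 0, 0], [0, 1, 0, 1, 1, 0], [0, 0, 1, 0, 0, 0], [0, 0, 0, 1, 0, 0], [0, 0, 0, 0, 1, 0], [0, 0, 0, 1, 1, 1]]),
    ([4, 1, 2, 3, 0, 6, 5, 7], [[1, 1, 0, 1, 1, 1], [1, 0, 1, 0, 0, 1], [0, 1, 1, 1, 1, 1], [1, 0, 1, 0, 1, 0], [1, 0, 1, 1, 0, 0], [1, 1, 1, 0, 0, 0]]),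
    ([5, 1, 2, 3, 4, 0, 6, 7], [[0, 1, 1, 1, 0, 1], [1, 0, 1, 1, 0, 1], [1, 1, 0, 1, 0, 1], [1, 1, 1, 0, 0, 1], [1, 1, 1, 1, 1, 1], [0, 0, 0, 0, 0, 1]]),
    ([5, 3, 7, 1, 6, 0, 4, 2], [[1, 1, 0, 1, 0, 1], [1, 0, 1, 0, 1, 1], [0, 1, 1, 1, 0, 1], [1, 0, 1, 0, 1, 0], [1, 0, 1, 1, 0, 0], [0, 1, 0, 1, 0, 0]]),
    ([6, 1, 7, 3, 5, 4, 0, 2], [[0, 0, 1, 1, 0, 0], [1, 1, 1, 0, 1, 0], [1, 0, 0, 1, 0, 0], [0, 0, 0, 1, 0, 0], [0, 0, 0, 0, 1, 0], [0, 0, 0, 1, 0, 1]]),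
    ([5, 7, 3, 2, 6, 0, 4, 1], [[1, 0, 1, 0, 1, 1], [1, 1, 0, 1, 0, 1], [1, 0, 1, 1, 0, 1], [0, 0, 0, 1, 0, 0], [1, 0, 1, 1, 0, 0], [0, 0, 1, 0, 1, 0]]),
    ([6, 1, 2, 3, 0, 4, 5, 7], [[1, 1, 0, 1, 1, 1], [1, 0, 1, 0, 0, 1], [0, 1, 1, 1, 1, 1], [0, 1, 0, 1, 1, 1], [0, 1, 0, 0, 0, 1], [0, 0, 0, 1, 0, 1]]),
    ([6, 3, 7, 1, 5, 4, 0, 2], [[0, 0, 1, 1, 0, 0], [1, 1, 1, 1, 0, 0], [1, 0, 0, 1, 0, 0], [0, 0, 0, 1, 0, 0], [0, 0, 0, 0, 1, 0], [0, 0, 0, 0, 1, 1]]),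
    ([0, 7, 1, 2, 6, 5, 4, 3], [[0, 1, 0, 1, 1, 0], [1, 0, 0, 0, 0, 0], [0, 1, 0, 0, 0, 0], [1, 1, 1, 0, 0, 1], [0, 1, 0, 0, 0, 1], [1, 0, 0, 0, 1, 0]]),
    ([0, 2, 3, 7, 4, 5, 6, 1], [[0, 1, 0, 0, 0, 0], [0, 0, 1, 0, 0, 0], [0, 1, 0, 1, 1, 0], [1, 0, 1, 0, 1, 0], [0, 0, 0, 0, 1, 0], [0, 1, 1, 0, 0, 1]]),
    ([4, 7, 3, 2, 0, 6, 5, 1], [[1, 0, 1, 1, 1, 1], [0, 1, 1, 1, 1, 1], [1, 0, 1, 0, 0, 1], [0, 0, 0, 1, 0, 0], [1, 0, 1, 1, 0, 0], [0, 0, 1, 1, 1, 0]]),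
    ([5, 7, 3, 2, 4, 0, 6, 1], [[1, 0, 1, 0, 1, 1], [1, 1, 0, 1, 0, 1], [1, 0, 1, 1, 0, 1], [0, 1, 0, 1, 1, 1], [1, 1, 1, 1, 1, 1], [0, 1, 1, 0, 0, 1]]),
    ([5, 2, 1, 7, 6, 0, 4, 3], [[1, 0, 1, 1, 0, 1], [0, 1, 1, 1, 0, 1], [1, 0, 1, 0, 1, 1], [0, 0, 0, 1, 0, 0], [1, 0, 1, 1, 0, 0], [1, 0, 0, 0, 1, 0]]),
    ([6, 7, 1, 2, 5, 4, 0, 3], [[1, 1, 1, 1, 0, 0], [1, 0, 0, 1, 0, 0], [1, 1, 1, 0, 1, 0], [1, 0, 1, 0, 1, 0], [0, 0, 0, 0, 1, 0], [0, 1, 1, 0, 1, 1]]),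
    ([5, 2, 3, 7, 6, 0, 4, 1], [[1, 0, 1, 1, 0, 1], [1, 1, 0, 1, 0, 1], [1, 0, 1, 0, 1, 1], [0, 0, 0, 1, 0, 0], [1, 0, 1, 1, 0, 0], [0, 0, 1, 0, 1, 0]]),
    ([5, 7, 1, 2, 4, 0, 6, 3], [[1, 0, 1, 0, 1, 1], [0, 1, 1, 1, 0, 1], [1, 0, 1, 1, 0, 1], [0, 1, 0, 1, 1, 1], [1, 1, 1, 1, 1, 1], [1, 1, 0, 0, 0, 1]]),
    ([4, 2, 1, 7, 5, 6, 0, 3], [[1, 1, 1, 0, 1, 0], [1, 0, 0, 1, 0, 0], [1, 1, 1, 1, 0, 0], [0, 1, 0, 1, 1, 1], [1, 1, 1, 1, 1, 1], [1, 0, 0, 1, 1, 0]]),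
    ([0, 2, 1, 7, 4, 5, 6, 3], [[0, 1, 0, 0, 0, 0], [1, 0, 0, 0, 0, 0], [0, 1, 0, 1, 1, 0], [1, 0, 1, 0, 1, 0], [0, 0, 0, 0, 1, 0], [1, 1, 0, 0, 0, 1]]),
    ([0, 7, 3, 2, 6, 5, 4, 1], [[0, 1, 0, 1, 1, 0], [0, 0, 1, 0, 0, 0], [0, 1, 0, 0, 0, 0], [1, 1, 1, 0, 0, 1], [0, 1, 0, 0, 0, 1], [0, 0, 1, 0, 1, 0]]),
    ([6, 2, 3, 7, 0, 4, 5, 1], [[1, 0, 1, 0, 0, 1], [0, 1, 1, 1, 1, 1], [1, 0, 1, 1, 1, 1], [1, 1, 1, 0, 0, 1], [0, 1, 0, 0, 0, 1], [1, 1, 0, 0, 1, 1]]),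
    ([2, 5, 6, 0, 3, 7, 1, 4], [[1, 0, 1, 1, 0, 1], [1, 0, 1, 0, 0, 1], [0, 1, 0, 0, 0, 0], [0, 1, 1, 0, 0, 0], [0, 0, 1, 0, 1, 1], [0, 0, 1, 0, 1, 0]]),
    ([2, 0, 4, 5, 1, 7, 3, 6], [[1, 0, 1, 0, 1, 1], [1, 1, 1, 1, 0, 0], [0, 1, 0, 1, 1, 0], [1, 1, 0, 1, 1, 0], [1, 0, 0, 1, 0, 1], [1, 1, 0, 0, 0, 1]]),
    ([1, 5, 4, 0, 2, 3, 7, 6], [[1, 1, 1, 0, 1, 0], [1, 0, 1, 1, 0, 1], [1, 0, 1, 0, 0, 1], [0, 1, 1, 1, 1, 0], [1, 0, 0, 0, 1, 1], [1, 0, 0, 1, 1, 0]]),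
    ([2, 4, 0, 6, 1, 7, 3, 5], [[1, 1, 0, 1, 0, 1], [0, 0, 1, 1, 0, 0], [0, 0, 1, 0, 0, 0], [0, 1, 1, 0, 0, 0], [0, 0, 1, 0, 1, 1], [0, 0, 0, 0, 0, 1]]),
    ([2, 6, 5, 4, 3, 7, 1, 0], [[0, 1, 1, 1, 0, 1], [1, 1, 0, 1, 1, 1], [1, 0, 0, 0, 0, 0], [1, 1, 0, 1, 1, 0], [1, 0, 0, 1, 0, 1], [0, 1, 0, 1, 0, 0]]),
    ([2, 0, 6, 5, 1, 7, 3, 4], [[1, 0, 1, 0, 1, 1], [1, 1, 1, 1, 0, 0], [0, 1, 0, 1, 1, 0], [0, 1, 1, 1, 1, 0], [0, 0, 1, 1, 0, 1], [0, 1, 1, 0, 0, 1]]),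
    ([2, 5, 4, 0, 3, 7, 1, 6], [[1, 0, 1, 1, 0, 1], [1, 0, 1, 0, 0, 1], [0, 1, 0, 0, 0, 0], [1, 1, 0, 0, 0, 0], [1, 0, 0, 0, 1, 1], [1, 0, 0, 0, 1, 0]]),
    ([7, 0, 4, 5, 3, 2, 1, 6], [[0, 1, 0, 1, 1, 0], [1, 0, 1, 1, 1, 1], [1, 0, 1, 0, 1, 1], [1, 1, 0, 1, 1, 0], [1, 0, 0, 1, 0, 1], [1, 0, 0, 0, 1, 0]]),
    ([7, 5, 6, 0, 1, 2, 3, 4], [[0, 1, 0, 0, 0, 0], [1, 1, 1, 0, 1, 0], [1, 0, 1, 1, 0, 1], [0, 1, 1, 0, 0, 0], [0, 0, 1, 0, 1, 1], [0, 1, 1, 0, 0, 1]]),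
    ([1, 0, 6, 5, 7, 3, 2, 4], [[1, 0, 1, 1, 1, 1], [1, 0, 1, 0, 1, 1], [1, 1, 1, 1, 0, 0], [1, 1, 0, 0, 0, 0], [0, 0, 1, 1, 0, 1], [0, 0, 1, 1, 1, 0]]),
    ([1, 0, 4, 5, 2, 3, 7, 6], [[1, 1, 1, 1, 0, 0], [1, 0, 1, 0, 1, 1], [1, 0, 1, 1, 1, 1], [0, 1, 1, 0, 0, 0], [1, 0, 0, 1, 0, 1], [1, 0, 0, 1, 1, 0]]),
    ([1, 5, 6, 0, 7, 3, 2, 4], [[1, 0, 1, 0, 0, 1], [1, 0, 1, 1, 0, 1], [1, 1, 1, 0, 1, 0], [1, 1, 0, 1, 1, 0], [0, 0, 1, 0, 1, 1], [0, 0, 1, 1, 1, 0]]),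
    ([7, 0, 6, 5, 1, 2, 3, 4], [[0, 1, 0, 1, 1, 0], [1, 1, 1, 1, 0, 0], [1, 0, 1, 0, 1, 1], [0, 1, 1, 1, 1, 0], [0, 0, 1, 1, 0, 1], [0, 1, 1, 0, 0, 1]]),
    ([3, 0, 6, 5, 7, 1, 2, 4], [[1, 0, 1, 1, 1, 1], [0, 1, 0, 1, 1, 0], [1, 1, 1, 1, 0, 0], [1, 1, 0, 0, 0, 0], [0, 0, 1, 1, 0, 1], [1, 1, 0, 0, 1, 1]]),
    ([3, 5, 4, 0, 2, 1, 7, 6], [[1, 1, 1, 0, 1, 0], [0, 1, 0, 0, 0, 0], [1, 0, 1, 0, 0, 1], [0, 1, 1, 1, 1, 0], [1, 0, 0, 0, 1, 1], [0, 1, 1, 0, 1, 1]]),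
    ([2, 0, 4, 5, 3, 7, 1, 6], [[1, 0, 1, 0, 1, 1], [1, 0, 1, 1, 1, 1], [0, 1, 0, 1, 1, 0], [1, 1, 0, 1, 1, 0], [1, 0, 0, 1, 0, 1], [1, 0, 0, 0, 1, 0]]),
    ([2, 5, 6, 0, 1, 7, 3, 4], [[1, 0, 1, 1, 0, 1], [1, 1, 1, 0, 1, 0], [0, 1, 0, 0, 0, 0], [0, 1, 1, 0, 0, 0], [0, 0, 1, 0, 1, 1], [0, 1, 1, 0, 0, 1]]),
    ([1, 0, 6, 5, 2, 3, 7, 4], [[1, 1, 1, 1, 0, 0], [1, 0, 1, 0, 1, 1], [1, 0, 1, 1, 1, 1], [1, 1, 0, 0, 0, 0], [0, 0, 1, 1, 0, 1], [0, 0, 1, 1, 1, 0]]),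
    ([7, 5, 4, 0, 3, 2, 1, 6], [[0, 1, 0, 0, 0, 0], [1, 0, 1, 0, 0, 1], [1, 0, 1, 1, 0, 1], [1, 1, 0, 0, 0, 0], [1, 0, 0, 0, 1, 1], [1, 0, 0, 0, 1, 0]]),
    ([3, 0, 4, 5, 7, 1, 2, 6], [[1, 0, 1, 1, 1, 1], [0, 1, 0, 1, 1, 0], [1, 1, 1, 1, 0, 0], [0, 1, 1, 0, 0, 0], [1, 0, 0, 1, 0, 1], [0, 1, 1, 0, 1, 1]]),
    ([7, 4, 5, 6, 3, 2, 1, 0], [[1, 0, 0, 0, 0, 0], [1, 1, 0, 1, 1, 1], [0, 1, 1, 1, 0, 1], [1, 1, 0, 0, 0, 0], [1, 0, 0, 0, 1, 1], [0, 1, 0, 0, 1, 0]]),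
    ([7, 6, 0, 4, 1, 2, 3, 5], [[0, 0, 1, 0, 0, 0], [0, 0, 1, 1, 0, 0], [1, 1, 0, 1, 0, 1], [0, 1, 1, 1, 1, 0], [0, 0, 1, 1, 0, 1], [0, 0, 0, 1, 1, 1]]),
    ([7, 5, 6, 0, 3, 2, 1, 4], [[0, 1, 0, 0, 0, 0], [1, 0, 1, 0, 0, 1], [1, 0, 1, 1, 0, 1], [0, 1, 1, 0, 0, 0], [0, 0, 1, 0, 1, 1], [0, 0, 1, 0, 1, 0]]),
    ([7, 0, 4, 5, 1, 2, 3, 6], [[0, 1, 0, 1, 1, 0], [1, 1, 1, 1, 0, 0], [1, 0, 1, 0, 1, 1], [1, 1, 0, 1, 1, 0], [1, 0, 0, 1, 0, 1], [1, 1, 0, 0, 0, 1]]),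
    ([1, 5, 4, 0, 7, 3, 2, 6], [[1, 0, 1, 0, 0, 1], [1, 0, 1, 1, 0, 1], [1, 1, 1, 0, 1, 0], [0, 1, 1, 1, 1, 0], [1, 0, 0, 0, 1, 1], [1, 0, 0, 1, 1, 0]]),
    ([2, 5, 4, 0, 1, 7, 3, 6], [[1, 0, 1, 1, 0, 1], [1, 1, 1, 0, 1, 0], [0, 1, 0, 0, 0, 0], [1, 1, 0, 0, 0, 0], [1, 0, 0, 0, 1, 1], [1, 1, 0, 0, 0, 1]]),
    ([2, 0, 6, 5, 3, 7, 1, 4], [[1, 0, 1, 0, 1, 1], [1, 0, 1, 1, 1, 1], [0, 1, 0, 1, 1, 0], [0, 1, 1, 1, 1, 0], [0, 0, 1, 1, 0, 1], [0, 0, 1, 0, 1, 0]]),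
    ([3, 5, 6, 0, 2, 1, 7, 4], [[1, 1, 1, 0, 1, 0], [0, 1, 0, 0, 0, 0], [1, 0, 1, 0, 0, 1], [1, 1, 0, 1, 1, 0], [0, 0, 1, 0, 1, 1], [1, 1, 0, 0, 1, 1]]),
    ([3, 5, 4, 0, 7, 1, 2, 6], [[1, 0, 1, 0, 0, 1], [0, 1, 0, 0, 0, 0], [1, 1, 1, 0, 1, 0], [0, 1, 1, 1, 1, 0], [1, 0, 0, 0, 1, 1], [0, 1, 1, 0, 1, 1]]),
    ([3, 0, 6, 5, 2, 1, 7, 4], [[1, 1, 1, 1, 0, 0], [0, 1, 0, 1, 1, 0], [1, 0, 1, 1, 1, 1], [1, 1, 0, 0, 0, 0], [0, 0, 1, 1, 0, 1], [1, 1, 0, 0, 1, 1]]),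
    ([7, 6, 5, 4, 3, 2, 1, 0], [[1, 0, 0, 0, 0, 0], [1, 1, 0, 1, 1, 1], [0, 1, 1, 1, 0, 1], [1, 1, 0, 1, 1, 0], [1, 0, 0, 1, 0, 1], [0, 1, 0, 1, 0, 0]]),
    ([7, 4, 0, 6, 1, 2, 3, 5], [[0, 0, 1, 0, 0, 0], [0, 0, 1, 1, 0, 0], [1, 1, 0, 1, 0, 1], [0, 1, 1, 0, 0, 0], [0, 0, 1, 0, 1, 1], [0, 0, 0, 0, 0, 1]]),
    ([1, 6, 0, 4, 7, 3, 2, 5], [[0, 1, 1, 1, 1, 1], [1, 1, 0, 1, 0, 1], [0, 0, 1, 1, 0, 0], [1, 1, 0, 0, 0, 0], [0, 0, 1, 1, 0, 1], [1, 1, 1, 1, 1, 0]]),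
    ([2, 6, 0, 4, 1, 7, 3, 5], [[1, 1, 0, 1, 0, 1], [0, 0, 1, 1, 0, 0], [0, 0, 1, 0, 0, 0], [0, 1, 1, 1, 1, 0], [0, 0, 1, 1, 0, 1], [0, 0, 0, 1, 1, 1]]),
    ([2, 4, 5, 6, 3, 7, 1, 0], [[0, 1, 1, 1, 0, 1], [1, 1, 0, 1, 1, 1], [1, 0, 0, 0, 0, 0], [1, 1, 0, 0, 0, 0], [1, 0, 0, 0, 1, 1], [0, 1, 0, 0, 1, 0]]),
    ([3, 6, 5, 4, 2, 1, 7, 0], [[1, 0, 0, 1, 0, 0], [1, 0, 0, 0, 0, 0], [1, 1, 0, 1, 1, 1], [0, 1, 1, 0, 0, 0], [1, 0, 0, 1, 0, 1], [0, 0, 0, 0, 1, 1]]),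
    ([1, 4, 5, 6, 2, 3, 7, 0], [[1, 0, 0, 1, 0, 0], [0, 1, 1, 1, 0, 1], [1, 1, 0, 1, 1, 1], [0, 1, 1, 1, 1, 0], [1, 0, 0, 0, 1, 1], [1, 1, 1, 0, 0, 0]]),
    ([3, 4, 0, 6, 7, 1, 2, 5], [[0, 1, 1, 1, 1, 1], [0, 0, 1, 0, 0, 0], [0, 0, 1, 1, 0, 0], [1, 1, 0, 1, 1, 0], [0, 0, 1, 0, 1, 1], [0, 0, 0, 1, 0, 1]]),
    ([3, 4, 5, 6, 7, 1, 2, 0], [[1, 1, 0, 1, 1, 1], [1, 0, 0, 0, 0, 0], [1, 0, 0, 1, 0, 0], [0, 1, 1, 1, 1, 0], [1, 0, 0, 0, 1, 1], [0, 0, 0, 1, 0, 1]]),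
    ([1, 4, 0, 6, 2, 3, 7, 5], [[0, 0, 1, 1, 0, 0], [1, 1, 0, 1, 0, 1], [0, 1, 1, 1, 1, 1], [1, 1, 0, 1, 1, 0], [0, 0, 1, 0, 1, 1], [1, 1, 1, 0, 0, 0]]),
    ([4, 7, 3, 2, 5, 6, 0, 1], [[1, 1, 1, 1, 0, 0], [0, 0, 1, 1, 0, 0], [1, 1, 1, 0, 1, 0], [0, 1, 0, 1, 1, 1], [1, 1, 1, 1, 1, 1], [0, 0, 1, 1, 1, 0]]),
    ([4, 2, 1, 7, 0, 6, 5, 3], [[1, 0, 1, 0, 0, 1], [1, 1, 0, 1, 1, 1], [1, 0, 1, 1, 1, 1], [0, 0, 0, 1, 0, 0], [1, 0, 1, 1, 0, 0], [1, 0, 0, 1, 1, 0]]),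
    ([6, 7, 1, 2, 0, 4, 5, 3], [[1, 0, 1, 1, 1, 1], [1, 1, 0, 1, 1, 1], [1, 0, 1, 0, 0, 1], [1, 1, 1, 0, 0, 1], [0, 1, 0, 0, 0, 1], [0, 1, 1, 0, 1, 1]]),
    ([6, 2, 3, 7, 5, 4, 0, 1], [[1, 1, 1, 0, 1, 0], [0, 0, 1, 1, 0, 0], [1, 1, 1, 1, 0, 0], [1, 0, 1, 0, 1, 0], [0, 0, 0, 0, 1, 0], [1, 1, 0, 0, 1, 1]]),
    ([6, 7, 3, 2, 5, 4, 0, 1], [[1, 1, 1, 1, 0, 0], [0, 0, 1, 1, 0, 0], [1, 1, 1, 0, 1, 0], [1, 0, 1, 0, 1, 0], [0, 0, 0, 0, 1, 0], [1, 1, 0, 0, 1, 1]]),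
    ([4, 7, 1, 2, 0, 6, 5, 3], [[1, 0, 1, 1, 1, 1], [1, 1, 0, 1, 1, 1], [1, 0, 1, 0, 0, 1], [0, 0, 0, 1, 0, 0], [1, 0, 1, 1, 0, 0], [1, 0, 0, 1, 1, 0]]),
    ([4, 2, 3, 7, 5, 6, 0, 1], [[1, 1, 1, 0, 1, 0], [0, 0, 1, 1, 0, 0], [1, 1, 1, 1, 0, 0], [0, 1, 0, 1, 1, 1], [1, 1, 1, 1, 1, 1], [0, 0, 1, 1, 1, 0]]),
    ([6, 2, 1, 7, 0, 4, 5, 3], [[1, 0, 1, 0, 0, 1], [1, 1, 0, 1, 1, 1], [1, 0, 1, 1, 1, 1], [1, 1, 1, 0, 0, 1], [0, 1, 0, 0, 0, 1], [0, 1, 1, 0, 1, 1]])]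
  par := [(0, 0), (0, 0), (0, 1), (0, 2), (1, 0), (1, 1), (1, 2), (2, 0), (2, 1), (2, 2), (3, 0), (3, 1), (4, 0), (4, 1), (4, 2), (5, 0), (5, 1), (5, 2), (6, 0), (6, 1), (7, 0), (7, 1), (7, 2), (8, 0), (8, 1), (8, 2), (9, 0), (10, 0), (10, 1), (10, 2), (11, 0), (11, 1), (11, 2), (12, 1), (12, 2), (13, 0), (13, 1), (13, 2), (14, 0), (14, 1), (15, 0), (15, 1), (15, 2), (16, 0), (16, 1), (16, 2), (17, 0), (18, 0), (18, 1), (18, 2), (19, 0), (19, 1), (19, 2), (20, 1), (20, 2), (21, 1), (21, 2), (22, 0), (22, 1), (23, 0), (23, 1), (23, 2), (24, 0), (24, 1), (24, 2), (25, 0), (26, 0), (26, 1), (27, 0), (27, 1), (27, 2), (28, 0), (28, 1), (28, 2), (30, 0), (30, 1), (30, 2), (31, 0), (31, 1), (31, 2), (33, 0), (33,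 1), (33, 2), (34, 0), (34, 1), (35, 0), (35, 1), (36, 0), (36, 1), (36, 2), (38, 0), (38, 1), (38, 2), (39, 0), (39, 1), (39, 2), (40, 1), (40, 2), (41, 1), (41, 2), (42, 0), (42, 1), (43, 0), (43, 1), (43, 2), (44, 0), (44, 1), (44, 2), (46, 0), (46, 1), (47, 0), (47, 1), (47, 2), (48, 0), (48, 1), (48, 2), (50, 2), (51, 2), (66, 2), (67, 2), (80, 0), (80, 1), (81, 0), (81, 1), (83, 2), (84, 2), (85, 1), (86, 1)]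
  step := [[1, 2, 3], [4, 5, 6], [7, 8, 9], [10, 11, 0], [12, 13, 14], [15, 16, 17], [18, 19, 1], [20, 21, 22], [23, 24, 25], [26, 3, 2], [27, 28, 29], [30, 31, 32], [0, 33, 34], [35, 36, 37], [38, 39, 4], [40, 41, 42], [43, 44, 45], [46, 6, 5], [47, 48, 49], [50, 51, 52], [52, 53, 54], [49, 55, 56], [57, 58, 7], [59, 60, 61], [62, 63, 64], [65, 9, 8], [66, 67, 35], [68, 69, 70], [71, 72, 73], [41, 40, 10], [74, 75, 76], [77, 78, 79], [33, 0, 11], [80, 81, 82], [83, 84, 12], [85, 86, 26], [87, 88, 89], [22, 14, 13], [90, 91, 92], [93, 94, 95], [95, 96, 97], [92, 98, 99], [100, 101, 15], [102, 103, 104], [105, 106, 107], [25, 17, 16], [108, 109, 80], [110, 111, 112], [113, 114, 115], [86, 85, 18], [28, 27,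 116], [31, 30, 117], [2, 1, 19], [81, 80, 109], [84, 83, 20], [88, 87, 108], [14, 22, 21], [107, 99, 98], [104, 97, 96], [96, 95, 94], [98, 92, 91], [101, 100, 23], [103, 102, 93], [106, 105, 90], [17, 25, 24], [89, 82, 81], [111, 110, 118], [114, 113, 119], [3, 26, 86], [82, 89, 88], [112, 116, 27], [19, 18, 85], [109, 108, 87], [118, 29, 28], [97, 104, 103], [99, 107, 106], [115, 117, 30], [94, 93, 102], [91, 90, 105], [119, 32, 31], [120, 121, 46], [122, 123, 65], [42, 34, 33], [75, 74, 124], [78, 77, 125], [125, 126, 71], [124, 127, 68], [79, 73, 72], [76, 70, 69], [45, 37, 36], [56, 64, 63], [54, 61, 60], [121, 120, 38], [48, 47, 62], [51, 50, 59], [5, 4, 39], [8, 7, 58], [11, 10, 40], [123, 122, 57],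 [34, 42, 41], [69, 68, 127], [72, 71, 126], [126, 125, 77], [127, 124, 74], [67, 66, 43], [73, 79, 78], [70, 76, 75], [37, 45, 44], [64, 56, 55], [61, 54, 53], [6, 46, 121], [9, 65, 123], [63, 62, 47], [39, 38, 120], [58, 57, 122], [55, 49, 48], [60, 59, 50], [53, 52, 51], [44, 43, 66], [36, 35, 67], [32, 119, 113], [29, 118, 110], [117, 115, 114], [116, 112, 111], [21, 20, 83], [13, 12, 84], [16, 15, 101], [24, 23, 100]]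
  inv := [0, 12, 32, 3, 4, 120, 68, 125, 79, 9, 34, 11, 1, 80, 27, 85, 87, 111, 99, 97, 95, 92, 100, 102, 105, 25, 82, 14, 113, 86, 84, 31, 2, 33, 10, 35, 36, 66, 75, 74, 40, 41, 42, 43, 44, 45, 69, 56, 48, 49, 54, 51, 52, 53, 50, 55, 47, 57, 58, 59, 60, 61, 62, 63, 64, 65, 37, 67, 6, 46, 70, 71, 72, 123, 39, 38, 127, 77, 78, 8, 13, 119, 26, 83, 30, 15, 29, 16, 118, 89, 90, 93, 21, 91, 94, 20, 117, 19, 115, 18, 22, 114, 23, 116, 109, 24, 112, 108, 107, 104, 110, 17, 106, 28, 101, 98, 103, 96, 88, 81, 5, 121, 126, 73, 124, 7, 122, 76]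

/-- The table. -/
def altData : Table where
  gens := [([1, 0, 7, 6, 5, 4, 3, 2], [[1, 0, 1, 1], [0, 1, 1, 2], [2, 2, 2, 0], [2, 1, 0, 2]]),
    ([0, 2, 1, 3, 6, 5, 4, 7], [[1, 0, 0, 0], [2, 2, 0, 0], [0, 2, 1, 2], [1, 0, 0, 2]]),
    ([7, 4, 2, 0, 1, 3, 6, 5], [[1, 1, 2, 1], [2, 2, 0, 0], [0, 2, 2, 1], [1, 0, 1, 1]]),
    ([0, 1, 2, 3, 4, 5, 6, 7], [[2, 0, 0, 0], [0, 2, 0, 0], [0, 0, 2, 0], [0, 0, 0, 2]])]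
  elts := [([0, 1, 2, 3, 4, 5, 6, 7], [[1, 0, 0, 0], [0, 1, 0, 0], [0, 0, 1, 0], [0, 0, 0, 1]]),
    ([1, 0, 7, 6, 5, 4, 3, 2], [[1, 0, 1, 1], [0, 1, 1, 2], [2, 2, 2, 0], [2, 1, 0, 2]]),
    ([0, 2, 1, 3, 6, 5, 4, 7], [[1, 0, 0, 0], [2, 2, 0, 0], [0, 2, 1, 2], [1, 0, 0, 2]]),
    ([7, 4, 2, 0, 1, 3, 6, 5], [[1, 1, 2, 1], [2, 2, 0, 0], [0, 2, 2, 1], [1, 0, 1, 1]]),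
    ([0, 1, 2, 3, 4, 5, 6, 7], [[2, 0, 0, 0], [0, 2, 0, 0], [0, 0, 2, 0], [0, 0, 0, 2]]),
    ([1, 7, 0, 6, 3, 4, 5, 2], [[2, 2, 1, 1], [1, 1, 1, 0], [0, 2, 2, 1], [0, 2, 0, 1]]),
    ([2, 5, 7, 1, 0, 6, 3, 4], [[2, 0, 2, 0], [1, 1, 1, 0], [0, 1, 2, 1], [0, 1, 0, 1]]),
    ([1, 0, 7, 6, 5, 4, 3, 2], [[2, 0, 2, 2], [0, 2, 2, 1], [1, 1, 1, 0], [1, 2, 0, 1]]),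
    ([2, 0, 7, 4, 5, 6, 3, 1], [[1, 0, 1, 1], [2, 2, 1, 0], [0, 0, 1, 2], [2, 2, 1, 2]]),
    ([7, 6, 1, 0, 2, 3, 4, 5], [[1, 1, 2, 1], [0, 0, 1, 2], [0, 0, 1, 0], [0, 1, 1, 0]]),
    ([0, 2, 1, 3, 6, 5, 4, 7], [[2, 0, 0, 0], [1, 1, 0, 0], [0, 1, 2, 1], [2, 0, 0, 1]]),
    ([4, 7, 5, 6, 3, 1, 0, 2], [[1, 0, 0, 2], [2, 2, 1, 0], [0, 1, 0, 0], [2, 0, 0, 0]]),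
    ([7, 2, 4, 0, 6, 3, 1, 5], [[1, 0, 2, 0], [0, 1, 0, 0], [2, 2, 2, 0], [2, 2, 1, 1]]),
    ([5, 1, 2, 7, 4, 0, 6, 3], [[1, 1, 1, 1], [0, 0, 1, 2], [2, 2, 2, 0], [2, 0, 2, 0]]),
    ([7, 4, 2, 0, 1, 3, 6, 5], [[2, 2, 1, 2], [1, 1, 0, 0], [0, 1, 1, 2], [2, 0, 2, 2]]),
    ([7, 1, 2, 5, 4, 3, 6, 0], [[0, 2, 0, 2], [0, 0, 1, 0], [0, 1, 0, 0], [2, 0, 2, 0]]),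
    ([2, 3, 0, 1, 7, 6, 5, 4], [[1, 2, 1, 1], [0, 2, 1, 2], [2, 2, 2, 0], [2, 1, 1, 1]]),
    ([1, 7, 0, 6, 3, 4, 5, 2], [[1, 1, 2, 2], [2, 2, 2, 0], [0, 1, 1, 2], [0, 1, 0, 2]]),
    ([5, 2, 4, 3, 6, 0, 1, 7], [[0, 1, 0, 2], [0, 0, 1, 0], [0, 0, 2, 1], [2, 2, 1, 1]]),
    ([2, 7, 5, 1, 3, 6, 0, 4], [[2, 1, 2, 1], [0, 1, 1, 2], [0, 0, 2, 0], [0, 2, 0, 2]]),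
    ([4, 0, 7, 2, 5, 1, 3, 6], [[2, 0, 2, 1], [0, 2, 1, 2], [0, 0, 2, 0], [0, 2, 1, 1]]),
    ([2, 5, 7, 1, 0, 6, 3, 4], [[1, 0, 1, 0], [2, 2, 2, 0], [0, 2, 1, 2], [0, 2, 0, 2]]),
    ([2, 7, 0, 4, 3, 6, 5, 1], [[2, 2, 1, 1], [0, 0, 1, 2], [2, 2, 1, 0], [2, 0, 1, 0]]),
    ([1, 5, 7, 2, 0, 4, 3, 6], [[2, 0, 2, 0], [0, 2, 0, 0], [2, 2, 1, 0], [2, 2, 2, 2]]),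
    ([2, 0, 7, 4, 5, 6, 3, 1], [[2, 0, 2, 2], [1, 1, 2, 0], [0, 0, 2, 1], [1, 1, 2, 1]]),
    ([6, 7, 5, 4, 3, 2, 0, 1], [[1, 0, 0, 2], [0, 1, 2, 1], [2, 2, 2, 0], [2, 0, 0, 2]]),
    ([7, 1, 6, 0, 4, 3, 2, 5], [[1, 0, 2, 0], [2, 2, 1, 0], [0, 2, 1, 2], [2, 1, 1, 2]]),
    ([5, 2, 1, 7, 6, 0, 4, 3], [[1, 1, 1, 1], [2, 2, 1, 0], [0, 2, 2, 1], [2, 1, 2, 1]]),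
    ([7, 6, 1, 0, 2, 3, 4, 5], [[2, 2, 1, 2], [0, 0, 2, 1], [0, 0, 2, 0], [0, 2, 2, 0]]),
    ([4, 5, 7, 6, 0, 1, 3, 2], [[0, 0, 0, 1], [0, 0, 1, 2], [2, 2, 0, 0], [2, 0, 0, 0]]),
    ([2, 3, 5, 4, 7, 6, 0, 1], [[0, 1, 1, 0], [0, 2, 0, 0], [2, 2, 0, 0], [2, 2, 1, 2]]),
    ([4, 7, 5, 6, 3, 1, 0, 2], [[2, 0, 0, 1], [1, 1, 2, 0], [0, 2, 0, 0], [1, 0, 0, 0]]),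
    ([5, 6, 4, 7, 2, 0, 1, 3], [[1, 2, 0, 0], [2, 2, 0, 0], [0, 1, 2, 1], [1, 2, 1, 1]]),
    ([7, 2, 4, 0, 6, 3, 1, 5], [[2, 0, 1, 0], [0, 2, 0, 0], [1, 1, 1, 0], [1, 1, 2, 2]]),
    ([1, 5, 3, 6, 0, 4, 7, 2], [[2, 1, 1, 2], [0, 1, 2, 1], [0, 0, 2, 0], [0, 1, 0, 2]]),
    ([3, 4, 2, 5, 1, 7, 6, 0], [[1, 2, 2, 0], [2, 2, 1, 0], [0, 1, 2, 1], [2, 0, 2, 1]]),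
    ([5, 1, 2, 7, 4, 0, 6, 3], [[2, 2, 2, 2], [0, 0, 2, 1], [1, 1, 1, 0], [1, 0, 1, 0]]),
    ([7, 2, 1, 5, 6, 3, 4, 0], [[0, 1, 0, 1], [0, 2, 1, 2], [2, 2, 0, 0], [2, 1, 2, 1]]),
    ([0, 4, 2, 7, 1, 5, 6, 3], [[0, 1, 2, 2], [0, 2, 2, 1], [2, 2, 0, 0], [2, 0, 2, 1]]),
    ([7, 1, 2, 5, 4, 3, 6, 0], [[0, 1, 0, 1], [0, 0, 2, 0], [0, 2, 0, 0], [1, 0, 1, 0]]),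
    ([3, 2, 4, 5, 6, 7, 1, 0], [[2, 2, 2, 1], [0, 0, 1, 2], [0, 0, 2, 0], [0, 1, 2, 0]]),
    ([2, 0, 3, 1, 5, 6, 7, 4], [[0, 0, 1, 1], [0, 0, 1, 0], [0, 2, 2, 1], [2, 1, 1, 1]]),
    ([4, 7, 0, 2, 3, 1, 5, 6], [[0, 1, 2, 0], [0, 0, 1, 0], [0, 1, 2, 1], [2, 0, 1, 1]]),
    ([2, 3, 0, 1, 7, 6, 5, 4], [[2, 1, 2, 2], [0, 1, 2, 1], [1, 1, 1, 0], [1, 2, 2, 2]]),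
    ([5, 4, 2, 3, 1, 0, 6, 7], [[1, 2, 0, 1], [0, 2, 1, 2], [1, 1, 2, 0], [1, 0, 1, 1]]),
    ([7, 6, 4, 5, 2, 3, 1, 0], [[1, 2, 2, 2], [0, 2, 2, 1], [1, 1, 2, 0], [1, 2, 1, 1]]),
    ([5, 2, 4, 3, 6, 0, 1, 7], [[0, 2, 0, 1], [0, 0, 2, 0], [0, 0, 1, 2], [1, 1, 2, 2]]),
    ([4, 3, 5, 2, 7, 1, 0, 6], [[2, 2, 0, 2], [1, 1, 1, 0], [0, 1, 1, 2], [0, 1, 2, 2]]),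
    ([2, 7, 5, 1, 3, 6, 0, 4], [[1, 2, 1, 2], [0, 2, 2, 1], [0, 0, 1, 0], [0, 1, 0, 1]]),
    ([0, 4, 6, 3, 1, 5, 2, 7], [[2, 2, 0, 1], [0, 0, 1, 2], [1, 1, 1, 0], [1, 2, 1, 0]]),
    ([6, 5, 7, 4, 0, 2, 3, 1], [[0, 0, 0, 2], [0, 0, 1, 0], [0, 1, 1, 2], [2, 0, 0, 2]]),
    ([4, 0, 7, 2, 5, 1, 3, 6], [[1, 0, 1, 2], [0, 1, 2, 1], [0, 0, 1, 0], [0, 1, 2, 2]]),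
    ([7, 2, 1, 5, 6, 3, 4, 0], [[0, 2, 0, 2], [0, 1, 2, 1], [1, 1, 0, 0], [1, 2, 1, 2]]),
    ([1, 3, 0, 2, 7, 4, 5, 6], [[1, 2, 1, 1], [2, 2, 1, 0], [0, 2, 0, 0], [2, 1, 0, 0]]),
    ([2, 7, 0, 4, 3, 6, 5, 1], [[1, 1, 2, 2], [0, 0, 2, 1], [1, 1, 2, 0], [1, 0, 2, 0]]),
    ([5, 1, 6, 3, 4, 0, 2, 7], [[0, 1, 0, 2], [0, 2, 2, 1], [1, 1, 0, 0], [1, 2, 2, 1]]),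
    ([1, 7, 5, 2, 3, 4, 0, 6], [[2, 1, 2, 1], [1, 1, 0, 0], [0, 0, 1, 2], [2, 2, 2, 2]]),
    ([6, 0, 7, 1, 5, 2, 3, 4], [[2, 0, 2, 1], [1, 1, 0, 0], [0, 2, 0, 0], [2, 1, 1, 0]]),
    ([1, 5, 7, 2, 0, 4, 3, 6], [[1, 0, 1, 0], [0, 1, 0, 0], [1, 1, 2, 0], [1, 1, 1, 1]]),
    ([6, 5, 7, 4, 0, 2, 3, 1], [[0, 0, 0, 1], [0, 0, 2, 0], [0, 2, 2, 1], [1, 0, 0, 1]]),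
    ([1, 3, 5, 6, 7, 4, 0, 2], [[0, 1, 1, 0], [0, 0, 2, 0], [0, 1, 2, 1], [1, 2, 0, 1]]),
    ([6, 7, 5, 4, 3, 2, 0, 1], [[2, 0, 0, 1], [0, 2, 1, 2], [1, 1, 1, 0], [1, 0, 0, 1]]),
    ([5, 4, 6, 7, 1, 0, 2, 3], [[1, 2, 0, 0], [0, 2, 0, 0], [0, 0, 1, 0], [0, 0, 2, 2]]),
    ([7, 1, 6, 0, 4, 3, 2, 5], [[2, 0, 1, 0], [1, 1, 2, 0], [0, 1, 2, 1], [1, 2, 2, 1]]),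
    ([2, 5, 3, 4, 0, 6, 7, 1], [[2, 1, 1, 2], [1, 1, 0, 0], [0, 1, 0, 0], [2, 0, 1, 0]]),
    ([3, 6, 1, 5, 2, 7, 4, 0], [[1, 2, 2, 0], [0, 2, 0, 0], [2, 2, 2, 0], [2, 2, 0, 2]]),
    ([5, 2, 1, 7, 6, 0, 4, 3], [[2, 2, 2, 2], [1, 1, 2, 0], [0, 1, 1, 2], [1, 2, 1, 2]]),
    ([5, 4, 2, 3, 1, 0, 6, 7], [[2, 1, 0, 2], [0, 1, 2, 1], [2, 2, 1, 0], [2, 0, 2, 2]]),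
    ([4, 5, 7, 6, 0, 1, 3, 2], [[0, 0, 0, 2], [0, 0, 2, 1], [1, 1, 0, 0], [1, 0, 0, 0]]),
    ([3, 2, 1, 0, 6, 7, 4, 5], [[2, 0, 0, 2], [0, 2, 2, 1], [2, 2, 1, 0], [2, 0, 0, 1]]),
    ([2, 3, 5, 4, 7, 6, 0, 1], [[0, 2, 2, 0], [0, 1, 0, 0], [1, 1, 0, 0], [1, 1, 2, 1]]),
    ([6, 5, 3, 1, 0, 2, 7, 4], [[1, 2, 0, 2], [2, 2, 1, 0], [0, 0, 2, 1], [2, 2, 2, 1]]),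
    ([5, 4, 6, 7, 1, 0, 2, 3], [[2, 1, 0, 0], [0, 1, 0, 0], [0, 0, 2, 0], [0, 0, 1, 1]]),
    ([5, 6, 4, 7, 2, 0, 1, 3], [[2, 1, 0, 0], [1, 1, 0, 0], [0, 2, 1, 2], [2, 1, 2, 2]]),
    ([2, 0, 3, 1, 5, 6, 7, 4], [[0, 0, 2, 2], [0, 0, 2, 0], [0, 1, 1, 2], [1, 2, 2, 2]]),
    ([1, 5, 3, 6, 0, 4, 7, 2], [[1, 2, 2, 1], [0, 2, 1, 2], [0, 0, 1, 0], [0, 2, 0, 1]]),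
    ([4, 3, 0, 6, 7, 1, 5, 2], [[2, 0, 1, 2], [1, 1, 0, 0], [0, 0, 2, 1], [2, 2, 0, 1]]),
    ([3, 4, 2, 5, 1, 7, 6, 0], [[2, 1, 1, 0], [1, 1, 2, 0], [0, 2, 1, 2], [1, 0, 1, 2]]),
    ([0, 6, 1, 7, 2, 5, 4, 3], [[0, 2, 1, 1], [0, 0, 1, 0], [0, 0, 1, 2], [2, 2, 0, 2]]),
    ([4, 0, 3, 6, 5, 1, 7, 2], [[2, 1, 2, 0], [0, 1, 0, 0], [2, 2, 1, 0], [2, 2, 0, 1]]),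
    ([0, 2, 4, 7, 6, 5, 1, 3], [[1, 0, 2, 2], [2, 2, 2, 0], [0, 1, 0, 0], [0, 1, 2, 0]]),
    ([3, 1, 2, 0, 4, 7, 6, 5], [[1, 0, 0, 1], [2, 2, 2, 0], [0, 0, 1, 2], [0, 0, 0, 2]]),
    ([0, 4, 2, 7, 1, 5, 6, 3], [[0, 2, 1, 1], [0, 1, 1, 2], [1, 1, 0, 0], [1, 0, 1, 2]]),
    ([0, 6, 4, 3, 2, 5, 1, 7], [[1, 1, 0, 2], [2, 2, 1, 0], [0, 1, 1, 2], [2, 0, 1, 2]]),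
    ([3, 2, 4, 5, 6, 7, 1, 0], [[1, 1, 1, 2], [0, 0, 2, 1], [0, 0, 1, 0], [0, 2, 1, 0]]),
    ([4, 5, 3, 2, 0, 1, 7, 6], [[1, 2, 0, 2], [0, 2, 2, 1], [2, 2, 2, 0], [2, 0, 1, 1]]),
    ([7, 4, 6, 5, 1, 3, 2, 0], [[1, 2, 2, 2], [2, 2, 2, 0], [0, 0, 2, 1], [0, 0, 1, 1]]),
    ([6, 3, 0, 4, 7, 2, 5, 1], [[2, 0, 1, 2], [0, 2, 2, 1], [0, 0, 2, 0], [0, 1, 1, 1]]),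
    ([4, 7, 0, 2, 3, 1, 5, 6], [[0, 2, 1, 0], [0, 0, 2, 0], [0, 2, 1, 2], [1, 0, 2, 2]]),
    ([6, 7, 0, 1, 3, 2, 5, 4], [[0, 2, 1, 0], [0, 1, 0, 0], [2, 2, 0, 0], [2, 2, 2, 1]]),
    ([7, 6, 4, 5, 2, 3, 1, 0], [[2, 1, 1, 1], [0, 1, 1, 2], [2, 2, 1, 0], [2, 1, 2, 2]]),
    ([3, 4, 6, 0, 1, 7, 2, 5], [[0, 1, 1, 1], [0, 0, 1, 0], [0, 2, 0, 0], [2, 1, 2, 0]]),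
    ([4, 5, 3, 2, 0, 1, 7, 6], [[2, 1, 0, 1], [0, 1, 1, 2], [1, 1, 1, 0], [1, 0, 2, 2]]),
    ([4, 3, 5, 2, 7, 1, 0, 6], [[1, 1, 0, 1], [2, 2, 2, 0], [0, 2, 2, 1], [0, 2, 1, 1]]),
    ([0, 4, 6, 3, 1, 5, 2, 7], [[1, 1, 0, 2], [0, 0, 2, 1], [2, 2, 2, 0], [2, 1, 2, 0]]),
    ([5, 6, 1, 3, 2, 0, 4, 7], [[1, 2, 0, 1], [2, 2, 2, 0], [0, 2, 0, 0], [0, 2, 2, 0]]),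
    ([0, 6, 1, 7, 2, 5, 4, 3], [[0, 1, 2, 2], [0, 0, 2, 0], [0, 0, 2, 1], [1, 1, 0, 1]]),
    ([3, 1, 6, 5, 4, 7, 2, 0], [[2, 2, 2, 1], [1, 1, 0, 0], [0, 2, 2, 1], [2, 1, 0, 1]]),
    ([1, 0, 3, 2, 5, 4, 7, 6], [[0, 0, 1, 1], [0, 0, 1, 2], [1, 1, 0, 0], [1, 2, 0, 0]]),
    ([6, 7, 0, 1, 3, 2, 5, 4], [[0, 1, 2, 0], [0, 2, 0, 0], [1, 1, 0, 0], [1, 1, 1, 2]]),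
    ([1, 3, 0, 2, 7, 4, 5, 6], [[2, 1, 2, 2], [1, 1, 2, 0], [0, 1, 0, 0], [1, 2, 0, 0]]),
    ([5, 1, 6, 3, 4, 0, 2, 7], [[0, 2, 0, 1], [0, 1, 1, 2], [2, 2, 0, 0], [2, 1, 1, 2]]),
    ([6, 3, 5, 1, 7, 2, 0, 4], [[2, 2, 0, 2], [0, 0, 2, 1], [2, 2, 1, 0], [2, 1, 1, 0]]),
    ([1, 7, 5, 2, 3, 4, 0, 6], [[1, 2, 1, 2], [2, 2, 0, 0], [0, 0, 2, 1], [1, 1, 1, 1]]),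
    ([0, 6, 4, 3, 2, 5, 1, 7], [[2, 2, 0, 1], [1, 1, 2, 0], [0, 2, 2, 1], [1, 0, 2, 1]]),
    ([6, 0, 7, 1, 5, 2, 3, 4], [[1, 0, 1, 2], [2, 2, 0, 0], [0, 1, 0, 0], [1, 2, 2, 0]]),
    ([5, 6, 1, 3, 2, 0, 4, 7], [[2, 1, 0, 2], [1, 1, 1, 0], [0, 1, 0, 0], [0, 1, 1, 0]]),
    ([3, 1, 2, 0, 4, 7, 6, 5], [[2, 0, 0, 2], [1, 1, 1, 0], [0, 0, 2, 1], [0, 0, 0, 1]]),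
    ([1, 3, 5, 6, 7, 4, 0, 2], [[0, 2, 2, 0], [0, 0, 1, 0], [0, 2, 1, 2], [2, 1, 0, 2]]),
    ([1, 0, 3, 2, 5, 4, 7, 6], [[0, 0, 2, 2], [0, 0, 2, 1], [2, 2, 0, 0], [2, 1, 0, 0]]),
    ([2, 5, 3, 4, 0, 6, 7, 1], [[1, 2, 2, 1], [2, 2, 0, 0], [0, 2, 0, 0], [1, 0, 2, 0]]),
    ([3, 6, 1, 5, 2, 7, 4, 0], [[2, 1, 1, 0], [0, 1, 0, 0], [1, 1, 1, 0], [1, 1, 0, 1]]),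
    ([3, 2, 1, 0, 6, 7, 4, 5], [[1, 0, 0, 1], [0, 1, 1, 2], [1, 1, 2, 0], [1, 0, 0, 2]]),
    ([6, 3, 5, 1, 7, 2, 0, 4], [[1, 1, 0, 1], [0, 0, 1, 2], [1, 1, 2, 0], [1, 2, 2, 0]]),
    ([4, 0, 3, 6, 5, 1, 7, 2], [[1, 2, 1, 0], [0, 2, 0, 0], [1, 1, 2, 0], [1, 1, 0, 2]]),
    ([6, 5, 3, 1, 0, 2, 7, 4], [[2, 1, 0, 1], [1, 1, 2, 0], [0, 0, 1, 2], [1, 1, 1, 2]]),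
    ([3, 1, 6, 5, 4, 7, 2, 0], [[1, 1, 1, 2], [2, 2, 0, 0], [0, 1, 1, 2], [1, 2, 0, 2]]),
    ([0, 2, 4, 7, 6, 5, 1, 3], [[2, 0, 1, 1], [1, 1, 1, 0], [0, 2, 0, 0], [0, 2, 1, 0]]),
    ([4, 3, 0, 6, 7, 1, 5, 2], [[1, 0, 2, 1], [2, 2, 0, 0], [0, 0, 1, 2], [1, 1, 0, 2]]),
    ([6, 0, 3, 4, 5, 2, 7, 1], [[1, 2, 1, 0], [2, 2, 2, 0], [0, 1, 2, 1], [0, 1, 1, 1]]),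
    ([0, 1, 6, 7, 4, 5, 2, 3], [[2, 0, 1, 1], [0, 2, 1, 2], [2, 2, 1, 0], [2, 1, 0, 1]]),
    ([3, 6, 4, 0, 2, 7, 1, 5], [[0, 2, 2, 2], [0, 1, 2, 1], [2, 2, 0, 0], [2, 0, 1, 2]]),
    ([0, 1, 6, 7, 4, 5, 2, 3], [[1, 0, 2, 2], [0, 1, 2, 1], [1, 1, 2, 0], [1, 2, 0, 2]]),
    ([7, 4, 6, 5, 1, 3, 2, 0], [[2, 1, 1, 1], [1, 1, 1, 0], [0, 0, 1, 2], [0, 0, 2, 2]]),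
    ([6, 3, 0, 4, 7, 2, 5, 1], [[1, 0, 2, 1], [0, 1, 1, 2], [0, 0, 1, 0], [0, 2, 2, 2]]),
    ([3, 6, 4, 0, 2, 7, 1, 5], [[0, 1, 1, 1], [0, 2, 1, 2], [1, 1, 0, 0], [1, 0, 2, 1]]),
    ([3, 4, 6, 0, 1, 7, 2, 5], [[0, 2, 2, 2], [0, 0, 2, 0], [0, 1, 0, 0], [1, 2, 1, 0]]),
    ([6, 0, 3, 4, 5, 2, 7, 1], [[2, 1, 2, 0], [1, 1, 1, 0], [0, 2, 1, 2], [0, 2, 2, 2]])]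
  par := [(0, 0), (0, 0), (0, 1), (0, 2), (0, 3), (1, 1), (1, 2), (1, 3), (2, 0), (2, 2), (2, 3), (3, 0), (3, 1), (3, 2), (3, 3), (5, 0), (5, 2), (5, 3), (6, 0), (6, 1), (6, 2), (6, 3), (8, 1), (8, 2), (8, 3), (9, 0), (9, 1), (9, 2), (9, 3), (11, 1), (11, 2), (11, 3), (12, 2), (12, 3), (13, 0), (13, 2), (13, 3), (15, 1), (15, 2), (15, 3), (16, 0), (16, 1), (16, 2), (16, 3), (18, 1), (18, 2), (18, 3), (19, 2), (19, 3), (20, 0), (20, 2), (20, 3), (22, 0), (22, 2), (22, 3), (23, 0), (23, 1), (23, 2), (23, 3), (25, 1), (25, 2), (25, 3), (26, 2), (26, 3), (27, 0), (27, 2), (27, 3), (29, 0), (29, 3), (30, 0), (30, 3), (32, 0), (32, 1), (32, 3), (34, 2), (34, 3), (35, 0), (35, 3), (37, 2), (38, 0), (38, 1), (38,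 2), (38, 3), (40, 2), (40, 3), (41, 2), (42, 0), (42, 2), (42, 3), (45, 0), (45, 3), (47, 0), (47, 1), (47, 3), (49, 3), (50, 0), (52, 2), (53, 0), (53, 1), (53, 2), (53, 3), (55, 3), (56, 2), (56, 3), (57, 0), (57, 3), (59, 0), (60, 0), (60, 3), (64, 2), (64, 3), (65, 3), (69, 3), (71, 1), (71, 2), (71, 3), (72, 2), (74, 0), (76, 3), (78, 0), (78, 1), (80, 2), (86, 2), (86, 3), (87, 3), (91, 1), (91, 3), (92, 2)]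
  step := [[1, 2, 3, 4], [4, 5, 6, 7], [8, 0, 9, 10], [11, 12, 13, 14], [7, 10, 14, 0], [15, 1, 16, 17], [18, 19, 20, 21], [0, 17, 21, 1], [10, 22, 23, 24], [25, 26, 27, 28], [24, 4, 28, 2], [14, 29, 30, 31], [19, 3, 32, 33], [34, 27, 35, 36], [31, 33, 36, 3], [17, 37, 38, 39], [40, 41, 42, 43], [39, 7, 43, 5], [21, 44, 45, 46], [33, 6, 47, 48], [49, 42, 50, 51], [46, 48, 51, 6], [52, 8, 53, 54], [55, 56, 57, 58], [2, 54, 58, 8], [28, 59, 60, 61], [56, 9, 62, 63], [64, 13, 65, 66], [61, 63, 66, 9], [67, 11, 8, 68], [69, 64, 56, 70], [3, 68, 70, 11], [71, 72, 40, 73], [48, 14, 73, 12], [36, 60, 74, 75], [76, 40, 4, 77], [75, 66, 77, 13], [22, 15, 78, 52], [79, 80, 81, 82], [5, 52, 82, 15], [43, 35, 83, 84],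 [80, 16, 85, 74], [86, 20, 87, 88], [84, 74, 88, 16], [29, 18, 15, 67], [89, 86, 80, 90], [6, 67, 90, 18], [91, 92, 61, 93], [12, 21, 93, 19], [51, 83, 26, 94], [95, 61, 7, 59], [94, 88, 59, 20], [54, 39, 96, 37], [97, 98, 99, 100], [37, 24, 100, 22], [58, 95, 86, 101], [63, 23, 102, 103], [104, 99, 68, 105], [101, 103, 105, 23], [106, 25, 1, 50], [107, 34, 19, 108], [9, 50, 108, 25], [85, 73, 97, 72], [103, 28, 72, 26], [66, 30, 109, 110], [87, 97, 10, 111], [110, 36, 111, 27], [68, 46, 39, 44], [44, 31, 24, 29], [70, 81, 95, 112], [112, 110, 103, 30], [73, 113, 114, 115], [92, 32, 116, 62], [115, 62, 84, 32], [117, 43, 92, 41], [13, 108, 41, 34], [77, 114, 54, 118], [118, 84, 0, 35], [119, 120, 69, 96],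 [82, 118, 110, 114], [74, 38, 121, 117], [60, 69, 67, 107], [114, 117, 107, 38], [57, 49, 33, 104], [16, 77, 104, 40], [72, 93, 119, 92], [88, 45, 122, 123], [111, 119, 17, 124], [123, 51, 124, 42], [90, 105, 118, 99], [99, 123, 117, 45], [93, 125, 55, 126], [62, 47, 127, 85], [126, 85, 25, 47], [20, 104, 63, 49], [59, 55, 52, 106], [127, 122, 112, 78], [100, 65, 94, 116], [122, 53, 71, 109], [45, 57, 76, 89], [116, 109, 89, 53], [23, 106, 123, 55], [125, 115, 31, 113], [26, 58, 113, 56], [105, 94, 12, 83], [83, 89, 29, 57], [50, 101, 37, 95], [108, 112, 44, 81], [81, 75, 48, 60], [120, 100, 115, 98], [27, 70, 98, 64], [124, 116, 2, 65], [30, 107, 106, 69], [121, 71, 11, 102], [38, 76, 64, 79], [32, 102, 79,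 71], [53, 111, 49, 97], [41, 82, 125, 80], [35, 79, 22, 76], [96, 87, 34, 127], [98, 78, 91, 122], [102, 126, 46, 125], [109, 96, 126, 120], [42, 90, 120, 86], [65, 127, 5, 87], [113, 91, 18, 121], [47, 121, 101, 91], [78, 124, 75, 119]]
  inv := [0, 7, 2, 77, 4, 24, 76, 1, 17, 84, 10, 50, 111, 36, 35, 15, 43, 8, 106, 87, 34, 118, 54, 114, 5, 61, 116, 66, 40, 68, 99, 59, 73, 65, 20, 14, 13, 52, 82, 39, 28, 100, 64, 16, 67, 90, 95, 71, 124, 94, 11, 75, 37, 74, 22, 101, 119, 60, 79, 31, 57, 25, 62, 97, 42, 33, 27, 44, 29, 112, 89, 47, 72, 32, 53, 51, 6, 3, 80, 58, 78, 81, 38, 83, 9, 92, 123, 19, 110, 70, 45, 126, 85, 115, 49, 46, 117, 63, 109, 30, 41, 55, 113, 127, 104, 108, 18, 107, 105, 98, 88, 12, 69, 102,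 23, 93, 26, 96, 21, 56, 122, 125, 120, 86, 48, 121, 91, 103]

end CfsgLib.SylowEight
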