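import Cfsg.Agent.LocalB.SylowEightChecks

/-!
The groups of the two tables.
-/

set_option autoImplicit false

namespace CfsgLib.SylowEight

theorem toF_eq_one {A : List ℕ} : toF A = 1 ↔ isId A = true := by
  rw [isId, List.all_eq_true]
  simp only [List.mem_range, beq_iff_eq]
  constructor
  · intro h i hi
    exact congrArg Fin.val (congrFun h ⟨i, hi⟩)
  · intro h
    funext x
    exact Fin.ext (h x x.2)

theorem toM_eq_scalar {n p c : ℕ} {A : List (List ℕ)} (hc : c < p) :
    toM n p A = Matrix.diagonal (fun _ => (c : ZMod p)) ↔ isScalar n p c A = true := by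
  simp only [isScalar, List.all_eq_true, List.mem_range, beq_iff_eq]
  haveI : NeZero p := ⟨by omega⟩
  constructor
  · intro h i hi j hj
    have h1 := congrArg ZMod.val (congrFun (congrFun h ⟨i, hi⟩) ⟨j, hj⟩)
    simp only [toM, Matrix.of_apply, ZMod.val_natCast, Matrix.diagonal_apply, Fin.mk.injEq] at h1
    split_ifs at h1 ⊢ with hij
    · rw [h1, ZMod.val_natCast, Nat.mod_eq_of_lt hc]
    · rw [h1, ZMod.val_zero]
  · intro h
    refine Matrix.ext fun i j => ?_
    show (((A.getD i []).getD j 0 : ℕ) : ZMod p) = _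
    rw [← ZMod.natCast_mod, h i i.2 j j.2, Matrix.diagonal_apply]
    by_cases hij : i = j
    · rw [if_pos hij, if_pos (congrArg Fin.val hij)]
    · rw [if_neg hij, if_neg (fun e => hij (Fin.ext e)), Nat.cast_zero]

theorem key_eq {n p : ℕ} {a b : Elem} (h : toMon n p a = toMon n p b) : key n p a = key n p b := by
  unfold key
  refine Prod.ext ?_ ?_ <;> dsimp only
  · refine List.map_congr_left fun i hi => ?_
    exact congrArg Fin.val (congrFun (congrArg Prod.fst h) ⟨i, List.mem_range.1 hi⟩)
  · refine List.map_congr_left fun i hi => List.map_congr_left fun j hj => ?_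
    have h1 := congrFun (congrFun (congrArg Prod.snd h) ⟨i, List.mem_range.1 hi⟩) ⟨j, List.mem_range.1 hj⟩
    simp only [toMon, toM, Matrix.of_apply] at h1
    exact (ZMod.natCast_eq_natCast_iff' _ _ _).1 h1

theorem injective_of_keys {T : Table} {n p N : ℕ}
    (h : ((List.range N).map fun i => key n p (T.elt i)).Nodup) :
    Function.Injective fun i : Fin N => T.val n p i := by
  intro i j e
  exact Fin.ext (List.inj_on_of_nodup_map h (List.mem_range.2 i.2) (List.mem_range.2 j.2) (key_eq e))

theorem sym_good : symData.Good 6 2 128 where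
  pos := by omega
  one := Prod.ext (toF_eq_one.2 sym_one.1)
    (((toM_eq_scalar (by omega)).2 sym_one.2).trans (by rw [Nat.cast_one]; exact Matrix.diagonal_one))
  parent i hi h0 := ⟨(sym_parent i hi h0).1, (sym_parent i hi h0).2, sym_parent_mul i hi h0⟩
  step i hi j hj := ⟨sym_step i hi j hj, sym_step_mul i hi j hj⟩
  inv i hi := ⟨sym_inv i hi, sym_inv_mul i hi⟩

theorem alt_good : altData.Good 4 3 128 where
  pos := by omega
  one := Prod.ext (toF_eq_one.2 alt_one.1)
    (((toM_eq_scalar (by omega)).2 alt_one.2).trans (by rw [Nat.cast_one]; exact Matrix.diagonal_one))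
  parent i hi h0 := ⟨(alt_parent i hi h0).1, (alt_parent i hi h0).2, alt_parent_mul i hi h0⟩
  step i hi j hj := ⟨alt_step i hi j hj, alt_step_mul i hi j hj⟩
  inv i hi := ⟨alt_inv i hi, alt_inv_mul i hi⟩

/-- The index type of the orthogonal space. -/
def idxSix : (Fin 2 ⊕ Fin 2) ⊕ Fin 2 ≃ Fin 6 :=
  (finSumFinEquiv.sumCongr (Equiv.refl _)).trans finSumFinEquiv

/-- The index type of the symplectic space. -/
def idxFour : Fin 2 ⊕ Fin 2 ≃ Fin 4 := finSumFinEquiv

end CfsgLib.SylowEight
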