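import Mathlib.Algebra.Group.End
import Mathlib.Data.Matrix.Mul
import Mathlib.Data.ZMod.Basic
import Mathlib.GroupTheory.Perm.Sign
import Mathlib.LinearAlgebra.Matrix.GeneralLinearGroup.Defs

/-!
A finite group given by a multiplication table of pairs (permutation of eight points, matrix), with the two
projections.
-/

set_option autoImplicit false

namespace CfsgLib.SylowEight

/-- A permutation list with a matrix list. -/
abbrev Elem := List ℕ × List (List ℕ)

/-- Generators, elements, parents, right multiplication by generators and inverses. -/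
structure Table where
  gens : List Elem
  elts : List Elem
  par : List (ℕ × ℕ)
  step : List (List ℕ)
  inv : List ℕ

/-- Composition of permutation lists. -/
def pmul (A B : List ℕ) : List ℕ := (List.range 8).map fun i => A.getD (B.getD i 0 % 8) 0 % 8

/-- Product of matrix lists. -/
def mmul (n p : ℕ) (A B : List (List ℕ)) : List (List ℕ) :=
  (List.range n).map fun i => (List.range n).map fun j =>
    ((List.range n).map fun k => (A.getD i []).getD k 0 * (B.getD k []).getD j 0).sum % p

/-- Product of pairs. -/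
def emul (n p : ℕ) (a b : Elem) : Elem := (pmul a.1 b.1, mmul n p a.2 b.2)

/-- The function of a permutation list. -/
def toF (A : List ℕ) : Function.End (Fin 8) := fun i => ⟨A.getD i 0 % 8, Nat.mod_lt _ (by omega)⟩

/-- The matrix of a matrix list. -/
def toM (n p : ℕ) (A : List (List ℕ)) : Matrix (Fin n) (Fin n) (ZMod p) :=
  Matrix.of fun i j => ((A.getD i []).getD j 0 : ZMod p)

/-- The monoid in which tables live. -/
abbrev Mon (n p : ℕ) := Function.End (Fin 8) × Matrix (Fin n) (Fin n) (ZMod p)

/-- The element of a pair. -/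
def toMon (n p : ℕ) (a : Elem) : Mon n p := (toF a.1, toM n p a.2)

theorem getD_map_range {α : Type*} (f : ℕ → α) (d : α) {n i : ℕ} (h : i < n) :
    ((List.range n).map f).getD i d = f i := by
  simp [List.getD_eq_getElem?_getD, h]

theorem toMon_emul (n p : ℕ) (a b : Elem) : toMon n p (emul n p a b) = toMon n p a * toMon n p b := by
  refine Prod.ext ?_ ?_
  · show toF (pmul a.1 b.1) = toF a.1 * toF b.1
    funext i
    apply Fin.ext
    show (pmul a.1 b.1).getD i 0 % 8 = a.1.getD (b.1.getD i 0 % 8) 0 % 8
    rw [pmul, getD_map_range _ _ i.2, Nat.mod_mod]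
  · show toM n p (mmul n p a.2 b.2) = toM n p a.2 * toM n p b.2
    refine Matrix.ext fun i j => ?_
    show ((((mmul n p a.2 b.2).getD i []).getD j 0 : ℕ) : ZMod p) = _
    rw [mmul, getD_map_range _ _ i.2, getD_map_range _ _ j.2, ZMod.natCast_mod, Matrix.mul_apply,
      Nat.cast_list_sum, List.map_map, Finset.sum_fin_eq_sum_range]
    rw [← List.sum_toFinset _ List.nodup_range, List.toFinset_range]
    refine Finset.sum_congr rfl fun k hk => ?_
    rw [Finset.mem_range] at hk
    rw [dif_pos hk]
    simp [toM]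

namespace Table

variable (T : Table) (n p : ℕ)

/-- The `i`-th element. -/
def elt (i : ℕ) : Elem := T.elts.getD i ([], [])

/-- The `j`-th generator. -/
def gen (j : ℕ) : Elem := T.gens.getD j ([], [])

/-- The value of the `i`-th element. -/
def val (i : ℕ) : Mon n p := toMon n p (T.elt i)

/-- The checks on a table with `N` elements. -/
structure Good (N : ℕ) : Prop where
  pos : 0 < N
  one : T.val n p 0 = 1
  parent : ∀ i < N, 0 < i → (T.par.getD i (0, 0)).1 < i ∧ (T.par.getD i (0, 0)).2 < T.gens.length ∧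
    emul n p (T.elt (T.par.getD i (0, 0)).1) (T.gen (T.par.getD i (0, 0)).2) = T.elt i
  step : ∀ i < N, ∀ j < T.gens.length, (T.step.getD i []).getD j 0 < N ∧
    emul n p (T.elt i) (T.gen j) = T.elt ((T.step.getD i []).getD j 0)
  inv : ∀ i < N, T.inv.getD i 0 < N ∧ emul n p (T.elt i) (T.elt (T.inv.getD i 0)) = T.elt 0

variable {T n p} {N : ℕ} (h : T.Good n p N)
include h

theorem Good.mul_mem {i : ℕ} (hi : i < N) :
    ∀ j < N, ∃ k < N, T.val n p i * T.val n p j = T.val n p k := by
  intro j
  induction j using Nat.strong_induction_on with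
  | _ j ih =>
    intro hj
    rcases Nat.eq_zero_or_pos j with rfl | hj0
    · exact ⟨i, hi, by rw [h.one, mul_one]⟩
    obtain ⟨h1, h2, h3⟩ := h.parent j hj hj0
    obtain ⟨k, hk, hk'⟩ := ih _ h1 (h1.trans hj)
    obtain ⟨h4, h5⟩ := h.step k hk _ h2
    refine ⟨_, h4, ?_⟩
    simp only [val] at hk' ⊢
    rw [← h3, toMon_emul, ← mul_assoc, hk', ← toMon_emul, h5]

theorem Good.inv_val {i : ℕ} (hi : i < N) :
    T.val n p i * T.val n p (T.inv.getD i 0) = 1 := by
  rw [← h.one]
  simp only [val]
  rw [← toMon_emul, (h.inv i hi).2]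

/-- The group of the table. -/
def Good.group : Subgroup (Mon n p)ˣ where
  carrier := {u | ∃ i < N, T.val n p i = u}
  one_mem' := ⟨0, h.pos, h.one⟩
  mul_mem' := by
    rintro u v ⟨i, hi, hu⟩ ⟨j, hj, hv⟩
    obtain ⟨k, hk, hk'⟩ := h.mul_mem hi j hj
    exact ⟨k, hk, by rw [Units.val_mul, ← hu, ← hv, hk']⟩
  inv_mem' := by
    rintro u ⟨i, hi, hu⟩
    refine ⟨_, (h.inv i hi).1, ?_⟩
    have h1 := h.inv_val hi
    rw [hu] at h1
    exact (Units.inv_eq_of_mul_eq_one_right h1).symm

theorem Good.exists_index (u : h.group) : ∃ i < N, T.val n p i = ((u : (Mon n p)ˣ) : Mon n p) := u.2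

theorem Good.inv_mul_val {i : ℕ} (hi : i < N) :
    T.val n p (T.inv.getD i 0) * T.val n p i = 1 := by
  obtain ⟨j, hj, hj'⟩ : ∃ j < N, T.inv.getD i 0 = j := ⟨_, (h.inv i hi).1, rfl⟩
  rw [hj']
  have h2 := h.inv_val hj
  have h1 := h.inv_val hi
  rw [hj'] at h1
  calc T.val n p j * T.val n p i
      = T.val n p j * T.val n p i * (T.val n p j * T.val n p (T.inv.getD j 0)) := by rw [h2, mul_one]
    _ = T.val n p j * (T.val n p i * T.val n p j) * T.val n p (T.inv.getD j 0) := by
      simp only [mul_assoc]
    _ = 1 := by rw [h1, mul_one, h2]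

/-- The element of the group with a given index. -/
def Good.point (i : Fin N) : h.group :=
  ⟨⟨T.val n p i, T.val n p (T.inv.getD i 0), h.inv_val i.2, h.inv_mul_val i.2⟩, i, i.2, rfl⟩

theorem Good.point_surjective : Function.Surjective h.point := by
  intro u
  obtain ⟨i, hi, hu⟩ := h.exists_index u
  exact ⟨⟨i, hi⟩, Subtype.ext (Units.ext hu)⟩

theorem Good.card_group (hinj : Function.Injective fun i : Fin N => T.val n p i) :
    Nat.card h.group = N := by
  rw [← Nat.card_eq_of_bijective h.point ⟨fun i j e => hinj ?_, h.point_surjective⟩, Nat.card_fin]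
  exact congrArg (fun u : h.group => ((u : (Mon n p)ˣ) : Mon n p)) e

/-- The permutation part. -/
def Good.permHom : h.group →* Equiv.Perm (Fin 8) :=
  (Equiv.Perm.equivUnitsEnd.symm.toMonoidHom.comp
    (Units.map (MonoidHom.fst _ _))).comp h.group.subtype

theorem Good.permHom_apply (u : h.group) (x : Fin 8) :
    h.permHom u x = ((u : (Mon n p)ˣ) : Mon n p).1 x := rfl

/-- The matrix part. -/
def Good.matHom : h.group →* Matrix.GeneralLinearGroup (Fin n) (ZMod p) :=
  (Units.map (MonoidHom.snd _ _)).comp h.group.subtype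

theorem Good.matHom_coe (u : h.group) :
    ((h.matHom u : Matrix.GeneralLinearGroup (Fin n) (ZMod p)) : Matrix (Fin n) (Fin n) (ZMod p)) =
      ((u : (Mon n p)ˣ) : Mon n p).2 := rfl

/-- A property of the generators closed under products holds throughout. -/
theorem Good.induction (P : Mon n p → Prop) (h1 : P 1) (hm : ∀ a b, P a → P b → P (a * b))
    (hg : ∀ j < T.gens.length, P (toMon n p (T.gen j))) (u : h.group) :
    P ((u : (Mon n p)ˣ) : Mon n p) := by
  obtain ⟨i, hi, hu⟩ := h.exists_index u
  rw [← hu]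
  clear hu u
  induction i using Nat.strong_induction_on with
  | _ i ih =>
    rcases Nat.eq_zero_or_pos i with rfl | hi0
    · rwa [h.one]
    obtain ⟨h2, h3, h4⟩ := h.parent i hi hi0
    simp only [val] at ih ⊢
    rw [← h4, toMon_emul]
    exact hm _ _ (ih _ h2 (h2.trans hi)) (hg _ h3)

end Table

end CfsgLib.SylowEight
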