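import Cfsg.Agent.Invol.ThompsonTransfer
import Cfsg.Agent.Transfer.Basic
import Mathlib.GroupTheory.SpecificGroups.Dihedral

/-!
A Sylow 2-subgroup of type `Z₂ × D₈` forces a subgroup of index 2.
-/

set_option autoImplicit false
set_option synthInstance.maxSize 4000
set_option synthInstance.maxHeartbeats 400000
set_option linter.unusedSectionVars false
set_option linter.style.haveILetI false

namespace CfsgLib.TwoByEight

open Subgroup Pointwise

/-- The model `Z₂ × D₈`. -/
abbrev W8 := Multiplicative (ZMod 2) × DihedralGroup 4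

def isRot : W8 → Bool
  | (_, DihedralGroup.r _) => true
  | (_, DihedralGroup.sr _) => false

def par : W8 → Bool
  | (_, DihedralGroup.r i) => i.val % 2 == 1
  | (_, DihedralGroup.sr i) => i.val % 2 == 1

def wgt : W8 → Bool
  | (w, _) => w.toAdd.val == 1

def bw (b : Bool) : Multiplicative (ZMod 2) := Multiplicative.ofAdd (if b then 1 else 0)

def cc : W8 := (bw true, DihedralGroup.r 0)
def zz : W8 := (bw false, DihedralGroup.r 2)
def aa (w k : Bool) : W8 := (bw w, DihedralGroup.sr (if k then 1 else 0))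

def inE (k : Bool) (x : W8) : Bool := if isRot x then !par x else par x == k

def inM (w₀ w₁ : Bool) (x : W8) : Bool :=
  wgt x == if isRot x then (par x && (w₀ != w₁)) else (if par x then w₁ else w₀)

def eList (k : Bool) : List W8 :=
  [1, cc, zz, cc * zz, aa false k, aa false k * zz, aa true k, aa true k * zz]

def lab (u₀ u₁ : W8) (x : W8) : W8 := if isRot x then x else if wgt x then u₁ else u₀

theorem facts_E : (∀ k, inE k 1 = true) ∧ (∀ k, ∀ x y, inE k x = true → inE k y = true →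
      inE k (x * y) = true ∧ x * y = y * x) ∧
    (∀ k x, inE k x = true → x * x = 1 ∧ inE k x⁻¹ = true) ∧
    (∀ k x, inE k x = true ↔ x ∈ eList k) ∧ (∀ k, (eList k).Nodup) ∧
    (∀ k x y, inE k x = true → inE k (y * x * y⁻¹) = true) := by
  decide +kernel

theorem facts_inv : (∀ x : W8, x * x = 1 ∨ x * x = zz) ∧
    (∀ x : W8, x * x = 1 → inE false x = true ∨ inE true x = true) ∧
    (∀ x y : W8, inE false x = true → inE true x = false → inE true y = true → inE false y = false →
      x * y ≠ y * x) ∧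
    (∀ x : W8, (∀ y, x * y = y * x) → x = 1 ∨ x = cc ∨ x = zz ∨ x = cc * zz) ∧
    (∀ x : W8, x ∈ [1, cc, zz, cc * zz] → ∀ y, x * y = y * x) ∧
    (∀ x : W8, isRot x = true → x * x = 1 → x ∈ [1, cc, zz, cc * zz]) := by
  decide +kernel

theorem facts_lab : ∀ u₀ ∈ [cc, cc * zz], ∀ u₁ ∈ [cc, cc * zz], ∀ k : Bool,
    ((eList k).filter fun x => lab u₀ u₁ x == u₀).prod = u₁ := by
  decide +kernel

theorem facts_aux : (∀ w k, isRot (aa w k) = false ∧ aa w k * aa w k = 1 ∧ inE k (aa w k) = true) ∧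
    (∀ k x, x ∈ eList k → isRot x = false → x = aa (wgt x) k ∨ x = aa (wgt x) k * zz) ∧
    (∀ k x, x ∈ eList k → isRot x = true → x ∈ [1, cc, zz, cc * zz]) ∧
    (∀ w k, ∀ u ∈ [1, cc, zz, cc * zz], u ≠ aa w k) ∧
    (∀ w k, ∃ y, y * aa w k * y⁻¹ = aa w k * zz) := by
  decide +kernel

theorem facts_M : ∀ w₀ w₁ : Bool, inM w₀ w₁ 1 = true ∧ inM w₀ w₁ cc = false ∧
    (∀ x y, inM w₀ w₁ x = true → inM w₀ w₁ y = true → inM w₀ w₁ (x * y) = true) ∧
    (∀ x, inM w₀ w₁ x = true → inM w₀ w₁ x⁻¹ = true) ∧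
    (∀ x y, inM w₀ w₁ x = false → inM w₀ w₁ y = false → inM w₀ w₁ (x * y) = true) ∧
    (∀ x, inM w₀ w₁ x = true → x * x = 1 → x ≠ 1 → x ∈
      [zz, aa w₀ false, aa w₀ false * zz, aa w₁ true, aa w₁ true * zz]) := by
  decide +kernel

theorem facts_rot : isRot (1 : W8) = true ∧ isRot (aa false false) = false ∧
    (∀ x y, isRot x = true → isRot y = true → isRot (x * y) = true) ∧
    (∀ x, isRot x = true → isRot x⁻¹ = true) ∧
    (∀ x y, isRot x = false → isRot y = false → isRot (x * y) = true) ∧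
    zz * zz = (1 : W8) ∧ zz ≠ (1 : W8) ∧ cc ≠ (1 : W8) ∧ cc * zz * zz = cc ∧
    cc ≠ zz ∧ cc * zz ≠ zz ∧ cc ≠ cc * zz ∧ cc * zz ≠ 1 ∧ cc * cc = (1 : W8) := by
  decide +kernel

/-- The two elementary abelian subgroups of order 8. -/
def eSub (k : Bool) : Subgroup W8 where
  carrier := {x | inE k x = true}
  mul_mem' {x y} hx hy := (facts_E.2.1 k x y hx hy).1
  one_mem' := facts_E.1 k
  inv_mem' {x} hx := (facts_E.2.2.1 k x hx).2

/-- The kernel attached to a choice of two non-central classes. -/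
def mSub (w₀ w₁ : Bool) : Subgroup W8 where
  carrier := {x | inM w₀ w₁ x = true}
  mul_mem' {x y} hx hy := (facts_M w₀ w₁).2.2.1 x y hx hy
  one_mem' := (facts_M w₀ w₁).1
  inv_mem' {x} hx := (facts_M w₀ w₁).2.2.2.1 x hx

/-- The rotations. -/
def rSub : Subgroup W8 where
  carrier := {x | isRot x = true}
  mul_mem' {x y} hx hy := facts_rot.2.2.1 x y hx hy
  one_mem' := facts_rot.1
  inv_mem' {x} hx := facts_rot.2.2.2.1 x hx

theorem index_two_of_bool {Q : Subgroup W8} {a : W8} (ha : a ∉ Q)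
    (h : ∀ x y, x ∉ Q → y ∉ Q → x * y ∈ Q) : Q.index = 2 := by
  refine index_eq_two_iff.2 ⟨a, fun b => ?_⟩
  by_cases hb : b ∈ Q
  · exact Or.inr ⟨hb, fun h' => ha ((mul_mem_cancel_left hb).1 h')⟩
  · exact Or.inl ⟨h b a hb ha, hb⟩

universe u
variable {G : Type u} [Group G] [Finite G]

theorem odd_iterate {A α : Type*} [Group A] [MulAction A α] {n : A} {a b : α} (h1 : n • a = b)
    (h2 : n • b = a) : ∀ j : ℕ, n ^ (2 * j + 1) • a = b
  | 0 => by simpa using h1
  | j + 1 => by
    rw [show 2 * (j + 1) + 1 = (2 * j + 1) + 1 + 1 by ring, pow_succ', pow_succ', mul_smul, mul_smul,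
      odd_iterate h1 h2 j, h2, h1]

/-- An element of the normalizer of a Sylow 2-subgroup has an odd power in it. -/
theorem exists_odd_pow (S : Sylow 2 G) {n : G}
    (hn : n ∈ normalizer ((S : Subgroup G) : Set G)) :
    ∃ j : ℕ, n ^ (2 * j + 1) ∈ (S : Subgroup G) := by
  set N := normalizer ((S : Subgroup G) : Set G)
  haveI : ((S : Subgroup G).subgroupOf N).Normal :=
    (normal_subgroupOf_iff_le_normalizer le_normalizer).2 le_rfl
  have hodd : Odd ((S : Subgroup G).subgroupOf N).index := by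
    rw [Nat.odd_iff]
    refine Nat.two_dvd_ne_zero.1 fun h => S.not_dvd_index (h.trans ?_)
    exact relIndex_dvd_index_of_le (H := (S : Subgroup G)) (K := N) le_normalizer
  obtain ⟨j, hj⟩ := hodd
  exact ⟨j, hj ▸ (((S : Subgroup G).subgroupOf N).pow_index_mem ⟨n, hn⟩)⟩

theorem no_swap (S : Sylow 2 G) {n : G} (hn : n ∈ normalizer ((S : Subgroup G) : Set G)) {α : Type*}
    [MulAction (MulAut G) α] {a b : α} (h1 : MulAut.conj n • a = b) (h2 : MulAut.conj n • b = a)
    (hfix : ∀ s ∈ (S : Subgroup G), MulAut.conj s • a = a) : a = b := by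
  obtain ⟨j, hj⟩ := exists_odd_pow S hn
  have h := odd_iterate h1 h2 j
  rw [← map_pow, hfix _ hj] at h
  exact h

/-- A Sylow 2-subgroup of type `Z₂ × D₈` forces a subgroup of index 2. -/
theorem exists_index_two (S : Sylow 2 G) (e : ↥(S : Subgroup G) ≃* W8) :
    ∃ H : Subgroup G, H.index = 2 := by
  classical
  by_contra hno
  push Not at hno
  set ι : W8 →* G := (S : Subgroup G).subtype.comp e.symm.toMonoidHom with hι
  have hinj : Function.Injective ι := (S : Subgroup G).subtype_injective.comp e.symm.injective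
  have hmem : ∀ x, ι x ∈ (S : Subgroup G) := fun x => (e.symm x).2
  have hsurj : ∀ g ∈ (S : Subgroup G), ∃ x, ι x = g := fun g hg => ⟨e ⟨g, hg⟩, by simp [hι]⟩
  have hconjS : ∀ {n : G}, n ∈ normalizer ((S : Subgroup G) : Set G) → ∀ x,
      ∃ y, ι y = n * ι x * n⁻¹ := fun hn x =>
    hsurj _ ((mem_normalizer_iff.1 hn _).1 (hmem x))
  -- transfer: every involution is conjugate into any subgroup of index 2 of the Sylow subgroup
  have htrans : ∀ Q : Subgroup W8, Q.index = 2 → ∀ x : W8, x * x = 1 →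
      ∃ y ∈ Q, IsConj (ι x) (ι y) := by
    intro Q hQ x hx
    have hrel : (Q.map ι).relIndex (S : Subgroup G) = 2 := by
      have hS : (S : Subgroup G) = (⊤ : Subgroup W8).map ι :=
        le_antisymm (fun g hg => by obtain ⟨y, hy⟩ := hsurj g hg; exact ⟨y, mem_top y, hy⟩)
          (by rintro _ ⟨y, -, rfl⟩; exact hmem y)
      rw [hS, relIndex_map_map_of_injective _ _ hinj, relIndex_top_right, hQ]
    rcases CfsgLib.ThompsonTransfer.thompson_transfer (S : Subgroup G) (Q.map ι)
        (Nat.odd_iff.2 (Nat.two_dvd_ne_zero.1 S.not_dvd_index)) hrel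
        (u := ι x) (by rw [← map_mul, hx, map_one]) with ⟨M, -, hM, -⟩ | ⟨g, hg⟩
    · exact absurd hM (hno M)
    · obtain ⟨y, hy, hyg⟩ := hg
      exact ⟨y, hy, isConj_iff.2 ⟨g, hyg.symm⟩⟩
  have hne : ∀ {x y : W8}, IsConj (ι x) (ι y) → x ≠ 1 → y ≠ 1 := fun h hx hy => by
    rw [hy, map_one, isConj_one_left] at h
    exact hx (hinj (h.trans (map_one ι).symm))
  -- `N(S)` fixes the central involutions
  have hfix : ∀ n ∈ normalizer ((S : Subgroup G) : Set G), ∀ x ∈ [1, cc, zz, cc * zz],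
      n * ι x * n⁻¹ = ι x := by
    intro n hn
    have hz : n * ι zz * n⁻¹ = ι zz := by
      obtain ⟨r, hr, hrz⟩ : ∃ r : W8, r * r = zz ∧ r ≠ 1 :=
        ⟨(bw false, DihedralGroup.r 1), by decide +kernel, by decide +kernel⟩
      obtain ⟨y, hy⟩ := hconjS hn r
      have he : ι (y * y) = n * ι zz * n⁻¹ := by rw [map_mul, hy, ← hr, map_mul]; group
      rcases facts_inv.1 y with h | h
      · rw [h, map_one] at he
        exact absurd (hinj ((conj_eq_one_iff.1 he.symm).trans (map_one ι).symm))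
          facts_rot.2.2.2.2.2.2.1
      · rw [← he, h]
    have hc : n * ι cc * n⁻¹ = ι cc := by
      obtain ⟨y, hy⟩ := hconjS hn cc
      have hyc : ∀ w, y * w = w * y := fun w => hinj (by
        obtain ⟨v, hv⟩ := hconjS (inv_mem hn) w
        have hcv : ι cc * ι v = ι v * ι cc := by
          rw [← map_mul, ← map_mul, facts_inv.2.2.2.2.1 cc (by simp) v]
        rw [map_mul, map_mul, hy, show ι w = n * ι v * n⁻¹ by rw [hv]; group]
        calc n * ι cc * n⁻¹ * (n * ι v * n⁻¹) = n * (ι cc * ι v) * n⁻¹ := by group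
          _ = n * (ι v * ι cc) * n⁻¹ := by rw [hcv]
          _ = _ := by group)
      rcases facts_inv.2.2.2.1 y hyc with rfl | rfl | rfl | rfl
      · rw [map_one] at hy
        exact absurd (hinj ((conj_eq_one_iff.1 hy.symm).trans (map_one ι).symm))
          facts_rot.2.2.2.2.2.2.2.1
      · exact hy.symm
      · exact absurd (hinj (mul_left_cancel (mul_right_cancel (hy.symm.trans hz.symm))))
          facts_rot.2.2.2.2.2.2.2.2.2.1
      · refine absurd (hinj (no_swap S hn (α := G) (a := ι cc) (b := ι (cc * zz)) ?_ ?_ fun s hs => ?_))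
          facts_rot.2.2.2.2.2.2.2.2.2.2.2.1
        · exact hy.symm
        · show n * ι (cc * zz) * n⁻¹ = ι cc
          rw [map_mul, show n * (ι cc * ι zz) * n⁻¹ = (n * ι cc * n⁻¹) * (n * ι zz * n⁻¹) by group,
            ← hy, hz, ← map_mul, facts_rot.2.2.2.2.2.2.2.2.1]
        · obtain ⟨w, rfl⟩ := hsurj s hs
          show ι w * ι cc * (ι w)⁻¹ = ι cc
          rw [← map_mul, ← facts_inv.2.2.2.2.1 cc (by simp) w, map_mul, mul_inv_cancel_right]
    intro x hx
    simp only [List.mem_cons, List.not_mem_nil, or_false] at hx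
    rcases hx with rfl | rfl | rfl | rfl
    · simp
    · exact hc
    · exact hz
    · rw [map_mul, show n * (ι cc * ι zz) * n⁻¹ = (n * ι cc * n⁻¹) * (n * ι zz * n⁻¹) by group,
        hc, hz]
  have hcent : ∀ x ∈ [1, cc, zz, cc * zz], ∀ s ∈ (S : Subgroup G), s * ι x * s⁻¹ = ι x := by
    intro x hx s hs
    exact hfix s (le_normalizer hs) x hx
  -- Burnside: distinct central elements are not fused
  have hdist : ∀ x ∈ [1, cc, zz, cc * zz], ∀ y ∈ [1, cc, zz, cc * zz],
      IsConj (ι x) (ι y) → x = y := by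
    intro x hx y hy hxy
    obtain ⟨g, hg⟩ := isConj_iff.1 hxy
    obtain ⟨n, hn, hne'⟩ := CfsgLib.TransferBasic.fusion_normal_subsets (P := S) {ι x} {ι y}
      (fun s hs => by rw [Set.image_singleton, hcent x hx s hs])
      (fun s hs => by rw [Set.image_singleton, hcent y hy s hs]) g (by rw [Set.image_singleton, hg])
    rw [Set.image_singleton, Set.singleton_eq_singleton_iff, hfix n hn x hx] at hne'
    exact hinj hne'
  -- every non-central class is fused to a central involution
  have hcls : ∀ w k, ∃ u ∈ [cc, zz, cc * zz], IsConj (ι (aa w k)) (ι u) := by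
    intro w k
    obtain ⟨y, hy, hyc⟩ := htrans rSub (index_two_of_bool (a := aa false false)
      (by show ¬ isRot _ = true; rw [facts_rot.2.1]; decide)
      (fun a b ha hb => facts_rot.2.2.2.2.1 a b (Bool.eq_false_iff.2 ha) (Bool.eq_false_iff.2 hb)))
      (aa w k) (facts_aux.1 w k).2.1
    have hyy : y * y = 1 := hinj (by
      obtain ⟨g, hg⟩ := isConj_iff.1 hyc
      rw [map_mul, map_one, ← hg,
        show g * ι (aa w k) * g⁻¹ * (g * ι (aa w k) * g⁻¹) = g * (ι (aa w k) * ι (aa w k)) * g⁻¹ by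
          group, ← map_mul, (facts_aux.1 w k).2.1, map_one, mul_one, mul_inv_cancel])
    have hm := facts_inv.2.2.2.2.2 y hy hyy
    simp only [List.mem_cons, List.not_mem_nil, or_false] at hm ⊢
    refine ⟨y, hm.resolve_left (hne hyc ?_), hyc⟩
    exact fun h => facts_aux.2.2.2.1 w k 1 (by simp) h.symm
  -- elementary abelian subgroups of order 8
  set E : Bool → Subgroup G := fun k => (eSub k).map ι with hE
  have hEfix : ∀ k, ∀ s ∈ (S : Subgroup G), MulAut.conj s • E k = E k := by
    intro k s hs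
    obtain ⟨v, rfl⟩ := hsurj s hs
    ext g
    constructor
    · rintro ⟨_, ⟨x, hx, rfl⟩, rfl⟩
      exact ⟨v * x * v⁻¹, facts_E.2.2.2.2.2 k x v hx, by simp⟩
    · rintro ⟨x, hx, rfl⟩
      refine ⟨ι (v⁻¹ * x * v), ⟨_, ?_, rfl⟩, by simp [mul_assoc]⟩
      have := facts_E.2.2.2.2.2 k x v⁻¹ hx
      rwa [inv_inv] at this
  have hcard : ∀ k, Nat.card (E k) = 8 := by
    intro k
    rw [hE, card_map_of_injective hinj]
    have h : ((eSub k : Subgroup W8) : Set W8) = ((eList k).toFinset : Set W8) := by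
      ext x
      rw [Finset.mem_coe, List.mem_toFinset, ← facts_E.2.2.2.1]
      rfl
    rw [← SetLike.coe_sort_coe, Nat.card_coe_set_eq, h, Set.ncard_coe_finset,
      List.toFinset_card_of_nodup (facts_E.2.2.2.2.1 k)]
    rfl
  have hEimage : ∀ k (g : G), MulAut.conj g • E k ≤ (S : Subgroup G) →
      ∃ k', MulAut.conj g • E k = E k' := by
    intro k g hle
    have hel : ∀ y ∈ MulAut.conj g • E k, ∀ y' ∈ MulAut.conj g • E k,
        y * y = 1 ∧ y * y' = y' * y := by
      rintro _ ⟨_, ⟨x, hx, rfl⟩, rfl⟩ _ ⟨_, ⟨x', hx', rfl⟩, rfl⟩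
      constructor
      · show MulAut.conj g (ι x) * MulAut.conj g (ι x) = 1
        rw [← map_mul, ← map_mul, (facts_E.2.2.1 k x hx).1, map_one, map_one]
      · show MulAut.conj g (ι x) * MulAut.conj g (ι x') = MulAut.conj g (ι x') * MulAut.conj g (ι x)
        rw [← map_mul, ← map_mul, ← map_mul, ← map_mul, (facts_E.2.1 k x x' hx hx').2]
    have hsub : ∃ k', MulAut.conj g • E k ≤ E k' := by
      by_contra hc
      push Not at hc
      obtain ⟨y, hy, hy0⟩ := SetLike.not_le_iff_exists.1 (hc true)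
      obtain ⟨y', hy', hy1⟩ := SetLike.not_le_iff_exists.1 (hc false)
      obtain ⟨x, rfl⟩ := hsurj y (hle hy)
      obtain ⟨x', rfl⟩ := hsurj y' (hle hy')
      have hx : x * x = 1 := hinj (by rw [map_mul, map_one]; exact (hel _ hy _ hy).1)
      have hx' : x' * x' = 1 := hinj (by rw [map_mul, map_one]; exact (hel _ hy' _ hy').1)
      have hn0 : inE true x = false := Bool.eq_false_iff.2 fun h => hy0 ⟨x, h, rfl⟩
      have hn1 : inE false x' = false := Bool.eq_false_iff.2 fun h => hy1 ⟨x', h, rfl⟩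
      exact facts_inv.2.2.1 x x' ((facts_inv.2.1 x hx).resolve_right (by simp [hn0])) hn0
        ((facts_inv.2.1 x' hx').resolve_left (by simp [hn1])) hn1
        (hinj (by rw [map_mul, map_mul]; exact (hel _ hy _ hy').2))
    obtain ⟨k', hk'⟩ := hsub
    refine ⟨k', eq_of_le_of_card_ge hk' (le_of_eq ?_)⟩
    rw [hcard, Nat.card_congr (equivSMul (MulAut.conj g) (E k)).toEquiv.symm, hcard]
  have hEle : ∀ k, E k ≤ (S : Subgroup G) := fun k => by rintro _ ⟨x, -, rfl⟩; exact hmem x
  have hEne : E false ≠ E true := fun h => by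
    have h1 : ι (aa false false) ∈ E true := h ▸ mem_map_of_mem ι (facts_aux.1 false false).2.2
    obtain ⟨x, hx, hxe⟩ := h1
    rw [hinj hxe] at hx
    exact absurd (show inE true (aa false false) = true from hx) (by decide +kernel)
  have hweak : ∀ k (g : G), MulAut.conj g • E k ≤ (S : Subgroup G) → MulAut.conj g • E k = E k := by
    intro k g hle
    obtain ⟨k', hk'⟩ := hEimage k g hle
    rcases eq_or_ne k' k with rfl | hkk
    · exact hk'
    exfalso
    have himg : ∀ (a : G) (X : Subgroup G),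
        (fun y => a * y * a⁻¹) '' (X : Set G) = ((MulAut.conj a • X : Subgroup G) : Set G) :=
      fun a X => by rw [coe_pointwise_smul]; rfl
    obtain ⟨n, hn, hnE⟩ := CfsgLib.TransferBasic.fusion_normal_subsets (P := S) (E k : Set G)
      (E k' : Set G) (fun s hs => by rw [himg, hEfix k s hs])
      (fun s hs => by rw [himg, hEfix k' s hs]) g (by rw [himg, hk'])
    rw [himg, SetLike.coe_set_eq] at hnE
    have hle' : MulAut.conj n • E k' ≤ (S : Subgroup G) := by
      rintro _ ⟨y, hy, rfl⟩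
      exact (mem_normalizer_iff.1 hn y).1 (hEle k' hy)
    obtain ⟨k'', hk''⟩ := hEimage k' n hle'
    have hback : k'' = k := by
      have : k'' ≠ k' := by
        rintro rfl
        rw [← hk''] at hnE
        have h := smul_left_cancel _ hnE
        revert h hkk
        cases k <;> cases k'' <;> simp [hEne, hEne.symm]
      revert hkk this
      cases k <;> cases k' <;> cases k'' <;> simp
    have h := no_swap S hn (α := Subgroup G) hnE (hback ▸ hk'') (hEfix k)
    revert h hkk
    cases k <;> cases k' <;> simp [hEne, hEne.symm]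
  -- some class in each of the two is fused to the central square
  have hz : ∀ k, ∃ w, IsConj (ι (aa w k)) (ι zz) := by
    intro k
    by_contra hc
    push Not at hc
    have hpick : ∀ w, ∃ u ∈ [cc, cc * zz], IsConj (ι (aa w k)) (ι u) := by
      intro w
      obtain ⟨u, hu, huc⟩ := hcls w k
      simp only [List.mem_cons, List.not_mem_nil, or_false] at hu ⊢
      rcases hu with rfl | rfl | rfl
      · exact ⟨_, Or.inl rfl, huc⟩
      · exact absurd huc (hc w)
      · exact ⟨_, Or.inr rfl, huc⟩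
    obtain ⟨u₀, hu₀, hc₀⟩ := hpick false
    obtain ⟨u₁, hu₁, hc₁⟩ := hpick true
    have hZ : ∀ {u}, u ∈ [cc, cc * zz] → u ∈ [1, cc, zz, cc * zz] := fun {u} h => by
      simp only [List.mem_cons, List.not_mem_nil, or_false] at h ⊢; tauto
    have hlab : ∀ x ∈ eList k,
        (lab u₀ u₁ x ∈ [1, cc, zz, cc * zz]) ∧ IsConj (ι x) (ι (lab u₀ u₁ x)) := by
      intro x hx
      unfold lab
      cases hr : isRot x
      · have hcl : IsConj (ι x) (ι (aa (wgt x) k)) := by
          rcases facts_aux.2.1 k x hx hr with h | h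
          · exact h ▸ IsConj.refl _
          · obtain ⟨y, hy⟩ := facts_aux.2.2.2.2 (wgt x) k
            conv_lhs => rw [h, ← hy]
            exact (isConj_iff.2 ⟨ι y, by simp⟩).symm
        cases hw : wgt x
        · exact ⟨hZ hu₀, by rw [hw] at hcl; exact hcl.trans hc₀⟩
        · exact ⟨hZ hu₁, by rw [hw] at hcl; exact hcl.trans hc₁⟩
      · exact ⟨facts_aux.2.2.1 k x hx hr, IsConj.refl _⟩
    set L : List W8 := (eList k).filter fun x => lab u₀ u₁ x == u₀ with hL
    have hmemL : ∀ y : G, y ∈ L.map ι ↔ y ∈ E k ∧ IsConj y (ι u₀) := by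
      intro y
      simp only [hL, List.mem_map, List.mem_filter, beq_iff_eq]
      constructor
      · rintro ⟨x, ⟨hx, he⟩, rfl⟩
        exact ⟨mem_map_of_mem ι ((facts_E.2.2.2.1 k x).2 hx), he ▸ (hlab x hx).2⟩
      · rintro ⟨⟨x, hx, rfl⟩, hyc⟩
        have hx' := (facts_E.2.2.2.1 k x).1 hx
        exact ⟨x, ⟨hx', hdist _ (hlab x hx').1 _ (hZ hu₀) ((hlab x hx').2.symm.trans hyc)⟩, rfl⟩
    -- an element of the normalizer of `E k` moving `aa true k` to `u₁`
    obtain ⟨g, hg⟩ := isConj_iff.1 hc₁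
    set C := centralizer ({ι u₁} : Set G) with hC
    have hSC : (S : Subgroup G) ≤ C := fun s hs => by
      rw [hC, mem_centralizer_singleton_iff]
      exact mul_inv_eq_iff_eq_mul.1 (hcent u₁ (hZ hu₁) s hs)
    have hEC : MulAut.conj g • E k ≤ C := by
      rintro _ ⟨_, ⟨x, hx, rfl⟩, rfl⟩
      rw [hC, mem_centralizer_singleton_iff, ← hg]
      show g * ι x * g⁻¹ * (g * ι (aa true k) * g⁻¹) = g * ι (aa true k) * g⁻¹ * (g * ι x * g⁻¹)
      calc g * ι x * g⁻¹ * (g * ι (aa true k) * g⁻¹) = g * ι (x * aa true k) * g⁻¹ := by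
            rw [map_mul]; group
        _ = g * ι (aa true k * x) * g⁻¹ := by
            rw [(facts_E.2.1 k x (aa true k) hx (facts_aux.1 true k).2.2).2]
        _ = _ := by rw [map_mul]; group
    have hEp : IsPGroup 2 ((MulAut.conj g • E k).subgroupOf C) :=
      (IsPGroup.of_card (n := 3) (by rw [Nat.card_congr
        (equivSMul (MulAut.conj g) (E k)).toEquiv.symm, hcard]; norm_num)).of_equiv
          (subgroupOfEquivOfLe hEC).symm
    obtain ⟨P, hP⟩ := hEp.exists_le_sylow
    obtain ⟨c, hc'⟩ := MulAction.exists_smul_eq C P (S.subtype hSC)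
    have hn : MulAut.conj ((c : G) * g) • E k ≤ (S : Subgroup G) := by
      rintro _ ⟨y, hy, rfl⟩
      have h1 : (⟨MulAut.conj g y, hEC ⟨y, hy, rfl⟩⟩ : C) ∈ (P : Subgroup C) :=
        hP (mem_subgroupOf.2 ⟨y, hy, rfl⟩)
      have h2 : c * (⟨MulAut.conj g y, hEC ⟨y, hy, rfl⟩⟩ : C) * c⁻¹ ∈
          ((c • P : Sylow 2 C) : Subgroup C) := ⟨_, h1, rfl⟩
      rw [hc', Sylow.coe_subtype, mem_subgroupOf] at h2
      show MulAut.conj ((c : G) * g) y ∈ (S : Subgroup G)
      simpa [map_mul, mul_assoc] using h2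
    set n := (c : G) * g with hn'
    have hnE := hweak k n hn
    have hnu : n * ι (aa true k) * n⁻¹ = ι u₁ := by
      rw [hn', show (c : G) * g * ι (aa true k) * ((c : G) * g)⁻¹ =
        (c : G) * (g * ι (aa true k) * g⁻¹) * (c : G)⁻¹ by group, hg,
        mem_centralizer_singleton_iff.1 c.2, mul_inv_cancel_right]
    have hperm : ((L.map ι).map (MulAut.conj n)).Perm (L.map ι) := by
      refine List.Subperm.perm_of_length_le (List.subperm_of_subset
        ((((facts_E.2.2.2.2.1 k).filter _).map hinj).map (MulAut.conj n).injective) ?_) (by simp)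
      intro y hy
      obtain ⟨y', hy', rfl⟩ := List.mem_map.1 hy
      obtain ⟨hyE, hyc⟩ := (hmemL y').1 hy'
      exact (hmemL _).2 ⟨hnE.le (smul_mem_pointwise_smul _ _ _ hyE),
        (isConj_iff.2 ⟨n, rfl⟩).symm.trans hyc⟩
    have hpw : ((L.map ι).map (MulAut.conj n)).Pairwise Commute := by
      refine List.pairwise_of_forall_mem_list fun a ha b hb => ?_
      obtain ⟨x, hx, rfl⟩ := ((hmemL a).1 (hperm.subset ha)).1
      obtain ⟨x', hx', rfl⟩ := ((hmemL b).1 (hperm.subset hb)).1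
      show ι x * ι x' = ι x' * ι x
      rw [← map_mul, ← map_mul, (facts_E.2.1 k x x' hx hx').2]
    have hprod : (L.map ι).prod = ι u₁ := by
      rw [← map_list_prod, hL, facts_lab u₀ hu₀ u₁ hu₁ k]
    have hfix₁ : n * ι u₁ * n⁻¹ = ι u₁ := by
      have h := hperm.prod_eq' hpw
      rw [← map_list_prod (MulAut.conj n), hprod] at h
      exact h
    have heq : aa true k = u₁ := hinj (mul_left_cancel (mul_right_cancel (hnu.trans hfix₁.symm)))
    exact facts_aux.2.2.2.1 true k u₁ (hZ hu₁) heq.symm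
  obtain ⟨w₀, h₀⟩ := hz false
  obtain ⟨w₁, h₁⟩ := hz true
  obtain ⟨-, hcM, -, -, hMM, hMinv⟩ := facts_M w₀ w₁
  obtain ⟨y, hy, hyc⟩ := htrans (mSub w₀ w₁) (index_two_of_bool (a := cc)
    (by show ¬ inM w₀ w₁ cc = true; simp [hcM])
    (fun a b ha hb => hMM a b (Bool.eq_false_iff.2 ha) (Bool.eq_false_iff.2 hb))) cc
    facts_rot.2.2.2.2.2.2.2.2.2.2.2.2.2
  have hyy : y * y = 1 := hinj (by
    obtain ⟨g, hg⟩ := isConj_iff.1 hyc
    rw [map_mul, map_one, ← hg, show g * ι cc * g⁻¹ * (g * ι cc * g⁻¹) = g * (ι cc * ι cc) * g⁻¹ by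
      group, ← map_mul, facts_rot.2.2.2.2.2.2.2.2.2.2.2.2.2, map_one, mul_one, mul_inv_cancel])
  have hm := hMinv y hy hyy (hne hyc facts_rot.2.2.2.2.2.2.2.1)
  have hpart : ∀ w k, IsConj (ι (aa w k * zz)) (ι (aa w k)) := fun w k => by
    obtain ⟨v, hv⟩ := facts_aux.2.2.2.2 w k
    rw [← hv]
    exact (isConj_iff.2 ⟨ι v, by simp⟩).symm
  have hyz : IsConj (ι y) (ι zz) := by
    simp only [List.mem_cons, List.not_mem_nil, or_false] at hm
    rcases hm with rfl | rfl | rfl | rfl | rfl
    · exact IsConj.refl _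
    · exact h₀
    · exact (hpart w₀ false).trans h₀
    · exact h₁
    · exact (hpart w₁ true).trans h₁
  exact facts_rot.2.2.2.2.2.2.2.2.2.1
    (hdist cc (by simp) zz (by simp) (hyc.trans hyz))

end CfsgLib.TwoByEight
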